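import Cfsg.Agent.H26.NDef
/-! The N-group theorem for simple groups all of whose `2`-local subgroups are solvable. The files of this folder
repeat the proofs of `H26.N3`, `H26.N4` with `NG2` in place of `NG` (do not import them together with `H26.NEnd`). -/
set_option autoImplicit false
namespace H26
open Cfsg Subgroup
universe u

/-- A non-abelian simple group all of whose `2`-local subgroups are solvable. -/
structure NG2 (G : Type*) [Group G] : Prop where
  simple : IsSimpleGroup G
  nc : ¬ IsMulCommutative G
  two : ∀ {L : Subgroup G}, IsTwoLocal L → Group.IsSolvable L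

theorem NG.ng2 {G : Type*} [Group G] (h : NG G) : NG2 G := ⟨h.simple, h.nc, h.two⟩

/-- A unique maximal 2-local subgroup above the Sylow 2-subgroup. -/
def N3t : Prop := ∀ (G : Type u) [Group G] [Finite G], NG2 G → ¬ PRankLE 2 2 G → IsCharacteristicTwoType G →
  ∀ (S : Sylow 2 G) (M : Subgroup G), IsTwoLocal M → (∀ L : Subgroup G, IsTwoLocal L → (S : Subgroup G) ≤ L → L ≤ M) →
  ∃ H : Subgroup G, IsStronglyEmbedded H

end H26
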