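import Cfsg.Agent.H26.T2.H13FF2
/-! `H26.FF`, part 3: the case `|U ∩ U'| = 8` gives the local structure `Ti` of the Tits group; `H13.ff : H26.FF`. -/
set_option autoImplicit false
namespace H118 end H118 namespace H13 end H13 namespace H13.FFa end H13.FFa namespace H13.FFa.En end H13.FFa.En namespace H226 end H226 namespace H26 end H26 namespace H4 end H4
open H226
namespace H226
namespace H13.FFa
open _root_.H13 _root_.H13.FFa
open Cfsg Subgroup H26 _root_.H26 H4 _root_.H4 H118 _root_.H118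
open scoped Pointwise commutatorElement
universe u

variable {G : Type*} [Group G]

theorem cm_right (a b c : G) : ⁅a, b * c⁆ = ⁅a, b⁆ * (b * ⁅a, c⁆ * b⁻¹) := by
  simp only [commutatorElement_def]; group

theorem cm_swap {K : Subgroup G} {a b : G} (h : ⁅a, b⁆ ∈ K) : ⁅b, a⁆ ∈ K := commutatorElement_inv a b ▸ inv_mem h

theorem n_commStab {A N L : Subgroup G} [Finite G] (h1 : L ≤ 𝐍 A) (h2 : L ≤ 𝐍 N) : L ≤ 𝐍 (commStab (A : Set G) N) :=
  fun g hg => mem_normalizer_of_conj_mem fun x hx =>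
    ⟨mul_mem (mul_mem (h2 hg) hx.1) (inv_mem (h2 hg)), fun j hj => by
      have := conj_mem_of_mem_normalizer (h2 hg) (hx.2 _ (conj_mem_of_mem_normalizer' (h1 hg) hj))
      rwa [conjugate_commutatorElement, show g * (g⁻¹ * j * g) * g⁻¹ = j by group] at this⟩

/-- the data of the endgame -/
structure En {Γ W : Type*} [Group Γ] [AddCommGroup W] [DistribMulAction Γ W] (S V : Subgroup G) (z y : G)
    (mk : G → W) (ac : G → Γ) (F : Subgroup Γ) (η : Γ) (i₀ : W) (Y : Subgroup G) (σ a : G) : Prop where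
  b : B3 S V z y
  m : Md (𝐂 (zpowers z)) (Up V z) z mk ac
  f : Fi F
  s : St4 F (ac a) (m.im (Up V z ⊓ Up V y)) (mk y) i₀
  t : Et F (ac a) η
  memY : ∀ u, u ∈ Y ↔ u ∈ Up V z ∧ mk u ∈ rg W η
  σM : σ ∈ 𝐍 V
  σz : σ * z * σ⁻¹ = y
  σy : σ * y * σ⁻¹ = z
  aA : a ∈ Up V y
  aT : a ∉ Tp V z

/-- `C_H(Y/Z)` -/
abbrev tY (Y : Subgroup G) (z : G) : Subgroup G := 𝐂 (zpowers z) ⊓ commStab (Y : Set G) (zpowers z)
/-- `N_H(Y)` -/
abbrev hY (Y : Subgroup G) (z : G) : Subgroup G := 𝐂 (zpowers z) ⊓ 𝐍 Y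
/-- the centralizer of `C(Y)/Y` in `N_H(Y)` -/
abbrev eY (Y : Subgroup G) (z : G) : Subgroup G := hY Y z ⊓ commStab (𝐂 Y : Subgroup G) Y
/-- the elements of `C(Y)` centralized by `E` modulo `Z` -/
abbrev dY (Y : Subgroup G) (z : G) : Subgroup G := 𝐂 Y ⊓ commStab (eY Y z : Subgroup G) (zpowers z)

namespace En
open _root_.H13.FFa.En
variable [Finite G] {Γ W : Type*} [Group Γ] [Finite Γ] [AddCommGroup W] [Finite W] [DistribMulAction Γ W]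
  {S V : Subgroup G} {z y : G} {mk : G → W} {ac : G → Γ} {F : Subgroup Γ} {η : Γ} {i₀ : W} {Y : Subgroup G} {σ a : G}
  (h : En S V z y mk ac F η i₀ Y σ a) {g x t u d e : G}
include h

omit [Finite G] [Finite Γ] [Finite W] in
theorem YU : Y ≤ Up V z := fun u hu => ((h.memY u).1 hu).1
omit [Finite G] [Finite Γ] in
theorem IY : Up V z ⊓ Up V y ≤ Y := fun i hi => (h.memY i).2 ⟨hi.1, h.s.b2 h.t.mem h.t.inv h.t.ne ⟨i, hi.1, hi, rfl⟩⟩
omit [Finite Γ] in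
theorem VY : V ≤ Y := h.b.VI.trans h.IY
omit [Finite Γ] in
theorem ZY : zpowers z ≤ Y := (zpowers_le.2 h.b.zV).trans h.VY
omit [Finite Γ] [Finite W] in
theorem YD : Y ≤ 𝐂 Y := h.YU.trans ((h.b.Up_ab h.b.colz).trans (centralizer_anti h.YU))
omit [Finite Γ] in
theorem DV : 𝐂 Y ≤ 𝐂 V := centralizer_anti h.VY
omit [Finite Γ] in
theorem DH : 𝐂 Y ≤ 𝐂 (zpowers z) := centralizer_anti h.ZY
omit [Finite Γ] [Finite W] in
theorem nY (hx : x ∈ 𝐂 (zpowers z)) (e : ∀ w ∈ rg W η, ac x • w ∈ rg W η) : x ∈ 𝐍 Y :=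
  mem_normalizer_of_conj_mem fun u hu => (h.memY _).2 ⟨h.m.cU hx (h.YU hu), by
    rw [← h.m.smul _ hx _ (h.YU hu)]; exact e _ ((h.memY u).1 hu).2⟩
omit [Finite W] in
theorem MY (hx : x ∈ 𝐂 (zpowers z)) (hM : x ∈ 𝐍 V) : x ∈ 𝐍 Y :=
  h.nY hx fun _ => h.s.a_norm h.t (h.b.comm_a h.m h.f h.aA h.aT hx hM)
omit [Finite W] in
theorem CVY : 𝐂 V ≤ 𝐍 Y := fun _ hx => h.MY (B3.CV h.b.zV hx) (centralizer_le_normalizer _ hx)
omit [Finite W] in
theorem SY : S ≤ hY Y z := fun _ hx => ⟨h.b.S_le hx, h.MY (h.b.S_le hx) (h.b.le hx)⟩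
omit [Finite G] [Finite Γ] [Finite W] in
theorem mem_tY : t ∈ tY Y z ↔ t ∈ 𝐂 (zpowers z) ∧ rg W η ≤ fx W (ac t) := and_congr_right fun ht =>
  ⟨fun k w hw => by
    obtain ⟨u, hu, rfl⟩ := h.m.mk_surj w
    exact (h.m.fix ht hu).2 (k.2 u ((h.memY u).2 ⟨hu, hw⟩)),
  fun k => ⟨centralizer_le_normalizer _ ht, fun u hu => (h.m.fix ht (h.YU hu)).1 (k ((h.memY u).1 hu).2)⟩⟩
omit [Finite G] [Finite Γ] [Finite W] in
theorem TY : Tp V z ≤ tY Y z := fun _ ht =>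
  ⟨Tp_le_c ht, centralizer_le_normalizer _ (Tp_le_c ht), fun u hu => (mem_Tp.1 ht).2 u (h.YU hu)⟩
omit [Finite Γ] in
theorem tY_le : tY Y z ≤ hY Y z := fun t ht => ⟨ht.1, mem_normalizer_of_conj_mem fun u hu => by
  simpa [commutatorElement_def] using mul_mem (h.ZY (ht.2.2 u hu)) hu⟩
omit [Finite Γ] in
theorem D_le : 𝐂 Y ≤ tY Y z := fun d hd => ⟨h.DH hd, centralizer_le_normalizer _ (h.DH hd), fun u hu => by
  rw [commutatorElement_eq_one_iff_mul_comm.2 (hd u hu).symm]; exact one_mem _⟩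
omit h [Finite Γ] [Finite W] in
theorem n_tY : hY Y z ≤ 𝐍 (tY Y z) := le_normalizer_inf (inf_le_left.trans le_normalizer)
  (n_commStab inf_le_right (inf_le_left.trans (centralizer_le_normalizer _)))
omit h [Finite Γ] [Finite W] in
theorem n_eY : hY Y z ≤ 𝐍 (eY Y z) :=
  le_normalizer_inf le_normalizer (n_commStab (le_normalizer_centralizer inf_le_right) inf_le_right)
omit h [Finite Γ] [Finite W] in
theorem n_dY : hY Y z ≤ 𝐍 (dY Y z) := le_normalizer_inf (le_normalizer_centralizer inf_le_right)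
  (n_commStab n_eY (inf_le_left.trans (centralizer_le_normalizer _)))
omit [Finite G] [Finite Γ] [Finite W] in
theorem Y'A : cj σ Y ≤ Up V y := by rw [← h.σz, ← cj_Up]; exact cj_mono σ h.YU
omit [Finite W] in
theorem σσ (hu : u ∈ cj σ Y) : σ * u * σ⁻¹ ∈ Y := by
  have k : ∀ c, σ * σ * c * (σ * σ)⁻¹ = σ * (σ * c * σ⁻¹) * σ⁻¹ := fun c => by group
  obtain ⟨v, hv, rfl⟩ := mem_cj'.1 hu
  exact k v ▸ conj_mem_of_mem_normalizer (h.CVY (h.b.memC (mem_c_of_conj_eq (by rw [k, h.σz, h.σy]))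
    (by rw [k, h.σy, h.σz]))) hv
omit [Finite G] [Finite Γ] [Finite W] in
theorem σT : σ * t * σ⁻¹ ∈ Tp V z ↔ t ∈ Tp V y := by rw [← h.σy, ← cj_Tp, conj_mem_cj_iff]
omit [Finite Γ] in
theorem zero_of (hu : u ∈ Y) (he : e ∈ 𝐂 (zpowers z)) (ee : ac e = η) (k : ⁅e, u⁆ ∈ zpowers z) : u ∈ zpowers z :=
  (h.m.mk_zero u (h.YU hu)).1 (rg_fix h.m.two (h.f.odd _ h.t.mem) ((h.memY u).1 hu).2 (ee ▸ (h.m.fix he (h.YU hu)).2 k))

omit [Finite Γ] in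
theorem exists_v : ∃ v ∈ Y, ⁅a, v⁆ ∉ V := by
  obtain ⟨u, hu, k, e⟩ := h.s.b1 h.t.mem h.t.inv (h.s.b2 h.t.mem h.t.inv h.t.ne h.s.iI) (h.s.fixI _ h.s.iI)
  obtain ⟨v, hv, e1⟩ := h.m.mk_surj (η • u)
  refine ⟨v, (h.memY v).2 ⟨hv, e1 ▸ smul_mem_rg_comm rfl hu⟩, fun n => ?_⟩
  have := h.b.mkV h.m n
  rw [h.m.comm (h.b.AH h.aA) hv, e1, h.s.sw h.t.inv, k, e] at this
  exact this.elim h.s.i0 h.s.iy

omit [Finite Γ] in
theorem exists_a : ∃ a' ∈ cj σ Y, En S V z y mk ac F η i₀ Y σ a' := by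
  obtain ⟨v, hv, n⟩ := h.exists_v
  have m1 := h.Y'A (conj_mem_cj σ hv)
  have n1 : σ * v * σ⁻¹ ∉ Tp V z := fun k => n (cm_swap (zpowers_le.2 h.b.yV ((mem_Tp.1 (h.σT.1 k)).2 a h.aA)))
  have e := h.b.ac_eq h.m h.f h.aA h.aT m1 n1
  exact ⟨_, conj_mem_cj σ hv, h.b, h.m, h.f, e ▸ h.s, e ▸ h.t, h.memY, h.σM, h.σz, h.σy, m1, n1⟩

theorem exists_x (aY : a ∈ cj σ Y) : ∃ x ∈ cj σ Y, x ∈ Tp V z ∧ x ∉ 𝐂 Y := by
  obtain ⟨w, hw, ⟨x, hx, xT, rfl⟩, n⟩ := h.s.exists_out h.t (fun w => ∃ u ∈ Up V z, u ∈ Tp V y ∧ mk u = w)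
    fun v w hv hw => by
      obtain ⟨v, mv, rfl⟩ := h.m.mk_surj v
      obtain ⟨w, mw, rfl⟩ := h.m.mk_surj w
      exact ⟨v * w, mul_mem mv mw, h.b.twoU h.m h.f mv (fun k => hv ⟨v, mv, k, rfl⟩) mw fun k => hw ⟨w, mw, k, rfl⟩,
        h.m.mk_mul _ mv _ mw⟩
  refine ⟨_, conj_mem_cj σ ((h.memY x).2 ⟨hx, hw⟩), h.σT.2 xT, fun k => n ((h.m.fix (h.b.AH h.aA) hx).2 ?_)⟩
  have := k _ (h.σσ aY)
  rw [conj_mul, conj_mul, mul_left_inj, mul_right_inj] at this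
  rw [commutatorElement_eq_one_iff_mul_comm.2 this]; exact one_mem _

theorem dsplit (hd : d ∈ 𝐂 Y) : (∀ b ∈ cj σ Y, ⁅d, b⁆ ∈ zpowers y) ∨
    ∀ b ∈ cj σ Y, ⁅d * (σ * a * σ⁻¹), b⁆ ∈ zpowers y := by
  have m1 := conj_mem_of_mem_normalizer' (normalizer_le_normalizer_centralizer V h.σM) (h.DV hd)
  have m2 := B3.CV h.b.zV m1
  have key : ∀ c ∈ tY Y z, ∀ b ∈ cj σ Y, ⁅σ * c * σ⁻¹, b⁆ ∈ zpowers y := fun c hc b hb => by
    obtain ⟨v, hv, rfl⟩ := mem_cj'.1 hb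
    rw [← conjugate_commutatorElement, ← h.σz, ← cj_zpowers]; exact conj_mem_cj σ (hc.2.2 v hv)
  rcases h.s.cases4 h.t (h.b.comm_a h.m h.f h.aA h.aT m2 (centralizer_le_normalizer _ m1)) with k | k | ⟨-, _, ⟨i, -, hi, rfl⟩, k⟩
  · left; simpa [mul_assoc] using key _ (h.mem_tY.2 ⟨m2, k⟩)
  · right
    have := key _ (h.mem_tY.2 ⟨mul_mem m2 (h.b.AH h.aA), h.m.ac_mul _ m2 _ (h.b.AH h.aA) ▸ k⟩)
    rwa [show σ * (σ⁻¹ * d * σ * a) * σ⁻¹ = d * (σ * a * σ⁻¹) by group] at this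
  · refine (k ?_).elim
    rw [h.m.smul _ m2 _ hi.1]; congr 1
    calc _ = σ⁻¹ * (d * (σ * i * σ⁻¹) * d⁻¹) * σ := by group
      _ = _ := by
        rw [mem_centralizer_iff'.1 hd _ (h.IY (conj_mem_of_mem_normalizer (h.b.nI h.m h.f h.σM) hi))]; group

theorem Y'E (aY : a ∈ cj σ Y) : cj σ Y ≤ eY Y z := fun b hb => by
  have m1 := h.b.UC h.b.yV h.b.y1 (h.Y'A hb)
  have yY : zpowers y ≤ Y := (zpowers_le.2 h.b.yV).trans h.VY
  refine ⟨⟨B3.CV h.b.zV m1, h.CVY m1⟩, h.CVY m1, fun d hd => cm_swap ?_⟩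
  rcases h.dsplit hd with k | k
  · exact yY (k b hb)
  · have := yY (k b hb)
    rw [commutatorElement_mul_left_eq_conj_mul] at this
    exact (Y.mul_mem_cancel_left (conj_mem_of_mem_normalizer (centralizer_le_normalizer _ hd)
      (commutator_le_of_le_normalizer (zpowers_le.2 (h.CVY m1))
        (commutator_mem_commutator (h.σσ aY) (mem_zpowers b))))).1 this

theorem exists_e (aY : a ∈ cj σ Y) : ∃ e ∈ eY Y z, ac e = η := by
  obtain ⟨g, hg, e⟩ := h.m.ac_surj (η ^ 2)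
  have m1 := h.Y'E aY aY
  have m2 : g ∈ hY Y z := ⟨hg, h.nY hg fun w => e ▸ smul_mem_rg_comm ((Commute.refl η).pow_left 2)⟩
  refine ⟨_, mul_mem m1 (conj_mem_of_mem_normalizer (n_eY m2) m1), ?_⟩
  rw [h.m.ac_mul _ m1.1.1 _ (conj_mem_of_mem_normalizer (n_eY m2) m1).1.1, h.m.ac_conj hg m1.1.1, e, ← mul_assoc,
    ← mul_assoc, h.s.inv_of h.t (npow_mem_zpowers η 2), ← mul_inv_rev, ← pow_add, ← h.s.inv4 h.t, inv_inv]

omit [Finite Γ] [Finite W] in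
theorem χ_mk (ht : t ∈ 𝐂 (zpowers z)) (hu : u ∈ Up V z) {v : G} (hv : v ∈ Up V z) (e : mk u = mk v) : χ t u = χ t v := by
  have k := ht _ ((h.m.mk_eq hu hv).1 e)
  refine χ_congr ?_
  rw [show u = u * v⁻¹ * v by simp, ← mul_assoc, ← k, mul_assoc, mul_assoc _ v, mul_right_inj]

variable (he : e ∈ eY Y z) (ee : ac e = η)
include he ee

omit [Finite Γ] ee in
theorem yk (k : ℕ) : e ^ k * y * (e ^ k)⁻¹ ∈ Y := conj_mem_of_mem_normalizer (pow_mem he.1.2 k) (h.VY h.b.yV)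
omit [Finite Γ] [Finite W] in
theorem mk_yk (k : ℕ) : mk (e ^ k * y * (e ^ k)⁻¹) = η ^ k • mk y := by
  rw [← h.m.smul _ (pow_mem he.1.1 k) _ (B3.VU h.b.zV h.b.yV), h.m.ac_pow he.1.1, ee]

omit h he ee in
/-- the coordinates of the functional induced by `t` -/
noncomputable def vec (e y t : G) : Fin 5 → ZMod 2 := fun k => χ t (e ^ k.1 * y * (e ^ k.1)⁻¹)

omit [Finite Γ] ee in
theorem vec_mul (ht : t ∈ tY Y z) {t' : G} (ht' : t' ∈ tY Y z) : vec e y (t * t') = vec e y t + vec e y t' :=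
  funext fun k => χ_mul_left h.b.zz ht.1 (ht.2.2 _ (h.yk he k)) (ht'.2.2 _ (h.yk he k))

theorem vec_shift (ht : t ∈ 𝐂 (zpowers z)) : vec e y (e⁻¹ * t * e) = fun k => vec e y t (k + 1) := funext fun k => by
  rw [vec, ← χ_conj e, show e * (e⁻¹ * t * e) * e⁻¹ = t by group,
    show e * (e ^ k.1 * y * (e ^ k.1)⁻¹) * e⁻¹ = e ^ (k.1 + 1) * y * (e ^ (k.1 + 1))⁻¹ by rw [pow_succ']; group]
  refine h.χ_mk ht (h.YU (h.yk he _)) (h.YU (h.yk he _)) ?_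
  rw [h.mk_yk he ee, h.mk_yk he ee, Fin.val_add, ← pow_mod_orderOf, h.s.five h.t]; rfl

theorem vec_sum (ht : t ∈ tY Y z) : ∑ k, vec e y t k = 0 := by
  have m := h.yk he
  have c : ∀ u ∈ Y, ∀ v ∈ Y, χ t (u * v) = χ t u + χ t v := fun u hu v hv =>
    χ_mul_right h.b.zz (h.b.UH (h.YU hu)) (ht.2.2 u hu) (ht.2.2 v hv)
  have c' : ∀ u ∈ Y, ∀ v ∈ Y, mk (u * v) = mk u + mk v := fun u hu v hv => h.m.mk_mul _ (h.YU hu) _ (h.YU hv)
  have m1 := mul_mem (m 0) (m 1)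
  have m2 := mul_mem m1 (m 2)
  have m3 := mul_mem m2 (m 3)
  rw [Fin.sum_univ_five]
  refine (show _ = _ by rw [c _ m3 _ (m 4), c _ m2 _ (m 3), c _ m1 _ (m 2), c _ (m 0) _ (m 1)]; rfl :
    χ t _ = _).symm.trans ((h.χ_mk ht.1 (h.YU (mul_mem m3 (m 4))) (one_mem _) ?_).trans (χ_zero.2 (by simp)))
  rw [c' _ m3 _ (m 4), c' _ m2 _ (m 3), c' _ m1 _ (m 2), c' _ (m 0) _ (m 1), h.m.mk_one]
  simp only [h.mk_yk he ee]; exact h.s.sum5 h.t

theorem vec_zero (ht : t ∈ 𝐂 (zpowers z)) (k : vec e y t = 0) : t ∈ 𝐂 Y := fun u hu => by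
  have zt : z ∈ centralizer {t} := mem_centralizer_singleton_iff.2 (ht z (mem_zpowers z))
  refine mem_centralizer_singleton_iff.1 ((h.m.mem_im zt (h.YU hu)).1 (h.s.rg_le_span h.t (fun n => ?_)
    ((h.memY u).1 hu).2))
  rw [← pow_mod_orderOf, h.s.five h.t, ← h.mk_yk he ee]
  exact ⟨_, h.YU (h.yk he _), mem_centralizer_singleton_iff.2
    (χ_zero.1 (congrFun k ⟨n % 5, Nat.mod_lt _ (by norm_num)⟩)).symm, rfl⟩

theorem pair {B : Subgroup G} (hB : B ≤ tY Y z) (nB : ∀ b ∈ B, e⁻¹ * b * e ∈ B) (hx : x ∈ B) (xD : x ∉ 𝐂 Y)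
    (w : Fin 5 → ZMod 2) (hw : ∑ k, w k = 0) : ∃ b ∈ B, vec e y b = w :=
  shift_span (P := fun w => ∃ b ∈ B, vec e y b = w) ⟨1, one_mem _, funext fun _ => χ_zero.2 (by simp)⟩
    (by rintro _ _ ⟨b, hb, rfl⟩ ⟨c, hc, rfl⟩; exact ⟨b * c, mul_mem hb hc, h.vec_mul he (hB hb) (hB hc)⟩)
    (by rintro _ ⟨b, hb, rfl⟩; exact ⟨_, nB b hb, h.vec_shift he ee (hB hb).1⟩) ⟨x, hx, rfl⟩
    (fun k => xD (h.vec_zero he ee (hB hx).1 k)) (h.vec_sum he ee (hB hx)) w hw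

theorem sq_D (ht : t ∈ tY Y z) {b : G} (hb : b ∈ tY Y z) (k : vec e y b = vec e y t) : b * t ∈ 𝐂 Y :=
  h.vec_zero he ee (mul_mem hb ht).1 (by
    rw [h.vec_mul he hb ht, k]; funext j; exact CharTwo.add_self_eq_zero _)

theorem idx16 (hx : x ∈ tY Y z) (xD : x ∉ 𝐂 Y) : (𝐂 Y).relIndex (tY Y z) = 16 := by
  let φ : tY Y z →* Multiplicative (Fin 4 → ZMod 2) := MonoidHom.mk'
    (fun t => Multiplicative.ofAdd fun k => vec e y t k.castSucc) fun s t => by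
      rw [Subgroup.coe_mul, h.vec_mul he s.2 t.2]; rfl
  have k1 : φ.ker = (𝐂 Y).subgroupOf (tY Y z) := by
    ext t
    refine ⟨fun k => h.vec_zero he ee t.2.1 ?_, fun k => funext fun j => χ_zero.2 (k _ (h.yk he _)).symm⟩
    have k2 : ∀ j : Fin 4, vec e y t j.castSucc = 0 := congrFun k
    have k3 := h.vec_sum he ee t.2
    rw [Fin.sum_univ_castSucc, Finset.sum_eq_zero fun j _ => k2 j, zero_add] at k3
    exact funext (Fin.lastCases k3 k2)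
  have k2 : Function.Surjective φ := fun w => by
    obtain ⟨b, hb, k⟩ := h.pair he ee le_rfl (fun b => conj_mem_of_mem_normalizer' (n_tY he.1)) hx xD
      (Fin.snoc (α := fun _ => ZMod 2) w.toAdd (∑ j, w.toAdd j))
      (by rw [Fin.sum_univ_castSucc, Fin.snoc_last]; simp [CharTwo.add_self_eq_zero])
    exact ⟨⟨b, hb⟩, funext fun j => by change vec e y b _ = _; rw [k]; simp; rfl⟩
  rw [relIndex, ← k1, index_ker, MonoidHom.range_eq_top.2 k2, card_top]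
  simp

omit [Finite Γ] he ee in
theorem cwd (ht : t ∈ tY Y z) {w : G} (hw : w ∈ Y) (k : ⁅t, d⁆ ∈ zpowers z) : ⁅t, w * d⁆ ∈ zpowers z := by
  rw [cm_right]
  exact mul_mem (ht.2.2 w hw) (conj_mem_of_mem_normalizer (centralizer_le_normalizer _ (h.b.UH (h.YU hw))) k)

omit [Finite Γ] in
theorem ed (hd : d ∈ 𝐂 Y) (hx : x ∈ eY Y z) (xD : x ∈ 𝐂 Y) : ⁅x, d⁆ ∈ zpowers z := by
  refine h.zero_of (hx.2.2 d hd) he.1.1 ee ?_
  rw [commutatorElement_eq_one_iff_mul_comm.2]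
  · exact one_mem _
  have k1 := hd _ (he.2.2 d hd)
  have k2 := xD _ (he.2.2 d hd)
  have k3 := hd _ (he.2.2 x xD)
  have k4 := h.YD (he.2.2 d hd) _ (he.2.2 x xD)
  have k5 := xD _ (he.2.2 x xD)
  rw [← mul_inv_eq_iff_eq_mul, conjugate_commutatorElement,
    show e * x * e⁻¹ = ⁅e, x⁆ * x by simp [commutatorElement_def],
    show e * d * e⁻¹ = ⁅e, d⁆ * d by simp [commutatorElement_def]]
  generalize ⁅e, x⁆ = v at *
  generalize ⁅e, d⁆ = w at *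
  calc _ = v * (x * w) * d * x⁻¹ * (w * v)⁻¹ * (w * d * w⁻¹)⁻¹ := by simp only [commutatorElement_def]; group
    _ = v * w * ⁅x, d⁆ * d * (v * w)⁻¹ * d⁻¹ := by
      rw [← k2, k1, ← k4]; simp only [commutatorElement_def]; group
    _ = _ := by
      have c1 : Commute (v * w) ⁅x, d⁆ := by
        have a : Commute (v * w) x := Commute.mul_left k5 k2
        have b : Commute (v * w) d := Commute.mul_left k3 k1
        exact ((a.mul_right b).mul_right a.inv_right).mul_right b.inv_right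
      have c2 : Commute (v * w) d := Commute.mul_left k3 k1
      rw [c1.eq, mul_assoc _ (v * w), c2.eq]; group

variable (aY : a ∈ cj σ Y) (xY : x ∈ cj σ Y) (xT : x ∈ Tp V z) (xD : x ∉ 𝐂 Y)
include aY xY xT xD

theorem kd1 (hd : d ∈ 𝐂 Y) (k : ⁅x, d⁆ ∈ zpowers z) (ht : t ∈ eY Y z) (ht' : t ∈ tY Y z) : ⁅t, d⁆ ∈ zpowers z := by
  obtain ⟨b, hb, k1⟩ := h.pair he ee (B := eY Y z ⊓ tY Y z ⊓ commStab {d} (zpowers z)) (inf_le_left.trans inf_le_right)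
    (fun b hb => ⟨⟨conj_mem_of_mem_normalizer' (n_eY he.1) hb.1.1, conj_mem_of_mem_normalizer' (n_tY he.1) hb.1.2⟩,
      centralizer_le_normalizer _ (mul_mem (mul_mem (inv_mem he.1.1) hb.1.2.1) he.1.1), fun c hc => by
        rw [show c = d from hc, show ⁅e⁻¹ * b * e, d⁆ = e⁻¹ * ⁅b, ⁅e, d⁆ * d⁆ * e by
          simp only [commutatorElement_def]; group]
        exact conj_mem_of_mem_normalizer' (centralizer_le_normalizer _ he.1.1)
          (h.cwd hb.1.2 (he.2.2 d hd) (hb.2.2 d rfl))⟩)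
    ⟨⟨h.Y'E aY xY, h.TY xT⟩, centralizer_le_normalizer _ (Tp_le_c xT), fun c hc => (show c = d from hc) ▸ k⟩ xD _
    (h.vec_sum he ee ht')
  have k2 : b * t ∈ commStab {d} (zpowers z) := ⟨centralizer_le_normalizer _ (mul_mem hb.1.2.1 ht'.1), fun c hc =>
    (show c = d from hc) ▸ h.ed he ee hd (mul_mem hb.1.1 ht) (h.sq_D he ee ht' hb.1.2 k1)⟩
  exact ((Subgroup.mul_mem_cancel_left _ hb.2).1 k2).2 d rfl

theorem kd2 (hd : d ∈ 𝐂 Y) (k : ⁅x, d⁆ ∈ zpowers z) : ∃ w ∈ Y, w * d ∈ dY Y z := by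
  obtain ⟨v, hv, e1⟩ := rg_surj h.m.two (h.f.odd _ h.t.mem) (neg_mem ((h.memY _).1 (he.2.2 d hd)).2)
  obtain ⟨w, hw, rfl⟩ := h.m.mk_surj v
  have wY := (h.memY w).2 ⟨hw, hv⟩
  have m1 := mul_mem (h.YD wY) hd
  have nz : 𝐂 (zpowers z) ≤ 𝐍 (zpowers z) := centralizer_le_normalizer _
  have cY : ∀ g ∈ hY Y z, ∀ u ∈ Y, ⁅g, u⁆ ∈ Y := fun g hg u hu =>
    mul_mem (conj_mem_of_mem_normalizer hg.2 hu) (inv_mem hu)
  have k1 : ⁅e, w * d⁆ ∈ zpowers z := by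
    rw [cm_right, mem_centralizer_iff'.1 (h.YD wY) _ (he.2.2 d hd)]
    refine (h.m.mk_zero _ (h.YU (mul_mem (cY e he.1 w wY) (he.2.2 d hd)))).1 ?_
    rw [h.m.mk_mul _ (h.YU (cY e he.1 w wY)) _ (h.YU (he.2.2 d hd)), h.m.comm he.1.1 hw, ee, e1, neg_add_cancel]
  have k2 := fun t => h.kd1 he ee aY xY xT xD m1 (h.cwd (h.TY xT) wY k) (t := t)
  refine ⟨w, wY, m1, nz (h.DH m1), fun g hg => cm_swap ?_⟩
  generalize w * d = c at *
  have gi := inv_mem hg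
  obtain ⟨ψ, ⟨j, rfl⟩, k3⟩ := h.s.dich' h.t (γ := ac g⁻¹) (by
    rw [h.m.smul _ gi.1.1 _ (B3.VU h.b.zV h.b.yV)]
    exact ((h.memY _).1 (conj_mem_of_mem_normalizer gi.1.2 (h.VY h.b.yV))).2)
  obtain ⟨n, k4⟩ := h.s.norm_a h.t k3
  have m2 := conj_mem_of_mem_normalizer (n_eY gi.1) he
  have m3 := mul_mem m2 (inv_mem (pow_mem he n))
  have k5 : g⁻¹ * e * g⁻¹⁻¹ * (e ^ n)⁻¹ ∈ Tp V z := (B3.ac_T h.m m3.1.1).1 (by
    rw [h.m.ac_mul _ m2.1.1 _ (inv_mem (pow_mem he n)).1.1, h.m.ac_conj gi.1.1 he.1.1, h.m.ac_inv (pow_mem he n).1.1,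
      h.m.ac_pow he.1.1, ee, mul_inv_eq_one]
    calc _ = (η ^ j)⁻¹ * (η ^ j * ac g⁻¹ * η * (η ^ j * ac g⁻¹)⁻¹) * η ^ j := by group
      _ = _ := by rw [k4]; group)
  have eB : e ∈ commStab {c} (zpowers z) := ⟨nz he.1.1, fun c' hc => (show c' = c from hc) ▸ k1⟩
  have k6 : g⁻¹ * e * g⁻¹⁻¹ ∈ commStab {c} (zpowers z) := by
    simpa using mul_mem (⟨nz m3.1.1, fun c' hc => (show c' = c from hc) ▸ k2 _ m3 (h.TY k5)⟩ :
      _ ∈ commStab {c} (zpowers z)) (pow_mem eB n)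
  have k7 := conj_mem_of_mem_normalizer (nz hg.1.1) (k6.2 c rfl)
  rw [show g * ⁅g⁻¹ * e * g⁻¹⁻¹, c⁆ * g⁻¹ = ⁅e, ⁅g, c⁆ * c⁆ by simp only [commutatorElement_def]; group, cm_right] at k7
  exact h.zero_of (hg.2.2 c m1) he.1.1 ee ((mul_mem_cancel_right
    (conj_mem_of_mem_normalizer (nz (h.b.UH (h.YU (hg.2.2 c m1)))) k1)).1 k7)

omit he ee xY xT xD in
theorem d_Y' : dY Y z ≤ 𝐂 (cj σ Y) := fun d hd b hb => by
  have k1 := fun b hb => hd.2.2 b (h.Y'E aY hb)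
  rcases h.dsplit hd.1 with k | k
  · refine (commutatorElement_eq_one_iff_mul_comm.1 ?_).symm
    exact (mem_two h.b.zz (k1 b hb)).resolve_right fun e => (mem_two h.b.yy (e ▸ k b hb)).elim h.b.z1 h.b.yz.symm
  · obtain ⟨v, hv, n⟩ := h.exists_v
    have := zpowers_le.2 h.b.yV (k _ (conj_mem_cj σ hv))
    rw [commutatorElement_mul_left_eq_conj_mul, mul_mem_cancel_right (zpowers_le.2 h.b.zV (k1 _ (conj_mem_cj σ hv))),
      ← conjugate_commutatorElement] at this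
    have := conj_mem_of_mem_normalizer' h.σM (conj_mem_of_mem_normalizer' (centralizer_le_normalizer _ (h.DV hd.1)) this)
    exact (n (by simpa [mul_assoc] using this)).elim

omit he ee xY xT xD in
theorem d_W : dY Y z ≤ 𝐂 (ncl Y (𝐍 V)) := le_centralizer_iff.1 (ncl_le_iff.2 fun g hg => le_centralizer_iff.1 (by
  have key : ∀ g ∈ 𝐍 V, g * z * g⁻¹ = y → dY Y z ≤ 𝐂 (cj g Y) := fun g hg k => by
    have m := mul_mem (inv_mem h.σM) hg
    rw [show g = σ * (σ⁻¹ * g) by group, cj_mul, cj_eq_of_mem_normalizer (h.MY (mem_c_of_conj_eq (by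
      calc _ = σ⁻¹ * (g * z * g⁻¹) * σ := by group
        _ = _ := by rw [k, ← h.σz]; group)) m)]
    exact h.d_Y' aY
  rcases h.b.memV (conj_mem_of_mem_normalizer hg h.b.zV) with k | k | k | k
  · exact absurd k (conj_ne_one g h.b.z1)
  · rw [cj_eq_of_mem_normalizer (h.MY (mem_c_of_conj_eq k) hg)]; exact inf_le_left
  · exact key g hg k
  · obtain ⟨q, hq, n⟩ := h.b.exists_q h.m h.f
    have qM := Ge.Tp_le_n (Ln.self V) h.b.zV hq
    have := cj_mono q (key (q⁻¹ * g) (mul_mem (inv_mem qM) hg) (by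
      calc _ = q⁻¹ * (g * z * g⁻¹) * q := by group
        _ = _ := by rw [k, ← h.b.movy (Tp_le_c hq) qM n]; group))
    rwa [cj_eq_of_mem_normalizer (n_dY (h.tY_le (h.TY hq))), cj_centralizer, ← cj_mul, mul_inv_cancel_left] at this))

theorem d_S : dY Y z ⊓ S ≤ zpowers z := by
  by_contra n
  obtain ⟨P, hP, ⟨p1, p2⟩, hm⟩ := exists_minimal_le (Q := fun P => S ≤ 𝐍 P ∧ ¬ P ≤ zpowers z) (dY Y z ⊓ S)
    ⟨le_normalizer_inf (h.SY.trans n_dY) le_normalizer, n⟩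
  have p3 : ⁅P, S⁆ ≤ zpowers z := by_contra fun k => (commutator_lt (h.b.syl.isP.to_le (hP.trans inf_le_right))
    h.b.syl.isP p1 fun e => p2 (e ▸ bot_le)).ne
    (hm _ (commutator_le_of_le_normalizer p1) ⟨le_normalizer_commutator_right _ _, k⟩)
  obtain ⟨c, hc, cn⟩ := SetLike.not_le_iff_exists.1 p2
  obtain ⟨cd, cS⟩ := hP hc
  obtain ⟨q, hq, k⟩ := h.pair he ee (B := eY Y z ⊓ tY Y z) inf_le_right (fun b hb =>
    ⟨conj_mem_of_mem_normalizer' (n_eY he.1) hb.1, conj_mem_of_mem_normalizer' (n_tY he.1) hb.2⟩)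
    ⟨h.Y'E aY xY, h.TY xT⟩ xD ![1, 1, 0, 0, 0] (by decide)
  have qV : q ∉ 𝐂 V := fun e1 => by
    have : χ q (e ^ 0 * y * (e ^ 0)⁻¹) = 1 := congrFun k 0
    rw [χ_zero.2 (by simpa using (e1 y h.b.yV).symm)] at this
    exact zero_ne_one this
  have qM : q ∈ 𝐍 V := mem_normalizer_of_conj_mem fun v hv => by
    simpa [commutatorElement_def] using mul_mem (zpowers_le.2 h.b.zV (hq.2.2.2 v (h.VY hv))) hv
  have l : commStab (𝐂 (ncl Y (𝐍 V)) : Subgroup G) V ≤ 𝐍 V := fun _ k => k.1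
  have nN := n_commStab (le_normalizer_centralizer (le_normalizer_ncl Y (𝐍 V))) (le_refl (𝐍 V))
  have mq : q ∈ commStab (𝐂 (ncl Y (𝐍 V)) : Subgroup G) V := ⟨qM, fun d hd => zpowers_le.2 h.b.zV
    (h.kd1 he ee aY xY xT xD (centralizer_anti (le_ncl _ _) hd) (by
      rw [commutatorElement_eq_one_iff_mul_comm.2 (hd x (cj_le_ncl h.σM xY))]; exact one_mem _) hq.1 hq.2)⟩
  have cV := h.DV cd.1
  have hc' := fun n (hn : n ∈ commStab (𝐂 (ncl Y (𝐍 V)) : Subgroup G) V) => hn.2 c (h.d_W aY cd)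
  have cc : c * c = 1 := by_contra fun n1 => by
    have m : c * c ∈ S ⊓ 𝐂 (commStab (𝐂 (ncl Y (𝐍 V)) : Subgroup G) V) := ⟨mul_mem cS cS, fun n hn => by
      have k1 := h.b.four.sq _ (hc' n hn)
      have k2 := cV _ (hc' n hn)
      calc _ = ⁅n, c⁆ * (c * ⁅n, c⁆) * c * n := by simp only [commutatorElement_def]; group
        _ = _ := by rw [← k2, ← mul_assoc, k1, one_mul]⟩
    have := z_mem h.b.toGe inf_le_left (le_normalizer_inf le_normalizer (h.b.le.trans (le_normalizer_centralizer nN)))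
      fun e => n1 (mem_bot.1 (e ▸ m))
    obtain ⟨k, hk, k3, kV⟩ := exists_three h.b.toGe l nN mq hq.2.1 qV
    exact h.b.z1 (four_fpf h.b.four (l hk) k3 kV h.b.zV (by rw [this.2 k hk, mul_inv_cancel_right]))
  have c1 : c ∉ V := fun k => cn (h.zero_of (h.VY k) he.1.1 ee (cm_swap (cd.2.2 e he)))
  obtain ⟨r, -, -, rS, k1⟩ := aff h.b.toGe l nN mq hq.2.1 qV cV cc c1 hc' h.b.yV
  exact (mem_two h.b.zz (k1 ▸ cm_swap (p3 (commutator_mem_commutator hc rS)))).elim h.b.y1 h.b.yz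

theorem d_Z : dY Y z ≤ zpowers z := fun d hd => by
  have k := h.d_S he ee aY xY xT xD
  have l : dY Y z ≤ hY Y z := inf_le_left.trans (h.D_le.trans h.tY_le)
  refine mem_of_parts (p := 2) (isOfFinOrder_of_finite d) (fun n o => ?_) fun n j o => ?_
  · have m := pow_mem hd n
    generalize d ^ n = c at *
    have nQ := le_normalizer_pCoreOf 2 _ (l m).1
    rw [eq_one_of_mem_isPGroup (isPGroup_pCoreOf 2 _) (h.b.charH ⟨(l m).1, fun s hs => ?_⟩) o]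
    · exact one_mem _
    have k1 : ⁅c, s⁆ ∈ zpowers z := k ⟨show ⁅c, s⁆ ∈ dY Y z by
      simpa only [commutatorElement_def, mul_assoc] using
        mul_mem m (conj_mem_of_mem_normalizer (n_dY (h.SY (h.b.QS hs))) (inv_mem m)),
      h.b.QS (mul_mem (conj_mem_of_mem_normalizer nQ hs) (inv_mem hs))⟩
    refine (mem_centralizer_singleton_iff.1 (mem_of_pow_mem_coprime_orderOf o ?_)).symm
    refine mem_centralizer_singleton_iff.2 (commutatorElement_eq_one_iff_mul_comm.1 ?_)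
    rw [pow_two, commutatorElement_mul_left_eq_conj_mul, mem_centralizer_iff'.1 (l m).1 _ k1]
    rcases mem_two h.b.zz k1 with e | e <;> simp [e, h.b.zz]
  · obtain ⟨g, hg, k1⟩ := (h.b.syl.mono h.SY le_top).exists_conj_mem (l (pow_mem hd n)) o
    simpa [mul_assoc] using conj_mem_of_mem_normalizer' (centralizer_le_normalizer _ hg.1)
      (k ⟨conj_mem_of_mem_normalizer (n_dY hg) (pow_mem hd n), k1⟩)

theorem kd (hd : d ∈ 𝐂 Y) (k : ⁅x, d⁆ ∈ zpowers z) : d ∈ Y := by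
  obtain ⟨w, hw, k1⟩ := h.kd2 he ee aY xY xT xD hd k
  exact (mul_mem_cancel_left hw).1 (h.ZY (h.d_Z he ee aY xY xT xD k1))

theorem Y_eq : Y = Up V z := le_antisymm h.YU fun u hu => h.kd he ee aY xY xT xD
  (centralizer_anti h.YU (h.b.Up_ab h.b.colz hu)) ((mem_Tp.1 xT).2 u hu)

theorem twoD (hd : d ∈ 𝐂 Y) {c : G} (hc : c ∈ 𝐂 Y) (n1 : d ∉ Y) (n2 : c ∉ Y) : d * c ∈ Y := by
  have key : ∀ d ∈ 𝐂 Y, d ∉ Y → ⁅x, d⁆ ∈ V ∧ ⁅x, d⁆ ∉ zpowers z := fun d hd n => by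
    refine ⟨cm_swap ?_, fun k => n (h.kd he ee aY xY xT xD hd k)⟩
    rcases h.dsplit hd with k | k
    · exact zpowers_le.2 h.b.yV (k x xY)
    · have := zpowers_le.2 h.b.yV (k x xY)
      rwa [commutatorElement_mul_left_eq_conj_mul, mul_mem_cancel_left (conj_mem_of_mem_normalizer
        (centralizer_le_normalizer _ (h.DV hd)) (zpowers_le.2 h.b.zV (cm_swap ((h.TY xT).2.2 _ (h.σσ aY)))))] at this
  refine h.kd he ee aY xY xT xD (mul_mem hd hc) ?_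
  rw [cm_right, mem_centralizer_iff'.1 (h.DV hd) _ (key c hc n2).1]
  exact two_of_relIndex (h.b.four.relIndex_of_card (zpowers_le.2 h.b.zV) (card_two h.b.zz h.b.z1)) _ (key d hd n1).1 _
    (key c hc n2).1 (key d hd n1).2 (key c hc n2).2

theorem ti : Ti S V := by
  have eY := h.Y_eq he ee aY xY xT xD
  have top : ∀ w, w ∈ rg W η := fun w => by
    obtain ⟨u, hu, rfl⟩ := h.m.mk_surj w
    exact ((h.memY u).1 (eY ▸ hu)).2
  have eT : tY Y z = Tp V z := by rw [eY]; rfl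
  have oz : orderOf z = 2 := orderOf_eq_prime (by rw [pow_two, h.b.zz]) h.b.z1
  have t8 : ∀ t ∈ Tp V z, t ^ 2 ^ 3 = 1 := fun t ht => by
    have k1 := h.sq_D he ee (h.TY ht) (h.TY ht) rfl
    have k2 : t * t * (t * t) ∈ Y := by
      by_cases c : t * t ∈ Y
      exacts [mul_mem c c, h.twoD he ee aY xY xT xD k1 k1 c c]
    rw [← h.b.Up_sq h.b.colz (h.YU k2)]; simp only [← pow_two, ← pow_mul]; norm_num
  have eQ : pCoreOf 2 (𝐂 (zpowers z)) = Tp V z := le_antisymm h.b.QT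
    (le_pCoreOf (isPGroup_iff_mem.2 fun t ht => ⟨3, t8 t ht⟩) Tp_le_c (c_le_n_Tp V z))
  have TS : Tp V z ≤ S := eQ ▸ h.b.QS
  obtain ⟨s, sS, hs⟩ : ∃ s ∈ S, ac s * η * (ac s)⁻¹ = η ^ 2 := by
    obtain ⟨i, -, hi, e1⟩ := h.s.iI
    obtain ⟨-, r, rS, rV, k⟩ := h.b.affI h.m h.f hi fun n => (e1 ▸ h.b.mkV h.m n).elim h.s.i0 h.s.iy
    have rH := h.b.S_le rS
    have n : ac r • mk i ≠ mk i := fun n => (mem_two h.b.zz (k ▸ (h.m.fix rH hi.1).1 n)).elim h.b.y1 h.b.yz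
    rcases h.s.cases4 h.t (h.b.comm_a h.m h.f h.aA h.aT rH (h.b.le rS)) with j | j | ⟨j | j, -⟩
    · exact (n (j (top _))).elim
    · refine (n ?_).elim
      have : (ac r * ac a) • mk i = mk i := j (top _)
      rwa [mul_smul, h.s.fixI _ ⟨i, hi.1, hi, rfl⟩] at this
    · exact ⟨r, rS, j⟩
    · refine ⟨r⁻¹, inv_mem rS, ?_⟩
      have : ac r * η ^ 2 * (ac r)⁻¹ = η := by
        rw [← conj_pow, j, ← pow_mul, ← pow_mod_orderOf, h.s.five h.t]; norm_num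
      rw [h.m.ac_inv rH]; conv_lhs => rw [← this]
      group
  have sH := h.b.S_le sS
  obtain ⟨gen, c20⟩ := h.s.top_gen h.t top (h.b.comm_a h.m h.f h.aA h.aT sH (h.b.le sS)) hs
  have cs : ∀ g ∈ 𝐂 (zpowers z), ac g * ac a = ac a * ac g → ∃ n : ℕ, g * (s ^ n)⁻¹ ∈ Tp V z := fun g hg k => by
    obtain ⟨n, hn⟩ := mem_powers_iff_mem_zpowers.2 (gen _ k)
    exact ⟨n, (B3.ac_T h.m (mul_mem hg (inv_mem (pow_mem sH n)))).1 (by
      rw [h.m.ac_mul _ hg _ (inv_mem (pow_mem sH n)), h.m.ac_inv (pow_mem sH n), h.m.ac_pow sH, mul_inv_eq_one]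
      exact hn.symm)⟩
  have m16 : e ^ 16 ∈ 𝐂 (zpowers z) := pow_mem he.1.1 16
  have e16 : ac (e ^ 16) = η := by rw [h.m.ac_pow he.1.1, ee, ← pow_mod_orderOf, h.s.five h.t]; norm_num
  have nb : Nat.card ↥(Up V z ⊓ Up V y) = 8 := by
    have : Up V z ⊓ Up V y = h.m.pre (h.m.im (Up V z ⊓ Up V y)) := by
      ext u
      exact ⟨fun k => ⟨k.1, u, k.1, k, rfl⟩, fun k => (h.m.mem_im (h.b.VI h.b.zV) k.1).1 k.2⟩
    rw [this, h.m.card_pre (B3.VU h.b.zV h.b.zV), h.s.cardI, oz]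
  refine ⟨h.b.toF4, ?_, ?_, ?_, ⟨e ^ 16, h.b.fH_eq ▸ m16, s, sS, ?_, ?_, ?_, ?_, ?_⟩, ?_, ?_, ?_, fun g hg gH => ?_⟩ <;>
    try simp only [← h.b.Up_z, ← h.b.Tp_z, h.b.fH_eq, eQ]
  · have : Up V z = h.m.pre (rg W η) := eY.symm.trans (Subgroup.ext h.memY)
    rw [this, h.m.card_pre (B3.VU h.b.zV h.b.zV), h.s.card_rg h.t.mem h.t.inv h.t.ne, oz]
  · have : h.m.hom.ker = (Tp V z).subgroupOf _ := by ext g; exact B3.ac_T h.m g.2
    rw [relIndex, ← this, index_ker, MonoidHom.range_eq_top.2 h.m.hom_surj, card_top, c20]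
  · have := t8 _ ((B3.ac_T h.m (pow_mem he.1.1 5)).1 (by rw [h.m.ac_pow he.1.1, ee, h.s.pow5 h.t]))
    rw [← pow_mul, show 16 * 5 = 5 * 2 ^ 3 * 2 by norm_num, pow_mul, pow_mul, this, one_pow]
  · exact fun k => h.t.ne (e16 ▸ (B3.ac_T h.m m16).2 k)
  · have m1 := mul_mem (mul_mem sH m16) (inv_mem sH)
    refine (B3.ac_T h.m (mul_mem (inv_mem (pow_mem m16 2)) m1)).1 ?_
    rw [h.m.ac_mul _ (inv_mem (pow_mem m16 2)) _ m1, h.m.ac_conj sH m16, h.m.ac_inv (pow_mem m16 2), h.m.ac_pow m16, e16,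
      hs, inv_mul_cancel]
  · intro g hg
    obtain ⟨n, k⟩ := cs g (h.b.S_le hg) (h.b.comm_a h.m h.f h.aA h.aT (h.b.S_le hg) (h.b.le hg))
    simpa using mul_mem (mem_sup_left k) (mem_sup_right (npow_mem_zpowers s n) : _ ∈ Tp V z ⊔ zpowers s)
  · intro g hg
    obtain ⟨ψ, mψ, k⟩ := h.s.dich' h.t (top (ac g • mk y))
    obtain ⟨j, rfl⟩ := mem_powers_iff_mem_zpowers.2 mψ
    obtain ⟨n, k1⟩ := cs _ (mul_mem (pow_mem m16 j) hg) (by
      rw [h.m.ac_mul _ (pow_mem m16 j) _ hg, h.m.ac_pow m16, e16]; exact k)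
    simpa [mul_assoc] using mul_mem (inv_mem (mem_sup_right (npow_mem_zpowers (e ^ 16) j) : _ ∈ S ⊔ zpowers (e ^ 16)))
      (mem_sup_left (mul_mem (TS k1) (pow_mem sS n)))
  · rw [← eT, ← eY]; exact h.idx16 he ee (h.TY xT) xD
  · exact Ge.c_le_Tp h.b.colz
  · rw [← eY]
    refine Nat.le_of_dvd two_pos (relIndex_dvd_two_iff.2 ?_)
    by_cases c : 𝐂 Y ≤ Y
    · exact ⟨1, one_mem _, fun b hb => .inr (c hb)⟩
    · obtain ⟨c, hc, n⟩ := SetLike.not_le_iff_exists.1 c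
      exact ⟨c, hc, fun b hb => (em _).symm.imp_left fun k => h.twoD he ee aY xY xT xD hb hc k n⟩
  · rw [cj_Up]
    rcases h.b.memV (conj_mem_of_mem_normalizer hg h.b.zV) with k | k | k | k
    · exact absurd k (conj_ne_one g h.b.z1)
    · exact absurd (h.b.fH_eq ▸ mem_c_of_conj_eq k) gH
    · exact k ▸ ⟨h.b.nT, nb⟩
    · obtain ⟨q, hq, n⟩ := h.b.exists_q h.m h.f
      rw [k, ← h.b.movy (Tp_le_c hq) (Ge.Tp_le_n (Ln.self V) h.b.zV hq) n, ← cj_Up,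
        ← cj_eq_of_mem_normalizer (c_le_n_Up V z (Tp_le_c hq)), ← cj_inf, card_cj, ← cj_eq_of_mem hq, cj_le_cj_iff]
      exact ⟨h.b.nT, nb⟩

end En
end H13.FFa

namespace H13
open _root_.H13
open Cfsg Subgroup H26 _root_.H26 H4 _root_.H4 H118 _root_.H118 FFa
universe u

theorem ff : H26.FF.{u} := fun G _ _ S V h g hg hn => by
  obtain ⟨z, h1⟩ := exists_ge h
  rw [← h1.Up_z, cj_Up] at hn ⊢
  have b : B3 S V z (g * z * g⁻¹) := ⟨h1, conj_mem_of_mem_normalizer hg h1.zV, conj_ne_one g h1.z1,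
    fun e => hn (e.symm ▸ h1.Up_ab h1.colz), hn⟩
  refine (em _).imp_right fun hI => ?_
  obtain ⟨Γ, W, _, _, _, _, _, mk, ac, m⟩ := exists_md (h1.Up_ea h1.colz) (c_le_n_Up V z) le_rfl
  obtain ⟨F, f⟩ := b.exists_fi m
  obtain ⟨a, ha, n⟩ := SetLike.not_le_iff_exists.1 b.nT
  obtain ⟨i₀, s⟩ := b.st4 m f ha n hI
  obtain ⟨η, t⟩ := s.exists_et
  obtain ⟨σ, σM, σz, σy⟩ := b.swap
  obtain ⟨a', aY, k⟩ := En.exists_a (Y := m.pre (rg W η)) ⟨b, m, f, s, t, fun _ => Iff.rfl, σM, σz, σy, ha, n⟩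
  obtain ⟨x, xY, xT, xD⟩ := k.exists_x aY
  obtain ⟨e, he, ee⟩ := k.exists_e aY
  exact k.ti he ee aY xY xT xD

end H13

end H226
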