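import Cfsg.Agent.H26.T2.H26NA2
/-! A free pair of blocks over `B` gives `B = D₈ × D`: `H16.afp : H26.AFP`. -/
set_option autoImplicit false
set_option linter.unusedSectionVars false
namespace H118 end H118 namespace H16 end H16 namespace H16.AFP end H16.AFP namespace H226 end H226 namespace H26 end H26 namespace H4 end H4
open H226
namespace H226
namespace H16.AFP
open _root_.H16 _root_.H16.AFP
open Cfsg Subgroup H26 _root_.H26 H4 _root_.H4 H118 _root_.H118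
open scoped Pointwise commutatorElement

local notation "𝐉" => thompsonSubgroupOf 2
local notation "O₂" => pCoreOf 2

variable {G : Type*} [Group G] [Finite G] {B W W' W₁ W₂ K : Subgroup G} {g g₁ g₂ x y : G}

section one
variable (h : Bk B W g)
include h

theorem nQ : B ≤ 𝐍 ↑(B ⊓ 𝐂 W) := le_normalizer_inf_centralizer h.nW

theorem nQ' : B ⊔ zpowers g ≤ 𝐍 ↑(B ⊓ 𝐂 W) := sup_le (nQ h) (zpowers_le.2 h.nQ)

theorem inv (hy : y ∈ zpowers g) : ∃ b ∈ B, b * y * b⁻¹ = y⁻¹ := by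
  obtain ⟨A, hA, b, hb, -, b2⟩ := h.inv
  obtain ⟨n, rfl⟩ := hy
  exact ⟨b, MaxEA.le hA hb, by dsimp only; rw [← conj_zpow, b2, inv_zpow]⟩

theorem odd (hy : y ∈ zpowers g) : (orderOf y).Coprime 2 :=
  h.odd.coprime_dvd_left (orderOf_dvd_of_mem_zpowers hy)

theorem decomp (hx : x ∈ B ⊔ zpowers g) : ∃ y ∈ zpowers g, ∃ c ∈ B, y * c = x := by
  obtain ⟨A, hA, b, hb, b1, b2⟩ := h.inv
  have hb' := MaxEA.le hA hb
  have n : B ≤ 𝐍 ↑(zpowers g ⊔ B ⊓ 𝐂 W) := fun c hc => by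
    have bn : b ∈ 𝐍 ↑(zpowers g ⊔ B ⊓ 𝐂 W) := zpowers_le.1 (le_normalizer_sup
      (zpowers_le.2 (cj_eq_iff.1 (by rw [cj_zpowers, b2, zpowers_inv]))) (zpowers_le.2 (nQ h hb')))
    by_cases e : c ∈ 𝐂 W
    · exact le_normalizer (mem_sup_right ⟨hc, e⟩)
    · exact (mul_mem_cancel_right bn).1 (le_normalizer (mem_sup_right
        ⟨mul_mem hc hb', h.four.two_of_isP h.isP h.nW c hc b hb' e b1⟩))
  obtain ⟨r, hr, c, hc, rfl⟩ := (mem_sup_of_le_normalizer' n).1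
    ((sup_le le_sup_right (le_sup_of_le_left le_sup_left) : B ⊔ zpowers g ≤ zpowers g ⊔ B ⊓ 𝐂 W ⊔ B) hx)
  obtain ⟨y, hy, q, hq, rfl⟩ := (mem_sup_of_le_normalizer (zpowers_le.2 h.nQ)).1 hr
  exact ⟨y, hy, q * c, mul_mem hq.1 hc, (mul_assoc _ _ _).symm⟩

theorem le_of_n (h1 : K ≤ B ⊔ zpowers g) (h2 : K ≤ 𝐍 B) : K ≤ B := fun x hx => by
  obtain ⟨y, hy, c, hc, rfl⟩ := decomp h (h1 hx)
  obtain ⟨b, hb, e⟩ := inv h hy
  refine mul_mem (mem_of_pow_mem_coprime_orderOf (odd h hy) ?_) hc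
  have := mul_mem (conj_mem_of_mem_normalizer ((mul_mem_cancel_right (le_normalizer hc)).1 (h2 hx)) hb) (inv_mem hb)
  rwa [show y * b * y⁻¹ * b⁻¹ = y * (b * y * b⁻¹)⁻¹ by group, e, inv_inv, ← pow_two] at this

theorem core : O₂ (B ⊔ zpowers g) = B ⊓ 𝐂 W := by
  have n := le_normalizer_pCoreOf 2 (B ⊔ zpowers g)
  have p := isPGroup_pCoreOf 2 (B ⊔ zpowers g)
  have l : O₂ (B ⊔ zpowers g) ≤ B := fun x hx => by
    obtain ⟨y, hy, c, hc, rfl⟩ := decomp h (pCoreOf_le 2 _ hx)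
    obtain ⟨k, hk⟩ := isPGroup_iff_mem.1 (isPGroup_sup h.isP p (le_sup_left.trans n)) y
      ((mul_mem_cancel_right (mem_sup_left hc)).1 (mem_sup_right hx))
    exact mul_mem (mem_of_pow_mem_coprime_orderOf ((odd h hy).pow_right k) (hk ▸ one_mem _)) hc
  refine le_antisymm (le_inf l ((le_inf l le_rfl).trans (h.le_c (n (mem_sup_right (mem_zpowers g)))
    (by rw [pResidualOf_eq_bot p]; exact bot_le)))) (le_pCoreOf h.isP.to_inf_left (le_sup_of_le_left inf_le_left) (nQ' h))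

theorem mem_of_sq (hy : y ∈ zpowers g) (h1 : B ≤ K) (h2 : cj y B ≤ K) : y ∈ K := by
  obtain ⟨b, hb, e⟩ := inv h hy
  refine mem_of_pow_mem_coprime_orderOf (odd h hy) ?_
  have := mul_mem (h2 (conj_mem_cj y hb)) (inv_mem (h1 hb))
  rwa [show y * b * y⁻¹ * b⁻¹ = y * (b * y * b⁻¹)⁻¹ by group, e, inv_inv, ← pow_two] at this

omit h in
theorem not_c (f : Four W) (t : Th W x) (hK : K ≤ W) (h1 : K ≠ ⊥) : x ∉ 𝐂 K := fun e => by
  obtain ⟨w, hw, w1⟩ := (bot_or_exists_ne_one _).resolve_left h1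
  exact w1 (t.fix f (hK hw) (e w hw).symm)

theorem dih : Dih (B ⊔ zpowers g) B := by
  refine ⟨le_sup_left, (core h).le.trans inf_le_left, fun x hx y hy h1 h2 => ?_,
    ⟨g, mem_sup_right (mem_zpowers g), sup_le le_sup_left
      (zpowers_le.2 (mem_of_sq h (mem_zpowers g) le_sup_left le_sup_right))⟩, fun x hx e => ?_, ?_, fun e => ?_⟩
  · rw [core h] at h1 h2 ⊢
    exact ⟨mul_mem hx hy, h.four.two_of_isP h.isP h.nW x hx y hy (fun k => h1 ⟨hx, k⟩) fun k => h2 ⟨hy, k⟩⟩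
  · obtain ⟨y, hy, c, hc, rfl⟩ := decomp h hx
    rw [cj_mul, cj_eq_iff.2 (le_normalizer hc)] at e ⊢
    refine ⟨y * y, mem_sup_right (mul_mem hy hy), e.trans (sup_le le_sup_left (cj_le_of_mem_normalizer le_sup_left
      (le_normalizer (mem_of_pow_mem_coprime_orderOf (odd h hy) ?_)))), ?_⟩
    · rw [pow_two]
      exact mem_of_sq h (mul_mem hy hy) le_sup_left le_sup_right
    · rw [cj_mul, ← cj_sup, ← cj_eq_iff.2 (le_normalizer (mem_sup_right hy : y ∈ B ⊔ zpowers g))]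
      exact cj_mono y e
  · rw [core h]
    exact le_inf (oz_le B) ((oz_le_c B).trans (centralizer_anti h.le))
  · exact not_c h.four h.th inf_le_left h.inf_ne (centralizer_anti inf_le_right (e (mem_sup_right (mem_zpowers g))))

theorem hf (f' : Four W') (le' : W' ≤ B) (nW' : B ≤ 𝐍 W') (nc : ¬ W' ≤ 𝐂 W) : ∃ ρ, Hf B W ρ := by
  obtain ⟨b, hb, b1⟩ := SetLike.not_le_iff_exists.1 nc
  obtain ⟨ρ, hρ, t1, t2, t3⟩ := h.th.odd h.four (h.nW (le' hb)) (f'.sq b hb) b1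
  have m : ∀ X : Subgroup G, g ∈ 𝐍 X → b ∈ X → ρ ∈ X := fun X h1 h2 =>
    zpowers_le.2 (mul_mem (conj_mem_of_mem_normalizer h1 h2) (inv_mem h2)) hρ
  have lQ : W ≤ B ⊓ 𝐂 W := le_inf h.le h.four.le_c
  exact ⟨ρ, h.isP, h.four, h.le, h.nW, t1, t2, m _ (le_normalizer h.nQ) (nQ h (le' hb)), (le_commStab_iff' lQ).1
    (zpowers_le.2 (m _ (zpowers_le.1 (le_normalizer_commStab (zpowers_le.2 h.nQ) (zpowers_le.2 h.th.n)))
      ((le_commStab_iff' lQ).2 ((commutator_le_inf_of_le_normalizer (inf_le_left.trans nW') (le'.trans (nQ h))).trans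
        ((le_inf inf_le_right (inf_le_left.trans inf_le_right)).trans
          ((four_inf h.four f' (h.le.trans nW') (le'.trans h.nW) nc).1.le.trans inf_le_left))) hb))), b, le' hb, b1, t3⟩

end one

variable (sol : ∀ L : Subgroup G, IsTwoLocal L → Group.IsSolvable L) (h1 : Bk B W₁ g₁) (h2 : Bk B W₂ g₂)
  (free : ∀ N ≤ B, B ≤ 𝐍 N → g₁ ∈ 𝐍 N → g₂ ∈ 𝐍 N → N = ⊥)
include h1 h2 free

theorem not_le : ¬ B ⊓ 𝐂 W₁ ≤ B ⊓ 𝐂 W₂ := fun e => by
  have n : ∀ {W : Subgroup G} {g : G}, Bk B W g → ¬ B ≤ 𝐂 W := fun h k => h.jc ((thompsonOf_le 2 B).trans k)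
  have e' : B ⊓ 𝐂 W₂ ≤ B ⊓ 𝐂 W₁ := by_contra fun k => n h2 ((le_sup_of_two (Q := B ⊓ 𝐂 W₁) (fun x hx y hy a b =>
    ⟨mul_mem hx hy, h1.four.two_of_isP h1.isP h1.nW x hx y hy (fun k => a ⟨hx, k⟩) fun k => b ⟨hy, k⟩⟩)
    inf_le_left k).trans (sup_le (e.trans inf_le_right) inf_le_right))
  exact h1.four.ne_bot (le_bot_iff.1 (free _ inf_le_left (nQ h1) h1.nQ (le_antisymm e e' ▸ h2.nQ) ▸
    le_inf h1.le h1.four.le_c))

theorem sup_Q : B ≤ B ⊓ 𝐂 W₂ ⊔ B ⊓ 𝐂 W₁ := le_sup_of_two (fun x hx y hy a b =>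
  ⟨mul_mem hx hy, h2.four.two_of_isP h2.isP h2.nW x hx y hy (fun k => a ⟨hx, k⟩) fun k => b ⟨hy, k⟩⟩)
  inf_le_left (not_le h1 h2 free)

theorem inf_P : (B ⊔ zpowers g₁) ⊓ (B ⊔ zpowers g₂) = B := by
  refine le_antisymm (le_of_n h1 inf_le_left ?_) (le_inf le_sup_left le_sup_left)
  have := le_normalizer_sup (inf_le_right.trans (nQ' h2) : (B ⊔ zpowers g₁) ⊓ (B ⊔ zpowers g₂) ≤ _)
    (inf_le_left.trans (nQ' h1))
  rwa [le_antisymm (sup_le inf_le_left inf_le_left) (sup_Q h1 h2 free)] at this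

include sol

theorem push (c : W₁ ≤ 𝐂 W₂) (n : g₁ ∈ 𝐍 ↑(B ⊓ 𝐂 W₁ ⊓ (B ⊓ 𝐂 W₂))) : False := by
  have e : B ⊓ 𝐂 W₂ ⊓ 𝐂 W₁ = B ⊓ 𝐂 W₁ ⊓ (B ⊓ 𝐂 W₂) :=
    le_antisymm (le_inf (inf_le_inf_right _ inf_le_left) inf_le_left) (le_inf inf_le_right (inf_le_left.trans inf_le_right))
  have p : IsPGroup 2 ↥(B ⊓ 𝐂 W₂) := h1.isP.to_inf_left
  have l2 : W₂ ≤ B ⊓ 𝐂 W₂ := le_inf h2.le h2.four.le_c
  have st : St (B ⊓ 𝐂 W₂) (B ⊔ zpowers g₁) (𝐂 ↑(W₁ ⊓ oz B)) W₁ := by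
    refine ⟨p, le_sup_of_le_left inf_le_left, h1.four, le_inf h1.le c,
      (thompsonOf_le 2 _).trans (inf_le_left.trans h1.nW), fun k => ?_, fun t ht _ => h1.nW ht.1,
      fun t ht => (cj_eq_iff.2 (h1.nW ht.1)).le.trans h1.four.le_c, ⟨g₁, mem_sup_right (mem_zpowers _), h1.th, e ▸ n⟩,
      fun k _ t => not_c h1.four t inf_le_left h1.inf_ne, fun X a b d x hx => ?_⟩
    · refine thompson_ne_bot p (fun z => h2.four.ne_bot (le_bot_iff.1 (z ▸ l2))) (free _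
        ((thompsonOf_le 2 _).trans inf_le_left) ((nQ h2).trans (normalizer_le_normalizer_thompsonOf 2 _)) ?_
        (normalizer_le_normalizer_thompsonOf 2 _ h2.nQ))
      rw [← thompsonOf_eq_of_le (le_inf (thompsonOf_le 2 _) k) inf_le_left, e]
      exact normalizer_le_normalizer_thompsonOf 2 _ n
    · obtain ⟨y, hy, z, hz, rfl⟩ := decomp h1 hx.1
      refine mul_mem (by_contra fun k => b (free X (a.trans inf_le_left) ((nQ h2).trans d) ?_ (d h2.nQ)))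
        (centralizer_anti inf_le_right (le_c_oz B hz))
      have m := (mul_mem_cancel_right (d (nQ h2 hz))).1 hx.2
      obtain ⟨j, rfl⟩ := mem_powers_iff_mem_zpowers.2 hy
      obtain ⟨i, hi⟩ := h1.three
      refine mem_of_pow_mem_coprime (Nat.Coprime.pow_right i ((Nat.Prime.coprime_iff_not_dvd Nat.prime_three).2
        ?_).symm) m (hi ▸ one_mem _)
      rintro ⟨j, rfl⟩
      refine k ?_
      dsimp only
      rw [pow_mul]
      exact pow_mem (centralizer_anti inf_le_left h1.th.cube) j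
  obtain ⟨W', D, E, o⟩ := st.out sol
  have d : H9.DD (B ⊓ 𝐂 W₂) W₁ W' D := ⟨o.four, o.four', o.sup, o.card, o.cen, o.disj, o.inf, o.nc, o.nw, o.nw'⟩
  have z : W₂ ≤ W₁ ⊓ W' ⊔ D := (le_inf l2 (le_centralizer_iff.1 inf_le_right)).trans d.Z_le
  have c1 := card_sup_mul_card_inf (H := W₁ ⊓ W') (K := D) (le_normalizer_of_le_centralizer
    ((inf_le_left.trans d.leW).trans (le_centralizer_iff.1 o.cen)))
  have c2 : 0 < Nat.card ↥(W₁ ⊓ W' ⊓ D) := Nat.card_pos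
  have c3 := o.card
  rw [o.inf] at c1
  have e2 := eq_of_le_of_card_ge z (by rw [h2.four.card]; nlinarith)
  exact not_c h2.four h2.th (le_sup_left.trans e2.ge) (fun k => by have := o.inf; rw [k, card_bot] at this; omega)
    (normalizer_le_c_of_card_two o.inf (d.nZ h2.nQ))

theorem nc : ¬ W₁ ≤ 𝐂 W₂ := fun c => by
  have e := inf_P h1 h2 free
  have g : ∀ {g : G}, g ∈ B ⊔ zpowers g := fun {g} => mem_sup_right (mem_zpowers g)
  rcases dih_elem_or (e.symm ▸ dih h1) (e.symm ▸ dih h2) (fun N a b d => free N (a.trans e.le) (le_sup_left.trans b)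
    (b g) (d g)) with ⟨-, a⟩ | ⟨-, a | a⟩
  · rw [core h2] at a
    exact h1.jc ((thompsonOf_le 2 B).trans ((sup_Q h1 h2 free).trans (sup_le
      ((elemAb_le_centralizer a).trans (centralizer_anti (le_inf h1.le c))) inf_le_right)))
  · rw [core h1, core h2] at a
    exact push sol h1 h2 free c (a g)
  · rw [core h1, core h2, inf_comm] at a
    exact push sol h2 h1 (fun N a b d k => free N a b k d) (le_centralizer_iff.1 c) (a g)

end H16.AFP

open Cfsg Subgroup H26 _root_.H26 H4 _root_.H4 H118 _root_.H118 H16.AFP _root_.H16.AFP in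
theorem H16.afp.{u} : H26.AFP.{u} := fun G _ _ B W₁ W₂ g₁ g₂ sol h1 h2 free => by
  have n := nc sol h1 h2 free
  have n' : ¬ W₂ ≤ 𝐂 W₁ := fun e => n (le_centralizer_iff.1 e)
  obtain ⟨ρ, h⟩ := hf h1 h2.four h2.le h2.nW n'
  obtain ⟨ρ', h'⟩ := hf h2 h1.four h1.le h1.nW n
  have c := h.card_dd h' n' sol
  refine ⟨dd B W₁ ρ, ⟨h1.four, h2.four, h.sup_eq h' n', c, le_centralizer_iff.1 (h.n_dd.trans ?_), eq_bot_iff.2
    (le_trans (le_inf ?_ inf_le_right) h.inf_dd.le), (h.inf h' n').2, n, h1.nW, h2.nW⟩,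
    le_antisymm h.q_le (sup_le (le_inf h1.le h1.four.le_c) inf_le_left)⟩
  · rcases (show Nat.card (dd B W₁ ρ) = 1 ∨ Nat.card (dd B W₁ ρ) = 2 by
      have : 0 < Nat.card (dd B W₁ ρ) := Nat.card_pos
      omega) with e | e
    · rw [card_eq_one.1 e, centralizer_bot']; exact le_top
    · exact normalizer_le_c_of_card_two e
  · refine (inf_le_inf_left _ (inf_le_left.trans inf_le_right)).trans ?_
    rw [dedekind_left h1.four.le_c (h1.le.trans h2.nW), (h.inf h' n').1]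
    exact sup_le le_rfl inf_le_left

end H226
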