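import Cfsg.Agent.H26.T2.H16Ti6
import Cfsg.Agent.H6.Oct3
/-! Pieces `FG1`, `FG2` of the interface `H26.N4` (type Tits): `H16.fg1`, `H16.fg2`. -/
set_option autoImplicit false
namespace H16 end H16 namespace H226 end H226
open H226
namespace H226
namespace H16
open _root_.H16
universe u

theorem fg1 : H26.FG1.{u} := fun _ _ _ _ _ T => let ⟨_, _, _, _, h⟩ := Ti.oc T; h.not_min

theorem fg2 : H26.FG2.{u} := fun _ _ _ _ _ T =>
  let ⟨_, _, _, _, h⟩ := Ti.oc T
  haveI := T.ng.simple
  h.card'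

end H16

end H226
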