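import Cfsg.Agent.H26.T2.H18PUDef
import Cfsg.Agent.H18.Bender
import Cfsg.Agent.H18.GT1
import Cfsg.Agent.H17.Four
import Cfsg.Agent.H22.Dih
import Cfsg.Agent.H9.Hv1

/-! `n3_of : H18.PUL → H26.N3t`: the group `DD T W W' D` (`T = D₈ × D`, `|D| ≤ 2`) and the final transfer argument. -/

set_option autoImplicit false
set_option linter.unusedSectionVars false
namespace H18 end H18 namespace H226 end H226 namespace H9 end H9 namespace H9.DD end H9.DD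
open H226
namespace H226
open Cfsg H18 _root_.H18 Subgroup
open scoped commutatorElement

namespace H9
open _root_.H9
universe w
variable {G : Type w} [Group G] [Finite G] {B D K M R S T W W' X : Subgroup G} {b d g s t u v x y : G}

theorem le_of_two (i : R.relIndex W = 2) (hR : R ≤ X) (hu : u ∈ W) (h : u ∉ R) (hX : u ∈ X) : W ≤ X := fun a ha =>
  (em (a ∈ R)).elim (hR ·) fun e => (mul_mem_cancel_right hX).1 (hR (mul_mem_of_relIndex_two i ha hu e h))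

/-- `T = W W' × D` with `W W'` dihedral of order eight and `|D| ≤ 2` -/
structure DD (T W W' D : Subgroup G) : Prop where
  four : H26.Four W
  four' : H26.Four W'
  sup : W ⊔ W' ⊔ D = T
  card : Nat.card D ≤ 2
  cen : D ≤ C(T)
  disj : (W ⊔ W') ⊓ D = ⊥
  inf : Nat.card ↥(W ⊓ W') = 2
  nc : ¬ W ≤ C(W')
  nw : T ≤ N(W)
  nw' : T ≤ N(W')

namespace DD
open _root_.H9.DD
variable (h : DD T W W' D)
include h

theorem symm : DD T W' W D := ⟨h.four', h.four, sup_comm W W' ▸ h.sup, h.card, h.cen, sup_comm W W' ▸ h.disj,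
  inf_comm W W' ▸ h.inf, mt cent_symm h.nc, h.nw', h.nw⟩
theorem leW : W ≤ T := h.sup ▸ le_sup_left.trans le_sup_left
theorem leD : D ≤ T := h.sup ▸ le_sup_right
theorem leA : W ⊔ D ≤ T := sup_le h.leW h.leD
theorem supA : W ⊔ D ⊔ (W' ⊔ D) = T := by rw [← sup_sup_distrib_right, h.sup]
theorem sqD (hd : d ∈ D) : d * d = 1 := by
  have := pow_card_eq_one_of_mem hd
  rcases (by have := card_pos' (H := D); have := h.card; omega : Nat.card D = 1 ∨ Nat.card D = 2) with e | e <;>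
    rw [e] at this
  · rw [pow_one] at this; rw [this, mul_one]
  · rwa [sq] at this
theorem com (hd : d ∈ D) (hx : x ∈ T) : Commute x d := mem_C.1 (h.cen hd) x hx
theorem memA : x ∈ W ⊔ D ↔ ∃ u ∈ W, ∃ d ∈ D, x = u * d := mem_sup_of_norm' (h.leD.trans h.nw)
theorem memT (hx : x ∈ T) : ∃ u ∈ W, ∃ v ∈ W', ∃ d ∈ D, x = u * v * d := by
  obtain ⟨a, ha, d, hd, rfl⟩ := (mem_sup_of_norm' (h.leD.trans (norm_sup h.nw h.nw'))).1 (h.sup.ge hx)
  obtain ⟨u, hu, v, hv, rfl⟩ := (mem_sup_of_norm (h.leW.trans h.nw')).1 ha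
  exact ⟨u, hu, v, hv, d, hd, rfl⟩
theorem sqA : ∀ x ∈ W ⊔ D, x * x = 1 := fun x hx => by
  obtain ⟨u, hu, d, hd, rfl⟩ := h.memA.1 hx
  rw [(h.com hd (h.leW hu)).symm.mul_mul_mul_comm, h.four.sq u hu, h.sqD hd, one_mul]
theorem cardA : Nat.card ↥(W ⊔ D) = 4 * Nat.card D := by
  rw [Nrm2.card_sup_of_disj (.inr (h.leD.trans h.nw)) (eq_bot_iff.2 ((inf_le_inf_right D le_sup_left).trans h.disj.le)),
    h.four.card]
theorem nA : T ≤ N(W ⊔ D) := norm_sup h.nw (cent_norm (cent_symm h.cen))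
theorem neA : W ⊔ D ≠ W' ⊔ D := fun e => h.nc (cent_mono (GT.elem2 h.sqA).abel le_sup_left (le_sup_left.trans e.ge))
theorem idx : (W ⊓ W').relIndex W = 2 := relIndex_eq_of_mul inf_le_left (by rw [h.inf, h.four.card])
theorem comm (hu : u ∈ W) (hv : v ∈ W') (c : Commute u v) : u ∈ W' ∨ v ∈ W := by
  by_contra! e
  have a := (GT.elem2 h.four.sq).abel
  exact h.nc (cent_symm (le_of_two h.symm.idx (inf_le_right.trans a) hv (fun f => e.2 f.2) (le_C1_iff.1 (le_of_two h.idx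
    (inf_le_right.trans ((GT.elem2 h.four'.sq).abel.trans (C_le_C1 hv))) hu (fun f => e.1 f.2) (mem_C1.2 c)))))
theorem sq_eq (hu : u ∈ W) (hv : v ∈ W') (hd : d ∈ D) : u * v * d * (u * v * d) = u * v * (u * v) := by
  rw [(h.com hd (mul_mem (h.leW hu) (h.symm.leW hv))).symm.mul_mul_mul_comm, h.sqD hd, mul_one]
theorem inv (hx : x ∈ T) (h2 : x * x = 1) : x ∈ W ⊔ D ∨ x ∈ W' ⊔ D := by
  obtain ⟨u, hu, v, hv, d, hd, rfl⟩ := h.memT hx
  rw [h.sq_eq hu hv hd] at h2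
  exact (h.comm hu hv (comm_of_sq (h.four.sq u hu) (h.four'.sq v hv) h2)).symm.imp
    (fun e => mul_mem_sup (mul_mem hu e) hd) fun e => mul_mem_sup (mul_mem e hv) hd
theorem le_or (hB : B ≤ T) (h2 : ∀ b ∈ B, b * b = 1) : B ≤ W ⊔ D ∨ B ≤ W' ⊔ D := by
  by_contra! e
  obtain ⟨x, hx, x1⟩ := SetLike.not_le_iff_exists.1 e.1
  obtain ⟨y, hy, y1⟩ := SetLike.not_le_iff_exists.1 e.2
  obtain ⟨v, hv, d, hd, rfl⟩ := h.symm.memA.1 ((h.inv (hB hx) (h2 x hx)).resolve_left x1)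
  obtain ⟨u, hu, d', hd', rfl⟩ := h.memA.1 ((h.inv (hB hy) (h2 y hy)).resolve_right y1)
  have c : Commute (u * d') (v * d) := (GT.elem2 h2).com hy hx
  exact (h.comm hu hv (by simpa using ((c.mul_left (h.com (inv_mem hd') (hB hx)).symm).mul_right
    (h.com (inv_mem hd) (mul_mem (hB hy) (h.leD (inv_mem hd'))))))).elim (fun e => y1 (mul_mem_sup e hd'))
    fun e => x1 (mul_mem_sup e hd)
theorem eq_or (hB : B ≤ T) (h2 : ∀ b ∈ B, b * b = 1) (c : Nat.card B = 4 * Nat.card D) : B = W ⊔ D ∨ B = W' ⊔ D :=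
  (h.le_or hB h2).imp (eq_of_card_eq · (c.trans h.cardA.symm)) (eq_of_card_eq · (c.trans h.symm.cardA.symm))
theorem sq_cj (g : G) : ∀ x ∈ cj g (W ⊔ D), x * x = 1 := fun x hx => by
  obtain ⟨y, hy, rfl⟩ := mem_cj'.1 hx; exact conj_sq (h.sqA y hy) g
theorem cj_or (hg : g ∈ N(T)) : cj g (W ⊔ D) = W ⊔ D ∨ cj g (W ⊔ D) = W' ⊔ D :=
  h.eq_or (cj_le_of_mem_N h.leA hg) (h.sq_cj g) (card_cj.trans h.cardA)
theorem swap (hg : g ∈ N(T)) (hn : g ∉ N(W ⊔ D)) : cj g (W ⊔ D) = W' ⊔ D ∧ cj g (W' ⊔ D) = W ⊔ D :=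
  have e := (h.cj_or hg).resolve_left (mt mem_N_iff_cj.2 hn)
  ⟨e, (h.symm.cj_or hg).resolve_left fun e' => h.neA (by simpa using e.trans e'.symm)⟩
theorem Z_le : T ⊓ C(T) ≤ W ⊓ W' ⊔ D := fun x hx => by
  obtain ⟨u, hu, v, hv, d, hd, rfl⟩ := h.memT hx.1
  obtain ⟨a, ha, a1⟩ := exists_notMem_of_relIndex_two h.idx
  obtain ⟨b, hb, b1⟩ := exists_notMem_of_relIndex_two h.symm.idx
  have c : ∀ y ∈ T, Commute y (u * v) := fun y hy => by
    simpa using (show Commute y _ from mem_C.1 hx.2 y hy).mul_right (h.com (inv_mem hd) hy)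
  have h1 := (h.comm ha hv (by simpa using ((Commute.inv_right ((GT.elem2 h.four.sq).com ha hu)).mul_right
    (c a (h.leW ha))))).resolve_left fun e => a1 ⟨ha, e⟩
  have h2 := (h.comm hu hb (by simpa using ((c b (h.symm.leW hb)).mul_right
    (Commute.inv_right ((GT.elem2 h.four'.sq).com hb hv))).symm)).resolve_right fun e => b1 ⟨hb, e⟩
  exact mul_mem_sup (mul_mem ⟨hu, h2⟩ ⟨h1, hv⟩) hd
theorem nZ : N(T) ≤ N(W ⊓ W') := fun g hg => by
  have sq : ∀ x ∈ T, x * x ∈ W ⊓ W' := fun x hx => by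
    obtain ⟨u, hu, v, hv, d, hd, rfl⟩ := h.memT hx
    rw [h.sq_eq hu hv hd]
    exact ⟨by simpa [GT.inv_eq (h.four'.sq v hv), mul_assoc] using mul_mem hu (conj_mem h.nw (h.symm.leW hv) hu),
      by simpa [GT.inv_eq (h.four.sq u hu), mul_assoc] using mul_mem (conj_mem h.nw' (h.leW hu) hv) hv⟩
  obtain ⟨u, hu, v, hv, c⟩ : ∃ u ∈ W, ∃ v ∈ W', u * v ≠ v * u := by
    by_contra! e; exact h.nc (cent_iff.2 e)
  have hx := mul_mem (h.leW hu) (h.symm.leW hv)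
  have e : ∀ x ∈ W ⊓ W', x ≠ 1 → zpowers x = W ⊓ W' := fun x hx x1 => eq_of_card_eq (zpowers_le.2 hx) (by
    rw [h.inf, card_zpowers', ord2.2 ⟨h.four.sq x hx.1, x1⟩])
  have n : u * v * (u * v) ≠ 1 := fun e => c (comm_of_sq (h.four.sq u hu) (h.four'.sq v hv) e)
  rw [mem_N_iff_cj, ← e _ (sq _ hx) n, cj_zpowers, e _ (sq _ hx) n]
  exact e _ (by rw [← conj_mul]; exact sq _ (conj_mem_N hg hx)) (conj_ne n g)

theorem endgame [IsSimpleGroup G] (nc : ¬ IsMulCommutative G) (hS : Hall {2} S ⊤) (r : 2 < prank 2 S) (hT : T < S)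
    (hA : S ⊓ N(W ⊔ D) ≤ T) (hD : D ≠ ⊥ → S ⊓ N(D) ≤ T) : False := by
  obtain ⟨s, hs, sT⟩ := SetLike.exists_of_lt (hS.pi.nil.lt_norm hT)
  have sw : ∀ s ∈ S ⊓ N(T), s ∉ T → _ := fun s hs e => h.swap hs.2 fun e' => e (hA ⟨hs.1, e'⟩)
  by_cases D1 : D = ⊥
  · subst D1
    obtain ⟨U, hU, he⟩ := H17.exists_nml_sq Nat.prime_two hS.pi r
    obtain ⟨z, hz, z1⟩ := exists_mem_ne_one' (hS.pi.nil.meet_cent hU.le le_rfl hU.norm fun e => by
      simpa [e] using he.card)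
    have zW : z ∈ W := (by simpa using h.Z_le ⟨hA ⟨hU.le hz.1, C_le_N (C_anti (h.leA.trans hT.le) hz.2)⟩,
      C_anti hT.le hz.2⟩ : z ∈ W ∧ z ∈ W').1
    have := H22.comm_le_of_relIndex_two (relIndex_eq_of_mul (zpowers_le.2 hz.1) (by
      rw [he.card, card_zpowers', ord2.2 ⟨he.elem.sq hz.1, z1⟩]; rfl)) hU.norm
      ((cent_symm (zpowers_le.2 hz.2)).trans C_le_N)
    rcases h.eq_or ((le_inf hU.le (norm_iff_comm_le.2 ((comm_mono le_rfl (h.leA.trans hT.le)).trans (this.trans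
      ((zpowers_le.2 zW).trans le_sup_left))))).trans hA) (fun _ => he.elem.sq) (by simpa using he.card) with e | e
    · exact hT.not_ge ((le_inf le_rfl (e ▸ hU.norm)).trans hA)
    · exact h.neA ((sw s hs sT).2.symm.trans (cj_eq_self (e ▸ hU.norm hs.1)))
  obtain ⟨d, hd, d1⟩ := exists_mem_ne_one' D1
  have c2 : Nat.card D = 2 := by have := one_lt_card D1; have := h.card; omega
  obtain rfl : zpowers d = D := eq_of_card_eq (zpowers_le.2 hd) (by rw [c2, card_zpowers', ord2.2 ⟨h.sqD hd, d1⟩])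
  have i2 : T.relIndex (S ⊓ N(T)) = 2 := relIndex_eq_two_of hs sT fun g hg => or_iff_not_imp_left.2 fun e =>
    hA ⟨S.mul_mem hg.1 (S.inv_mem hs.1), mem_N_iff_cj.2 (by
      rw [cj_mul, ← (sw s hs sT).2, cj_inv_cj, (sw g hg e).2, (sw s hs sT).2])⟩
  have J : ∀ B ≤ S ⊓ N(T), (∀ b ∈ B, b * b = 1) → Nat.card B = 4 * Nat.card (zpowers d) → B ≤ T :=
    fun B hB h2 c b hb => by_contra fun e => by
    have f : ∀ x ∈ T ⊓ B, b * x * b⁻¹ = x := fun x hx => conj_eq_self_of_C1 (mem_C1.2 ((GT.elem2 h2).com hb hx.2))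
    have le : T ⊓ B ≤ W ⊓ W' ⊔ zpowers d := fun x hx => h.Z_le ⟨hx.1, by
      have : x ∈ W ⊔ zpowers d ∧ x ∈ W' ⊔ zpowers d := (h.inv hx.1 (h2 x hx.2)).elim
        (fun a => ⟨a, f x hx ▸ (sw b (hB hb) e).1.le (conj_mem_cj a)⟩)
        fun a => ⟨f x hx ▸ (sw b (hB hb) e).2.le (conj_mem_cj a), a⟩
      rw [← h.supA, C_sup]
      exact ⟨(GT.elem2 h.sqA).abel this.1, (GT.elem2 h.symm.sqA).abel this.2⟩⟩
    have c1 := card_mul_relIndex' (A := T) (B := B)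
    have c3 := Nat.le_of_dvd (Nat.mul_pos card_pos' card_pos') (Nrm2.card_sup_dvd (A := W ⊓ W') (B := zpowers d)
      (.inr (h.leD.trans (le_N.trans h.nZ))))
    rw [relIndex_eq_two_of hb e fun g hg => or_iff_not_imp_left.2 fun e' =>
      mul_inv_mem_of_relIndex_two i2 (hB hg) (hB hb) e' e] at c1
    rw [h.inf] at c3
    exact e (hD D1 ⟨(hB hb).1, C1_le_N_zpowers (mem_C1.2 ((GT.elem2 h2).com hb
      ((eq_of_card_ge le (by omega)).ge (mem_sup_right hd)).2))⟩)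
  have J' : ∀ t, cj t T ≤ S ⊓ N(T) → t ∈ N(T) := fun t ht => mem_N_iff_cj.2 (eq_of_card_eq (by
    nth_rewrite 1 [← h.supA]
    rw [cj_sup]
    exact sup_le (J _ ((cj_mono h.leA).trans ht) (h.sq_cj t) (card_cj.trans h.cardA))
      (J _ ((cj_mono h.symm.leA).trans ht) (h.symm.sq_cj t) (card_cj.trans h.symm.cardA))) card_cj)
  have nT : S ≤ N(T) := by_contra fun e => by
    obtain ⟨y, hy, y1⟩ := SetLike.exists_of_lt (hS.pi.nil.lt_norm (inf_lt_left.2 e))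
    exact y1 ⟨hy.1, J' y (cj_le_of_mem_N (le_inf hT.le le_N) hy.2)⟩
  rw [inf_eq_left.2 nT] at i2 J' hs
  have n1 : T ≤ N(cj s W) := by rw [← cj_N, ← cj_eq_self (nT hs)]; exact cj_mono h.nw
  have KT : W ⊔ cj s W ≤ T := sup_le h.leW (cj_le_of_mem_N h.leW (nT hs))
  have nK : S ≤ N(W ⊔ cj s W) := le_of_two i2 (norm_sup h.nw n1) hs sT (mem_N_iff_cj.2 (by
    rw [cj_sup, cj_cj, cj_eq_self (h.nw (mul_mem_of_relIndex_two i2 hs hs sT sT)), sup_comm]))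
  have cZ : ∀ t ∈ N(T), t * d * t⁻¹ ∈ W ⊓ W' ⊔ zpowers d := fun t ht =>
    h.Z_le ⟨conj_mem_N ht (h.leD hd), conj_mem_N (N_le_N_C ht) (h.cen hd)⟩
  have sup : W ⊔ cj s W ⊔ zpowers d = T := le_antisymm (sup_le KT h.leD) (by
    rw [← h.supA, ← (sw s ⟨hs, nT hs⟩ sT).1, cj_sup, cj_zpowers]
    exact sup_le (sup_le_sup_right le_sup_left _) (sup_le (le_sup_right.trans le_sup_left) (zpowers_le.2
      ((sup_le_sup_right (inf_le_left.trans le_sup_left) _ : W ⊓ W' ⊔ _ ≤ _) (cZ s (nT hs))))))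
  have dK : d ∉ W ⊔ cj s W := fun e => by
    have c1 := Nrm2.card_sup (A := W) (B := cj s W) (.inl (h.leW.trans n1))
    have c3 := card_le (le_inf inf_le_left ((cj_eq_self (h.nZ (nT hs))).ge.trans (cj_mono (inf_le_left (b := W')))))
    have c4 := GT.two_mul_le (h.leA.lt_of_ne fun e => h.neA (eq_of_card_eq (e.ge.trans' h.symm.leA)
      (h.symm.cardA.trans h.cardA.symm)).symm)
    rw [← sup_eq_left.2 (zpowers_le.2 e), sup, card_cj, h.four.card] at c1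
    rw [h.inf] at c3
    rw [h.cardA, c2] at c4
    nlinarith
  have i3 := GT.relIndex_sup2 (nK (hT.le (h.leD hd))) (by rw [h.sqD hd]; exact one_mem _) dK
  rw [sup] at i3
  have cm := H22.comm_le_of_relIndex_two i3 nT nK
  refine H26.not_mem_pResidual_of_extremal ⟨le_top, hS.pi.isPGroup, fun Q hQ h1 _ => (hS.eq_of_le h1 le_top (GT.pg hQ)).le⟩
    (KT.trans hT.le) (commutator_le.2 fun a ha b hb => ?_) (by rw [sq, h.sqD hd]) (hS.pi.of_le hT.le).isPGroup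
    (h.leD hd) (h.cen hd) (hT.le (h.leD hd)) dK (fun t ht => ?_) ?_
  · by_cases e : a ∈ T
    · exact cm (commutator_mem_commutator e hb)
    by_cases e' : b ∈ T
    · exact cm (comm_comm.le (commutator_mem_commutator ha e'))
    simpa [commutatorElement_def, mul_assoc] using
      cm (commutator_mem_commutator (mul_inv_mem_of_relIndex_two i2 ha hb e e') hb)
  · have ht := J' t ht
    rcases (GT.mem_sup2 (h.nZ (le_N (h.leD hd))) (by rw [h.sqD hd]; exact one_mem _)).1 (cZ t ht) with e | e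
    · exact (dK (mem_sup_left (by simpa [mul_assoc] using conj_mem_N' (h.nZ ht) e : d ∈ W ∧ d ∈ W').1)).elim
    · rw [GT.inv_eq (h.sqD hd), ← (h.com hd (conj_mem_N ht (h.leD hd))).eq]; exact mem_sup_left e.1
  · refine ((norm_top_iff.1 (H26.le_normalizer_pResidualOf 2 ⊤)).eq_bot_or_eq_top.resolve_left fun e => ?_).ge (mem_top d)
    have := ((H26.pResidualOf_eq_bot_iff.1 e).of_equiv topEquiv).isNilpotent
    exact nc ⟨⟨IsSimpleGroup.comm_iff_isSolvable.2 inferInstance⟩⟩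

end DD

theorem n3_of (h : PUL.{w}) : H26.N3t.{w} := fun G _ _ hG hr hc S M hM hS => by_contra fun hn => by
  have := hG.simple
  have hS' := hall_sylow_top Nat.prime_two S
  have r : 2 < prank 2 (S : Subgroup G) := by
    rw [prank_sylow Nat.prime_two hS']; exact not_le.1 (mt (prank_top_le_iff Nat.prime_two).1 hr)
  have S1 : (S : Subgroup G) ≠ ⊥ := fun e => by simp [e, prank_bot Nat.prime_two] at r
  have SM : (S : Subgroup G) ≤ M := le_N.trans (hS _ ⟨S, S.isPGroup', S1, rfl⟩ le_N)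
  obtain ⟨A, hA, pA, A1, nA⟩ : ∃ A ≤ M, PiGrp {2} A ∧ A ≠ ⊥ ∧ ¬ ⊤ ⊓ N(A) ≤ M := by
    by_contra! e
    refine hn ⟨M, sein_top.1 (sein_of_norm (lt_top_iff_ne_top.2 fun e' => hG.nc ⟨⟨IsSimpleGroup.comm_iff_isSolvable.2 ?_⟩⟩)
      (even_iff_two_dvd.2 ((hS'.pi.dvd_card S1).trans (card_dvd SM))) e)⟩
    have := hG.two hM
    rw [e'] at this
    exact Group.isSolvable_of_surjective (f := (⊤ : Subgroup G).subtype) fun x => ⟨⟨x, mem_top x⟩, rfl⟩
  obtain ⟨T₀, ⟨p₀, l₀, X₀, pX₀, X₀1, n₀, m₀⟩, mx⟩ := exists_max_card (fun T : Subgroup G => PiGrp {2} T ∧ T ≤ M ∧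
    ∃ X, PiGrp {2} X ∧ X ≠ ⊥ ∧ T ≤ N(X) ∧ ¬ N(X) ≤ M) ⟨pA, hA, A, pA, A1, le_N, by simpa using nA⟩
  obtain ⟨m, hm, TS⟩ := sylow_le_cj Nat.prime_two (hS'.of_le SM le_top) p₀ l₀
  have pX := pX₀.cj m
  have X1 : cj m X₀ ≠ ⊥ := by simpa using X₀1
  have nX : cj m T₀ ≤ N(cj m X₀) := by rw [← cj_N]; exact cj_mono n₀
  have mX : ¬ N(cj m X₀) ≤ M := by rwa [← cj_N, ← cj_eq_self_of_mem hm, cj_le_cj]
  rw [← card_cj (g := m)] at mx
  generalize cj m T₀ = T at *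
  generalize cj m X₀ = X at *
  have pT := hS'.pi.of_le TS
  have T1 : T ≠ ⊥ := fun e => by
    have := mx A ⟨pA, hA, A, pA, A1, le_N, by simpa using nA⟩
    have := one_lt_card A1
    simp only [e, card_bot] at *; omega
  have key : ∀ R Y, PiGrp {2} R → R ≤ M → T ≤ R → PiGrp {2} Y → Y ≠ ⊥ → R ≤ N(Y) → ¬ N(Y) ≤ M → R ≤ T :=
    fun R Y h1 h2 h3 h4 h5 h6 h7 => (eq_of_card_ge h3 (mx R ⟨h1, h2, Y, h4, h5, h6, h7⟩)).ge
  have lt : T < S := TS.lt_of_ne fun e => mX (hS _ ⟨X, pX.isPGroup, X1, rfl⟩ (e ▸ nX))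
  have k2 : ∀ Y, PiGrp {2} Y → Y ≠ ⊥ → T ≤ N(Y) → ¬ N(Y) ≤ M → (S : Subgroup G) ⊓ N(Y) ≤ T := fun Y h1 h2 h3 =>
    key _ Y hS'.pi.inf_left (inf_le_left.trans SM) (le_inf TS h3) h1 h2 inf_le_right
  have k3 : ∀ Y ≤ T, Y ≠ ⊥ → N(T) ≤ N(Y) → N(Y) ≤ M := fun Y h1 h2 h3 => by_contra fun e =>
    (hS'.pi.nil.lt_norm lt).not_ge ((inf_le_inf_left _ h3).trans (k2 Y (pT.of_le h1) h2 (le_N.trans h3) e))
  have syl : Hall {2} T N(X) := sylow_of_max Nat.prime_two nX pT fun Q h1 h2 h3 => by_contra fun e =>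
    (h1.nil.lt_norm (lt_of_le_not_ge h2 e)).not_ge (key _ X h1.inf_left (inf_le_right.trans (k3 T le_rfl T1 le_rfl))
      (le_inf h2 le_N) pX X1 (inf_le_left.trans h3) mX)
  obtain ⟨P, PL, ⟨TP, PM⟩, mn⟩ := exists_minimal_sub (fun P => T ≤ P ∧ ¬ P ≤ M) ⟨nX, mX⟩
  have := hG.two ⟨X, pX.isPGroup, X1, rfl⟩
  have O1 : O[{2}](N(X)) ≤ O[{2}](P) := le_pcore (pcore_nml.of_le ((syl.nml_le pcore_nml pcore_pi).trans TP) PL) pcore_pi
  obtain ⟨W, W', D, E, o⟩ := h G T P (P ⊓ M) ⟨TP, pT.isPGroup, fun Q h1 h2 h3 =>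
    (syl.eq_of_le h2 (h3.trans PL) (GT.pg h1)).le⟩ (Solv.of_le this PL) (by
      rw [pCoreOf, pCore_map Nat.prime_two]
      refine fun x hx => O1 ((pCore_map Nat.prime_two).le ⟨⟨x, PL hx.1⟩, hc.2 X pX.isPGroup X1 fun y hy =>
        Subtype.ext (mem_C.1 hx.2 y (O1 ((pCore_map Nat.prime_two).le ⟨y, hy, rfl⟩))), rfl⟩))
    ⟨le_inf TP (TS.trans SM), inf_lt_left.2 PM, fun Y h1 h2 => le_inf h2.le (by_contra fun e => h2.ne (mn Y ⟨h1, e⟩ h2.le))⟩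
    (fun Y h1 h2 h3 => inf_le_inf_left _ (k3 Y h1 h2 h3)) (fun _ => hG.two) T1
  have d : DD T W W' D := ⟨o.four, o.four', o.sup, o.card, o.cen, o.disj, o.inf, o.nc, o.nw, o.nw'⟩
  have eM : ∀ Y : Subgroup G, E ≤ N(Y) → ¬ N(Y) ≤ M := fun Y h1 h2 => o.eM (le_inf o.eP (h1.trans h2))
  exact d.endgame hG.nc hS' r lt (k2 _ (pT.of_le d.leA) (fun e => by have := d.cardA; simp [e] at this; omega) d.nA
    (eM _ (norm_sup o.eW (cent_norm o.eD)))) fun D1 =>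
    k2 _ (pT.of_le d.leD) D1 (cent_norm (cent_symm d.cen)) (eM _ (cent_norm o.eD))

end H9

end H226
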