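import Cfsg.Agent.H26.T2.H18FE1
/-! `W(l)`, its normalizer, Lemma X, and the critical pair. -/
set_option autoImplicit false
namespace H118 end H118 namespace H118.Ge end H118.Ge namespace H226 end H226 namespace H26 end H26 namespace H4 end H4
open H226
namespace H226
namespace H118
open _root_.H118
open Cfsg Subgroup H26 _root_.H26 H4 _root_.H4
open scoped Pointwise commutatorElement

local notation "O₂" => pCoreOf 2

variable {G : Type*} [Group G]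

/-- generated by the `U(p)`, `p` on the line `l` -/
def Wl (V l : Subgroup G) : Subgroup G := sSup {X | ∃ p ∈ l, p ≠ 1 ∧ X = Up V p}

/-- the groups `U(p)`, `U(q)` commute for points at distance at most `n` -/
def Cm (V : Subgroup G) (n : ℕ) : Prop := ∀ p q, Near V n p q → Up V p ≤ 𝐂 (Up V q)

section basic
variable {V l m : Subgroup G} {p q r g : G} {n : ℕ}

theorem Up_le_Wl (hp : p ∈ l) (p1 : p ≠ 1) : Up V p ≤ Wl V l := le_sSup ⟨p, hp, p1, rfl⟩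

theorem Wl_le {K : Subgroup G} (h : ∀ p ∈ l, p ≠ 1 → Up V p ≤ K) : Wl V l ≤ K :=
  sSup_le fun _ ⟨p, a, b, e⟩ => e ▸ h p a b

theorem cj_Wl_le (g : G) (l : Subgroup G) : cj g (Wl V l) ≤ Wl V (cj g l) :=
  cj_le_iff.2 (Wl_le fun p hp p1 => cj_le_iff.1 (by
    rw [cj_Up]; exact Up_le_Wl (conj_mem_cj g hp) (conj_ne_one g p1)))

theorem cj_Wl (g : G) (l : Subgroup G) : cj g (Wl V l) = Wl V (cj g l) := by
  refine le_antisymm (cj_Wl_le g l) (le_cj_iff.2 ?_)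
  have := cj_Wl_le (V := V) g⁻¹ (cj g l)
  rwa [cj_inv_cj] at this

theorem n_le_n_Wl (V l : Subgroup G) : 𝐍 l ≤ 𝐍 (Wl V l) := fun g hg =>
  cj_eq_iff.1 (by rw [cj_Wl, cj_eq_of_mem_normalizer hg])

theorem Cm.mono (h : Cm V n) {k : ℕ} (hk : k ≤ n) : Cm V k := fun p q e => h p q (e.mono hk)

/-- `U(p)` fixes the points at distance `n + 1` -/
theorem Cm.fix (h : Cm V n) (e : Near V (n + 1) p q) : Up V p ≤ 𝐂 (zpowers q) :=
  let ⟨_, a, b⟩ := e.last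
  (h _ _ a).trans (centralizer_anti (zpowers_le.2 b.mem))

theorem Cm.norm (h : Cm V n) (e : Near V (n + 1) p q) : Up V p ≤ 𝐍 (Up V q) := (h.fix e).trans (c_le_n_Up V q)

end basic

variable [Finite G] {S V : Subgroup G} {z : G}

theorem fr_charP (h : Fr S V) {Y : Subgroup G} (hY : IsPGroup 2 Y) (h1 : Y ≠ ⊥) : CharPOf 2 (𝐍 Y) := by
  have := h.ch Y le_top hY h1
  rwa [top_inf_eq] at this

theorem fr_charP_c (h : Fr S V) {Y : Subgroup G} (hY : IsPGroup 2 Y) (h1 : Y ≠ ⊥) : CharPOf 2 (𝐂 Y) := by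
  have := (fr_charP h hY h1).centralizer hY le_normalizer
  rwa [inf_eq_right.2 (centralizer_le_normalizer _)] at this

theorem fr_sol (h : Fr S V) {Y : Subgroup G} (hY : IsPGroup 2 Y) (h1 : Y ≠ ⊥) : Group.IsSolvable (𝐍 Y) :=
  h.ng.two (twoLocal_n hY h1)

/-- `M` is a maximal 2-local subgroup -/
theorem fr_uniq (h : Fr S V) {Y : Subgroup G} (hY : IsPGroup 2 Y) (h1 : Y ≠ ⊥) (hn : 𝐍 V ≤ 𝐍 Y) : 𝐍 Y ≤ 𝐍 V := by
  have s : IsSyl 2 S (𝐍 Y) := h.syl.mono (h.le.trans hn) le_top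
  refine (h.f1 _ S (fr_charP h hY h1) s inf_le_left).trans (sup_le inf_le_right (inf_le_right.trans ?_))
  refine (centralizer_anti ?_).trans (centralizer_le_normalizer _)
  rw [zc, s.sylowCenterClosure_eq]
  exact (fr_ncl h).ge.trans (ncl_mono le_rfl hn)

namespace Ge
open _root_.H118.Ge
variable (h : Ge S V z) {l m : Subgroup G} {p q r g : G} {n : ℕ}
include h

theorem uniq (hl : Ln V l) {Y : Subgroup G} (hY : IsPGroup 2 Y) (h1 : Y ≠ ⊥) (hn : 𝐍 l ≤ 𝐍 Y) : 𝐍 Y ≤ 𝐍 l := by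
  obtain ⟨g, rfl⟩ := hl
  have := fr_uniq h.toFr (isPGroup_cj g⁻¹ hY) (by rwa [Ne, cj_eq_bot_iff])
    (by rw [← cj_normalizer, le_cj_iff, inv_inv, cj_normalizer]; exact hn)
  rwa [← cj_normalizer, cj_le_iff, inv_inv, cj_normalizer] at this

theorem cm_zero : Cm V 0 := fun p q e => by
  obtain rfl := e.zero_eq
  exact h.Up_ab e.left

theorem cm_one (hb : ∀ g ∈ 𝐍 V, cj g (fU S V) ≤ 𝐂 (fU S V)) : Cm V 1 := fun p q e => by
  obtain ⟨r, e1, r1, q1, l, hl, hr, hq⟩ := e.last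
  obtain rfl := e1.zero_eq
  obtain ⟨g, rfl, rfl⟩ := h.trans hl hq q1
  obtain ⟨x, hx, e2⟩ := h.trans_V (mem_cj.1 hr) (fun k => r1 (conj_ne_one_aux k))
  have e3 : p = g * (x * z * x⁻¹) * g⁻¹ := by rw [e2]; group
  rw [e3, ← cj_Up, ← cj_Up, ← cj_Up, ← cj_centralizer, h.Up_z]
  exact cj_mono g (hb x hx)

theorem le_Wl (hl : Ln V l) : l ≤ Wl V l := by
  obtain ⟨p, hp, p1⟩ := (bot_or_exists_ne_one l).resolve_left (h.ln_four hl).ne_bot
  exact (hl.le_Up hp).trans (Up_le_Wl hp p1)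

theorem Wl_ea (c : Cm V 1) (hl : Ln V l) : IsElementaryAbelian 2 (Wl V l) := by
  rw [Wl, sSup_eq_iSup']
  refine elemAb_iSup (fun ⟨_, p, a, b, e⟩ => ?_) fun ⟨_, p, a, b, e⟩ ⟨_, q, a', b', e'⟩ => ?_
  · subst e; exact h.Up_ea ⟨b, b, l, hl, a, a⟩
  · subst e e'; exact c _ _ (Col.near ⟨b, b', l, hl, a, a'⟩)

theorem n_Wl_le (c : Cm V 1) (hl : Ln V l) : 𝐍 (Wl V l) ≤ 𝐍 l :=
  h.uniq hl (elemAb_isPGroup (h.Wl_ea c hl)) (fun e => (h.ln_four hl).ne_bot (le_bot_iff.1 (e ▸ h.le_Wl hl)))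
    (n_le_n_Wl V l)

/-- an element of `C(p)` normalizing a line through `p` centralizes it modulo `p` -/
theorem comm_ln {K : Subgroup G} (hl : Ln V l) (hp : p ∈ l) (p1 : p ≠ 1) (h1 : K ≤ 𝐂 (zpowers p)) (h2 : K ≤ 𝐍 l) :
    ⁅l, K⁆ ≤ zpowers p :=
  (h.ln_four hl).commutator_le_of_card (zpowers_le.2 hp) (card_two ((h.ln_four hl).sq p hp) p1) h2
    (le_normalizer_of_le_centralizer h1)

theorem le_Tp_of {K : Subgroup G} (p1 : p ≠ 1) (h1 : K ≤ 𝐂 (zpowers p)) (h2 : ∀ l, Ln V l → p ∈ l → K ≤ 𝐍 l) :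
    K ≤ Tp V p := by
  refine le_Tp.2 ⟨h1, ?_⟩
  rw [commutator_comm, Up]
  refine commutator_sSup_le (fun l hl => h.comm_ln hl.1 hl.2 p1 h1 (h2 l hl.1 hl.2)) fun l hl => ?_
  exact le_normalizer_of_le_centralizer ((h.ln_four hl.1).le_c.trans (centralizer_anti (zpowers_le.2 hl.2)))

/-- Lemma X -/
theorem lemX (c : Cm V 1) {K : Subgroup G} (p1 : p ≠ 1) (h1 : K ≤ 𝐂 (zpowers p))
    (h2 : ∀ q, Col V p q → ⁅Up V q, K⁆ ≤ Up V p) : K ≤ Tp V p := by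
  refine h.le_Tp_of p1 h1 fun l hl hp => le_trans (le_normalizer_of_commutator_le ?_) (h.n_Wl_le c hl)
  rw [Wl]
  refine commutator_sSup_le (fun _ ⟨q, a, b, e⟩ => ?_) fun _ ⟨q, a, b, e⟩ => ?_
  · rw [e]; exact (h2 q ⟨p1, b, l, hl, hp, a⟩).trans (Up_le_Wl hp p1)
  · rw [e]; exact (Up_le_Wl a b).trans le_normalizer

theorem not_all_cm : ¬ ∀ n, Cm V n := fun c => by
  let E : Subgroup G := ⨆ p : {p // ∃ n, Near V n z p}, Up V p
  have hE : IsElementaryAbelian 2 E := elemAb_iSup (fun ⟨p, n, e⟩ => h.Up_ea e.right)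
    fun ⟨p, n, e⟩ ⟨q, k, e'⟩ => c _ _ _ (e.symm.trans e')
  have hV : V ≤ E := ((Ln.self V).le_Up h.zV).trans (le_iSup_of_le ⟨z, 0, .zero h.colz⟩ le_rfl)
  have key : ∀ g : G, Col V z (g * z * g⁻¹) → g ∈ 𝐍 E := fun g hg => mem_normalizer_of_cj_le (by
    rw [cj_iSup]
    refine iSup_le fun ⟨p, n, e⟩ => ?_
    rw [cj_Up]
    exact le_iSup_of_le ⟨_, n + 1, Near.cons hg (e.cj g)⟩ le_rfl)
  refine h.nH (le_trans (fun g hg => key g ?_) (fr_uniq h.toFr (elemAb_isPGroup hE)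
    (fun e => h.four.ne_bot (le_bot_iff.1 (e ▸ hV))) fun g hg => key g ?_))
  · rw [conj_eq_of_mem_c (h.fH_eq ▸ hg)]; exact h.colz
  · exact ⟨h.z1, conj_ne_one g h.z1, V, Ln.self V, h.zV, conj_mem_of_mem_normalizer hg h.zV⟩

theorem exists_crit (c : Cm V 1) : ∃ n p q, Cm V (n + 1) ∧ Near V (n + 2) p q ∧ ¬ Up V p ≤ Tp V q := by
  classical
  have e : ∃ n, ¬ Cm V n := not_forall.1 h.not_all_cm
  have e1 := Nat.find_spec e
  have e2 : 2 ≤ Nat.find e := by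
    rw [Nat.le_find_iff]
    intro m hm k
    exact k (c.mono (by omega))
  obtain ⟨n, hn⟩ : ∃ n, Nat.find e = n + 2 := ⟨Nat.find e - 2, by omega⟩
  have e3 : Cm V (n + 1) := not_not.1 (Nat.find_min e (by omega))
  rw [hn, Cm] at e1
  push Not at e1
  obtain ⟨p, q, a, b⟩ := e1
  by_cases k : Up V p ≤ Tp V q
  · exact ⟨n, q, p, e3, a.symm, fun k' => b (h.Up_comm k k')⟩
  · exact ⟨n, p, q, e3, a, k⟩

end Ge

end H118

end H226
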