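import Cfsg.Agent.H26.T2.H26NFrD
import Cfsg.Agent.H26.T2.H18FE2
/-! Common facts about a frame `Fr S V` whose `V` is a `2`-group; the pieces `FB2`, `FA2`. -/
set_option autoImplicit false
namespace H118 end H118 namespace H226 end H226 namespace H26 end H26 namespace H26.Fr end H26.Fr namespace H4 end H4
open H226
namespace H226
namespace H26
open _root_.H26
open Cfsg Subgroup H4 _root_.H4 H118 _root_.H118
open scoped Pointwise commutatorElement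
universe u

local notation "𝐉" => thompsonSubgroupOf 2
local notation "O₂" => pCoreOf 2

/-- (B) case 1 -/
def FB2 : Prop := ∀ (G : Type u) [Group G] [Finite G] (S V : Subgroup G), Fr S V → IsPGroup 2 V → V ≤ O₂ (fH S)

/-- (A) the frame exists, with `N(B(S)) ≤ M` -/
def FA2 : Prop := ∀ (G : Type u) [Group G] [Finite G], NG2 G → ¬ PRankLE 2 2 G → IsCharacteristicTwoType G →
  ∀ S : Sylow 2 G, (∀ M : Subgroup G, IsTwoLocal M → ∃ L : Subgroup G, IsTwoLocal L ∧ (S : Subgroup G) ≤ L ∧ ¬ L ≤ M) →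
  ∃ V, Fr (S : Subgroup G) V ∧ IsPGroup 2 V ∧ 𝐍 (bm (S : Subgroup G)) ≤ 𝐍 V

theorem n4_of2 (a : FA2.{u}) (b : FB2.{u}) (c : FC.{u}) (d1 : FD1.{u}) (d2 : FD2'.{u}) (e : FE.{u}) (f : FF.{u})
    (m : FM.{u}) {P : ∀ (G : Type u) [Group G], Prop}
    (g : ∀ (G : Type u) [Group G] [Finite G] (S V : Subgroup G), Ti S V → P G)
    (G : Type u) [Group G] [Finite G] (h1 : NG2 G) (h2 : ¬ PRankLE 2 2 G) (h3 : IsCharacteristicTwoType G)
    (S : Sylow 2 G) (h4 : ∀ M : Subgroup G, IsTwoLocal M →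
      ∃ L : Subgroup G, IsTwoLocal L ∧ (S : Subgroup G) ≤ L ∧ ¬ L ≤ M) : P G := by
  obtain ⟨V, h, hV, hb⟩ := a G h1 h2 h3 S h4
  have k1 := b G _ V h hV
  have k2 := c G _ V h k1
  have k : F4 (S : Subgroup G) V := ⟨h, (em _).elim (d1 G _ V h k1 k2) (d2 G _ V h hb k1 k2), k1, k2⟩
  obtain ⟨x, hx, hx'⟩ := e G _ V k
  exact g G _ V ((f G _ V k x hx hx').resolve_left (m G _ V k x hx hx'))

variable {G : Type*} [Group G]

/-- `R = C_S(V)` -/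
abbrev fR (S V : Subgroup G) : Subgroup G := S ⊓ 𝐂 V

/-- `L₀ = N(R)` -/
abbrev fL (S V : Subgroup G) : Subgroup G := 𝐍 (S ⊓ 𝐂 V)

theorem bm_le (T : Subgroup G) : bm T ≤ T := inf_le_left
theorem j_le_bm (T : Subgroup G) : 𝐉 T ≤ bm T := le_inf (thompsonOf_le 2 T) (le_c_oz _)
theorem n_ozj (T : Subgroup G) : 𝐍 T ≤ 𝐍 (oz (𝐉 T)) := le_n_oz (normalizer_le_normalizer_thompsonOf 2 T)
theorem n_bm (T : Subgroup G) : 𝐍 T ≤ 𝐍 (bm T) := le_normalizer_inf le_rfl (le_normalizer_centralizer (n_ozj T))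
theorem n_oz (T : Subgroup G) : 𝐍 T ≤ 𝐍 (oz T) := le_n_oz le_rfl

variable [Finite G] {S V Y X T : Subgroup G}

theorem isP_of_le_core {H : Subgroup G} (h : V ≤ O₂ H) : IsPGroup 2 V := (isPGroup_pCoreOf 2 H).to_le h

namespace Fr
open _root_.H26.Fr
variable (h : Fr S V)
include h

theorem isP : IsPGroup 2 S := h.syl.isP
theorem ncl_eq : ncl (oz S) (𝐍 V) = V := fr_ncl h
theorem oz_le : oz S ≤ V := fr_oz_le h
theorem oz_ne : oz S ≠ V := fr_oz_ne h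
theorem oz_ne_bot : oz S ≠ ⊥ := fr_oz_ne_bot h
theorem ne_bot : V ≠ ⊥ := fun e => h.oz_ne_bot (le_bot_iff.1 (e ▸ h.oz_le))
theorem S_ne_bot : S ≠ ⊥ := fun e => h.oz_ne_bot (le_bot_iff.1 (e ▸ H26.oz_le S))
theorem charP (hY : IsPGroup 2 Y) (h1 : Y ≠ ⊥) : CharPOf 2 (𝐍 Y) := fr_charP h hY h1
theorem charP_c (hY : IsPGroup 2 Y) (h1 : Y ≠ ⊥) : CharPOf 2 (𝐂 Y) := fr_charP_c h hY h1
theorem sol (hY : IsPGroup 2 Y) (h1 : Y ≠ ⊥) : Group.IsSolvable (𝐍 Y) := fr_sol h hY h1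
theorem sol_le (hY : IsPGroup 2 Y) (h1 : Y ≠ ⊥) (h2 : X ≤ 𝐍 Y) : Group.IsSolvable X :=
  H17.solvable_of_le h2 (h.sol hY h1)
theorem sol_c (hY : IsPGroup 2 Y) (h1 : Y ≠ ⊥) (h2 : X ≤ 𝐂 Y) : Group.IsSolvable X :=
  h.sol_le hY h1 (le_normalizer_of_le_centralizer h2)
theorem inL (hY : IsPGroup 2 Y) (h1 : Y ≠ ⊥) : InL 2 (𝐍 Y) := inL_of_twoLocal h.ch (twoLocal_n hY h1)
theorem S_le_H : S ≤ fH S := le_c_oz S
theorem c_le_H : 𝐂 V ≤ fH S := centralizer_anti h.oz_le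
theorem sylH : IsSyl 2 S (fH S) := h.syl.mono h.S_le_H le_top
theorem sylM : IsSyl 2 S (𝐍 V) := h.syl.mono h.le le_top
theorem charH : CharPOf 2 (fH S) := h.charP_c (elemAb_isPGroup (elemAb_oz S)) h.oz_ne_bot
theorem solH : Group.IsSolvable (fH S) := h.sol_c (elemAb_isPGroup (elemAb_oz S)) h.oz_ne_bot le_rfl
theorem Q_le : O₂ (fH S) ≤ S := h.sylH.pCoreOf_le
theorem oz_le_Q : oz S ≤ O₂ (fH S) :=
  le_pCoreOf (elemAb_isPGroup (elemAb_oz S)) ((H26.oz_le S).trans h.S_le_H) (centralizer_le_normalizer _)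
/-- `C(Q) ≤ Q` -/
theorem cQ : 𝐂 (O₂ (fH S)) ≤ O₂ (fH S) := fun x hx => h.charH ⟨centralizer_anti h.oz_le_Q hx, hx⟩
theorem S_le_L : S ≤ fL S V := le_normalizer_inf_centralizer h.le
theorem sylL : IsSyl 2 S (fL S V) := h.syl.mono h.S_le_L le_top
theorem sylR : IsSyl 2 (fR S V) (𝐂 V) :=
  h.sylM.inf_of_normal (normalizer_le_normalizer_centralizer V) (centralizer_le_normalizer _)
theorem isPR : IsPGroup 2 (fR S V) := h.sylR.isP
/-- `M = C(V) N_M(R)` -/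
theorem frat : 𝐍 V ≤ 𝐂 V ⊔ (𝐍 V ⊓ fL S V) :=
  (h.sylR.frattini (centralizer_le_normalizer _) (normalizer_le_normalizer_centralizer V)).ge
theorem frat_mem {g : G} (hg : g ∈ 𝐍 V) : ∃ c ∈ 𝐂 V, c * g ∈ fL S V :=
  h.sylR.frattini_mem (normalizer_le_normalizer_centralizer V hg)
theorem ncl_L' : ncl (oz S) (𝐍 V ⊓ fL S V) = V := by
  refine le_antisymm (ncl_le h.oz_le inf_le_left) (h.ncl_eq.ge.trans (ncl_le_iff.2 fun g hg => ?_))
  obtain ⟨c, hc, e⟩ := h.frat_mem (inv_mem hg)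
  have := cj_le_ncl (Y := oz S) (inv_mem (show c * g⁻¹ ∈ 𝐍 V ⊓ fL S V from
    mem_inf.2 ⟨mul_mem (centralizer_le_normalizer _ hc) (inv_mem hg), e⟩))
  rwa [mul_inv_rev, inv_inv, cj_mul, cj_eq_of_mem_centralizer (inv_mem (h.c_le_H hc))] at this

/-- a `2`-local subgroup of characteristic 2 over `S` whose `Z_X` contains `V` lies in `M` -/
theorem le_of_syl (hX : CharPOf 2 X) (h1 : S ≤ X) (h2 : V ≤ ncl (oz S) X) : X ≤ 𝐍 V := by
  have s : IsSyl 2 S X := h.syl.mono h1 le_top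
  refine (h.f1 _ S hX s inf_le_left).trans (sup_le inf_le_right (inf_le_right.trans ?_))
  refine (centralizer_anti ?_).trans (centralizer_le_normalizer _)
  rwa [zc, s.sylowCenterClosure_eq]

/-- uniqueness for `N_M(R)`-invariant `2`-groups -/
theorem uniq' (hY : IsPGroup 2 Y) (h1 : Y ≠ ⊥) (hn : 𝐍 V ⊓ fL S V ≤ 𝐍 Y) : 𝐍 Y ≤ 𝐍 V :=
  h.le_of_syl (h.charP hY h1) ((le_inf h.le h.S_le_L).trans hn) (h.ncl_L'.ge.trans (ncl_mono le_rfl hn))

theorem R_ne_bot (hV : V ≤ 𝐂 V) : fR S V ≠ ⊥ := fun e =>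
  h.oz_ne_bot (le_bot_iff.1 (e ▸ le_inf (H26.oz_le S) (h.oz_le.trans hV)))

variable (hV : IsPGroup 2 V)
include hV

theorem charM : CharPOf 2 (𝐍 V) := h.charP hV h.ne_bot
theorem solM : Group.IsSolvable (𝐍 V) := h.sol hV h.ne_bot
theorem pred : PRed 2 V (𝐍 V) := by
  have := (h.charM hV).pRed_sylowCenterClosure
  rwa [show sylowCenterClosure 2 (𝐍 V) = V from h.zv] at this
theorem ea : IsElementaryAbelian 2 V := (h.pred hV).elemAb
theorem red : Red 2 (𝐍 V) V := (h.pred hV).red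
theorem le_c : V ≤ 𝐂 V := elemAb_le_centralizer (h.ea hV)
theorem sq {v : G} (hv : v ∈ V) : v * v = 1 := by rw [← pow_two]; exact (h.ea hV).2 v hv
theorem V_le_S : V ≤ S := h.syl.le_of_le_normalizer hV le_top h.le
theorem V_le_R : V ≤ fR S V := le_inf (h.V_le_S hV) (h.le_c hV)
theorem R_ne : fR S V ≠ ⊥ := h.R_ne_bot (h.le_c hV)
theorem not_S_le : ¬ S ≤ 𝐂 V := fun e =>
  h.oz_ne (le_antisymm h.oz_le (le_oz (h.ea hV) (h.V_le_S hV) (le_centralizer_iff.1 e)))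
theorem inf_c : V ⊓ 𝐂 S = oz S := le_antisymm
  (le_oz (elemAb_mono (h.ea hV) inf_le_left) (inf_le_left.trans (h.V_le_S hV)) inf_le_right)
  (le_inf h.oz_le (oz_le_c S))
/-- `L₀ ≤ M` -/
theorem L_le : fL S V ≤ 𝐍 V := h.uniq' h.isPR (h.R_ne hV) inf_le_right
/-- uniqueness for `L₀`-invariant `2`-groups -/
theorem uniq (hY : IsPGroup 2 Y) (h1 : Y ≠ ⊥) (hn : fL S V ≤ 𝐍 Y) : 𝐍 Y ≤ 𝐍 V :=
  h.uniq' hY h1 (inf_le_right.trans hn)
theorem M_eq : 𝐂 V ⊔ fL S V = 𝐍 V :=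
  le_antisymm (sup_le (centralizer_le_normalizer _) (h.L_le hV)) (h.frat.trans (sup_le_sup_left inf_le_right _))
theorem ncl_L : ncl (oz S) (fL S V) = V := by
  have := h.ncl_L'
  rwa [inf_eq_right.2 (h.L_le hV)] at this
theorem predL : PRed 2 V (fL S V) := by
  have := (h.pred hV).of_normalizer h.sylM
  rwa [inf_eq_right.2 (h.L_le hV)] at this
theorem redL : Red 2 (fL S V) V := (h.predL hV).red
theorem solL : Group.IsSolvable (fL S V) := h.sol h.isPR (h.R_ne hV)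
theorem charL : CharPOf 2 (fL S V) := h.charP h.isPR (h.R_ne hV)
/-- `O₂(L₀) = R` -/
theorem core_L : O₂ (fL S V) = fR S V := by
  have := (h.pred hV).pCoreOf_normalizer h.sylM
  rwa [inf_eq_right.2 (h.L_le hV)] at this
/-- `C(R) ≤ R` -/
theorem cR : 𝐂 (fR S V) ≤ fR S V := by
  have := (h.inL h.isPR (h.R_ne hV)).2
  rwa [h.core_L hV] at this
theorem V_le_ozR : V ≤ oz (fR S V) := le_oz (h.ea hV) (h.V_le_R hV) (le_centralizer_iff.1 inf_le_right)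
theorem nJ_le : 𝐍 (𝐉 (fR S V)) ≤ 𝐍 V :=
  h.uniq hV (h.isPR.to_le (thompsonOf_le 2 _)) (thompson_ne_bot h.isPR (h.R_ne hV))
    (normalizer_le_normalizer_thompsonOf 2 _)
theorem V_le_ozJ : V ≤ oz (𝐉 (fR S V)) := (h.V_le_ozR hV).trans (oz_le_oz_thompson _)
theorem nB_le : 𝐍 (bm (fR S V)) ≤ 𝐍 V :=
  h.uniq hV h.isPR.to_inf_left (fun e => thompson_ne_bot h.isPR (h.R_ne hV) (le_bot_iff.1 (e ▸ j_le_bm _))) (n_bm _)

/-- pushing up: a group of characteristic 2 with Sylow subgroup `R` lies in `M` -/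
theorem pu (hX : CharPOf 2 X) (hR : IsSyl 2 (fR S V) X) : X ≤ 𝐍 V := by
  refine (h.f2 _ _ hX hR inf_le_left rfl).trans (sup_le inf_le_right (inf_le_right.trans ?_))
  refine (centralizer_anti ?_).trans (centralizer_le_normalizer _)
  rw [zc, hR.sylowCenterClosure_eq]
  exact (h.V_le_ozR hV).trans (le_ncl _ _)

/-- `C(V)` centralizes `V* = Ω₁Z(R)` -/
theorem c_le_c_ozR : 𝐂 V ≤ 𝐂 (oz (fR S V)) := by
  have c := h.charP_c hV h.ne_bot
  have n := normalizer_le_normalizer_centralizer V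
  have e := c.omegaOne_center_eq h.sylR
  rw [le_centralizer_iff, show oz (fR S V) = _ from e]
  refine le_centralizer_of_transfer (elemAb_le_centralizer (elemAb_oz _)) (elemAb_isPGroup (elemAb_oz _))
    (le_n_oz (le_normalizer_pCoreOf 2 _)) h.sylR h.isP (le_n_oz (le_normalizer_pCoreOf_of_le (h.le.trans n)))
    (h.le.trans n) h.S_le_L (le_trans ?_ (h.oz_le.trans (le_centralizer_iff.1 le_rfl)))
  exact le_oz (elemAb_mono (elemAb_oz _) (inf_le_left.trans inf_le_left))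
    ((inf_le_left.trans inf_le_left).trans ((H26.oz_le _).trans (h.sylR.pCoreOf_le.trans inf_le_left))) inf_le_right
theorem c_ozR : 𝐂 (oz (fR S V)) = 𝐂 V := le_antisymm (centralizer_anti (h.V_le_ozR hV)) (h.c_le_c_ozR hV)
theorem M_le_n_ozR : 𝐍 V ≤ 𝐍 (oz (fR S V)) :=
  (h.M_eq hV).ge.trans (sup_le (le_normalizer_of_le_centralizer (h.c_le_c_ozR hV)) (n_oz _))

/-- if `C_S(Y) = R` for an `S`-invariant `Y ≠ 1` then `C(Y) ≤ M` and `N(Y) ≤ M` -/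
theorem n_le_of_c (hY : IsPGroup 2 Y) (h1 : Y ≠ ⊥) (h2 : S ≤ 𝐍 Y) (h3 : S ⊓ 𝐂 Y = fR S V) :
    𝐂 Y ≤ 𝐍 V ∧ 𝐍 Y ≤ 𝐍 V := by
  have s := (h.syl.mono h2 le_top).inf_of_normal (normalizer_le_normalizer_centralizer Y) (centralizer_le_normalizer _)
  rw [h3] at s
  have c := h.pu hV (h.charP_c hY h1) s
  exact ⟨c, (s.frattini (centralizer_le_normalizer _) (normalizer_le_normalizer_centralizer Y)).ge.trans
    (sup_le c (inf_le_right.trans (h.L_le hV)))⟩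

/-- a `2`-group over `R` with the same Thompson subgroup: Sylow subgroups over it lie in `M` -/
theorem thompson_eq (hT : IsPGroup 2 T) (h1 : 𝐉 (fR S V) ≤ T) (hJ : 𝐉 S ≤ 𝐂 V) : 𝐉 T = 𝐉 (fR S V) := by
  have e : 𝐉 (fR S V) = 𝐉 S := thompsonOf_eq_of_le (le_inf (thompsonOf_le 2 S) hJ) inf_le_left
  rw [e] at h1 ⊢
  exact h.syl.thompson_eq hT h1 le_top

/-- `T₁ = S ∩ ⟨R^H⟩` does not centralize `V` -/
theorem T1_not_le : ¬ S ⊓ ncl (fR S V) (fH S) ≤ 𝐂 V := fun e => by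
  have l : ncl (fR S V) (fH S) ≤ fH S := ncl_le_self (inf_le_left.trans h.S_le_H)
  have s := h.sylH.inf_of_normal (le_normalizer_ncl _ _) l
  rw [show S ⊓ ncl (fR S V) (fH S) = fR S V from
    le_antisymm (le_inf inf_le_left e) (le_inf inf_le_left (le_ncl _ _))] at s
  exact h.nH ((s.frattini l (le_normalizer_ncl _ _)).ge.trans (sup_le
    (h.pu hV (h.charH.of_normal l (le_normalizer_ncl _ _)) s) (inf_le_right.trans (h.L_le hV))))

/-- for `1 ≠ Z₀ ≤ Z`, `X = C(Z₀)`: `Z_X ≤ V` and `⟨R^H⟩` centralizes `Z_X` -/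
theorem zc_le {Z₀ : Subgroup G} (h0 : Z₀ ≤ oz S) (h1 : Z₀ ≠ ⊥) :
    ncl (oz S) (𝐂 Z₀) ≤ V ∧ ncl (fR S V) (fH S) ≤ 𝐂 (ncl (oz S) (𝐂 Z₀)) := by
  have l : fH S ≤ 𝐂 Z₀ := centralizer_anti h0
  have s : IsSyl 2 S (𝐂 Z₀) := h.syl.mono (h.S_le_H.trans l) le_top
  have f := h.f1 _ S (h.charP_c ((elemAb_isPGroup (elemAb_oz S)).to_le h0) h1) s inf_le_left
  rw [zc, s.sylowCenterClosure_eq] at f
  have a : ncl (oz S) (𝐂 Z₀) ≤ V := ncl_le_iff.2 fun g hg => by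
    obtain ⟨m, hm, c, hc, rfl⟩ := (mem_sup_of_le_normalizer (le_normalizer_inf (inf_le_left.trans le_normalizer)
      (inf_le_left.trans (le_normalizer_centralizer (le_normalizer_ncl _ _))))).1 (f hg)
    rw [cj_mul, cj_eq_of_mem_centralizer (centralizer_anti (le_ncl _ _) hc.2)]
    exact cj_le_of_mem_normalizer h.oz_le hm.2
  exact ⟨a, ncl_le_centralizer (inf_le_right.trans (centralizer_anti a)) (l.trans (le_normalizer_ncl _ _))⟩

end Fr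

end H26

end H226
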