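import Cfsg.Agent.H26.T2.H20FC4
import Cfsg.Agent.H26.T2.H26NFr2
import Cfsg.Agent.H18.FT
/-! `H26.FC`: step C1 (`|V| = 4`) and the theorem `H120.fc`. -/
set_option autoImplicit false
set_option linter.unusedSectionVars false
namespace H118 end H118 namespace H120 end H120 namespace H120.FC end H120.FC namespace H120.FC.Tv end H120.FC.Tv namespace H13.FFa end H13.FFa namespace H226 end H226 namespace H26 end H26 namespace H4 end H4
open H226
namespace H226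
namespace H120.FC
open _root_.H120 _root_.H120.FC
open Cfsg Subgroup H26 _root_.H26 H4 _root_.H4 H118 _root_.H118 H13.FFa _root_.H13.FFa
open scoped Pointwise commutatorElement
universe u

section
variable {Γ W : Type*} [Group Γ] [AddCommGroup W] [DistribMulAction Γ W]

/-- `η` has order three and `[W, η] = {0, w, t, w + t}` -/
structure Tv (η : Γ) (w t : W) : Prop where
  two : ∀ w : W, w + w = 0
  faith : ∀ γ : Γ, (∀ w : W, γ • w = w) → γ = 1
  w0 : w ≠ 0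
  e1 : η • w = t
  e2 : η • t = w + t
  rg : ∀ x, η • x + x = 0 ∨ η • x + x = w ∨ η • x + x = t ∨ η • x + x = w + t

namespace Tv
open _root_.H120.FC.Tv
variable {η θ : Γ} {w t b : W} (h : Tv η w t)
include h

theorem e3 : η • (w + t) = w := by rw [smul_add, h.e1, h.e2]; have := h.two t; grind
theorem t0 : t ≠ 0 := fun e => h.w0 ((smul_eq_zero_iff_eq η).1 (h.e1.trans e))
theorem tw : t ≠ w := fun e => h.w0 (by have := h.e1; have := h.e2; grind)

theorem cube : η * η * η = 1 := h.faith _ fun x => by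
  have k : ∀ y, η • x + x = y → y + η • y + η • η • y = 0 → (η * η * η) • x = x := fun y e j => by
    have e' : η • x = x + y := by have := h.two x; grind
    rw [mul_smul, mul_smul, e', smul_add, e', smul_add, smul_add, e']
    grind
  have := h.two w; have := h.two t
  rcases h.rg x with j | j | j | j <;> refine k _ j ?_
  · simp
  · rw [h.e1, h.e2]; grind
  · rw [h.e2, h.e3]; grind
  · rw [h.e3, h.e1]; grind

theorem inv : Tv η⁻¹ w (w + t) := by
  refine ⟨h.two, h.faith, h.w0, inv_smul_eq_iff.2 h.e3.symm, inv_smul_eq_iff.2 ?_, fun x => ?_⟩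
  · rw [← add_assoc, h.two, zero_add, h.e2]
  · have := h.rg (η⁻¹ • x)
    rw [smul_inv_smul] at this
    have := h.two w
    grind

theorem conj (σ : Γ) : Tv (σ * η * σ⁻¹) (σ • w) (σ • t) := by
  refine ⟨h.two, h.faith, fun e => h.w0 ((smul_eq_zero_iff_eq σ).1 e), by rw [mul_smul, mul_smul, inv_smul_smul, h.e1],
    by rw [mul_smul, mul_smul, inv_smul_smul, h.e2, smul_add], fun x => ?_⟩
  have : (σ * η * σ⁻¹) • x + x = σ • (η • σ⁻¹ • x + σ⁻¹ • x) := by rw [smul_add, smul_inv_smul, mul_smul, mul_smul]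
  rw [this, ← smul_add]
  rcases h.rg (σ⁻¹ • x) with j | j | j | j <;> simp [j]

theorem eq (h' : Tv θ w t) (o : Odd (orderOf (η⁻¹ * θ))) : θ = η := by
  refine (inv_mul_eq_one.1 (one_of_tr h.two h.faith o fun x => ?_)).symm
  have k : ∀ y, θ • y = η • y → y ∈ fx W (η⁻¹ * θ) := fun y e => by
    change _ • y = y
    rw [mul_smul, e, inv_smul_smul]
  have a := k w (h'.e1.trans h.e1.symm)
  have b := k t (h'.e2.trans h.e2.symm)
  have : (η⁻¹ * θ) • x - x = η⁻¹ • θ • x + θ • x + (θ • x + x) := by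
    rw [sub_eq h.two, mul_smul]; have := h.two (θ • x); grind
  rw [this]
  refine add_mem ?_ ?_
  · rcases h.inv.rg (θ • x) with j | j | j | j <;> rw [j]
    exacts [zero_mem _, a, add_mem a b, add_mem a (add_mem a b)]
  · rcases h'.rg x with j | j | j | j <;> rw [j]
    exacts [zero_mem _, a, b, add_mem a b]

theorem plane [Finite Γ] [Finite W] (h' : Tv θ w b) {P : Subgroup Γ} (hP : IsPGroup 3 P) (h1 : η ∈ P) (h2 : θ ∈ P) :
    b = t ∨ b = w + t := by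
  classical
  by_contra! n
  haveI : Fact (Nat.Prime 3) := ⟨Nat.prime_three⟩
  let X : Set W := {w, t, w + t, b, w + b, t + b, w + t + b}
  have mX : ∀ x, x ∈ X ↔ x = w ∨ x = t ∨ x = w + t ∨ x = b ∨ x = w + b ∨ x = t + b ∨ x = w + t + b := fun x => Iff.rfl
  have t1 := h.two w; have t2 := h.two t; have t3 := h.two b
  have k : ∀ g : Γ, (∀ x, g • x + x = 0 ∨ g • x + x ∈ X) → g ∈ MulAction.stabilizer Γ X := fun g hg =>
    (MulAction.mem_stabilizer_set_iff_smul_set_subset (Set.toFinite X)).2 (by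
      rintro _ ⟨x, hx, rfl⟩
      have n0 : x ≠ 0 := by have := h.w0; have := h.t0; have := h.tw; have := h'.t0; have := h'.tw; rw [mX] at hx; grind
      have n1 : g • x ≠ 0 := fun j => n0 ((smul_eq_zero_iff_eq g).1 j)
      have := hg x
      have := h.two x
      change g • x ∈ X
      rw [mX] at *
      generalize g • x = y at *
      rcases hx with j | j | j | j | j | j | j <;> grind)
  have a1 := k η fun x => by have := h.rg x; rw [mX]; grind
  have a2 := k θ fun x => by have := h'.rg x; rw [mX]; grind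
  let L := P ⊓ MulAction.stabilizer Γ X
  obtain ⟨n, e⟩ := (hP.to_le (inf_le_left : L ≤ P)).card_orbit w
  have c1 : (MulAction.orbit L w).ncard ≤ 7 := by
    refine (Set.ncard_le_ncard (t := X) ?_).trans ?_
    · rintro _ ⟨g, rfl⟩
      rw [← show g.1 • X = X from g.2.2]; exact Set.smul_mem_smul_set (.inl rfl)
    · iterate 6 refine (Set.ncard_insert_le _ _).trans (Nat.succ_le_succ ?_)
      simp
  have c2 : 5 ≤ (MulAction.orbit L w).ncard := by
    refine le_trans ?_ (Set.ncard_le_ncard (s := {w, t, w + t, b, w + b}) ?_)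
    · have := h.w0; have := h.t0; have := h.tw; have := h'.t0; have := h'.tw
      rw [Set.ncard_insert_of_notMem (by simp; grind), Set.ncard_insert_of_notMem (by simp; grind),
        Set.ncard_insert_of_notMem (by simp; grind), Set.ncard_pair (by grind)]
    · have m1 : η ∈ L := ⟨h1, a1⟩
      have m2 : θ ∈ L := ⟨h2, a2⟩
      rintro x (rfl | rfl | rfl | rfl | rfl)
      exacts [MulAction.mem_orbit_self _, ⟨⟨η, m1⟩, h.e1⟩, ⟨⟨η * η, mul_mem m1 m1⟩, by
        change (η * η) • w = _; rw [mul_smul, h.e1, h.e2]⟩, ⟨⟨θ, m2⟩, h'.e1⟩, ⟨⟨θ * θ, mul_mem m2 m2⟩, by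
        change (θ * θ) • w = _; rw [mul_smul, h'.e1, h'.e2]⟩]
  rw [← Nat.card_coe_set_eq, e] at c1 c2
  rcases n with _ | _ | n
  · omega
  · omega
  · rw [pow_add, pow_add] at c1; have : 0 < 3 ^ n := by positivity
    omega

theorem fix [Finite Γ] [Finite W] {p : ℕ} (hp : p.Prime) (h1 : η ∈ pCoreOf p (⊤ : Subgroup Γ)) {σ : Γ} (e : σ • w = w)
    {c : W} (hc : η • c = c) : η • σ • c = σ • c := by
  haveI : Fact p.Prime := ⟨hp⟩
  have P := isPGroup_pCoreOf p (⊤ : Subgroup Γ)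
  obtain rfl : p = 3 := by
    obtain ⟨k, hk⟩ := isPGroup_iff_mem.1 P η h1
    have o : orderOf η = 3 := haveI : Fact (Nat.Prime 3) := ⟨Nat.prime_three⟩
      orderOf_eq_prime (by rw [pow_three', h.cube]) fun j => h.tw (by rw [← h.e1, j, one_smul])
    exact ((Nat.prime_dvd_prime_iff_eq Nat.prime_three hp).1
      (Nat.prime_three.dvd_of_dvd_pow (o ▸ orderOf_dvd_of_pow_eq_one hk))).symm
  have h2 := conj_mem_of_mem_normalizer (le_normalizer_pCoreOf 3 ⊤ (mem_top σ)) h1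
  have o : ∀ x ∈ pCoreOf 3 (⊤ : Subgroup Γ), Odd (orderOf x) := fun x hx => by
    obtain ⟨k, hk⟩ := isPGroup_iff_mem.1 P x hx
    exact (Odd.pow (by decide : Odd 3)).of_dvd_nat (orderOf_dvd_of_pow_eq_one hk)
  have h' := h.conj σ
  rw [e] at h'
  have k : (σ * η * σ⁻¹) • σ • c = σ • c := by rw [mul_smul, mul_smul, inv_smul_smul, hc]
  rcases h.plane h' P h1 h2 with j | j <;> rw [j] at h'
  · rwa [h.eq h' (o _ (mul_mem (inv_mem h1) h2))] at k
  · rw [h.inv.eq h' (o _ (mul_mem (inv_mem (inv_mem h1)) h2)), inv_smul_eq_iff] at k; exact k.symm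
end Tv
end

variable {G : Type u} [Group G] [Finite G] {S V B : Subgroup G} {a : G}

/-- the plane `{1, w, t, w t}` of `V` given by the dihedral lemma -/
structure Hf (S V B B₁ : Subgroup G) (a e w t : G) : Prop where
  wV : w ∈ V
  tV : t ∈ V
  w1 : w ≠ 1
  two : ∀ b ∈ B, b ∈ B₁ ∨ a * b ∈ B₁
  na : a ∉ B₁
  cen : ∀ b ∈ B₁, b * t * b⁻¹ = t
  ea : a * t * a⁻¹ = w * t
  g : ∀ b ∈ B, b ∉ B₁ → ⁅b, e⁆ * w * ⁅b, e⁆⁻¹ = t ∧ ⁅b, e⁆ * t * ⁅b, e⁆⁻¹ = w * t
  z : ∀ z ∈ oz S, z ≠ 1 → e * (z * w) * e⁻¹ = z * w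
  fin : w ∈ oz S → Nat.card V = 4

theorem half (h : Fr S V) (hV : IsPGroup 2 V) (eB : IsElementaryAbelian 2 B) (h1 : B ≤ pCoreOf 2 (fH S))
    (h2 : B ≤ ncl (fR S V) (fH S)) (h3 : V ≤ 𝐍 B) (h4 : (𝐂 B).relIndex V ≤ (𝐂 V).relIndex B) (ha : a ∈ B)
    (na : a ∉ 𝐂 V) : ∃ B₁ e w t, Hf S V B B₁ a e w t := by
  obtain ⟨Γ, W, _, _, _, _, _, mk, ac, m⟩ := exists_md (H := 𝐍 V) (z := 1) (h.ea hV) le_rfl (by
    rw [zpowers_one_eq_bot, centralizer_bot']; exact le_top)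
  have BM : B ≤ 𝐍 V := h1.trans (h.Q_le.trans h.le)
  have inj : ∀ u ∈ V, ∀ v ∈ V, mk u = mk v → u = v := fun u hu v hv e => by
    simpa [mul_inv_eq_one] using (m.mk_eq hu hv).1 e
  have fix : ∀ x ∈ 𝐍 V, ∀ u ∈ V, ac x • mk u = mk u ↔ x * u * x⁻¹ = u := fun x hx u hu => by
    rw [m.smul x hx u hu]; exact ⟨inj _ (m.cU hx hu) _ hu, fun e => by rw [e]⟩
  have ker : ∀ x ∈ 𝐍 V, ac x = 1 ↔ x ∈ 𝐂 V := fun x hx => by
    rw [m.ac_eq_one hx]
    simp only [zpowers_one_eq_bot, mem_bot, commutatorElement_eq_one_iff_mul_comm]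
    exact ⟨fun e u hu => (e u hu).symm, fun e u hu => (e u hu).symm⟩
  have odd2 : ∀ x ∈ 𝐍 V, ∀ k : ℕ, ac x ^ 2 ^ k = 1 → Odd (orderOf (ac x)) → ac x = 1 := fun x hx k e o =>
    orderOf_eq_one_iff.1 (((Nat.coprime_two_right.2 o).pow_right k).eq_one_of_dvd (orderOf_dvd_of_pow_eq_one e))
  haveI := h.solM hV
  haveI : Group.IsSolvable Γ := Group.isSolvable_of_surjective m.hom_surj
  have hO : pCoreOf 2 (⊤ : Subgroup Γ) = ⊥ := by
    have := h.red hV (m.pg (pCoreOf 2 ⊤)) (fun _ k => k.1) (fun g hg => mem_normalizer_of_conj_mem fun x hx =>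
      ⟨mul_mem (mul_mem hg hx.1) (inv_mem hg), m.ac_conj hg hx.1 ▸
        conj_mem_of_mem_normalizer (le_normalizer_pCoreOf 2 ⊤ (mem_top _)) hx.2⟩)
      (pResidualOf_le_iff.2 fun x hx o => by
        obtain ⟨k, hk⟩ := isPGroup_iff_mem.1 (isPGroup_pCoreOf 2 ⊤) _ hx.2
        exact (ker x hx.1).1 (odd2 x hx.1 k hk ((Nat.coprime_two_right.1 o).of_dvd_nat
          (orderOf_map_dvd m.hom ⟨x, hx.1⟩ |>.trans (by rw [← orderOf_coe])))))
    refine eq_bot_iff.2 fun γ hγ => ?_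
    obtain ⟨x, hx, rfl⟩ := m.ac_surj γ
    exact (ker x hx).2 (this ⟨hx, hγ⟩)
  let A : Subgroup Γ := (B.subgroupOf (𝐍 V)).map m.hom
  have mA : ∀ b ∈ B, ac b ∈ A := fun b hb => ⟨⟨b, BM hb⟩, hb, rfl⟩
  obtain ⟨η, A₁, et, p, hp, hη⟩ := exists_et (A := A) hO (by
    rintro _ ⟨b, hb, rfl⟩
    rw [← map_mul, show b * b = 1 from Subtype.ext (by simpa [pow_two] using eB.2 b hb), map_one]) (mA a ha)
    (mt (ker a (BM ha)).1 na)
  obtain ⟨e, he, rfl⟩ := m.ac_surj η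
  have aM := BM ha
  have na1 : ac a ∉ A₁ := fun k => et.ne (one_of_sq et.odd (by
    have := et.inv
    rw [et.cen _ k, mul_assoc, et.aa, mul_one] at this
    nth_rewrite 2 [this]; rw [mul_inv_cancel]))
  have two : ∀ b ∈ B, b ∈ B ⊓ m.pg A₁ ∨ a * b ∈ B ⊓ m.pg A₁ := fun b hb => (et.two _ (mA b hb)).imp
    (fun k => ⟨hb, BM hb, k⟩) fun k => ⟨mul_mem ha hb, BM (mul_mem ha hb), m.ac_mul a aM b (BM hb) ▸ k⟩
  have quad : ∀ b ∈ B, ∀ x, ac a • (ac b • x + x) = ac b • x + x := fun b hb x => by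
    obtain ⟨v, hv, rfl⟩ := m.mk_surj x
    rw [← sub_eq m.two, ← m.comm (BM hb) hv, fix a aM _ (cmL (BM hb) hv),
      elemAb_le_centralizer eB (cmR (h3 hv) hb) a ha, mul_inv_cancel_right]
  have cen : ∀ b ∈ B ⊓ m.pg A₁, ∀ x ∈ rg W (ac e), ac b • x = x := fun b hb x hx =>
    eq_of_add m.two (rg_fix m.two et.odd (add_mem (et.rgA (mA b hb.1) hx) hx) (key et.odd et.inv (quad b hb.1 x) (by
      rw [smul_add (ac e), smul_smul (ac e), ← et.cen _ hb.2.2, mul_smul]; exact quad b hb.1 _)))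
  have idx : (𝐂 B ⊓ V).relIndex (𝐂 (B ⊓ m.pg A₁) ⊓ V) ≤ 2 := by
    have i1 : (B ⊓ m.pg A₁).relIndex B = 2 := relIndex_eq_two_iff.2 ⟨a, ha, fun b hb => by
      rw [← elemAb_le_centralizer eB hb a ha]
      by_cases j : b ∈ B ⊓ m.pg A₁
      · exact .inr ⟨j, fun i => na1 (by simpa using mul_mem i (inv_mem j) : a ∈ B ⊓ m.pg A₁).2.2⟩
      · exact .inl ⟨(two b hb).resolve_left j, j⟩⟩
    have i2 := relIndex_mul_relIndex (𝐂 V ⊓ B) (B ⊓ m.pg A₁) B
      (fun x hx => ⟨hx.2, BM hx.2, (ker x (BM hx.2)).2 hx.1 ▸ one_mem _⟩) inf_le_left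
    rw [i1, inf_relIndex_right, ← inf_relIndex_right (𝐂 V ⊓ B), inf_assoc, ← inf_assoc B, inf_idem,
      inf_relIndex_right] at i2
    have i3 := no_over (h.ea hV) le_rfl (pSol_of_solvable (h.solM hV)) (h.red hV) (inf_le_left.trans BM)
      (elemAb_mono eB (inf_le_left : B ⊓ m.pg A₁ ≤ B))
    have i4 := relIndex_mul_relIndex (𝐂 B ⊓ V) (𝐂 (B ⊓ m.pg A₁) ⊓ V) V
      (inf_le_inf_right _ (centralizer_anti inf_le_left)) inf_le_right
    rw [inf_relIndex_right, inf_relIndex_right] at i4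
    have i5 := relIndex_pos (𝐂 (B ⊓ m.pg A₁)) V
    nlinarith
  obtain ⟨x, hx, nx⟩ : ∃ x ∈ rg W (ac e), ac a • x ≠ x := by
    by_contra! k
    exact et.ne (m.faith _ fun x => sub_eq_zero.1 (rg_fix m.two et.odd ⟨x, rfl⟩
      (key et.odd et.inv (k _ ⟨x, rfl⟩) (k _ (smul_mem_rg_comm rfl ⟨x, rfl⟩)))))
  obtain ⟨w, wV, ew⟩ := m.mk_surj (ac a • x + x)
  have w0 : mk w ≠ 0 := fun k => nx (eq_of_add m.two (ew ▸ k))
  have wY : mk w ∈ rg W (ac e) := ew ▸ add_mem (et.rgA et.aA hx) hx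
  have aw : ac a • mk w = mk w := ew ▸ quad a ha x
  have fo : ∀ x ∈ rg W (ac e), x = 0 ∨ x = mk w ∨ x = ac e • mk w ∨ x = mk w + ac e • mk w := fun x hx =>
    four m.two et.odd et.inv (fun _ => smul_mem_rg_comm rfl) (fun x => rg_fix m.two et.odd) (fun x hx y hy n n' => by
      obtain ⟨u, hu, rfl⟩ := m.mk_surj x
      obtain ⟨v, hv, rfl⟩ := m.mk_surj y
      have k : ∀ u ∈ V, mk u ∈ rg W (ac e) → u ∈ 𝐂 (B ⊓ m.pg A₁) ⊓ V := fun u hu j => ⟨fun b hb =>
        mul_inv_eq_iff_eq_mul.1 ((fix b (BM hb.1) u hu).1 (cen b hb _ j)), hu⟩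
      have k2 : ∀ u ∈ V, u ∈ 𝐂 B ⊓ V → ac a • mk u = mk u := fun u hu j =>
        (fix a aM u hu).2 (by rw [j.1 a ha, mul_inv_cancel_right])
      have i := relIndex_pos (𝐂 B ⊓ V) (𝐂 (B ⊓ m.pg A₁) ⊓ V)
      have i2 : (𝐂 B ⊓ V).relIndex (𝐂 (B ⊓ m.pg A₁) ⊓ V) ≠ 1 := fun j => n (k2 u hu (relIndex_eq_one.1 j (k u hu hx)))
      rw [← m.mk_mul u hu v hv]
      exact k2 _ (mul_mem hu hv) (two_of_relIndex (by omega) u (k u hu hx) v (k v hv hy) (mt (k2 u hu) n)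
        (mt (k2 v hv) n'))) wY w0 aw hx
  have nw : ac e • mk w ≠ mk w := fun k => w0 (rg_fix m.two et.odd wY k)
  have tY := smul_mem_rg_comm (γ := ac e) rfl wY
  have tv : Tv (ac e) (mk w) (ac e • mk w) := ⟨m.two, m.faith, w0, rfl, by
    rcases fo _ (smul_mem_rg_comm (γ := ac e) rfl tY) with k | k | k | k
    · exact absurd ((smul_eq_zero_iff_eq _).1 ((smul_eq_zero_iff_eq _).1 k)) w0
    · exact absurd (fix_of_sq et.odd k) nw
    · exact absurd (smul_left_cancel _ k) nw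
    · exact k, fun x => fo _ ⟨x, sub_eq m.two _ _⟩⟩
  have a_t : ac a • ac e • mk w = mk w + ac e • mk w := by
    rcases fo _ (et.rgA et.aA tY) with k | k | k | k
    · exact absurd ((smul_eq_zero_iff_eq _).1 ((smul_eq_zero_iff_eq _).1 k)) w0
    · exact absurd (smul_left_cancel _ (k.trans aw.symm)) nw
    · exact absurd (key et.odd et.inv aw k) nw
    · exact k
  have tV := m.cU he wV
  have mt' := m.smul e he w wV
  have zV := h.oz_le
  have az : ∀ z ∈ oz S, ac a • mk z = mk z := fun z hz =>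
    (fix a aM z (zV hz)).2 (mem_centralizer_iff'.1 (pCoreOf_le _ _ (h1 ha)) z hz)
  have nz : ∀ z ∈ oz S, ac e • mk z = mk z → z = 1 := fun z hz k => by_contra fun z1 => by
    have k1 := (h.zc_le hV (zpowers_le.2 hz) (by simpa using z1)).2 (h2 ha)
    have k2 : e ∈ fH S := mem_centralizer_iff'.2 fun x hx => (fix e he x (zV hx)).1 (key et.odd et.inv (az x hx) (by
      rw [m.smul e he x (zV hx), fix a aM _ (m.cU he (zV hx))]
      exact mem_centralizer_iff'.1 k1 _ (cj_le_ncl (mem_c_of_conj_eq ((fix e he z (zV hz)).1 k)) (conj_mem_cj e hx))))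
    obtain ⟨k, hk⟩ := isPGroup_iff_mem.1 (isPGroup_pCoreOf 2 _) _ (cmR (le_normalizer_pCoreOf 2 _ k2) (h1 ha))
    have k3 := ac_cm m aM he
    rw [et.sqi.1] at k3
    exact et.sqi.2.ne (k3 ▸ odd2 _ (cmm aM he) k (by rw [← m.ac_pow (cmm aM he), hk, m.ac_one]) (k3 ▸ et.sqi.2.odd))
  refine ⟨B ⊓ m.pg A₁, e, w, _, wV, tV, fun k => w0 (k ▸ m.mk_one), two, fun k => na1 k.2.2,
    fun b hb => (fix b (BM hb.1) _ tV).1 (cen b hb _ (mt' ▸ tY)), inj _ (m.cU aM tV) _ (mul_mem wV tV) ?_,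
    fun b hb n => ?_, fun z hz z1 => (fix e he _ (mul_mem (zV hz) wV)).1 ?_, fun hw => ?_⟩
  · rw [← m.smul a aM _ tV, m.mk_mul _ wV _ tV, ← mt', a_t]
  · have k := cmm (BM hb) he
    have k1 : ac ⁅b, e⁆ = ac e := by
      have j := et.cen _ ((et.two _ (mA b hb)).resolve_left fun j => n ⟨hb, BM hb, j⟩)
      have j2 : ac b * ac e * (ac b)⁻¹ = (ac e)⁻¹ := by
        rw [← et.inv, mul_inv_eq_iff_eq_mul, mul_assoc, mul_assoc, ← j, ← mul_assoc, ← mul_assoc, et.aa, one_mul]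
      rw [ac_cm m (BM hb) he, j2, ← mul_inv_rev, inv_eq_of_mul_eq_one_right tv.cube]
    exact ⟨inj _ (m.cU k wV) _ tV (by rw [← m.smul _ k _ wV, k1, mt']), inj _ (m.cU k tV) _ (mul_mem wV tV) (by
      rw [← m.smul _ k _ tV, k1, m.mk_mul _ wV _ tV, ← mt', tv.e2])⟩
  · obtain ⟨c, y, hy, hc, ez⟩ := decomp m.two et.odd (mk z)
    have k := az z hz
    have k1 : ac a • y + y = ac a • c + c := by
      rw [ez, smul_add] at k
      have := m.two c; have := m.two (ac a • y); grind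
    have k2 := eq_of_add m.two (rg_fix m.two et.odd (add_mem (et.rgA et.aA hy) hy) (by
      rw [k1, smul_add, et.fxA et.aA hc, hc]))
    rw [m.mk_mul _ (zV hz) _ wV, ez]
    rcases fo y hy with j | j | j | j <;> rw [j] at ez k2 ⊢
    · exact absurd (nz z hz (by rw [ez, add_zero, hc])) z1
    · rw [add_assoc, m.two, add_zero, hc]
    · rw [a_t, add_eq_right] at k2; exact absurd k2 w0
    · rw [smul_add, aw, a_t, add_right_inj, add_eq_right] at k2; exact absurd k2 w0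
  have c0 : m.pre (fx W (ac e)) = ⊥ := by
    by_contra j
    obtain ⟨x, ⟨a, b⟩, x1⟩ := (bot_or_exists_ne_one _).resolve_left (inf_omegaOne_center_ne_bot h.isP
      (N := m.pre (fx W (ac e))) (fun x hx => h.V_le_S hV hx.1) (fun s hs => mem_normalizer_of_conj_mem fun x hx => ⟨m.cU (h.le hs) hx.1,
        m.smul s (h.le hs) x hx.1 ▸ tv.fix hp hη ((fix s (h.le hs) w wV).2
          (mem_centralizer_iff'.1 (le_c_oz S hs) w hw)) hx.2⟩) j)
    exact x1 (nz x b a.2)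
  have all : ∀ x ∈ V, x = 1 ∨ x = w ∨ x = e * w * e⁻¹ ∨ x = w * (e * w * e⁻¹) := fun x hx => by
    obtain ⟨c, y, hy, hc, ex⟩ := decomp m.two et.odd (mk x)
    obtain ⟨c, cV, rfl⟩ := m.mk_surj c
    rw [mem_bot.1 (c0.le (⟨cV, hc⟩ : c ∈ m.pre (fx W (ac e)))), m.mk_one, zero_add] at ex
    have fo := fo _ hy
    rw [← ex, mt', ← m.mk_mul _ wV _ tV, ← m.mk_one] at fo
    exact fo.imp (inj _ hx _ (one_mem _)) (Or.imp (inj _ hx _ wV)
      (Or.imp (inj _ hx _ tV) (inj _ hx _ (mul_mem wV tV))))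
  have w1 : w ≠ 1 := fun k => w0 (k ▸ m.mk_one)
  have tw : e * w * e⁻¹ ≠ w := fun k => nw (by rw [mt', k])
  have : (V : Set G) = {1, w, e * w * e⁻¹, w * (e * w * e⁻¹)} := Set.ext fun x => ⟨all x, by
    rintro (rfl | rfl | rfl | rfl)
    exacts [one_mem _, wV, tV, mul_mem wV tV]⟩
  have t1 := conj_ne_one e w1
  have wt : w * (e * w * e⁻¹) ≠ 1 := fun k => tw (mul_left_cancel (k.trans (h.sq hV wV).symm))
  change Nat.card (V : Set G) = 4
  rw [Nat.card_coe_set_eq, this, Set.ncard_insert_of_notMem (by simp [w1.symm, t1.symm, wt.symm]),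
    Set.ncard_insert_of_notMem (by simp [tw.symm, t1]), Set.ncard_pair (by simp [w1])]

theorem c1 (h : Fr S V) (hQ : V ≤ pCoreOf 2 (fH S)) (n : ¬ fU S V ≤ 𝐂 (fU S V)) : Nat.card V = 4 := by
  have hV := isP_of_le_core hQ
  obtain ⟨g, hg, ng⟩ : ∃ g ∈ fH S, ¬ cj g V ≤ 𝐂 V := by
    by_contra! k
    exact n (le_centralizer_iff.1 (ncl_le_centralizer (le_centralizer_iff.1 (ncl_le_iff.2 k)) (le_normalizer_ncl _ _)))
  have q : ∀ g ∈ fH S, cj g V ≤ pCoreOf 2 (fH S) := fun g hg => cj_le_of_mem_normalizer hQ (le_normalizer_pCoreOf 2 _ hg)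
  have no : ∀ g ∈ fH S, (𝐂 (cj g V)).relIndex V ≤ (𝐂 V).relIndex (cj g V) := fun g hg => by
    have := no_over (h.ea hV) le_rfl (pSol_of_solvable (h.solM hV)) (h.red hV)
      ((q _ (inv_mem hg)).trans (h.Q_le.trans h.le)) (elemAb_cj (h.ea hV) g⁻¹)
    rwa [← relIndex_cj g, ← relIndex_cj g (𝐂 (cj g⁻¹ V)), cj_centralizer, cj_centralizer, cj_cj_inv] at this
  have hf : ∀ g ∈ fH S, ∀ a ∈ cj g V, a ∉ 𝐂 V → ∃ B₁ e w t, Hf S V (cj g V) B₁ a e w t := fun g hg a ha na =>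
    half h hV (elemAb_cj (h.ea hV) g) (q g hg) ((cj_mono g (h.V_le_R hV)).trans (cj_le_ncl hg)) (by
      rw [← cj_normalizer, le_cj_iff]; exact (q _ (inv_mem hg)).trans (h.Q_le.trans h.le)) (no g hg) ha na
  obtain ⟨a, ha, na⟩ := SetLike.not_le_iff_exists.1 ng
  obtain ⟨B₁, e, w, t, k⟩ := hf g hg a ha na
  have cv : ∀ a b : G, g * a * g⁻¹ * b * (g * a * g⁻¹)⁻¹ = g * (a * (g⁻¹ * b * g) * a⁻¹) * g⁻¹ := fun a b => by group
  obtain ⟨B₂, e₂, w₂, t₂, k'⟩ := hf _ (inv_mem hg) (g⁻¹ * t * g) (by simpa using conj_mem_cj g⁻¹ k.tV) fun j => k.w1 (by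
    have := k.ea
    obtain ⟨x, hx, rfl⟩ := mem_cj'.1 ha
    rw [cv, j x hx, mul_inv_cancel_right] at this
    simpa [mul_assoc] using this.symm)
  have tB := conj_mem_cj g k'.tV
  have e1 : t * (g * t₂ * g⁻¹) * t⁻¹ = g * w₂ * g⁻¹ * (g * t₂ * g⁻¹) := by rw [conj_mul, ← k'.ea]; group
  have n1 : g * t₂ * g⁻¹ ∉ B₁ := fun j => k'.w1 (by
    have := k.cen _ j
    rw [mul_inv_eq_iff_eq_mul] at this
    rw [← this, mul_inv_cancel_right] at e1
    simpa using e1)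
  have e2 : g * w₂ * g⁻¹ = w := by
    have j := k.cen _ ((k.two _ tB).resolve_left n1)
    have aa : a * a = 1 := by simpa [pow_two] using (elemAb_cj (h.ea hV) g).2 a ha
    have j2 : g * t₂ * g⁻¹ * t * (g * t₂ * g⁻¹)⁻¹ = w * t := by
      calc _ = a⁻¹ * (a * (g * t₂ * g⁻¹) * t * (a * (g * t₂ * g⁻¹))⁻¹) * a⁻¹⁻¹ := by group
        _ = _ := by rw [j, inv_eq_of_mul_eq_one_right aa, k.ea]
    calc _ = (g * t₂ * g⁻¹ * t * (g * t₂ * g⁻¹)⁻¹ * t⁻¹)⁻¹ := by rw [← mul_inv_eq_iff_eq_mul.2 e1]; group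
      _ = _ := by rw [j2, mul_inv_cancel_right, inv_eq_of_mul_eq_one_right (h.sq hV k.wV)]
  obtain ⟨z, hz, z1⟩ := (bot_or_exists_ne_one _).resolve_left h.oz_ne_bot
  have zV := h.oz_le hz
  have gz := mem_centralizer_iff'.1 hg z hz
  have cB : z * w ∈ cj g V := by rw [← gz, ← e2, conj_mul]; exact conj_mem_cj g (mul_mem zV k'.wV)
  have cV := mul_mem zV k.wV
  by_cases c1 : z * w = 1
  · exact k.fin (eq_inv_of_mul_eq_one_right c1 ▸ inv_mem hz)
  have mY : ∀ x, x * (z * w) * x⁻¹ = z * w → x ∈ 𝐂 (zpowers (z * w)) := fun x => mem_c_of_conj_eq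
  have y1 := mY e (k.z z hz z1)
  have y2 := mY (g * e₂ * g⁻¹) (by
    rw [cv, show g⁻¹ * (z * w) * g = z * w₂ by rw [← gz, ← e2, gz]; nth_rewrite 1 [← gz]; group, k'.z z hz z1,
      ← conj_mul, gz, e2])
  have y3 := CV cV (h.le_c hV k.tV)
  have y4 := CV cV (h.le_c hV k.wV)
  have y5 := CV cB (elemAb_le_centralizer (elemAb_cj (h.ea hV) g) tB)
  have t1 : t ≠ 1 := fun j => k.w1 (by simpa [j] using k.ea.symm)
  refine absurd (mem_bot.1 (sol_ind (P := fun N => t ∈ N) (h.sol_c (hV.to_le (zpowers_le.2 cV)) (by simpa using c1)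
    le_rfl) y3 fun N _ nN tN => ?_)) t1
  obtain ⟨a1, a2⟩ := k'.g _ (by simpa using conj_mem_cj g⁻¹ k.tV) k'.na
  have e3 : ⁅t, g * e₂ * g⁻¹⁆ = g * ⁅g⁻¹ * t * g, e₂⁆ * g⁻¹ := by simp only [commutatorElement_def]; group
  have b0 := cmR (nN y2) tN
  have wN : w ∈ N := by
    have := cmR (nN y5) b0
    rwa [commutatorElement_def _ (g * t₂ * g⁻¹), e3, cv, show g⁻¹ * (g * t₂ * g⁻¹) * g = t₂ by group, a2, ← conj_mul,
      mul_inv_cancel_right, e2] at this
  have t2N : g * t₂ * g⁻¹ ∈ N := by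
    have := conj_mem_of_mem_normalizer (le_normalizer b0) wN
    rwa [e3, cv, ← e2, show g⁻¹ * (g * w₂ * g⁻¹) * g = w₂ by group, a1] at this
  obtain ⟨a3, a4⟩ := k.g _ tB n1
  have b1 := cmR (nN y1) t2N
  have d1 := commutator_mem_commutator b1 tN
  have d2 := commutator_mem_commutator b1 wN
  rw [commutatorElement_def _ t, a4, mul_inv_cancel_right] at d1
  rw [commutatorElement_def _ w, a3] at d2
  simpa using mul_mem d2 d1

end H120.FC

namespace H120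
open _root_.H120
open Cfsg Subgroup H26 _root_.H26 H118 _root_.H118 FC
universe u

theorem fc : H26.FC.{u} := fun G _ _ S V h hQ => by_contra fun n => by
  have hV := isP_of_le_core hQ
  have f : Four V := ⟨c1 h hQ n, fun w hw => h.sq hV hw⟩
  have c := ((f.card_cases h.oz_le).resolve_left h.oz_ne_bot).resolve_right h.oz_ne
  obtain ⟨z, hz, z1⟩ := exists_ne_one_of_card (U := oz S) (by omega)
  obtain ⟨y, hy, ny⟩ := SetLike.not_le_iff_exists.1 fun k => h.oz_ne (le_antisymm h.oz_le k)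
  exact Cc.main (z := z) (y := y) ⟨h, ⟨h.oz_le hz, hy, z1, fun e => ny (e ▸ one_mem _), fun e => ny (e ▸ hz)⟩, f, hQ,
    le_antisymm (fun x hx => (em (x = 1)).elim (fun e => e ▸ one_mem _)
      fun e => mem_of_card_two c hz hx z1 e ▸ mem_zpowers z) (zpowers_le.2 hz), n⟩

end H120

end H226
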