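import Cfsg.Agent.H26.T2.H6FDT
/-! Common facts on the frame `Fr S V` with `V` a `2`-group (`V* = Ω₁Z(R)`), counting lemmas, the case `|V| = 8`. -/
set_option autoImplicit false
set_option linter.unusedSectionVars false
namespace H118 end H118 namespace H226 end H226 namespace H26 end H26 namespace H4 end H4 namespace H6 end H6 namespace H6.FD end H6.FD
open H226
namespace H226
namespace H6.FD
open _root_.H6 _root_.H6.FD
open Cfsg Subgroup H26 _root_.H26 H4 _root_.H4 H118 _root_.H118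
open scoped Pointwise commutatorElement

variable {G : Type*} [Group G] [Finite G] {S V F J U D K : Subgroup G} {x b : G}

omit [Finite G] in
theorem exists_pow_sq {N : Subgroup G} {k : ℕ} (h : x ^ 2 ^ k = 1) (hx : x ∉ N) :
    ∃ j : ℕ, x ^ 2 ^ j ∉ N ∧ x ^ 2 ^ j * x ^ 2 ^ j ∈ N := by
  by_contra e
  push Not at e
  have : ∀ j : ℕ, x ^ 2 ^ j ∉ N := fun j => by
    induction j with
    | zero => simpa using hx
    | succ j ih => rw [pow_succ, pow_mul, pow_two]; exact e j ih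
  exact this k (h ▸ one_mem _)

theorem card_le_relIndex (h : J ≤ U) (e : J ⊓ D = ⊥) : Nat.card J ≤ D.relIndex U := by
  have := card_mul_relIndex D J
  rw [inf_comm, e, card_bot, one_mul] at this
  exact this ▸ relIndex_le_of_le_right h (relIndex_pos _ _).ne'

omit [Finite G] in
theorem ix2_of_relIndex (h : J.relIndex V = 2) : Ix2 J V := fun a ha b hb na nb =>
  (mul_mem_iff_of_index_two h (a := ⟨a, ha⟩) (b := ⟨b, hb⟩)).2 (iff_of_false na nb)

omit [Finite G] in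
theorem Ix2.comm_le (h : Ix2 J V) (h1 : K ≤ 𝐍 V) (h2 : K ≤ 𝐍 J) : ⁅V, K⁆ ≤ J := commutator_le.2 fun v hv k hk => by
  rw [show ⁅v, k⁆ = v * (k * v⁻¹ * k⁻¹) by group]
  have e := mem_normalizer_iff.1 (h2 hk) v⁻¹
  by_cases m : v ∈ J
  · exact mul_mem m (e.1 (inv_mem m))
  · exact h _ hv _ (conj_mem_of_mem_normalizer (h1 hk) (inv_mem hv)) m fun k => m (inv_mem_iff.1 (e.2 k))

omit [Finite G] in
theorem comm_le_c (hV : IsElementaryAbelian 2 V) (hb : b ∈ 𝐍 V) (h2 : b * b ∈ 𝐂 V) :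
    ⁅V, zpowers b⁆ ≤ V ⊓ 𝐂 (zpowers b) := by
  refine commutator_zpowers_le' (fun v hv => ?_) (le_normalizer_inf (zpowers_le.2 hb)
    (le_normalizer_centralizer le_normalizer) (mem_zpowers b))
  have m := conj_mem_of_mem_normalizer hb hv
  have s : ∀ x ∈ V, x⁻¹ = x := fun x hx => inv_eq_of_mul_eq_one_right (by rw [← pow_two]; exact hV.2 x hx)
  have e : ⁅v, b⁆ = v * (b * v * b⁻¹) := by rw [commutatorElement_def, s v hv]; group
  rw [e]
  refine ⟨mul_mem hv m, mem_c_of_conj_eq ?_⟩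
  have k : b * (v * (b * v * b⁻¹)) * b⁻¹ = v * (b * v * b⁻¹) := by
    rw [show b * (v * (b * v * b⁻¹)) * b⁻¹ = (b * v * b⁻¹) * (b * b * v * (b * b)⁻¹) by group,
      mem_centralizer_iff'.1 h2 v hv]
    exact elemAb_le_centralizer hV hv _ m
  rw [mul_inv_eq_iff_eq_mul] at k ⊢
  exact k.symm

theorem relIndex_c_le {w : G} (hw : w ∈ V) (h : F ≤ 𝐍 V) : (𝐂 (zpowers w)).relIndex F ≤ Nat.card V := by
  refine Nat.card_le_card_of_injective (fun q : F ⧸ (𝐂 (zpowers w)).subgroupOf F =>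
    (⟨q.out * w * (q.out : G)⁻¹, conj_mem_of_mem_normalizer (h q.out.2) hw⟩ : V)) fun q q' e => ?_
  rw [← q.out_eq, ← q'.out_eq]
  refine QuotientGroup.eq.2 (mem_subgroupOf.2 (mem_c_of_conj_eq ?_))
  have e := congrArg Subtype.val e
  dsimp only at e
  rw [coe_mul, coe_inv, show (q.out : G)⁻¹ * q'.out * w * ((q.out : G)⁻¹ * q'.out)⁻¹ =
    (q.out : G)⁻¹ * (q'.out * w * (q'.out : G)⁻¹) * q.out by group, ← e]
  group

theorem OddM.le (h : OddM K U) (h1 : pResidualOf 2 K ≤ U) : K ≤ U :=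
  let ⟨_, hT⟩ := exists_isSyl 2 K; hT.le_of_pResidualOf_le h1 (h _ hT.le hT.isP)

theorem OddM.stab (h : OddM K (𝐂 V)) (hJ : IsPGroup 2 J) (h1 : ⁅V, K⁆ ≤ J) (h2 : K ≤ 𝐂 J) : K ≤ 𝐂 V :=
  h.le (pResidualOf_le_centralizer_of_stab hJ h1 h2)

section fr
variable (h : Fr S V) (hV : IsPGroup 2 V)
include h

theorem fr_ne : V ≠ ⊥ := fun e => fr_oz_ne_bot h (le_bot_iff.1 (e ▸ fr_oz_le h))
theorem fr_sylM : IsSyl 2 S (𝐍 V) := h.syl.mono h.le le_top
theorem fr_sylR : IsSyl 2 (S ⊓ 𝐂 V) (𝐂 V) :=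
  (fr_sylM h).inf_of_normal (normalizer_le_normalizer_centralizer V) (centralizer_le_normalizer _)
theorem fr_SH : S ≤ fH S := le_c_oz S
theorem fr_sylH : IsSyl 2 S (fH S) := h.syl.mono (fr_SH h) le_top

include hV

theorem fr_pr : PRed 2 V (𝐍 V) := by
  have := (fr_charP h hV (fr_ne h)).pRed_sylowCenterClosure
  rwa [show sylowCenterClosure 2 (𝐍 V) = V from h.zv] at this
theorem fr_VR : V ≤ S ⊓ 𝐂 V :=
  le_inf ((fr_sylM h).le_of_le_normalizer hV le_normalizer h.le) (elemAb_le_centralizer (fr_pr h hV).elemAb)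
theorem fr_VW : V ≤ oz (S ⊓ 𝐂 V) := le_oz (fr_pr h hV).elemAb (fr_VR h hV) (le_centralizer_iff.1 inf_le_right)

theorem fr_W : 𝐂 V ≤ 𝐂 (oz (S ⊓ 𝐂 V)) ∧ 𝐍 V ≤ 𝐍 (oz (S ⊓ 𝐂 V)) := by
  have y := pRed_YY (p := 2) (𝐍 V)
  have c : 𝐂 V ≤ 𝐂 (YY 2 (𝐍 V)) := by_contra fun k => by
    obtain ⟨E, e1, e2, -, e3, -, e4⟩ := odd_top (fr_sol h hV (fr_ne h)) y.red (centralizer_le_normalizer _)
      (normalizer_le_normalizer_centralizer V) k
    refine e3 (cop y.elemAb (fr_sylM h) y.norm (e1.trans (centralizer_le_normalizer _)) e2 e4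
      ((le_oz (elemAb_mono y.elemAb inf_le_left) (inf_le_left.trans ((fr_sylM h).le_of_le_normalizer y.isP y.le
      (h.le.trans y.norm))) inf_le_right).trans ((fr_oz_le h).trans (le_centralizer_iff.1 e1))))
  have e := (fr_charP h hV (fr_ne h)).YY_eq (fr_sylM h)
  rw [le_antisymm (centralizer_anti (fr_pr h hV).le_YY) c] at e
  change _ = oz _ at e
  exact ⟨e ▸ c, e ▸ y.norm⟩

theorem fr_four_le : 4 ≤ Nat.card V := by
  have h1 := mul_card_le_of_lt hV ((fr_oz_le h).lt_of_ne (fr_oz_ne h))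
  have h2 := (one_lt_card_iff_ne_bot _).2 (fr_oz_ne_bot h)
  omega

theorem fr_odd : ∃ F ≤ 𝐍 V, 𝐍 V ≤ 𝐍 F ∧ OddM F (𝐂 V) ∧
    (∀ A ≤ 𝐍 V, (∀ a ∈ A, a * a ∈ 𝐂 V) → ⁅F, A⁆ ≤ 𝐂 V → A ≤ 𝐂 V) ∧
    ∀ t ∈ 𝐍 V, t * t ∈ 𝐂 V → t ∉ 𝐂 V → ∃ η ∈ F, ⁅η, t⁆ ∉ 𝐂 V := by
  obtain ⟨F, f1, f2, f3, f4⟩ := exists_odd (fr_sol h hV (fr_ne h)) (normalizer_le_normalizer_centralizer V)
    (fr_pr h hV).red
  refine ⟨F, f1, f2, f3, f4, fun t ht t2 tn => by_contra fun k => tn (zpowers_le.1 (f4 _ (zpowers_le.2 ht) ?_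
    (commutator_zpowers_le' (fun η hη => by_contra fun k' => k ⟨η, hη, k'⟩)
    (normalizer_le_normalizer_centralizer V ht))))⟩
  rintro _ ⟨n, rfl⟩
  dsimp only
  rw [← (Commute.refl t).mul_zpow]
  exact zpow_mem t2 n

/-- `|V| = 8` with a transvection of centre `Z` is impossible -/
theorem eight (c8 : Nat.card V = 8) (hb : b ∈ 𝐍 V) (b2 : b * b ∈ 𝐂 V) (bn : b ∉ 𝐂 V) (c2 : Nat.card (oz S) = 2)
    (e : ⁅V, zpowers b⁆ = oz S) : False := by
  obtain ⟨F, f1, f2, f3, -, f5⟩ := fr_odd h hV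
  have ea := (fr_pr h hV).elemAb
  have ZV := fr_oz_le h
  have ZJ := e ▸ comm_le_c ea hb b2
  have c4 := card_eq_card_centralizer_mul_card_commutator (le_centralizer_iff_isMulCommutative.1
    (elemAb_le_centralizer ea)) hb
  rw [c8, e, c2] at c4
  have nJ : ∀ f ∈ 𝐍 V, ⁅f, b⁆ ∈ 𝐂 V → f ∈ 𝐍 (V ⊓ 𝐂 (zpowers b)) := fun f hf k => inv_mem_iff.1 (mem_normalizer_of_conj_mem
    fun v hv => ⟨conj_mem_of_mem_normalizer (inv_mem hf) hv.1, mem_c_of_conj_eq (by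
      have e1 := conj_eq_of_mem_c hv.2
      have e2 := k _ hv.1
      calc f⁻¹ * v * f⁻¹⁻¹ * b * (f⁻¹ * v * f⁻¹⁻¹)⁻¹ = f⁻¹ * (v * ⁅f, b⁆) * b * v⁻¹ * f := by group
        _ = f⁻¹ * ⁅f, b⁆ * (v * b * v⁻¹) * f := by rw [e2]; group
        _ = b := by rw [e1]; group)⟩)
  obtain ⟨J, hJ⟩ : ∃ J, V ⊓ 𝐂 (zpowers b) = J := ⟨_, rfl⟩
  have J1 : J ≤ V := hJ ▸ inf_le_left
  have J2 : b ∈ 𝐂 J := zpowers_le.1 (le_centralizer_iff.1 (hJ ▸ inf_le_right))
  rw [hJ] at nJ ZJ c4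
  replace c4 : Nat.card J = 4 := by omega
  have a : F ⊓ 𝐂 (oz S) ≤ 𝐂 V := by
    have n : F ⊓ 𝐂 (oz S) ≤ 𝐍 J := fun f hf => nJ f (f1 hf.1) (by
      have m : b ∈ 𝐂 (oz S) ⊓ commStab (V : Set G) (oz S) := ⟨centralizer_anti ZJ J2,
        zpowers_le.1 ((le_commStab_iff' ZV).2 e.le)⟩
      have nz : F ⊓ 𝐂 (oz S) ≤ 𝐍 (oz S) := le_normalizer_of_le_centralizer inf_le_right
      refine (f3.mono (K := F ⊓ (𝐂 (oz S) ⊓ commStab (V : Set G) (oz S))) inf_le_left le_rfl).stab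
        (hV.to_le ZV) ((le_commStab_iff' ZV).1 (inf_le_right.trans inf_le_right)) (inf_le_right.trans inf_le_left)
        ⟨commutator_le_of_le_normalizer f2 (commutator_mem_commutator hf.1 hb), commutator_le_of_le_normalizer'
        (le_normalizer_inf (le_normalizer_centralizer nz) (H4.le_normalizer_commStab (inf_le_left.trans f1) nz))
        (commutator_mem_commutator hf m)⟩)
    have i1 := card_mul_relIndex_of_le ZJ
    have i2 := card_mul_relIndex_of_le J1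
    have o := f3.mono (K := F ⊓ 𝐂 (oz S)) inf_le_left le_rfl
    refine o.stab (hV.to_le J1) ((ix2_of_relIndex (by rw [c8, c4] at i2; omega)).comm_le
      (inf_le_left.trans f1) n) ((o.mono le_rfl (centralizer_anti J1)).stab (hV.to_le ZV)
      ((ix2_of_relIndex (by rw [c2] at i1; omega)).comm_le n (le_normalizer_of_le_centralizer inf_le_right))
      inf_le_right)
  obtain ⟨η, hη, k⟩ := f5 b hb b2 bn
  have xF := commutator_le_of_le_normalizer f2 (commutator_mem_commutator hη hb)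
  have JV : cj η J ≤ V := cj_le_of_mem_normalizer J1 (f1 hη)
  have D1 : J ⊓ cj η J ≠ ⊥ := fun k => by
    have := card_le_relIndex J1 k
    have i2 := card_mul_relIndex_of_le JV
    rw [card_cj, c8, c4] at i2
    omega
  have xD : ⁅η, b⁆ ∈ 𝐂 (J ⊓ cj η J) := by
    refine mul_mem (centralizer_anti inf_le_right ?_) (inv_mem (centralizer_anti inf_le_left J2))
    rw [← cj_centralizer]
    exact conj_mem_cj η J2
  obtain ⟨w, hw, w1⟩ := (bot_or_exists_ne_one (oz S)).resolve_left (fr_oz_ne_bot h)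
  have n8 : (𝐂 V).relIndex F ≤ 8 := by
    refine le_trans ?_ (c8 ▸ relIndex_c_le (ZV hw) f1)
    rw [← inf_relIndex_right (𝐂 (zpowers w))]
    exact relIndex_le_of_le_left (le_trans (le_inf inf_le_right (inf_le_left.trans
      (centralizer_anti (le_zpowers_of_card_two c2 hw w1)))) a) (relIndex_pos _ _).ne'
  have m := relIndex_mul_relIndex (𝐂 V ⊓ F) (𝐂 (J ⊓ cj η J) ⊓ F) F
    (inf_le_inf_right _ (centralizer_anti (inf_le_left.trans J1))) inf_le_right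
  have o := f3.not_dvd
  rw [inf_relIndex_right, inf_relIndex_right] at m
  have n1 : (𝐂 V ⊓ F).relIndex (𝐂 (J ⊓ cj η J) ⊓ F) ≠ 1 := fun e => k (relIndex_eq_one.1 e ⟨xD, xF⟩).1
  have FD : F ≤ 𝐂 (J ⊓ cj η J) := relIndex_eq_one.1 (by
    rw [← m, Nat.prime_two.dvd_mul, not_or] at o
    have p1 := relIndex_pos (𝐂 (J ⊓ cj η J)) F
    have : 3 ≤ (𝐂 V ⊓ F).relIndex (𝐂 (J ⊓ cj η J) ⊓ F) := by omega
    by_contra
    have : 3 ≤ (𝐂 (J ⊓ cj η J)).relIndex F := by omega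
    nlinarith)
  obtain ⟨u, hu, u1⟩ := (bot_or_exists_ne_one _).resolve_left (inf_omegaOne_center_ne_bot h.syl.isP
    (N := V ⊓ 𝐂 F) (inf_le_left.trans ((fr_VR h hV).trans inf_le_left))
    (le_normalizer_inf h.le (le_normalizer_centralizer (h.le.trans f2)))
    fun e => D1 (le_bot_iff.1 (e ▸ le_inf (inf_le_left.trans J1) (le_centralizer_iff.1 FD))))
  exact k (a ⟨xF, le_centralizer_iff.1 ((le_zpowers_of_card_two c2 hu.2 u1).trans (zpowers_le.2 hu.1.2)) xF⟩)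

end fr

end H6.FD

end H226
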