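import Cfsg.Agent.H26.T2.H27PLDef
import Cfsg.Agent.H26.T2.H6FD0
/-! The plane structure of a frame with `J(S) ≰ C(V)`: `H16.tvs : H27.TVS`. -/
set_option autoImplicit false
namespace H118 end H118 namespace H16 end H16 namespace H16.TV end H16.TV namespace H226 end H226 namespace H26 end H26 namespace H4 end H4 namespace H6.FD end H6.FD
open H226
namespace H226
namespace H16.TV
open _root_.H16 _root_.H16.TV
open Cfsg Subgroup H26 _root_.H26 H4 _root_.H4 H118 _root_.H118 H6.FD _root_.H6.FD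
open scoped Pointwise commutatorElement

local notation "𝐉" => thompsonSubgroupOf 2
local notation "O²" => pResidualOf 2

variable {G : Type*} [Group G] [Finite G] {S V K E W H : Subgroup G}

theorem not_res_le (h : NatSL 2 E W) : ¬ O² E ≤ 𝐂 W := fun k => by
  obtain ⟨T, hT⟩ := exists_isSyl 2 E
  have four := four_of_natSL h
  refine inf_centralizer_ne_bot four.isP hT.isP (hT.le.trans h.le_normalizer) four.ne_bot
    (le_bot_iff.1 (h.inf_centralizer ▸ le_inf inf_le_left (le_centralizer_iff.1 ?_)))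
  exact hT.le_of_pResidualOf_le (k.trans (centralizer_anti inf_le_left)) (le_centralizer_iff.1 inf_le_right)

omit [Finite G] in
theorem sq_mem {N : Subgroup G} {η t : G} (h1 : η ∈ 𝐍 N) (h2 : t ∈ 𝐍 N) (h3 : t * t ∈ N) (h4 : ⁅⁅η, t⁆, t⁆ ∈ N) :
    ⁅η, t⁆ * ⁅η, t⁆ ∈ N := by
  have a := conj_mem_of_mem_normalizer (commutator_le_of_le_normalizer le_normalizer (commutator_mem_commutator h1 h2))
    (N.mul_mem h3 (conj_mem_of_mem_normalizer h1 (N.inv_mem h3)))
  have := N.mul_mem (N.inv_mem a) h4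
  simp only [commutatorElement_def] at this ⊢
  convert this using 1
  group

section fr
variable (h : Fr S V) (hV : IsPGroup 2 V)
include h

theorem nT : S ≤ 𝐍 ↑(S ⊓ ncl (fR S V) (fH S)) :=
  le_normalizer_inf le_normalizer (h.S_le_H.trans (le_normalizer_ncl _ _))

include hV

/-- an `S`-invariant `K` of odd action with fixed points in `V` commutes with `T₁` modulo `C(V)` -/
theorem key (h1 : K ≤ 𝐍 V) (h2 : S ≤ 𝐍 K) (ho : OddM K (𝐂 V)) (hn : V ⊓ 𝐂 K ≠ ⊥) :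
    ⁅K, S ⊓ ncl (fR S V) (fH S)⁆ ≤ 𝐂 V := by
  have z := inf_centralizer_ne_bot (hV.to_le inf_le_left) h.isP
    (le_normalizer_inf h.le (le_normalizer_centralizer h2)) hn
  have l : V ⊓ 𝐂 K ⊓ 𝐂 S ≤ oz S := (inf_le_inf_right _ inf_le_left).trans (h.inf_c hV).le
  have c := (h.zc_le hV l z).2
  have k : K ≤ 𝐍 ↑(𝐂 (ncl (oz S) (𝐂 ↑(V ⊓ 𝐂 K ⊓ 𝐂 S)))) := le_normalizer_centralizer
    ((le_centralizer_iff.1 (inf_le_left.trans inf_le_right)).trans (le_normalizer_ncl _ _))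
  have e : ⁅K, S ⊓ ncl (fR S V) (fH S)⁆ ≤ K := commutator_le_of_le_normalizer (inf_le_left.trans h2)
  refine cop (X := ⁅K, S ⊓ ncl (fR S V) (fH S)⁆ ⊔ S) (h.ea hV) (h.syl.mono le_sup_right le_top)
    (sup_le (e.trans h1) h.le) le_sup_left (sup_le le_normalizer (le_normalizer_commutator h2 (nT h)))
    (ho.mono e le_rfl) ((h.inf_c hV).le.trans (le_centralizer_iff.1 ?_))
  exact ((commutator_mono le_rfl (inf_le_right.trans c)).trans (commutator_le_of_le_normalizer' k)).trans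
    (centralizer_anti (le_ncl _ _))

/-- `T₁` acts nontrivially on every nontrivial `M`-invariant subgroup of `V` -/
theorem T1_not_le {Y : Subgroup G} (h1 : Y ≤ V) (h2 : 𝐍 V ≤ 𝐍 Y) (h3 : Y ≠ ⊥) :
    ¬ S ⊓ ncl (fR S V) (fH S) ≤ 𝐂 Y := fun k => by
  obtain ⟨F, f1, f2, f3, -, f4⟩ := fr_odd h hV
  have n := normalizer_le_normalizer_centralizer V
  obtain ⟨x, hx, hx'⟩ := SetLike.not_le_iff_exists.1 (h.T1_not_le hV)
  obtain ⟨m, hm⟩ := isPGroup_iff_mem.1 h.isP x hx.1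
  obtain ⟨j, j1, j2⟩ := exists_pow_sq hm hx'
  have ht := pow_mem hx (2 ^ j)
  generalize x ^ 2 ^ j = t at j1 j2 ht
  obtain ⟨η, e1, e2⟩ := f4 t (h.le ht.1) j2 j1
  have c := key h hV (K := F ⊓ 𝐂 Y) (inf_le_left.trans f1)
    (h.le.trans (le_normalizer_inf f2 (le_normalizer_centralizer h2))) (f3.mono inf_le_left le_rfl)
    (fun e => h3 (le_bot_iff.1 (e ▸ le_inf h1 (le_centralizer_iff.1 inf_le_right))))
  have a : ⁅η, t⁆ ∈ F := commutator_le_of_le_normalizer f2 (commutator_mem_commutator e1 (h.le ht.1))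
  have b : ⁅η, t⁆ ∈ 𝐂 Y := commutator_le_of_le_normalizer' (le_normalizer_centralizer h2)
    (commutator_mem_commutator (f1 e1) (k ht))
  exact e2 (f3.sq (f1.trans n) a (sq_mem (n (f1 e1)) (n (h.le ht.1)) j2
    (c (commutator_mem_commutator (mem_inf.2 ⟨a, b⟩) ht))))

variable (f : FFD 2 V H) (nH : 𝐍 V ≤ 𝐍 H)
include f nH

omit h hV nH [Finite G] in
theorem odd (h1 : K ≤ H) : OddM (O² K) (𝐂 V) := fun P hP hp => by
  have l := (pResidualOf_le 2 K).trans h1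
  rw [← f.span, sSup_eq_iSup']
  refine le_centralizer_sup ((hP.trans l).trans (le_centralizer_iff.1 inf_le_right)) (le_centralizer_iSup fun W => ?_)
  exact (four_of_natSL W.2.2).le_c_of_isP (pResidualOf_pResidualOf _ _) (l.trans (f.le_normalizer W.2)) hp hP

theorem orbit (hne : (Pl 2 V H).Nonempty) :
    ∃ W ∈ Pl 2 V H, V ⊓ 𝐂 H = ⊥ ∧ ∀ U ∈ Pl 2 V H, ∃ s ∈ S, cj s W = U := by
  have pl : ∀ W ∈ Pl 2 V H, ∀ g ∈ 𝐍 V, cj g W ∈ Pl 2 V H := fun W hW g hg => Pl.conj hW hg (nH hg)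
  obtain ⟨W, hW, n⟩ : ∃ W ∈ Pl 2 V H, ¬ S ⊓ ncl (fR S V) (fH S) ≤ 𝐂 W := by
    by_contra k
    push Not at k
    obtain ⟨U, hU⟩ := hne
    refine T1_not_le h hV (Y := sSup (Pl 2 V H)) (sSup_le fun _ h => h.1) (H2.le_normalizer_sSup pl)
      (fun e => (four_of_natSL hU.2).ne_bot (le_bot_iff.1 (e ▸ le_sSup hU))) ?_
    rw [sSup_eq_iSup']
    exact le_centralizer_iSup fun W => k W W.2
  have four := four_of_natSL hW.2
  have l : ncl (plE V H W) S ≤ H := ncl_le plE_le (h.le.trans nH)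
  have l' := (pResidualOf_le 2 _).trans l
  have z : V ⊓ 𝐂 ↑(O² (ncl (plE V H W) S)) = ⊥ := by_contra fun z => by
    have c := (key h hV (l'.trans f.nm) (le_normalizer_pResidualOf_of_le (le_normalizer_ncl _ _)) (odd f l) z).trans
      (centralizer_anti hW.1)
    obtain ⟨ρ, r1, r2⟩ := SetLike.not_le_iff_exists.1 (not_res_le hW.2)
    have r3 := pResidualOf_le 2 _ r1
    have r4 := pResidualOf_mono (p := 2) (le_ncl (plE V H W) S) r1
    have nW : S ⊓ ncl (fR S V) (fH S) ≤ 𝐍 W := fun t ht => by_contra fun e => r2 (by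
      have a := c (commutator_mem_commutator r4 ht)
      have b := f.cent W hW _ (pl W hW t (h.le ht.1)) (fun k => e (cj_eq_iff.1 k.symm))
        (cj_plE hW.1 (h.le ht.1) (nH (h.le ht.1)) ▸ conj_mem_cj t r3)
      have := mul_mem a b
      simpa [commutatorElement_def, mul_assoc] using this)
    obtain ⟨t, t1, t2⟩ := SetLike.not_le_iff_exists.1 n
    exact (four.comm_three (hW.2.le_normalizer r3) (nW t1) (four.cube_mem (pResidualOf_pResidualOf _ _)
      ((pResidualOf_le 2 _).trans hW.2.le_normalizer) r1) r2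
      (four.sq_mem_of_isP (h.isP.to_le inf_le_left) nW t1) t2).2 (c (commutator_mem_commutator r4 t1))
  refine ⟨W, hW, le_bot_iff.1 (z ▸ inf_le_inf_left _ (centralizer_anti l')), fun U hU => by_contra fun k => ?_⟩
  refine (four_of_natSL hU.2).ne_bot (le_bot_iff.1 (z ▸ le_inf hU.1 (le_centralizer_iff.1
    ((pResidualOf_le 2 _).trans (ncl_le_iff.2 fun s hs => ?_)))))
  rw [cj_plE hW.1 (h.le hs) (nH (h.le hs))]
  exact f.cent U hU _ (pl W hW s (h.le hs)) fun e => k ⟨s, hs, e.symm⟩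

omit h hV [Finite G] in
theorem cent {U : Subgroup G} (hW : W ∈ Pl 2 V H) (hU : U ∈ Pl 2 V H) (hne : W ≠ U) : plE V (𝐍 V) W ≤ 𝐂 U :=
  fun g hg => by
  have c := f.cent W hW U hU hne
  have a : ∀ u ∈ U, u * (g * u⁻¹ * g⁻¹) ∈ 𝐂 (plE V H U) := fun u hu => le_centralizer_iff.1 c (by
    have := commutator_plE_le (H := 𝐍 V) hW.1 (commutator_mem_commutator (hU.1 hu) hg)
    simpa [commutatorElement_def, mul_assoc] using this)
  have i := hU.2.inf_centralizer
  by_cases e : cj g U = U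
  · refine mem_centralizer_iff'.2 fun u hu => ?_
    have b : u⁻¹ * (g * u⁻¹⁻¹ * g⁻¹) ∈ U := U.mul_mem (U.inv_mem hu) (e ▸ conj_mem_cj g (U.inv_mem (U.inv_mem hu)))
    have := mem_bot.1 (i.le ⟨b, a _ (U.inv_mem hu)⟩)
    rw [inv_inv, inv_mul_eq_one] at this
    exact this.symm
  · refine ((four_of_natSL hU.2).ne_bot (le_bot_iff.1 (i ▸ le_inf le_rfl fun u hu => ?_))).elim
    have b := le_centralizer_iff.1 (f.cent _ (Pl.conj hU hg.1 (nH hg.1)) U hU e) (conj_mem_cj g (U.inv_mem hu))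
    exact (mul_mem_cancel_right b).1 (a u hu)

end fr

end H16.TV

open Cfsg Subgroup H26 _root_.H26 H4 _root_.H4 H16.TV _root_.H16.TV in
theorem H16.tvs.{u} : H27.TVS.{u} := fun G _ _ S V h hV hJ => by
  have n := normalizer_le_normalizer_centralizer V
  have f := FFD.of_mF (h.ea hV) (sup_le (thompsonOf_le 2 _) inf_le_left)
    (ffd_thompson (h.ea hV) le_normalizer le_rfl (pSol_of_solvable (h.solM hV)) (h.red hV))
  set H := thompsonSubgroupOf 2 (𝐍 V) ⊔ 𝐍 V ⊓ 𝐂 V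
  have hM : H ≤ 𝐍 V := f.nm
  have nH : 𝐍 V ≤ 𝐍 H := le_normalizer_sup (le_normalizer_thompsonOf 2 _) (le_normalizer_inf le_normalizer n)
  have jH : thompsonSubgroupOf 2 S ≤ H := (thompsonOf_le_of_isSyl h.sylM).trans le_sup_left
  obtain ⟨W, hW, z, tr⟩ := orbit h hV f nH (f.nonempty fun k => hJ (jH.trans k))
  have up : ∀ U, plE V H U ≤ plE V (𝐍 V) U := fun U => inf_le_inf_right _ hM
  refine ⟨Pl 2 V H, fun U hU => four_of_natSL hU.2, fun U hU => hU.1, fun U hU g hg => Pl.conj hU hg (nH hg),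
    fun U hU U' hU' => ?_, fun U hU => ?_, fun U hU => ?_, fun U hU U' hU' => cent f nH hU hU', ?_,
    fun U hU => jH.trans (f.le_normalizer hU)⟩
  · obtain ⟨s, hs, rfl⟩ := tr U hU
    obtain ⟨s', hs', rfl⟩ := tr U' hU'
    exact ⟨s' * s⁻¹, mul_mem hs' (inv_mem hs), by rw [← cj_mul, inv_mul_cancel_right]⟩
  · obtain ⟨ρ, r1, r2, r3⟩ := (four_of_natSL hU.2).exists_three hU.2.le_normalizer (not_res_le hU.2)
    exact ⟨ρ, up U r1, f.inf U hU ⟨pow_mem r1 3, r2⟩, fun k => r3 (centralizer_anti hU.1 k)⟩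
  · obtain ⟨A, hA, a⟩ : ∃ A ∈ MaxEA 2 S, ¬ A ≤ 𝐂 V := by
      by_contra k
      push Not at k
      exact hJ (thompsonOf_le_iff.2 k)
    have aJ := MaxEA.le_thompsonOf hA
    obtain ⟨U', hU', b⟩ : ∃ U' ∈ Pl 2 V H, ¬ (A ⊔ 𝐂 V) ⊓ plE V H U' ≤ 𝐂 V := by
      by_contra k
      push Not at k
      refine a ((f.off A (aJ.trans jH) (MaxEA.isBestOffenderOn hA (h.V_le_S hV) (h.ea hV))).trans
        (sup_le (sSup_le ?_) le_rfl))
      rintro _ ⟨U', hU', rfl⟩
      exact k U' hU'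
    obtain ⟨x, ⟨x1, x2⟩, x3⟩ := SetLike.not_le_iff_exists.1 b
    obtain ⟨t, ht, c, hc, rfl⟩ := (mem_sup_of_le_normalizer (((aJ.trans jH).trans hM).trans n)).1 x1
    have t1 : t ∈ plE V (𝐍 V) U' := (mul_mem_cancel_right
      (inf_le_plE hU'.1 ⟨centralizer_le_normalizer _ hc, hc⟩)).1 (up U' x2)
    obtain ⟨s, hs, rfl⟩ := tr U hU
    obtain ⟨s', hs', rfl⟩ := tr U' hU'
    have m := mul_mem hs (inv_mem hs')
    refine ⟨s * s'⁻¹ * t * (s * s'⁻¹)⁻¹, conj_mem_of_mem_normalizer (le_normalizer_thompsonOf 2 S m) (aJ ht), ?_,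
      fun k => x3 (mul_mem ?_ hc)⟩
    · have := conj_mem_cj (s * s'⁻¹) t1
      rwa [cj_plE hU'.1 (h.le m) (le_normalizer (h.le m)), ← cj_mul, inv_mul_cancel_right] at this
    · have := conj_mem_of_mem_normalizer' (n (h.le m)) k
      rwa [show (s * s'⁻¹)⁻¹ * (s * s'⁻¹ * t * (s * s'⁻¹)⁻¹) * (s * s'⁻¹) = t by group] at this
  · have := f.span
    rw [z, bot_sup_eq] at this
    exact this.ge

end H226
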