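import Cfsg.Agent.H26.T2.H27FM3
import Cfsg.Agent.H9.Dihedral
/-! `H27.fm : H26.FM`: the amalgam of type `M₁₂` does not occur. -/
set_option autoImplicit false
set_option linter.unusedSectionVars false
namespace H118 end H118 namespace H226 end H226 namespace H26 end H26 namespace H27 end H27 namespace H27.FM end H27.FM namespace H27.FM.Mb end H27.FM.Mb namespace H4 end H4
open H226
namespace H226
namespace H27.FM
open _root_.H27 _root_.H27.FM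
open Cfsg Subgroup H26 _root_.H26 H4 _root_.H4 H118 _root_.H118
open scoped Pointwise commutatorElement

variable {G : Type*} [Group G] [Finite G] {S V l m : Subgroup G} {z p q r c d g t u v w x : G}

abbrev Aa (l : Subgroup G) (t : G) : Subgroup G := 𝐂 l ⊓ 𝐂 (zpowers t)

theorem two_card {H K : Subgroup G} (h : H < K) : Nat.card H * 2 ≤ Nat.card K := by
  obtain ⟨n, hn⟩ := card_dvd_of_le h.le
  have := card_lt_of_lt h
  rw [hn] at this ⊢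
  exact Nat.mul_le_mul_left _ (by by_contra e; interval_cases n <;> omega)

theorem conj_cz {a b g : G} (h : g * a * g⁻¹ ∈ 𝐂 (zpowers (g * b * g⁻¹))) : a ∈ 𝐂 (zpowers b) := by
  rwa [← cj_zpowers, ← cj_centralizer, conj_mem_cj_iff] at h

theorem cz_of {a b a' b' : G} (g : G) (h : a' ∈ 𝐂 (zpowers b')) (e1 : g * a * g⁻¹ = a') (e2 : g * b * g⁻¹ = b') :
    a ∈ 𝐂 (zpowers b) := conj_cz (g := g) (e1 ▸ e2 ▸ h)

theorem fixpt (k : Ge S V z) (hl : Ln V l) {P : Subgroup G} (h1 : IsPGroup 2 P) (h2 : P ≤ 𝐍 l) :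
    ∃ p q, Fl V l p q ∧ P ≤ 𝐂 (zpowers p) := by
  obtain ⟨p, ⟨a, b⟩, c⟩ := (bot_or_exists_ne_one _).resolve_left
    (inf_centralizer_ne_bot (k.ln_four hl).isP h1 h2 (k.ln_four hl).ne_bot)
  obtain ⟨q, f⟩ := exFl k hl a c
  exact ⟨p, q, f, le_centralizer_iff.1 (zpowers_le.2 b)⟩

theorem fixpt' (k : Ge S V z) (hl : Ln V l) (h1 : u * u = 1) (h2 : u ∈ 𝐍 l) :
    ∃ p q, Fl V l p q ∧ u ∈ 𝐂 (zpowers p) :=
  let ⟨p, q, f, e⟩ := fixpt k hl (elemAb_isPGroup (elemAb_two_of_sq fun a ha => by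
    rcases mem_two h1 ha with rfl | rfl; exacts [one_mul _, h1])) (zpowers_le.2 h2)
  ⟨p, q, f, e (mem_zpowers u)⟩

theorem np (k : Ge S V z) (hl : Ln V l) (h1 : v ∉ l) (h2 : 𝐂 (zpowers v) ≤ 𝐍 l) (g : G) : g * z * g⁻¹ ≠ v := fun e => by
  have h4 := k.ln_four (hl.cj g⁻¹)
  have n : S ≤ 𝐍 (cj g⁻¹ l) := k.S_le.trans (by
    rw [← cj_normalizer, ← cj_le_iff, cj_centralizer, cj_zpowers, e]; exact h2)
  exact h1 (e ▸ by simpa using mem_cj.1 (zs k (k.syl.le_of_le_normalizer h4.isP le_top n) n h4.ne_bot))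

namespace Mb
open _root_.H27.FM.Mb
variable (h : Mb S V z) (f : Fl V l p q)
include h f

theorem nl (g1 : g ∈ 𝐂 (zpowers p)) (g2 : g ∈ 𝐂 (zpowers c)) (hc : c ∈ 𝐂 l) (h1 : ∀ u ∈ Up V p, u ∉ l → ⁅c, u⁆ ≠ 1) :
    g ∈ 𝐍 l := mem_normalizer_of_conj_mem fun a ha => by
  by_contra e
  refine h1 _ (conj_mem_of_mem_normalizer (c_le_n_Up V p g1) (f.lU h.toGe ha)) e ?_
  rw [← conj_eq_of_mem_c g2, ← conjugate_commutatorElement, cm_c hc ha, mul_one, mul_inv_cancel]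

theorem fixr (x1 : x ∈ 𝐂 (zpowers p)) (x2 : x ∈ 𝐍 l) (x3 : x ∈ 𝐂 (zpowers v)) (hv : v ∈ 𝐂 l) (hv' : v ∉ Tp V p) :
    x ∈ 𝐂 l := by
  obtain ⟨u, a, b⟩ := h.exU f
  refine f.genc h.toGe (h.oc f hv a) (mt (h.memT f (f.cc h.toGe hv) (centralizer_le_normalizer _ hv) a b) hv') x1 ?_
  rw [commutatorElement_def, conjugate_commutatorElement, conj_eq_of_mem_c x3, h.sig f hv
    (conj_mem_of_mem_normalizer (c_le_n_Up V p x1) a) (mt (mem_normalizer_iff.1 x2 _).2 b) a b, mul_inv_cancel]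

theorem isP : IsPGroup 2 ↥(𝐂 (zpowers p) ⊓ 𝐍 l) := isPGroup_iff_mem.2 fun x hx => ⟨3, by
  have k := h.toGe
  have e1 : x * x ∈ 𝐂 l := (em _).elim (fun e => mul_mem e e) fun e => f.mulc k hx.1 hx.2 e hx.1 hx.2 e
  have e2 : x * x * (x * x) ∈ l := h.memY f (mul_mem e1 e1) fun r a b u c d => by
    obtain ⟨_, f'⟩ := exFl k f.ln a b
    rw [cmul e1 (h.oc f' e1 c), (f.four k).sq _ (h.oc f' e1 c)]
  rw [show 2 ^ 3 = 2 * 2 * 2 from rfl, pow_mul, pow_mul, pow_two, pow_two, pow_two, (f.four k).sq _ e2]⟩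

theorem final (h1 : ∀ g : G, ∃ r ∈ l, r ≠ 1 ∧ g * z * g⁻¹ ∈ 𝐂 (zpowers r)) : False := by
  have k := h.toGe
  have h2 : ∀ m, Ln V m → ∀ g : G, ∃ r ∈ m, r ≠ 1 ∧ g * z * g⁻¹ ∈ 𝐂 (zpowers r) := fun m ⟨a, ha⟩ g => by
    obtain ⟨b, rfl⟩ := f.ln
    obtain ⟨r, r1, r2, r3⟩ := h1 (b * a⁻¹ * g)
    refine ⟨a * b⁻¹ * r * (a * b⁻¹)⁻¹, ?_, conj_ne_one _ r2, cz_of (b * a⁻¹) r3 (by group) (by group)⟩
    rw [← ha, ← cj_inv_cj b V, ← cj_mul]; exact conj_mem_cj _ r1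
  obtain ⟨y, f0⟩ := exFl k (Ln.self V) h.zV h.z1
  obtain ⟨m, u, -, f1, -, -, ne, -⟩ := h.exm f0
  have h3 : ∀ g : G, g * z * g⁻¹ ∈ 𝐂 (zpowers z) := fun g => by
    by_contra e
    obtain ⟨a, a1, a2, a3⟩ := h2 V f0.ln g
    obtain ⟨b, b1, b2, b3⟩ := h2 m f1.ln g
    have a4 : z ≠ a := fun j => e (j ▸ a3)
    have b4 : z ≠ b := fun j => e (j ▸ b3)
    have key : ∀ l m y u a b, Fl V l z y → Fl V m z u → l ≠ m → a ∈ l → a ≠ 1 → z ≠ a → b ∈ m → b ≠ 1 → z ≠ b →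
        g * z * g⁻¹ ∈ 𝐂 (zpowers a) → g * z * g⁻¹ ∈ 𝐂 (zpowers b) → g * z * g⁻¹ ∈ 𝐍 l :=
      fun l m y u a b f0 f1 ne a1 a2 a4 b1 b2 b4 a3 b3 => by
        have f2 : Fl V l z a := ⟨f0.ln, f0.pl, a1, f0.p1, a2, a4⟩
        exact h.nl f2.symm a3 b3 (f0.Uc k (f1.lU k b1)) fun v v1 v2 => h.g2 f2 (f1.lU k b1)
          (fun j => ((f0.memZ k).1 (f0.inf_le k f1 ne j b1)).elim b2 b4.symm) v1 v2 ▸ (f2.rot k).q1
    have n1 := key _ _ _ _ _ _ f0 f1 ne a1 a2 a4 b1 b2 b4 a3 b3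
    have n2 := key _ _ _ _ _ _ f1 f0 ne.symm b1 b2 b4 a1 a2 a4 b3 a3
    exact e (mem_c_of_conj_eq (((f0.memZ k).1 (f0.inf_le k f1 ne (conj_mem_of_mem_normalizer n1 f0.pl)
      (conj_mem_of_mem_normalizer n2 f1.pl))).resolve_left (conj_ne_one _ h.z1)))
  have hE : IsElementaryAbelian 2 (ncl (zpowers z) ⊤) :=
    elemAb_iSup (fun g : (⊤ : Subgroup G) => elemAb_cj (h.zeq ▸ elemAb_oz S) (g : G)) fun a b => by
      rw [cj_zpowers, cj_zpowers, zpowers_le]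
      exact cz_of (b : G)⁻¹ (h3 ((b : G)⁻¹ * a)) (by group) (by group)
  exact h.nH (le_top.trans ((le_normalizer_ncl _ _).trans (fr_uniq h.toFr (elemAb_isPGroup hE)
    (fun e => h.z1 (mem_bot.1 (e ▸ le_ncl _ _ (mem_zpowers z)))) (le_top.trans (le_normalizer_ncl _ _)))))

variable (ht : Tt V l t)
include ht

theorem lA : l ≤ Aa l t := le_inf (f.four h.toGe).le_c (le_centralizer_iff.1 (zpowers_le.2 ht.c))
theorem tA : t ∈ Aa l t := ⟨ht.c, mem_cz.2 (commutatorElement_self t)⟩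

theorem AT (hc : c ∈ Aa l t) (hc' : c ∈ Tp V p) : c ∈ l ∨ c * t ∈ l := by
  obtain ⟨u, a, b⟩ := h.exU f
  have e1 := ht.cm p f.pl f.p1 u a b
  refine ((f.memZ h.toGe).1 ((mem_Tp.1 hc').2 u a)).imp (h.ka f ht hc.1 (mem_cz.1 hc.2) a b) fun e => ?_
  have c2 := mul_mem hc (h.tA f ht)
  exact h.ka f ht c2.1 (mem_cz.1 c2.2) a b (by rw [cmul hc.1 (e1.symm ▸ f.pl), e, e1, f.pp h.toGe])

theorem allT {p' q' : G} (f' : Fl V l p' q') (hc : c ∈ Aa l t) (hc' : c ∈ Tp V p) : c ∈ Tp V p' :=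
  (h.AT f ht hc hc').elim (fun e => f'.lT h.toGe e) fun e => (mul_mem_cancel_right (h.tT f' ht)).1 (f'.lT h.toGe e)

theorem Aab : Aa l t ≤ 𝐂 (Aa l t) := by
  have k : ∀ c ∈ Aa l t, c ∈ Tp V p → c ∈ 𝐂 (Aa l t) := fun c a b => by
    have l1 : l ≤ 𝐂 (Aa l t) := le_centralizer_iff.1 inf_le_left
    have l2 : t ∈ 𝐂 (Aa l t) := le_centralizer_iff.1 inf_le_right (mem_zpowers t)
    exact (h.AT f ht a b).elim (fun e => l1 e) fun e => (mul_mem_cancel_right l2).1 (l1 e)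
  intro c hc
  by_cases e : c ∈ Tp V p
  · exact k c hc e
  refine mem_centralizer_iff.2 fun d hd => ?_
  by_cases e' : d ∈ Tp V p
  · exact (mem_centralizer_iff.1 (k d hd e') c hc).symm
  have b : ∀ c ∈ Aa l t, c ∈ Bf V p l := fun c a => h.bf f (f.cc h.toGe a.1) (centralizer_le_normalizer _ a.1)
  have := mem_centralizer_iff.1 (k _ (mul_mem hd hc) (f.k3 h.toGe (b d hd) (b c hc) e' e)) d hd
  rwa [mul_assoc, mul_right_inj] at this

theorem nA : 𝐍 l ≤ 𝐍 (Aa l t) := fun g hg => mem_normalizer_of_conj_mem fun c hc =>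
  ⟨conj_mem_of_mem_normalizer (normalizer_le_normalizer_centralizer l hg) hc.1, conj_cz (g := g⁻¹) (by
    rw [show g⁻¹ * (g * c * g⁻¹) * g⁻¹⁻¹ = c by group, conj_eq]
    exact cz_symm (mul_mem (cz_symm (mem_cz.2 (cm_c hc.1 (h.tn f ht (inv_mem hg))))) (cz_symm hc.2)))⟩

theorem AP : IsPGroup 2 (Aa l t) :=
  (h.isP f).to_le (le_inf (inf_le_left.trans (f.cc h.toGe)) (inf_le_left.trans (centralizer_le_normalizer _)))

theorem An : 𝐍 (Aa l t) ≤ 𝐍 l :=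
  h.uniq f.ln (h.AP f ht) (fun e => f.p1 (mem_bot.1 (e ▸ h.lA f ht f.pl))) (h.nA f ht)

theorem cA (hv : v ∈ Aa l t) (hv' : v ∉ l) (hc : c ∈ 𝐂 l) (hc' : c ∈ 𝐂 (zpowers v)) : c ∈ Aa l t := by
  obtain ⟨w, w1, w2, w3⟩ := h.adjg f ht (centralizer_le_normalizer _ hc)
  have a : c * w ∈ Aa l t := ⟨mul_mem hc w1, mem_cz.2 w3⟩
  rcases w2 with rfl | ⟨r, r', f', b, b'⟩
  · simpa using a
  · have := (mul_mem_cancel_left hc').1 (centralizer_anti (zpowers_le.2 hv) (h.Aab f ht a))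
    exact absurd (h.ka f' ht hv.1 (mem_cz.1 hv.2) b b' (cm_one (mem_cz.1 this))) hv'

theorem cm (hv : v ∈ Aa l t) (hv' : v ∉ l) (h1 : pCoreOf 2 (𝐂 (zpowers v)) ≤ 𝐂 l) : 𝐂 (zpowers v) ≤ 𝐍 l := by
  have a : pCoreOf 2 (𝐂 (zpowers v)) ≤ Aa l t := fun c hc => h.cA f ht hv hv' (h1 hc) (pCoreOf_le _ _ hc)
  have b := fr_charP_c h.toFr ((h.AP f ht).to_le (zpowers_le.2 hv)) (by rintro e; rw [zpowers_eq_bot.1 e] at hv'; exact hv' (one_mem _))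
  have c : Aa l t ≤ pCoreOf 2 (𝐂 (zpowers v)) := (le_inf ((h.Aab f ht).trans (centralizer_anti (zpowers_le.2 hv)))
    ((h.Aab f ht).trans (centralizer_anti a))).trans b
  exact (le_normalizer_pCoreOf 2 _).trans (le_antisymm a c ▸ h.An f ht)

theorem cr (hv : v ∈ Aa l t) (hv' : v ∉ Tp V p) : 𝐂 (zpowers v) ≤ 𝐍 l := by
  have v1 : v ∉ l := fun e => hv' (f.lT h.toGe e)
  refine h.cm f ht hv v1 ((isSyl_of_normalizer (p := 2) (T := Aa l t) ⟨le_inf ((h.Aab f ht).trans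
    (centralizer_anti (zpowers_le.2 hv))) le_normalizer, h.AP f ht, fun Q a _ c x hx => ?_⟩).pCoreOf_le.trans inf_le_left)
  have n := c.trans (inf_le_right.trans (h.An f ht))
  obtain ⟨r, r', f', e⟩ := fixpt h.toGe f.ln a n
  exact h.cA f ht hv v1 (h.fixr f' (e hx) (n hx) (c hx).1 hv.1 (mt (h.allT f' ht f hv) hv')) (c hx).1

theorem ct : 𝐂 (zpowers t) ≤ 𝐍 l := by
  have k := h.toGe
  let T := (𝐂 (zpowers p) ⊓ 𝐍 l) ⊓ 𝐂 (zpowers t)
  have TP : IsPGroup 2 T := (h.isP f).to_le inf_le_left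
  have AT : Aa l t ≤ T := le_inf (le_inf (inf_le_left.trans (f.cc k))
    (inf_le_left.trans (centralizer_le_normalizer _))) inf_le_right
  obtain ⟨s, s1, s2⟩ : ∃ s ∈ T, s ∉ 𝐂 l := by
    obtain ⟨s, s1, s2⟩ := h.exq f
    have s3 := Ge.Tp_le_n f.ln f.pl s1
    obtain ⟨w, w1, -, w3⟩ := h.adjg f ht s3
    exact ⟨s * w, ⟨⟨mul_mem s1.1 (f.cc k w1), mul_mem s3 (centralizer_le_normalizer _ w1)⟩, mem_cz.2 w3⟩,
      mt (mul_mem_cancel_right w1).1 s2⟩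
  have key : ∀ g ∈ 𝐍 T, g * p * g⁻¹ ∈ zpowers p := fun g hg => by
    by_cases e : Aa l t ≤ Tp V p
    · have c1 : ∀ a ∈ T, a ∈ 𝐂 l → ∀ b ∈ T, ⁅b, a⁆ ∈ zpowers p := fun a a1 a2 b b1 => by
        rcases h.AT f ht ⟨a2, a1.2⟩ (e ⟨a2, a1.2⟩) with j | j
        · exact f.fx k b1.1.1 b1.1.2 j
        · rw [show a = a * t * t by rw [mul_assoc, ht.sq, mul_one]]
          exact cm_right (f.fx k b1.1.1 b1.1.2 j) (mem_cz.1 b1.2 ▸ one_mem _) (c_n (f.cc k ((f.four k).le_c j)))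
      have c2 : ∀ a ∈ T, ∀ b ∈ T, ⁅b, a⁆ ∈ zpowers p := fun a a1 b b1 => by
        by_cases j : a ∈ 𝐂 l
        · exact c1 a a1 j b b1
        by_cases j' : b ∈ 𝐂 l
        · exact cm_inv (c1 b b1 j' a a1)
        have := c1 _ (mul_mem b1 a1) (f.mulc k b1.1.1 b1.1.2 j' a1.1.1 a1.1.2 j) b b1
        rw [commutatorElement_mul_right_eq_mul_conj, commutatorElement_self, one_mul] at this
        exact (mem_normalizer_iff.1 (c_n b1.1.1) _).2 this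
      have := c2 _ (conj_mem_of_mem_normalizer hg (AT (h.lA f ht f.ql))) _ (conj_mem_of_mem_normalizer hg s1)
      rwa [← conjugate_commutatorElement, f.swap k s1.1.1 s1.1.2 s2] at this
    have B1 : cj g (Aa l t) ≤ T := cj_le_of_mem_normalizer AT hg
    by_cases e' : cj g (Aa l t) ≤ 𝐂 l
    · have g1 := h.An f ht (mem_normalizer_of_cj_le (le_inf e' (B1.trans inf_le_right)))
      by_contra j
      exact s2 (f.genc k (conj_mem_of_mem_normalizer g1 f.pl) j s1.1.1 (mem_cz.1 (cz_of g⁻¹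
        (conj_mem_of_mem_normalizer (inv_mem hg) s1).1.1 rfl (by group))))
    obtain ⟨b, b1, b2⟩ := SetLike.not_le_iff_exists.1 e'
    have b3 : b ∈ 𝐂 (cj g (Aa l t)) := cj_centralizer g _ ▸ cj_mono g (h.Aab f ht) b1
    have c1 := card_mul_relIndex (𝐂 l) (cj g (Aa l t))
    rw [(f.four k).relIndex_two (TP.to_le B1) (B1.trans (inf_le_left.trans inf_le_right)) e', card_cj] at c1
    have c2 : 𝐂 l ⊓ cj g (Aa l t) < Aa l t ⊓ Tp V p := lt_of_le_not_ge (fun c hc => ⟨⟨hc.1, (B1 hc.2).2⟩, by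
      by_contra j
      exact b2 (h.fixr f (B1 b1).1.1 (B1 b1).1.2 (centralizer_anti (zpowers_le.2 hc.2) b3) hc.1 j)⟩)
      fun j => b2 (f.genc k f.ql (f.qZ k) (B1 b1).1.1 (cm_c b3 (j ⟨h.lA f ht f.ql, f.lT k f.ql⟩).2))
    have c3 := two_card c2
    have c4 := card_lt_of_lt (inf_lt_left.2 e)
    omega
  have sy : IsSyl 2 T (𝐂 (zpowers t)) := isSyl_of_normalizer ⟨le_inf inf_le_right le_normalizer, TP, fun Q _ _ c g hg => by
    have g1 := mem_c_of_conj_eq (((f.memZ k).1 (key g (c hg).2)).resolve_left (conj_ne_one _ f.p1))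
    exact ⟨⟨g1, h.nl f g1 (c hg).1 ht.c fun u a b => (ht.cm p f.pl f.p1 u a b).symm ▸ f.p1⟩, (c hg).1⟩⟩
  have o1 := sy.pCoreOf_le.trans (inf_le_left.trans inf_le_left)
  obtain ⟨g, g1, g2⟩ := f.tr k f.symm
  obtain ⟨w, w1, -, w3⟩ := h.adjg f ht (cj_eq_iff.1 g1)
  refine h.cm f ht (h.tA f ht) (h.tl f ht) fun x hx => f.genc k f.ql (f.qZ k) (o1 hx) (mem_cz.1 (cz_of (g * w)⁻¹
    (o1 (conj_mem_of_mem_normalizer (le_normalizer_pCoreOf 2 _ (inv_mem (mem_cz.2 w3))) hx)) rfl ?_))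
  rw [← g2, show (g * w)⁻¹ * (g * p * g⁻¹) * (g * w)⁻¹⁻¹ = w⁻¹ * p * w⁻¹⁻¹ by group]
  exact mem_centralizer_iff'.1 (inv_mem w1) p f.pl

theorem cA' (hv : v ∈ Aa l t) (hv' : v ∉ l) : 𝐂 (zpowers v) ≤ 𝐍 l := by
  by_cases e : v ∈ Tp V p
  · exact h.ct f (h.tmul f ht ((h.AT f ht hv e).resolve_left hv'))
  · exact h.cr f ht hv e

/-- the case `|S| = 128` -/
theorem big : Aa l t ≤ Tp V p := fun r hr => by
  by_contra e
  have k := h.toGe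
  have r1 : r ∉ l := fun j => e (f.lT k j)
  have r2 : r * r = 1 := by
    by_contra j
    obtain ⟨u, a, b⟩ := h.exU f
    have rr := mul_mem hr hr
    have l1 : r * r ∈ l := h.ka f ht rr.1 (mem_cz.1 rr.2) a b (by
      rw [cmul hr.1 (h.oc f hr.1 a), (f.four k).sq _ (h.oc f hr.1 a)])
    obtain ⟨q', f'⟩ := exFl k f.ln l1 j
    obtain ⟨g, g1, g2⟩ := f'.tr k f'.symm
    replace g1 := cj_eq_iff.1 g1
    have s1 := conj_mem_of_mem_normalizer (h.nA f ht g1) hr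
    have s2 : g * r * g⁻¹ ∉ Tp V p := fun i => by
      have f2 := f.cj g⁻¹
      rw [cj_eq_of_mem_normalizer (inv_mem g1)] at f2
      refine e (h.allT f2 ht f hr ?_)
      rw [← cj_Tp, mem_cj, inv_inv]; exact i
    have b : ∀ c ∈ Aa l t, c ∈ Bf V p l := fun c a => h.bf f (f.cc k a.1) (centralizer_le_normalizer _ a.1)
    have s3 : g * r * g⁻¹ * r * (g * r * g⁻¹ * r) = 1 :=
      (h.AT f ht (mul_mem s1 hr) (f.k3 k (b _ s1) (b _ hr) s2 e)).elim ((f.four k).sq _) fun i => (h.tmul f ht i).sq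
    rw [mul_assoc, ← mul_assoc r, mem_centralizer_iff.1 (h.Aab f ht s1) r hr, mul_assoc _ r r, ← mul_assoc, conj_mul, g2,
      mul_eq_one_iff_eq_inv, inv_eq_of_mul_eq_one_right (f'.pp k)] at s3
    exact f'.ne s3.symm
  refine h.final f fun g => ?_
  have u2 : g * z * g⁻¹ * (g * z * g⁻¹) = 1 := by rw [conj_mul, h.zz, mul_one, mul_inv_cancel]
  rcases H9.isConj_or_exists_commute u2 r2 with j | ⟨v, v1, -, v2, v3⟩
  · obtain ⟨a, ha⟩ := isConj_iff.1 j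
    exact absurd (by rw [← ha]; group) (np k f.ln r1 (h.cr f ht hr e) (a * g))
  have v4 : v * v = 1 := by rw [← pow_two, ← v1, pow_orderOf_eq_one]
  have v5 : v ∈ 𝐂 (zpowers r) := mem_centralizer_zpowers.2 v3.eq.symm
  have v6 := h.cr f ht hr e v5
  have v7 := mem_centralizer_zpowers.2 v2.eq
  obtain ⟨p', q', f', v8⟩ := fixpt' k f.ln v4 v6
  have v9 := h.cA f ht hr r1 (h.fixr f' v8 v6 v5 hr.1 (mt (h.allT f' ht f hr) e)) v5
  by_cases j : v ∈ l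
  · exact ⟨v, j, by rintro rfl; simp at v1, v7⟩
  · obtain ⟨a, b, f2, i⟩ := fixpt' k f.ln u2 (h.cA' f ht v9 j v7)
    exact ⟨a, f2.pl, f2.p1, i⟩

theorem adjT (hc : c ∈ 𝐂 l) (hc' : c ∈ Tp V p) : ∃ w, (w = 1 ∨ w ∈ Up V p ∧ w ∉ l) ∧ c * w ∈ Aa l t := by
  obtain ⟨w, w1, w2, w3⟩ := h.adjg f ht (centralizer_le_normalizer _ hc)
  have a : c * w ∈ Aa l t := ⟨mul_mem hc w1, mem_cz.2 w3⟩
  refine ⟨w, w2.imp_right fun ⟨r, r', f', b, b'⟩ => ⟨?_, b'⟩, a⟩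
  by_contra e
  exact b' (h.inT ⟨f.ln, f.pl, f'.pl, f.p1, f'.p1, fun j => e (j ▸ b)⟩ b ((mul_mem_cancel_left hc').1 (h.big f ht a)))

theorem Tt' (hc : c ∈ Tp V p) : ⁅c, t⁆ ∈ zpowers p := by
  have k := h.toGe
  have a : ∀ c ∈ Tp V p, c ∈ 𝐂 l → ⁅c, t⁆ ∈ zpowers p := fun c c1 c2 => by
    obtain ⟨w, rfl | ⟨w1, w2⟩, w3⟩ := h.adjT f ht c2 c1
    · rw [mul_one] at w3; exact mem_cz.1 w3.2 ▸ one_mem _
    · rw [show c = c * w * w by rw [mul_assoc, k.Up_sq f.col w1, mul_one]]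
      exact cm_left (mem_cz.1 w3.2 ▸ one_mem _) (cm_inv ((ht.cm p f.pl f.p1 w w1 w2).symm ▸ mem_zpowers p))
        (c_n (f.cc k w3.1))
  by_cases e : c ∈ 𝐂 l
  · exact a c hc e
  obtain ⟨m, u, s, f', -, -, ne, hs, s1, s2, s3, -⟩ := h.exm f
  have c1 := mul_mem hc s1
  rw [show c = c * s * s by rw [mul_assoc, hs.sq, mul_one]]
  exact cm_left (a _ c1 (f.mulc k hc.1 (Ge.Tp_le_n f.ln f.pl hc) e s1.1 s2 s3)) (f.inf_le k f' ne (h.tn f ht s2)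
    (cm_inv (h.tn f' hs (Ge.Tp_le_n f'.ln f'.pl (h.tT f ht))))) (c_n c1.1)

omit ht in
theorem invT (hv : v ∈ Tp V p) (v2 : v * v = 1) : v ∈ Up V p ∨ ∃ m u, Fl V m p u ∧ Tt V m v := by
  have k := h.toGe
  obtain ⟨m, u, f', hm⟩ : ∃ m u, Fl V m p u ∧ v ∈ 𝐂 m := by
    obtain ⟨u, a, b⟩ := h.exU f
    have q1 := f.lU k f.ql
    have key : ∀ u ∈ Up V p, u ∉ zpowers p → ⁅v, u⁆ = 1 → ∃ m u, Fl V m p u ∧ v ∈ 𝐂 m := fun u a b c =>
      let ⟨m, f'⟩ := h.g3 f a b; ⟨m, u, f', f'.genc k f'.ql b hv.1 c⟩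
    rcases (f.memZ k).1 ((mem_Tp.1 hv).2 q q1) with j | j
    · exact key q q1 (f.qZ k) j
    rcases (f.memZ k).1 ((mem_Tp.1 hv).2 u a) with j' | j'
    · exact key u a (fun i => b (zpowers_le.2 f.pl i)) j'
    exact key _ (mul_mem q1 a) (fun i => b ((mul_mem_cancel_left f.ql).1 (zpowers_le.2 f.pl i)))
      (by rw [cmul' (f.Uc k q1) (j'.symm ▸ f.pl), j, j', f.pp k])
  obtain ⟨t, ht⟩ := h.exT f'
  obtain ⟨w, rfl | ⟨w1, w2⟩, w3⟩ := h.adjT f' ht hm hv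
  · rw [mul_one] at w3
    exact (h.AT f' ht w3 hv).imp (fun j => f'.lU k j) fun j => ⟨m, u, f', h.tmul f' ht j⟩
  rcases h.AT f' ht w3 (h.big f' ht w3) with j | j
  · exact Or.inl ((mul_mem_cancel_right w1).1 (f'.lU k j))
  have t2 := h.tmul f' ht j
  have := t2.cm p f'.pl f'.p1 w w1 w2
  rw [cmul hm (by simp), commutatorElement_self, one_mul] at this
  have e : ⁅v, w⁆ = v * w * (v * w) := by
    rw [commutatorElement_def, inv_eq_of_mul_eq_one_right v2, inv_eq_of_mul_eq_one_right (k.Up_sq f.col w1), mul_assoc]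
  exact absurd (this.symm.trans (e.trans t2.sq)) f.p1

theorem invC (hv : v ∈ 𝐂 (zpowers t)) (v2 : v * v = 1) : v ∈ l ∨ ∃ m r u, r ∈ l ∧ Fl V m r u ∧ Tt V m v := by
  have k := h.toGe
  have v1 := h.ct f ht hv
  obtain ⟨p, q, f, v3⟩ := fixpt' k f.ln v2 v1
  have v4 : v ∈ Tp V p := by
    by_contra e
    obtain ⟨a, a1, a2⟩ := h.exU f.symm
    have := h.Tt' f ht (f.k3 k (h.bf f v3 v1) (h.UB f a1) e (mt (h.inT f a1) a2))
    rw [commutatorElement_mul_left_eq_conj_mul, mem_cz.1 hv, mul_one, ← mem_normalizer_iff.1 (c_n v3),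
      ← commutatorElement_inv, ht.cm q f.ql f.q1 a a1 a2, inv_mem_iff] at this
    exact f.qZ k this
  refine (h.invT f v4 v2).imp (fun j => ?_) fun ⟨m, u, a, b⟩ => ⟨m, p, u, f.pl, a, b⟩
  by_contra e
  exact f.p1 ((ht.cm p f.pl f.p1 v j e).symm.trans (cm_one (mem_cz.1 hv)))

theorem ptC (hv : g * z * g⁻¹ ∈ 𝐂 (zpowers t)) : g * z * g⁻¹ ∈ l :=
  (h.invC f ht hv (by rw [conj_mul, h.zz, mul_one, mul_inv_cancel])).resolve_right fun ⟨_, _, _, _, f', b⟩ =>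
    np h.toGe f'.ln (h.tl f' b) (h.ct f' b) g rfl

theorem false : False := h.final f fun g => by
  have k := h.toGe
  rcases H9.isConj_or_exists_commute (x := g * z * g⁻¹) (by rw [conj_mul, h.zz, mul_one, mul_inv_cancel]) ht.sq with
    j | ⟨v, v1, -, v2, v3⟩
  · obtain ⟨a, ha⟩ := isConj_iff.1 j
    exact absurd (by rw [← ha]; group) (np k f.ln (h.tl f ht) (h.ct f ht) (a * g))
  have v7 := mem_centralizer_zpowers.2 v2.eq
  rcases h.invC f ht (mem_centralizer_zpowers.2 v3.eq.symm) (by rw [← pow_two, ← v1, pow_orderOf_eq_one]) with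
    j | ⟨m, r, u, a, f', b⟩
  · exact ⟨v, j, by rintro rfl; simp at v1, v7⟩
  · exact ⟨r, a, f'.p1, f'.cc k ((f'.four k).le_c (h.ptC f' b v7))⟩

end Mb

end H27.FM

namespace H27
open _root_.H27
open FM H118 _root_.H118
universe u

theorem fm : H26.FM.{u} := fun _ _ _ _ V h _ hg h1 h2 => by
  obtain ⟨z, k⟩ := mb_of h hg h1 h2
  obtain ⟨y, f⟩ := exFl k.toGe (Ln.self V) k.zV k.z1
  obtain ⟨t, ht⟩ := k.exT f
  exact k.false f ht

end H27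

end H226
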