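import Cfsg.Agent.H26.T2.H6FD0
/-! The piece `FD1` of `N4` (notes/helper26_N4d.md): `H6.fd1`. -/
set_option autoImplicit false
set_option linter.unusedSectionVars false
namespace H118 end H118 namespace H226 end H226 namespace H26 end H26 namespace H4 end H4 namespace H6 end H6 namespace H6.FD end H6.FD namespace H6.FD.D1 end H6.FD.D1
open H226
namespace H226
namespace H6.FD
open _root_.H6 _root_.H6.FD
open Cfsg Subgroup H26 _root_.H26 H4 _root_.H4 H118 _root_.H118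
open scoped Pointwise commutatorElement
universe u

local notation "𝐉" => thompsonSubgroupOf 2
local notation "O₂" => pCoreOf 2

variable {G : Type u} [Group G] [Finite G]

/-- the hypotheses of `FD1` -/
structure D1 (S V : Subgroup G) : Prop extends Fr S V where
  core : V ≤ O₂ (fH S)
  ab : fU S V ≤ 𝐂 (fU S V)
  jc : 𝐉 S ≤ 𝐂 V

/-- an elementary subgroup of maximal order meeting `M` in a hyperplane -/
structure Bq (V B : Subgroup G) : Prop where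
  mx : B ∈ MaxEA 2 (⊤ : Subgroup G)
  nM : ¬ B ≤ 𝐍 V
  ix : Ix2 (𝐍 V) B
  q : ⁅V, B ⊓ 𝐍 V⁆ ≤ 𝐂 B

theorem mx_cj {B : Subgroup G} (h : B ∈ MaxEA 2 (⊤ : Subgroup G)) (g : G) : cj g B ∈ MaxEA 2 (⊤ : Subgroup G) :=
  MaxEA.cj_of_mem_normalizer h (le_normalizer (mem_top g))

theorem Bq.cj {V B : Subgroup G} (h : Bq V B) {m : G} (hm : m ∈ 𝐍 V) : Bq V (cj m B) := by
  have e := cj_eq_of_mem hm
  refine ⟨mx_cj h.mx m, fun k => h.nM (cj_le_cj_iff.1 (e.symm ▸ k)), ?_, ?_⟩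
  · rintro _ ⟨a, ha, rfl⟩ _ ⟨b, hb, rfl⟩ na nb
    rw [← map_mul, ← e]
    exact conj_mem_cj m (h.ix a ha b hb (fun k => na (e ▸ conj_mem_cj m k)) fun k => nb (e ▸ conj_mem_cj m k))
  · have := cj_mono m h.q
    rwa [cj_commutator, cj_inf, e, cj_eq_of_mem_normalizer hm, cj_centralizer] at this

namespace D1
open _root_.H6.FD.D1
variable {S V T X Y B F U A : Subgroup G} {t v x η : G} (h : D1 S V)
include h

theorem isP : IsPGroup 2 V := (isPGroup_pCoreOf 2 _).to_le h.core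
theorem ea : IsElementaryAbelian 2 V := (fr_pr h.toFr h.isP).elemAb
theorem VR : V ≤ S ⊓ 𝐂 V := fr_VR h.toFr h.isP
theorem VW : V ≤ oz (S ⊓ 𝐂 V) := fr_VW h.toFr h.isP
theorem Rp : IsPGroup 2 ↥(S ⊓ 𝐂 V) := h.syl.isP.to_le inf_le_left
theorem JR : 𝐉 S ≤ S ⊓ 𝐂 V := le_inf (thompsonOf_le _ _) h.jc
theorem JT (hT : IsPGroup 2 T) (e : S ⊓ 𝐂 V ≤ T) : 𝐉 T = 𝐉 S := h.syl.thompson_eq hT (h.JR.trans e) le_top

theorem nJ : 𝐍 (𝐉 S) ≤ 𝐍 V :=
  fr_uniq' h.toFr (h.Rp.to_le h.JR) (thompson_ne_bot h.syl.isP fun e => fr_ne h.toFr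
    (le_bot_iff.1 (e ▸ h.VR.trans inf_le_left)))
    (inf_le_right.trans (h.JT h.Rp le_rfl ▸ normalizer_le_normalizer_thompsonOf _ _))

theorem TM (hT : IsPGroup 2 T) (e : S ⊓ 𝐂 V ≤ T) : T ≤ 𝐍 V :=
  le_normalizer.trans ((h.JT hT e ▸ normalizer_le_normalizer_thompsonOf 2 T).trans h.nJ)

theorem cenB (hB : B ∈ MaxEA 2 (⊤ : Subgroup G)) (h1 : S ⊓ 𝐂 V ≤ X) (h2 : B ≤ X) (h3 : X ≤ 𝐍 Y)
    (h4 : S ⊓ 𝐂 V ≤ 𝐂 Y) : B ≤ 𝐂 Y := by
  obtain ⟨T, hT, e⟩ := exists_isSyl_ge h.Rp h1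
  obtain ⟨g, hg, k⟩ := hT.exists_cj_le (elemAb_isPGroup (MaxEA.elemAb hB)) h2
  have := MaxEA.le_thompsonOf (MaxEA.of_le (mx_cj hB g) k le_top)
  rw [h.JT hT.isP e] at this
  exact cj_le_cj_iff.1 (this.trans (h.JR.trans (h4.trans
    (cj_eq_of_mem_normalizer (le_normalizer_centralizer h3 hg)).ge)))

theorem cenV (hB : B ∈ MaxEA 2 (⊤ : Subgroup G)) (h2 : B ≤ 𝐍 V) : B ≤ 𝐂 V :=
  h.cenB hB (inf_le_left.trans h.le) h2 le_rfl inf_le_right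

theorem fac (hX : CharPOf 2 X) (hT : IsSyl 2 T X) (e : S ⊓ 𝐂 V ≤ T) : X ≤ (X ⊓ 𝐍 V) ⊔ (X ⊓ 𝐂 (zc X)) :=
  h.f2 X T hX hT (inf_le_left.trans e) ((h.JT hT.isP e).trans (h.JT h.Rp le_rfl).symm)

omit h in
theorem zc1 (hT : IsSyl 2 T X) : oz T ≤ zc X ∧ X ≤ 𝐍 (zc X) := by
  rw [zc, hT.sylowCenterClosure_eq]
  exact ⟨le_ncl _ _, le_normalizer_ncl _ _⟩

theorem pu (hX : CharPOf 2 X) (hT : IsSyl 2 (S ⊓ 𝐂 V) X) : X ≤ 𝐍 V :=
  (h.fac hX hT le_rfl).trans (sup_le inf_le_right (inf_le_right.trans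
    ((centralizer_anti (h.VW.trans (zc1 hT).1)).trans (centralizer_le_normalizer _))))

theorem ti (g : G) (e : V ⊓ cj g V ≠ ⊥) : cj g V ≤ 𝐂 V := by
  have hX := fr_charP_c h.toFr (h.isP.to_le inf_le_left) e
  obtain ⟨T, hT, e1⟩ := exists_isSyl_ge h.Rp (inf_le_right.trans (centralizer_anti inf_le_left) : _ ≤ 𝐂 (V ⊓ cj g V))
  obtain ⟨x, hx, e2⟩ := hT.exists_cj_le (isPGroup_cj g h.Rp)
    ((cj_mono g inf_le_right).trans ((cj_centralizer g V).le.trans (centralizer_anti inf_le_right)))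
  have e3 : cj (x * g) (𝐉 T) ≤ T := by
    rw [h.JT hT.isP e1, H26.cj_mul]; exact (cj_mono x (cj_mono g h.JR)).trans e2
  have e4 := thompson_cj_le (L := ⊤) e3
  rw [h.JT hT.isP e1, cj_eq_iff] at e4
  have e5 := cj_eq_of_mem_normalizer (h.nJ e4)
  rw [H26.cj_mul, cj_eq_iff_eq_cj] at e5
  obtain ⟨m, hm, e6⟩ := (fr_sylM h.toFr).exists_le_cj hT.isP (h.TM hT.isP e1)
  have mV := cj_eq_of_mem_normalizer hm
  generalize V ⊓ cj g V = Y at *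
  have k : ncl V (𝐂 Y) ≤ cj m (fU S V) := by
    refine (ncl_le (le_ncl V (𝐂 Y ⊓ 𝐂 (zc (𝐂 Y)))) ((h.fac hX hT e1).trans (sup_le (le_normalizer_ncl_of_le
      inf_le_right (inf_le_left.trans (le_normalizer_inf le_normalizer (le_normalizer_centralizer (zc1 hT).2))))
      (le_normalizer_ncl _ _)))).trans ?_
    rw [fU, cj_ncl, mV, cj_centralizer]
    refine ncl_mono le_rfl (inf_le_right.trans (centralizer_anti (le_trans (le_oz (elemAb_cj (elemAb_oz S) m)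
      ((cj_mono m (fr_oz_le h.toFr)).trans (mV.le.trans (h.VR.trans e1))) ?_) (zc1 hT).1)))
    exact (cj_mono m (oz_le_c S)).trans ((cj_centralizer ..).le.trans (centralizer_anti e6))
  rw [e5]
  exact ((cj_le_ncl (inv_mem hx)).trans k).trans ((cj_mono m h.ab).trans
    ((cj_centralizer ..).le.trans (centralizer_anti ((le_ncl _ _).trans k))))

theorem exB : ∃ B, Bq V B ∧ B ≤ fH S := by
  have sH := fr_sylH h.toFr
  obtain ⟨N, -, n1, ⟨n2, n3⟩, n4⟩ := exists_maximal_ge (Q := fun K => K ≤ 𝐍 V ∧ fH S ≤ 𝐍 K) (L := fH S) bot_le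
    ⟨bot_le, by rw [normalizer_bot']; exact le_top⟩
  have mx : ∀ K ≤ fH S, K ≤ 𝐍 V → fH S ≤ 𝐍 K → K ≤ N := fun K k1 k2 k3 =>
    le_sup_right.trans (n4 _ le_sup_left (sup_le n1 k1) ⟨sup_le n2 k2, le_normalizer_sup n3 k3⟩).le
  obtain ⟨E, e1, e2, -, e3, e4, e5⟩ := odd_top (H18.Solv.of_le (fr_sol h.toFr (elemAb_isPGroup (elemAb_oz S))
    (fr_oz_ne_bot h.toFr)) (centralizer_le_normalizer _)) (fun K k1 k2 k3 => mx K k1 ((sH.inf_of_normal k2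
    k1).le_of_pResidualOf_le (k3.trans n2) (inf_le_left.trans h.le)) k2) le_rfl le_normalizer
    fun k => h.nH (k.trans n2)
  have SE := sH.le.trans e2
  have u1 : ncl V E ≤ fU S V := ncl_mono le_rfl e1
  have uc := u1.trans (h.ab.trans (centralizer_anti u1))
  have ue : IsElementaryAbelian 2 (ncl V E) := elemAb_iSup (fun g : E => elemAb_cj h.ea (g : G)) fun i j =>
    (cj_le_ncl i.2).trans (uc.trans (centralizer_anti (cj_le_ncl j.2)))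
  have un : S ≤ 𝐍 (ncl V E) := le_normalizer_ncl_of_le h.le SE
  have nj : ¬ 𝐉 S ≤ 𝐂 (ncl V E) := fun k => by
    have n : E ⊔ S ≤ 𝐍 ((E ⊔ S) ⊓ 𝐂 (ncl V E)) := le_normalizer_inf le_normalizer
      (le_normalizer_centralizer (sup_le (le_normalizer_ncl _ _) un))
    have s := (h.syl.mono le_sup_right le_top).inf_of_normal n inf_le_left
    have j := h.syl.thompson_eq s.isP (le_inf (thompsonOf_le _ _) (le_inf ((thompsonOf_le _ _).trans le_sup_right) k))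
      le_top
    refine e3 (mx E e1 (le_sup_left.trans ((s.frattini inf_le_left n).ge.trans (sup_le (inf_le_right.trans
      ((centralizer_anti (le_ncl _ _)).trans (centralizer_le_normalizer _))) (inf_le_right.trans ?_)))) e2)
    exact (j ▸ normalizer_le_normalizer_thompsonOf 2 _).trans h.nJ
  obtain ⟨A0, a0, a1⟩ : ∃ A ∈ MaxEA 2 S, ¬ A ≤ 𝐂 (ncl V E) := by
    by_contra k
    push Not at k
    exact nj (thompsonOf_le_iff.2 k)
  obtain ⟨A, a, -, q, a2⟩ := MaxEA.exists_quadratic a0 h.syl.isP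
    (h.syl.le_of_le_normalizer (elemAb_isPGroup ue) le_top un) ue ((MaxEA.le a0).trans un) a1
  have aG := MaxEA.of_isSyl h.syl a
  have al := MaxEA.le a
  have AM := al.trans h.le
  have AH := al.trans sH.le
  have n0 : E ≤ 𝐍 (E ⊓ 𝐍 V) := le_normalizer_of_commutator_le'
    (le_inf (commutator_le_of_le_normalizer le_normalizer) (e4.trans n2)) inf_le_left
  have key : ∀ η : G, ∀ t ∈ A, ⁅η, t⁆ ∈ 𝐍 V ↔ η * t * η⁻¹ ∈ 𝐍 V := fun η t ht =>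
    mul_mem_cancel_right (inv_mem (AM ht))
  have cE : ∀ η ∈ E, ∀ t ∈ A, ⁅η, t⁆ ∈ E := fun η hη t ht =>
    commutator_le_of_le_normalizer (al.trans SE) (commutator_mem_commutator hη ht)
  obtain ⟨A1, b1, -, b2, η, hη, b3, b4⟩ := dl (N := N) (Y := N ⊔ (E ⊓ commStab (A : Set G) (E ⊓ 𝐍 V)))
    (AH.trans n3) (e1.trans n3) (al.trans SE) (fun x hx => by rw [← pow_two, MaxEA.pow_eq a hx]; exact one_mem _) e5
    le_sup_left fun k => a2 (le_centralizer_iff.1 (ncl_le_iff.2 fun g hg => by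
      obtain ⟨n, hn, c, hc, e⟩ := (mem_sup_of_le_normalizer' (inf_le_left.trans (e1.trans n3))).1 (k (inv_mem hg))
      rw [le_centralizer_iff, ← cj_centralizer, le_cj_iff, ← e]
      refine h.cenV (mx_cj aG _) ?_
      rw [H26.cj_mul]
      refine cj_le_of_mem ?_ (n2 hn)
      rintro _ ⟨t, ht, rfl⟩
      exact (key c t ht).1 (hc.2.2 t ht).2))
  refine ⟨cj η A, ⟨mx_cj aG η, fun k => b3 (mem_sup_right ⟨hη, n0 hη, fun t ht =>
    ⟨cE η hη t ht, (key η t ht).2 (k (conj_mem_cj η ht))⟩⟩), ?_, ?_⟩, cj_le_of_mem AH (e1 hη)⟩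
  · rintro _ ⟨x, hx, rfl⟩ _ ⟨y, hy, rfl⟩ nx ny
    have k : ∀ t ∈ A1, MulAut.conj η t ∈ 𝐍 V := fun t ht => (key η t (b1 ht)).1 (n2 (b4 t ht))
    rw [← map_mul]
    exact k _ (b2 x hx y hy (fun e => nx (k x e)) fun e => ny (k y e))
  · have := cj_mono η (le_centralizer_iff.1 (commutator_eq_bot_iff'.1 q))
    rw [cj_commutator, cj_eq_of_mem_normalizer (le_normalizer_ncl _ _ hη), cj_centralizer] at this
    exact (commutator_mono (le_ncl _ _) inf_le_left).trans this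

variable (hB : Bq V B)
include hB

theorem key2 (f1 : F ≤ 𝐍 V) (f2 : 𝐍 V ≤ 𝐍 F) (f3 : OddM F (𝐂 V)) (hv : v ∈ oz (S ⊓ 𝐂 V) ⊓ 𝐂 B) (v1 : v ≠ 1)
    (hx : x ∈ F) (xv : x ∈ 𝐂 (zpowers v)) (ht : t ∈ 𝐍 V) (tc : t ∈ 𝐂 (oz (S ⊓ 𝐂 V) ⊓ 𝐂 B)) : ⁅x, t⁆ ∈ 𝐂 V := by
  obtain ⟨w1, w2⟩ := fr_W h.toFr h.isP
  have we := elemAb_oz (S ⊓ 𝐂 V)
  have vW := zpowers_le.2 hv
  have hX := fr_charP_c h.toFr ((elemAb_isPGroup we).to_le (vW.trans inf_le_left)) (zpowers_ne_bot' v1)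
  have RX := (le_c_oz _).trans (centralizer_anti (vW.trans inf_le_left))
  have tX := centralizer_anti vW tc
  have BX := le_centralizer_iff.1 (vW.trans inf_le_right)
  generalize 𝐂 (zpowers v) = X at *
  obtain ⟨T, hT, e⟩ := exists_isSyl_ge h.Rp RX
  have y0 : oz (S ⊓ 𝐂 V) ⊓ 𝐂 T ≤ oz T :=
    le_oz (elemAb_mono we inf_le_left) (inf_le_left.trans ((oz_le _).trans e)) inf_le_right
  have n : X ≤ 𝐍 (ncl (oz (S ⊓ 𝐂 V) ⊓ 𝐂 T) (X ⊓ 𝐍 V)) := (h.fac hX hT e).trans (sup_le (le_normalizer_ncl _ _)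
    (le_normalizer_of_le_centralizer (inf_le_right.trans (centralizer_anti (ncl_le (y0.trans (zc1 hT).1)
    (inf_le_left.trans (zc1 hT).2))))))
  have l : ncl (oz (S ⊓ 𝐂 V) ⊓ 𝐂 T) (X ⊓ 𝐍 V) ≤ oz (S ⊓ 𝐂 V) := ncl_le inf_le_left (inf_le_right.trans w2)
  have l0 := le_ncl (oz (S ⊓ 𝐂 V) ⊓ 𝐂 T) (X ⊓ 𝐍 V)
  generalize ncl (oz (S ⊓ 𝐂 V) ⊓ 𝐂 T) (X ⊓ 𝐍 V) = Y at *
  have c := h.cenB hB.mx RX BX n ((le_c_oz _).trans (centralizer_anti l))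
  refine centralizer_anti h.VW (cop (K := F ⊓ X ⊓ 𝐂 Y) we (hT.mono (le_inf hT.le (h.TM hT.isP e)) inf_le_left)
    (inf_le_right.trans w2) (inf_le_left.trans (le_inf inf_le_right (inf_le_left.trans f1)))
    (le_normalizer_inf (le_normalizer_inf (inf_le_right.trans f2) (inf_le_left.trans le_normalizer))
    (inf_le_left.trans (le_normalizer_centralizer n))) (f3.mono (inf_le_left.trans inf_le_left) w1)
    (l0.trans (le_centralizer_iff.1 inf_le_right)) ⟨⟨?_, ?_⟩, ?_⟩)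
  · exact commutator_le_of_le_normalizer f2 (commutator_mem_commutator hx ht)
  · exact commutator_le_of_le_normalizer le_normalizer (commutator_mem_commutator xv tX)
  · exact commutator_le_of_le_normalizer' (le_normalizer_centralizer n) (commutator_mem_commutator xv
      (centralizer_anti (le_inf l (le_centralizer_iff.1 c)) tc))

theorem key3 (f1 : F ≤ 𝐍 V) (f2 : 𝐍 V ≤ 𝐍 F) (f3 : OddM F (𝐂 V)) (ht : t ∈ 𝐍 V)
    (tc : t ∈ 𝐂 (oz (S ⊓ 𝐂 V) ⊓ 𝐂 B)) (t2 : t * t ∈ 𝐂 V) (hη : η ∈ F) (n : ⁅η, t⁆ ∉ 𝐂 V) :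
    oz (S ⊓ 𝐂 V) ⊓ 𝐂 B ⊓ cj η (𝐂 (zpowers t)) = ⊥ := by
  refine (eq_bot_iff_forall _).2 fun v hv => by_contra fun v1 => n ?_
  have xF := commutator_le_of_le_normalizer f2 (commutator_mem_commutator hη ht)
  have nC := normalizer_le_normalizer_centralizer V
  have m : η * t * η⁻¹ ∈ 𝐂 (zpowers v) := by
    have := hv.2
    rw [cj_centralizer, cj_zpowers] at this
    exact zpowers_le.1 (le_centralizer_iff.1 (zpowers_le.2 this))
  have k := h.key2 hB f1 f2 f3 hv.1 v1 xF (mul_mem m (inv_mem (centralizer_anti (zpowers_le.2 hv.1) tc))) ht tc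
  refine f3.sq (f1.trans nC) xF ?_
  rw [show ⁅η, t⁆ * ⁅η, t⁆ = ⁅η, t⁆ * (η * (t * t) * η⁻¹ * (t * t)⁻¹) * ⁅η, t⁆⁻¹ * ⁅⁅η, t⁆, t⁆ by
    simp only [commutatorElement_def]; group]
  exact mul_mem (conj_mem_of_mem_normalizer (nC (f1 xF)) (mul_mem (conj_mem_of_mem_normalizer (nC (f1 hη)) t2)
    (inv_mem t2))) k

theorem bound (ht : t ∈ 𝐍 V) (tc : t ∈ 𝐂 (oz (S ⊓ 𝐂 V) ⊓ 𝐂 B)) (t2 : t * t ∈ 𝐂 V) (n : t ∉ 𝐂 V)
    (h1 : U ≤ oz (S ⊓ 𝐂 V)) (h2 : 𝐍 V ≤ 𝐍 U) : Nat.card ↥(U ⊓ 𝐂 B) ≤ (𝐂 (zpowers t)).relIndex U := by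
  obtain ⟨F, f1, f2, f3, -, f5⟩ := fr_odd h.toFr h.isP
  obtain ⟨η, hη, k⟩ := f5 t ht t2 n
  have := card_le_relIndex (inf_le_left : U ⊓ 𝐂 B ≤ U) (le_bot_iff.1 ((inf_le_inf_right _
    (inf_le_inf_right _ h1)).trans (h.key3 hB f1 f2 f3 ht tc t2 hη k).le))
  rwa [← cj_eq_of_mem_normalizer (h2 (f1 hη)), relIndex_cj, cj_eq_of_mem_normalizer (h2 (f1 hη))] at this

theorem lemQ (h1 : A ≤ 𝐍 V) (h2 : A ≤ 𝐂 (oz (S ⊓ 𝐂 V) ⊓ 𝐂 B)) (h3 : ∀ a ∈ A, a * a ∈ 𝐂 V) (h4 : ⁅V, A⁆ ≤ 𝐂 B) :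
    Ix2 (𝐂 V) A := by
  by_cases e : A ≤ 𝐂 V
  · exact fun a ha _ _ k => (k (e ha)).elim
  obtain ⟨F, f1, f2, f3, f4, -⟩ := fr_odd h.toFr h.isP
  have nC := normalizer_le_normalizer_centralizer V
  obtain ⟨A1, b1, b0, b2, η, hη, b3, b4⟩ := dl (Y := commStab (A : Set G) (𝐂 V)) (h1.trans nC) (f1.trans nC)
    (h1.trans f2) h3 f3 (le_commStab_iff.2 ⟨le_normalizer, commutator_le_of_le_normalizer (h1.trans nC)⟩)
    fun k => e (f4 A h1 h3 (le_commStab_iff.1 k).2)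
  obtain ⟨t, ht, n⟩ : ∃ t ∈ A, ⁅η, t⁆ ∉ 𝐂 V := by
    by_contra k
    push Not at k
    exact b3 ⟨nC (f1 hη), k⟩
  have k := h.key3 hB f1 f2 f3 (h1 ht) (h2 ht) (h3 t ht) hη n
  have I : ∀ v ∈ V, ∀ s ∈ A, ⁅v, s⁆ ∈ oz (S ⊓ 𝐂 V) ⊓ 𝐂 B := fun v hv s hs => ⟨h.VW (commutator_le_of_le_normalizer h1
    (commutator_mem_commutator hv hs)), h4 (commutator_mem_commutator hv hs)⟩
  have c : A1 ≤ 𝐂 V := fun s hs v hv => by
    refine commutatorElement_eq_one_iff_mul_comm.1 ((eq_bot_iff_forall _).1 k _ ⟨I v hv s (b1 hs), mem_cj.2 ?_⟩)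
    have m := conj_mem_of_mem_normalizer' (f1 hη) hv
    have c := conj_mem_of_mem_normalizer' (nC (mul_mem (f1 hη) (h1 (b1 hs)))) (inv_mem (b4 s hs)) _ (inv_mem m)
    have e : η⁻¹ * ⁅v, s⁆ * η = ⁅η⁻¹ * v * η, s⁆ := by
      calc _ = η⁻¹ * v * η * s * ((η * s)⁻¹ * ⁅η, s⁆⁻¹ * (η * s) * (η⁻¹ * v * η)⁻¹) *
            ((η * s)⁻¹ * ⁅η, s⁆⁻¹ * (η * s))⁻¹ * s⁻¹ := by simp only [commutatorElement_def]; group
        _ = _ := by rw [← c]; simp only [commutatorElement_def]; group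
    rw [e]
    exact centralizer_anti (zpowers_le.2 ht) (le_centralizer_iff.1 h2 (I _ m s (b1 hs)))
  exact fun a ha b hb na nb => c (b2 a ha b hb (fun k => na (c k)) fun k => nb (c k))

theorem idx (h1 : U ≤ oz (S ⊓ 𝐂 V)) : (𝐂 B).relIndex U ≤ (𝐂 V).relIndex B := by
  have c : B ⊓ 𝐂 V ≤ 𝐂 U := inf_le_right.trans ((fr_W h.toFr h.isP).1.trans (centralizer_anti h1))
  have k1 := MaxEA.card_le hB.mx le_top (elemAb_sup (elemAb_mono (MaxEA.elemAb hB.mx) inf_le_left) (elemAb_mono (elemAb_oz _) h1) c)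
  have k2 := card_sup_mul_card_inf (le_normalizer_of_le_centralizer c)
  have k3 := card_mul_relIndex (𝐂 V) B
  have k4 := card_mul_relIndex (𝐂 B) U
  have k5 := card_le_of_le (le_inf (inf_le_left.trans (inf_le_left.trans (elemAb_le_centralizer (MaxEA.elemAb hB.mx))))
    inf_le_right : B ⊓ 𝐂 V ⊓ U ≤ 𝐂 B ⊓ U)
  rw [inf_comm] at k3
  have k6 := Nat.mul_le_mul k1 k5
  rw [k2, ← k3, ← k4, mul_comm (Nat.card ↥(𝐂 B ⊓ U)), mul_assoc] at k6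
  exact Nat.le_of_mul_le_mul_right (Nat.le_of_mul_le_mul_left k6 (card_pos' _)) (card_pos' _)

theorem notc (h0 : Y ≠ ⊥) (h1 : Y ≤ oz (S ⊓ 𝐂 V) ⊓ 𝐂 B) (hT : IsSyl 2 T (𝐂 Y)) (e : S ⊓ 𝐂 V ≤ T) : ¬ T ≤ 𝐂 V :=
  fun k => hB.nM ((le_centralizer_iff.1 (h1.trans inf_le_right)).trans (h.pu (fr_charP_c h.toFr
    ((elemAb_isPGroup (elemAb_oz _)).to_le (h1.trans inf_le_left)) h0) ((fr_sylR h.toFr).eq_of_le hT.isP e k ▸ hT)))

theorem sixteen (fl : FL.{u}) (c : Nat.card V = 16) (w : oz (S ⊓ 𝐂 V) = V) (c4 : Nat.card ↥(V ⊓ 𝐂 B) = 4)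
    (hT : IsSyl 2 T (𝐂 (V ⊓ 𝐂 B))) (e : S ⊓ 𝐂 V ≤ T) (e' : T ≤ S) : False := by
  have TM := e'.trans h.le
  have cm := le_centralizer_iff_isMulCommutative.1 (elemAb_le_centralizer h.ea)
  have IC : ∀ t ∈ T, V ⊓ 𝐂 B ≤ V ⊓ 𝐂 (zpowers t) := fun t ht =>
    le_inf inf_le_left (le_centralizer_iff.1 (zpowers_le.2 (hT.le ht)))
  have i1 : ∀ t ∈ T, t * t ∈ 𝐂 V → t ∉ 𝐂 V → V ⊓ 𝐂 (zpowers t) = V ⊓ 𝐂 B ∧ ⁅V, zpowers t⁆ = V ⊓ 𝐂 B :=
    fun t ht t2 n => by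
      have k1 := h.bound hB (TM ht) (w.symm ▸ hT.le ht) t2 n w.ge le_rfl
      have k2 := card_mul_relIndex (𝐂 (zpowers t)) V
      have k3 := card_eq_card_centralizer_mul_card_commutator cm (TM ht)
      rw [inf_comm, c] at k2
      have e1 := (eq_of_le_of_card_ge (IC t ht) (by rw [c4] at k1 ⊢; nlinarith)).symm
      rw [e1, c, c4] at k3
      exact ⟨e1, eq_of_le_of_card_ge (e1 ▸ comm_le_c h.ea (TM ht) t2) (by omega)⟩
  have sq : ∀ t ∈ T, t * t ∈ 𝐂 V := fun t ht => by_contra fun n => by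
    obtain ⟨k, hk⟩ := isPGroup_iff_mem.1 hT.isP _ (mul_mem ht ht)
    obtain ⟨j, n1, n2⟩ := exists_pow_sq hk n
    rw [(Commute.refl t).mul_pow] at n1 n2
    have hu := pow_mem ht (2 ^ j)
    generalize t ^ 2 ^ j = u at *
    obtain ⟨a1, a2⟩ := i1 _ (mul_mem hu hu) n2 n1
    have z : zpowers (u * u) ≤ zpowers u := zpowers_le.2 (mul_mem (mem_zpowers u) (mem_zpowers u))
    have e1 : V ⊓ 𝐂 (zpowers u) = V ⊓ 𝐂 B := le_antisymm (a1 ▸ inf_le_inf_left _ (centralizer_anti z)) (IC u hu)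
    have k3 := card_eq_card_centralizer_mul_card_commutator cm (TM hu)
    rw [e1, c, c4] at k3
    have e2 := eq_of_le_of_card_ge (a2 ▸ commutator_mono le_rfl z : V ⊓ 𝐂 B ≤ ⁅V, zpowers u⁆) (by omega)
    exact n1 (pow_two u ▸ quadratic_pow_mem h.ea.2 (zpowers_le.2 (TM hu))
      (commutator_eq_bot_iff'.2 (e2 ▸ zpowers_le.2 (hT.le hu))) (mem_zpowers u))
  have q := h.lemQ hB TM (w.symm ▸ hT.le) sq (commutator_le.2 fun v hv t ht => by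
    by_cases n : t ∈ 𝐂 V
    · rw [commutatorElement_eq_one_iff_mul_comm.2 (n v hv)]; exact one_mem _
    · exact ((i1 t ht (sq t ht) n).2.le (commutator_mem_commutator hv (mem_zpowers t))).2)
  have I0 : V ⊓ 𝐂 B ≠ ⊥ := fun k => by rw [k, card_bot] at c4; omega
  obtain ⟨b, hb, n⟩ := SetLike.not_le_iff_exists.1 (h.notc hB I0 (w.symm ▸ le_rfl) hT e)
  have eT : S ⊓ 𝐂 V ⊔ zpowers b = T := le_antisymm (sup_le e (zpowers_le.2 hb)) fun t ht => by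
    by_cases k : t ∈ 𝐂 V
    · exact mem_sup_left ⟨e' ht, k⟩
    · exact (mul_mem_cancel_right (mem_sup_right (mem_zpowers b))).1
        (mem_sup_left ⟨e' (mul_mem ht hb), q t ht b hb k n⟩)
  obtain ⟨a1, a2⟩ := i1 b hb (sq b hb) n
  exact hB.nM ((le_centralizer_iff.1 inf_le_right).trans (fl G S V _ b h.toFr h.ab c w (e' hb) a1 a2 c4 (eT ▸ hT)
    (eT ▸ (h.JT hT.isP e).trans (h.JT h.Rp le_rfl).symm) fun g k => h.ti g fun k' =>
    k (le_bot_iff.1 (k' ▸ inf_le_inf inf_le_left (cj_mono g inf_le_left)))))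

omit hB in
theorem main (fl : FL.{u}) : Nat.card V = 4 := by
  obtain ⟨B, hB, bH⟩ := h.exB
  obtain ⟨w1, w2⟩ := fr_W h.toFr h.isP
  have ZI : oz S ≤ V ⊓ 𝐂 B := le_inf (fr_oz_le h.toFr) (le_centralizer_iff.1 bH)
  have II : V ⊓ 𝐂 B ≤ oz (S ⊓ 𝐂 V) ⊓ 𝐂 B := inf_le_inf_right _ h.VW
  have Bc := elemAb_le_centralizer (MaxEA.elemAb hB.mx)
  have b2 : ∀ b ∈ B, b * b ∈ 𝐂 V := fun b hb => by rw [← pow_two, MaxEA.pow_eq hB.mx hb]; exact one_mem _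
  have Bc' : B ≤ 𝐂 (oz (S ⊓ 𝐂 V) ⊓ 𝐂 B) := le_centralizer_iff.1 inf_le_right
  obtain ⟨T, hT, e⟩ := exists_isSyl_ge h.Rp ((le_c_oz _).trans (centralizer_anti inf_le_left) :
    _ ≤ 𝐂 (oz (S ⊓ 𝐂 V) ⊓ 𝐂 B))
  obtain ⟨x, hx, n⟩ := SetLike.not_le_iff_exists.1 (h.notc hB (fun k => fr_oz_ne_bot h.toFr
    (le_bot_iff.1 (k ▸ ZI.trans II))) le_rfl hT e)
  obtain ⟨k, hk⟩ := isPGroup_iff_mem.1 hT.isP _ hx
  obtain ⟨j, n1, n2⟩ := exists_pow_sq hk n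
  have ht := pow_mem hx (2 ^ j)
  have k1 := (h.bound hB (h.TM hT.isP e ht) (hT.le ht) n2 n1 le_rfl w2).trans (relIndex_le_of_le_left
    (le_centralizer_iff.1 (zpowers_le.2 (hT.le ht))) (relIndex_pos _ _).ne')
  rw [inf_comm, inf_relIndex_right] at k1
  have k2 := h.idx hB le_rfl
  have k3 := card_mul_relIndex (𝐂 B) (oz (S ⊓ 𝐂 V))
  have k4 := card_le_of_le h.VW
  have k5 := fr_four_le h.toFr h.isP
  have k6 := relIndex_mul_relIndex (𝐂 V ⊓ (B ⊓ 𝐍 V)) (B ⊓ 𝐍 V) B inf_le_right inf_le_left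
  rw [inf_relIndex_right, inf_comm B, inf_relIndex_right, ← inf_assoc, inf_eq_left.2 (centralizer_le_normalizer _),
    inf_relIndex_right, inf_comm] at k6
  have k7 := hB.ix.relIndex_le
  have k8 := (h.lemQ hB inf_le_right (inf_le_left.trans Bc') (fun b hb => b2 b hb.1) hB.q).relIndex_le
  by_contra n4
  have nb : ¬ B ⊓ 𝐍 V ≤ 𝐂 V := fun k => by
    rw [relIndex_eq_one.2 k] at k6
    exact n4 (by nlinarith)
  obtain ⟨b, hb, bn⟩ := SetLike.not_le_iff_exists.1 nb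
  have r4 : (𝐂 V).relIndex B ≤ 4 := by nlinarith
  obtain ⟨i, hi⟩ := h.isP.exists_card_eq
  have i4 : i ≤ 4 := (Nat.pow_le_pow_iff_right one_lt_two).1 (by nlinarith)
  have : Nat.card V = 8 ∨ Nat.card V = 16 := by
    rw [hi] at n4 k5 ⊢
    interval_cases i <;> omega
  rcases this with c | c
  · have l1 := h.bound hB hb.2 (Bc' hb.1) (b2 b hb.1) bn h.VW le_rfl
    have l2 := card_mul_relIndex (𝐂 (zpowers b)) V
    have l3 := card_eq_card_centralizer_mul_card_commutator (le_centralizer_iff_isMulCommutative.1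
      (elemAb_le_centralizer h.ea)) hb.2
    have s1 : ⁅V, zpowers b⁆ ≤ V ⊓ 𝐂 B := le_inf (commutator_le_of_le_normalizer (zpowers_le.2 hb.2))
      ((commutator_mono le_rfl (zpowers_le.2 hb)).trans hB.q)
    have l4 := card_le_of_le s1
    have l5 := card_le_of_le (inf_le_inf_left V (centralizer_anti (zpowers_le.2 hb.1)))
    have l6 := card_le_of_le ZI
    have l7 := (one_lt_card_iff_ne_bot _).2 (fr_oz_ne_bot h.toFr)
    rw [inf_comm, l3] at l2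
    rw [Nat.eq_of_mul_eq_mul_left (card_pos' _) l2] at l1
    rw [c] at l3
    have l8 : Nat.card ↥(V ⊓ 𝐂 B) ≤ 2 := by nlinarith
    exact eight h.toFr h.isP c hb.2 (b2 b hb.1) bn (by omega)
      ((eq_of_le_of_card_ge s1 l1).trans (eq_of_le_of_card_ge ZI (by omega)).symm)
  · have w := (eq_of_le_of_card_ge h.VW (by nlinarith)).symm
    rw [w] at hT k1 k2 k3
    obtain ⟨m, hm, e1⟩ := (fr_sylM h.toFr).exists_cj_le hT.isP (h.TM hT.isP e)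
    have mV := cj_eq_of_mem_normalizer hm
    have e2 : cj m (V ⊓ 𝐂 B) = V ⊓ 𝐂 (cj m B) := by rw [cj_inf, mV, cj_centralizer]
    have e3 : cj m (S ⊓ 𝐂 V) = S ⊓ 𝐂 V := cj_eq_of_mem_normalizer (mem_normalizer_of_cj_le (le_inf
      ((cj_mono m e).trans e1) ((cj_mono m inf_le_right).trans (by rw [cj_centralizer, mV]))))
    refine h.sixteen (hB.cj hm) fl c w (by rw [← e2, card_cj, inf_comm]; nlinarith) ?_ (e3 ▸ cj_mono m e) e1
    rw [← e2, ← cj_centralizer]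
    exact hT.cj m

end D1

end H6.FD

/-- the piece `FD1` of `N4` -/
theorem H6.fd1.{u} : H26.FD1.{u} := fun _ _ _ _ _ h h1 h2 h3 => H6.FD.D1.main ⟨h, h1, h2, h3⟩ H118.fl

end H226
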