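import Cfsg.Agent.H26.T2.H26NA4
import Cfsg.Agent.H26.T2.H16AFP
import Cfsg.Agent.H26.T2.H21ASM
import Cfsg.Agent.H26.T2.H9FB
import Cfsg.Agent.H26.T2.H20FC
import Cfsg.Agent.H26.T2.H6FD1
import Cfsg.Agent.H26.T2.H27FD2c
import Cfsg.Agent.H26.T2.H18FE9
import Cfsg.Agent.H26.T2.H13FF3
import Cfsg.Agent.H26.T2.H27FM4
import Cfsg.Agent.H26.T2.H16FG
import Cfsg.Agent.H26.T2.H18N3
import Cfsg.Agent.H22.U33
import Cfsg.Agent.H17.Dich
import Cfsg.Agent.H2.LyE
import Cfsg.Agent.H2.IdM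
import Cfsg.Agent.H9.Bender
import Cfsg.Agent.S0516
/-! The simple groups all of whose `2`-local subgroups are solvable (`ng2_class`). -/
set_option autoImplicit false
namespace H26
open Cfsg Subgroup H226 H226.H26
open scoped MatrixGroups
universe u

/-- the list of the simple groups with solvable `2`-local subgroups -/
def NL2 (G : Type*) [Group G] : Prop :=
  (∃ (F : Type) (_ : Field F) (_ : Fintype F), 4 ≤ Fintype.card F ∧ Nonempty (G ≃* PSL(2, F))) ∨ H19.IsBender G ∨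
    Nonempty (G ≃* PSL(3, ZMod 3)) ∨
    (∃ (F : Type) (_ : Field F) (_ : Fintype F), Fintype.card F = 9 ∧ Nonempty (G ≃* PSU 3 F 3)) ∨
    Nonempty (G ≃* alternatingGroup (Fin 7)) ∨ Nat.card G = 7920 ∨ (Nat.card G = 17971200 ∧ ¬ PRankLE 2 4 G)

variable {G : Type u} [Group G] [Finite G]

theorem ti_rank {S V : Subgroup G} (h : Ti S V) : ¬ PRankLE 2 4 G := fun k => by
  have f := H118.f4_four h.toF4
  have e : IsElementaryAbelian 2 (fU S V) :=
    elemAb_iSup (fun g : fH S => elemAb_cj (p := 2) ⟨⟨⟨fun a b => Subtype.ext ?_⟩⟩, fun a ha => ?_⟩ (g : G))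
      fun i j => (cj_le_ncl i.2).trans (h.ab.trans (centralizer_anti (cj_le_ncl j.2)))
  · have := k _ e.1 e.2
    rw [h.cardU] at this
    omega
  · exact h.ab (le_ncl _ _ b.2) a (le_ncl _ _ a.2)
  · rw [pow_two]; exact f.2 a ha

theorem NG2.cent (h : NG2 G) {z : G} (hz : orderOf z = 2) : Group.IsSolvable (centralizer ({z} : Set G)) :=
  have := h.two ⟨zpowers z, IsPGroup.of_card (n := 1) (by rw [Nat.card_zpowers, hz]; rfl),
    fun e => by simp [zpowers_eq_bot.1 e] at hz, rfl⟩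
  Group.isSolvable_of_isSolvable_injective (inclusion_injective H18.C1_le_N_zpowers)

theorem ng2_class (h : NG2 G) : NL2 G := by
  have := h.simple
  have se : (∃ H : Subgroup G, IsStronglyEmbedded H) → NL2 G := fun ⟨_, k⟩ => .inr (.inl (H9.isBender_of_se k))
  obtain ⟨S⟩ : Nonempty (Sylow 2 G) := inferInstance
  by_cases r : PRankLE 2 2 G
  · have := Fintype.ofFinite (GaloisField 2 4)
    have hF : Fintype.card (GaloisField 2 4) = 16 := by
      rw [← Nat.card_eq_fintype_card, GaloisField.card 2 4 (by norm_num)]; rfl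
    obtain ⟨P⟩ : Nonempty (Sylow 2 (PSU 3 (GaloisField 2 4) 4)) := inferInstance
    rcases Cfsg.Agent.S0516.result h.nc r S hF P with ⟨n, -, ⟨e⟩⟩ | k | k | k
    · rcases H22.gw_sylow h.nc S e with ⟨F, _, _, -, k, f⟩ | f
      · exact .inl ⟨F, _, _, k, f⟩
      · exact .inr (.inr (.inr (.inr (.inl f))))
    · obtain ⟨k, x, y, q⟩ := H22.exists_qd k
      have := h.cent q.mc.orderOf_u
      obtain ⟨π, c⟩ := H22.cz_sd q (H22.simple_no2 h.nc)
      exact .inr (.inr ((H2.id_sd c).imp_right fun e => .inr (.inr (.inl e))))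
    · obtain ⟨n, X, a, b, z, h'⟩ := H3.wr_of_isW k
      have := h.cent (H9.orderOf_eq_two.2 ⟨h'.uu, h'.u_ne⟩)
      obtain ⟨π, c⟩ := H22.cz_wr h' h.nc
      have : Fact (Nat.Prime 3) := ⟨Nat.prime_three⟩
      let := Fintype.ofFinite (GaloisField 3 2)
      have hK : Fintype.card (GaloisField 3 2) = 9 := by
        rw [← Nat.card_eq_fintype_card, GaloisField.card 3 2 (by decide)]; rfl
      exact .inr (.inr (.inr (.inl ⟨_, _, _, hK, H2.id_wr c hK⟩)))
    · exact se (H2.lyons_se hF S P k)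
  rcases H17.dich_simple (fun t ht => H17.pLay_C1_of_solv (h.cent ht)) r with c | c
  · by_cases k : ∀ M : Subgroup G, IsTwoLocal M → ∃ L : Subgroup G, IsTwoLocal L ∧ (S : Subgroup G) ≤ L ∧ ¬ L ≤ M
    · exact .inr (.inr (.inr (.inr (.inr (.inr (n4_of2 (fa2_of H16.afp (H21.asm anf)) H9.fb H120.fc H6.fd1 H27.fd2
        H118.fe H13.ff H27.fm (P := fun G _ => Nat.card G = 17971200 ∧ ¬ PRankLE 2 4 G)
        (fun G _ _ S V T => ⟨H16.fg2 G S V T, ti_rank T⟩) G h r c S k))))))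
    · push Not at k
      obtain ⟨M, k1, k2⟩ := k
      exact se (H118.n3 G h r c S M k1 k2)
  · exact se c

end H26
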