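import Cfsg.Agent.H13.FF1
import Cfsg.Agent.H26.T2.H18FE2
import Cfsg.Agent.H1.Fitting
/-! `H26.FF`, part 2: the module `U/Z` (`Md`), the situation `b = 3` (`B3`), the affine lemma `aff`, `Sol4`
and the resulting abstract situation `St`. -/
set_option autoImplicit false
namespace H118 end H118 namespace H13 end H13 namespace H13.FFa end H13.FFa namespace H13.FFa.B3 end H13.FFa.B3 namespace H13.FFa.Md end H13.FFa.Md namespace H226 end H226 namespace H26 end H26 namespace H4 end H4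
open H226
namespace H226
namespace H13.FFa
open _root_.H13 _root_.H13.FFa
open Cfsg Subgroup H26 _root_.H26 H4 _root_.H4 H118 _root_.H118
open scoped Pointwise commutatorElement
universe u

variable {G : Type*} [Group G]

/-- `W = U/⟨z⟩` as a faithful module for `Γ = H/C_H(W)` -/
structure Md {Γ W : Type*} [Group Γ] [AddCommGroup W] [DistribMulAction Γ W] (H U : Subgroup G) (z : G)
    (mk : G → W) (ac : G → Γ) : Prop where
  two : ∀ w : W, w + w = 0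
  faith : ∀ γ : Γ, (∀ w : W, γ • w = w) → γ = 1
  mk_mul : ∀ u ∈ U, ∀ v ∈ U, mk (u * v) = mk u + mk v
  mk_zero : ∀ u ∈ U, mk u = 0 ↔ u ∈ zpowers z
  mk_surj : ∀ w, ∃ u ∈ U, mk u = w
  ac_mul : ∀ g ∈ H, ∀ h ∈ H, ac (g * h) = ac g * ac h
  ac_surj : ∀ γ, ∃ h ∈ H, ac h = γ
  smul : ∀ h ∈ H, ∀ u ∈ U, ac h • mk u = mk (h * u * h⁻¹)
  nU : H ≤ 𝐍 U

theorem exists_md {G : Type u} [Group G] [Finite G] {H U : Subgroup G} {z : G} (hU : IsElementaryAbelian 2 U)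
    (nU : H ≤ 𝐍 U) (nz : H ≤ 𝐂 (zpowers z)) :
    ∃ (Γ W : Type u) (_ : Group Γ) (_ : Finite Γ) (_ : AddCommGroup W) (_ : Finite W) (_ : DistribMulAction Γ W)
      (mk : G → W) (ac : G → Γ), Md H U z mk ac := by
  classical
  letI : CommGroup U := { (inferInstance : Group U) with
    mul_comm := fun a b => Subtype.ext (elemAb_le_centralizer hU b.2 a a.2) }
  let Z := (zpowers z).subgroupOf U
  let c : H →* MulAut U := U.normalizerMonoidHom.comp (inclusion nU)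
  have hc : ∀ (h : H) (u : U), (c h u : G) = h * u * h⁻¹ := fun h u => rfl
  have hZ : ∀ h : H, Z ≤ Z.comap (c h).toMonoidHom := fun h u hu => by
    change (c h u : G) ∈ zpowers z
    rw [hc]; exact conj_mem_of_mem_normalizer (centralizer_le_normalizer _ (nz h.2)) hu
  let f : H → (U ⧸ Z →* U ⧸ Z) := fun h => QuotientGroup.map Z Z (c h).toMonoidHom (hZ h)
  have f1 : ∀ w, f 1 w = w := fun w => by
    induction w using QuotientGroup.induction_on with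
    | H u => change ((c 1 u : U) : U ⧸ Z) = u; rw [map_one]; rfl
  have f2 : ∀ g h w, f (g * h) w = f g (f h w) := fun g h w => by
    induction w using QuotientGroup.induction_on with
    | H u => change ((c (g * h) u : U) : U ⧸ Z) = (c g (c h u) : U); rw [map_mul]; rfl
  let ρ : H →* MulAut (U ⧸ Z) := MonoidHom.mk' (fun h =>
    { toFun := f h, invFun := f h⁻¹, map_mul' := map_mul (f h)
      left_inv := fun w => by rw [← f2, inv_mul_cancel, f1]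
      right_inv := fun w => by rw [← f2, mul_inv_cancel, f1] }) fun g h => MulEquiv.ext (f2 g h)
  letI : DistribMulAction ρ.range (Additive (U ⧸ Z)) :=
    { smul := fun γ w => Additive.ofMul (γ.1 w.toMul)
      one_smul := fun _ => rfl
      mul_smul := fun _ _ _ => rfl
      smul_zero := fun γ => map_one γ.1
      smul_add := fun γ v w => map_mul γ.1 v.toMul w.toMul }
  refine ⟨ρ.range, Additive (U ⧸ Z), inferInstance, inferInstance, inferInstance, inferInstance, inferInstance,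
    fun u => if hu : u ∈ U then Additive.ofMul ((⟨u, hu⟩ : U) : U ⧸ Z) else 0,
    fun h => if hh : h ∈ H then ρ.rangeRestrict ⟨h, hh⟩ else 1, fun w => ?_, fun γ e => ?_, fun u hu v hv => ?_,
    fun u hu => ?_, fun w => ?_, fun g hg h hh => ?_, fun γ => ?_, fun h hh u hu => ?_, nU⟩
  · induction w using QuotientGroup.induction_on with
    | H u =>
      change ((u * u : U) : U ⧸ Z) = 1
      rw [show u * u = 1 from Subtype.ext (by simpa [pow_two] using hU.2 u u.2)]; rfl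
  · exact Subtype.ext (MulEquiv.ext e)
  · simp only [dif_pos hu, dif_pos hv, dif_pos (U.mul_mem hu hv)]; rfl
  · simp only [dif_pos hu]; exact QuotientGroup.eq_one_iff (N := Z) _
  · induction w using QuotientGroup.induction_on with
    | H u => exact ⟨u, u.2, by simp only [dif_pos u.2]; rfl⟩
  · simp only [dif_pos hg, dif_pos hh, dif_pos (H.mul_mem hg hh)]
    rw [← map_mul]; congr 1
  · obtain ⟨h, e⟩ := ρ.rangeRestrict_surjective γ
    exact ⟨h, h.2, by simp only [dif_pos h.2]; exact e⟩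
  · simp only [dif_pos hh, dif_pos hu, dif_pos (conj_mem_of_mem_normalizer (nU hh) hu)]; rfl

namespace Md
open _root_.H13.FFa.Md
variable {Γ W : Type*} [Group Γ] [AddCommGroup W] [DistribMulAction Γ W] {H U : Subgroup G} {z : G}
  {mk : G → W} {ac : G → Γ} (m : Md H U z mk ac) {g h u v : G}
include m

/-- the action as a homomorphism -/
def hom : H →* Γ := MonoidHom.mk' (fun h => ac h) fun g h => m.ac_mul g g.2 h h.2

theorem hom_surj : Function.Surjective m.hom := fun γ => let ⟨h, hh, e⟩ := m.ac_surj γ; ⟨⟨h, hh⟩, e⟩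
theorem ac_one : ac 1 = 1 := map_one m.hom
theorem ac_inv (hh : h ∈ H) : ac h⁻¹ = (ac h)⁻¹ := map_inv m.hom ⟨h, hh⟩
theorem ac_pow (hh : h ∈ H) (n : ℕ) : ac (h ^ n) = ac h ^ n := map_pow m.hom ⟨h, hh⟩ n
theorem ac_conj (hg : g ∈ H) (hh : h ∈ H) : ac (g * h * g⁻¹) = ac g * ac h * (ac g)⁻¹ := by
  rw [m.ac_mul _ (mul_mem hg hh) _ (inv_mem hg), m.ac_mul _ hg _ hh, m.ac_inv hg]
theorem mk_one : mk 1 = 0 := (m.mk_zero 1 (one_mem _)).2 (one_mem _)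
theorem mk_inv (hu : u ∈ U) : mk u⁻¹ = -mk u :=
  eq_neg_of_add_eq_zero_left (by rw [← m.mk_mul _ (inv_mem hu) _ hu, inv_mul_cancel, m.mk_one])
theorem mk_eq (hu : u ∈ U) (hv : v ∈ U) : mk u = mk v ↔ u * v⁻¹ ∈ zpowers z := by
  rw [← m.mk_zero _ (mul_mem hu (inv_mem hv)), m.mk_mul _ hu _ (inv_mem hv), m.mk_inv hv, ← sub_eq_add_neg, sub_eq_zero]
theorem cU (hh : h ∈ H) (hu : u ∈ U) : h * u * h⁻¹ ∈ U := conj_mem_of_mem_normalizer (m.nU hh) hu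
theorem comm (hh : h ∈ H) (hu : u ∈ U) : mk ⁅h, u⁆ = ac h • mk u - mk u := by
  rw [commutatorElement_def, m.mk_mul _ (m.cU hh hu) _ (inv_mem hu), m.mk_inv hu, m.smul _ hh _ hu, sub_eq_add_neg]
theorem fix (hh : h ∈ H) (hu : u ∈ U) : ac h • mk u = mk u ↔ ⁅h, u⁆ ∈ zpowers z := by
  rw [m.smul _ hh _ hu, m.mk_eq (m.cU hh hu) hu, commutatorElement_def]
theorem ac_eq_one (hh : h ∈ H) : ac h = 1 ↔ ∀ u ∈ U, ⁅h, u⁆ ∈ zpowers z :=
  ⟨fun e u hu => (m.fix hh hu).1 (by rw [e, one_smul]), fun e => m.faith _ fun w => by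
    obtain ⟨u, hu, rfl⟩ := m.mk_surj w; exact (m.fix hh hu).2 (e u hu)⟩

/-- image of a subgroup of `G` in `W` -/
def im (X : Subgroup G) : AddSubgroup W where
  carrier := {w | ∃ u ∈ U, u ∈ X ∧ mk u = w}
  zero_mem' := ⟨1, one_mem _, one_mem _, m.mk_one⟩
  add_mem' := by
    rintro _ _ ⟨u, a, b, rfl⟩ ⟨v, c, d, rfl⟩; exact ⟨u * v, mul_mem a c, mul_mem b d, m.mk_mul _ a _ c⟩
  neg_mem' := by rintro _ ⟨u, a, b, rfl⟩; exact ⟨u⁻¹, inv_mem a, inv_mem b, m.mk_inv a⟩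

theorem mem_im {X : Subgroup G} (hz : z ∈ X) (hu : u ∈ U) : mk u ∈ m.im X ↔ u ∈ X :=
  ⟨fun ⟨v, a, b, e⟩ => by simpa using mul_mem (zpowers_le.2 hz ((m.mk_eq hu a).1 e.symm)) b, fun e => ⟨u, hu, e, rfl⟩⟩

/-- preimage in `U` of a subgroup of `W` -/
def pre (Y : AddSubgroup W) : Subgroup G where
  carrier := {u | u ∈ U ∧ mk u ∈ Y}
  one_mem' := ⟨one_mem _, m.mk_one ▸ Y.zero_mem⟩
  mul_mem' := fun ⟨a, b⟩ ⟨c, d⟩ => ⟨mul_mem a c, m.mk_mul _ a _ c ▸ Y.add_mem b d⟩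
  inv_mem' := fun ⟨a, b⟩ => ⟨inv_mem a, m.mk_inv a ▸ Y.neg_mem b⟩

/-- preimage in `H` of a subgroup of `Γ` -/
def pg (K : Subgroup Γ) : Subgroup G where
  carrier := {h | h ∈ H ∧ ac h ∈ K}
  one_mem' := ⟨one_mem _, m.ac_one ▸ K.one_mem⟩
  mul_mem' := fun ⟨a, b⟩ ⟨c, d⟩ => ⟨mul_mem a c, m.ac_mul _ a _ c ▸ K.mul_mem b d⟩
  inv_mem' := fun ⟨a, b⟩ => ⟨inv_mem a, m.ac_inv a ▸ K.inv_mem b⟩

theorem card_pre [Finite G] (hz : z ∈ U) (Y : AddSubgroup W) : Nat.card (m.pre Y) = Nat.card Y * orderOf z := by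
  let f : m.pre Y →* Multiplicative Y := MonoidHom.mk' (fun u => Multiplicative.ofAdd ⟨mk u, u.2.2⟩)
    fun u v => Subtype.ext (m.mk_mul _ u.2.1 _ v.2.1)
  have hf : Function.Surjective f := fun w => by
    obtain ⟨u, hu, e⟩ := m.mk_surj w.toAdd.1
    exact ⟨⟨u, hu, e ▸ w.toAdd.2⟩, Subtype.ext e⟩
  have l : zpowers z ≤ m.pre Y := zpowers_le.2 ⟨hz, (m.mk_zero z hz).2 (mem_zpowers z) ▸ Y.zero_mem⟩
  have k : f.ker = (zpowers z).subgroupOf (m.pre Y) := by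
    ext u
    exact ⟨fun e => (m.mk_zero _ u.2.1).1 (congrArg Subtype.val e), fun e => Subtype.ext ((m.mk_zero _ u.2.1).2 e)⟩
  rw [← f.ker.card_mul_index, index_ker, MonoidHom.range_eq_top.2 hf, card_top, k,
    Nat.card_congr (subgroupOfEquivOfLe l).toEquiv, Nat.card_zpowers, mul_comm]
  rfl
end Md

theorem exists_F {Γ W : Type*} [Group Γ] [Finite Γ] [Group.IsSolvable Γ] [AddCommGroup W] [DistribMulAction Γ W]
    (faith : ∀ γ : Γ, (∀ w : W, γ • w = w) → γ = 1) {y : W}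
    (span : ∀ Y : AddSubgroup W, (∀ γ : Γ, γ • y ∈ Y) → ∀ w, w ∈ Y) (h : ∀ x ∈ pCore 2 Γ, x • y = y) :
    ∃ F : Subgroup Γ, F.Normal ∧ Group.IsNilpotent F ∧ (∀ f ∈ F, Odd (orderOf f)) ∧
      ∀ x : Γ, (∀ f ∈ F, x * f = f * x) → x ∈ F := by
  refine ⟨fittingSubgroup Γ, inferInstance, inferInstance, fun f hf => ?_,
    fun x hx => H1.centralizer_fitting_le Γ fun f hf => (hx f hf).symm⟩
  by_contra e
  obtain ⟨x, hx⟩ := exists_prime_orderOf_dvd_card' (G := zpowers f) 2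
    (by rw [Nat.card_zpowers]; exact (Nat.not_odd_iff_even.1 e).two_dvd)
  rw [← orderOf_coe] at hx
  have m := H1.le_pCore_of_le_fitting (isPGroup_zpowers_of_orderOf hx) (zpowers_le.2 (zpowers_le.2 hf x.2))
    (mem_zpowers _)
  have n : (pCore 2 Γ).Normal := normal_of_top_le_normalizer (pCoreOf_top 2 Γ ▸ le_normalizer_pCoreOf 2 ⊤)
  rw [faith x.1 (span (fx W x.1) fun γ => by
    have := h _ (n.conj_mem' _ m γ)
    rwa [mul_smul, mul_smul, inv_smul_eq_iff] at this), orderOf_one] at hx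
  norm_num at hx

theorem sol_ind {Y : Subgroup G} (hs : Group.IsSolvable Y) {P : Subgroup G → Prop} (h0 : P Y)
    (h1 : ∀ N ≤ Y, Y ≤ 𝐍 N → P N → P ⁅N, N⁆) : P ⊥ := by
  obtain ⟨n, hn⟩ := hs
  have : ∀ k, P ((derivedSeries Y k).map Y.subtype) := fun k => by
    induction k with
    | zero => rwa [derivedSeries_zero, map_subtype_top]
    | succ k ih =>
      rw [derivedSeries_succ, map_commutator]
      exact h1 _ (map_subtype_le _) (normal_iff_le_normalizer_map_subtype.1 (derivedSeries_normal _ _)) ih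
  have k := this n
  rwa [hn, Subgroup.map_bot] at k

open Classical in
/-- the commutator pairing with values in `𝔽₂` -/
noncomputable def χ (t u : G) : ZMod 2 := if ⁅t, u⁆ = 1 then 0 else 1

theorem χ_zero {t u : G} : χ t u = 0 ↔ t * u = u * t := by
  rw [← commutatorElement_eq_one_iff_mul_comm, χ]; split_ifs with e <;> simp [e]

theorem χ_congr {t u t' u' : G} (e : t * u = u * t ↔ t' * u' = u' * t') : χ t u = χ t' u' := by
  classical
  unfold χ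
  exact if_congr (by rw [commutatorElement_eq_one_iff_mul_comm, commutatorElement_eq_one_iff_mul_comm, e]) rfl rfl

theorem χ_conj (g t u : G) : χ (g * t * g⁻¹) (g * u * g⁻¹) = χ t u := χ_congr (by
  rw [conj_mul, conj_mul, mul_left_inj, mul_right_inj])

theorem χ_inv_left (t u : G) : χ t⁻¹ u = χ t u := χ_congr Commute.inv_left_iff
theorem χ_inv_right (t u : G) : χ t u⁻¹ = χ t u := χ_congr Commute.inv_right_iff

section
variable [Finite G] {z t t' u v : G} (zz : z * z = 1)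
include zz

omit [Finite G] in
open Classical in
theorem sg_mul {a b : G} (ha : a ∈ zpowers z) (hb : b ∈ zpowers z) :
    (if a * b = 1 then 0 else 1 : ZMod 2) = (if a = 1 then 0 else 1) + (if b = 1 then 0 else 1) := by
  by_cases e : z = 1
  · rcases mem_two zz ha with rfl | rfl <;> rcases mem_two zz hb with rfl | rfl <;> simp [e]
  · rcases mem_two zz ha with rfl | rfl <;> rcases mem_two zz hb with rfl | rfl <;> simp [e, zz]
    decide

omit [Finite G] in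
theorem χ_mul_left (ht : t ∈ 𝐂 (zpowers z)) (h1 : ⁅t, u⁆ ∈ zpowers z) (h2 : ⁅t', u⁆ ∈ zpowers z) :
    χ (t * t') u = χ t u + χ t' u := by
  rw [χ, commutatorElement_mul_left_eq_conj_mul, mem_centralizer_iff'.1 ht _ h2, sg_mul zz h2 h1, add_comm]; rfl

omit [Finite G] in
theorem χ_mul_right (hu : u ∈ 𝐂 (zpowers z)) (h1 : ⁅t, u⁆ ∈ zpowers z) (h2 : ⁅t, v⁆ ∈ zpowers z) :
    χ t (u * v) = χ t u + χ t v := by
  rw [χ, show ⁅t, u * v⁆ = ⁅t, u⁆ * (u * ⁅t, v⁆ * u⁻¹) by simp only [commutatorElement_def]; group,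
    mem_centralizer_iff'.1 hu _ h2, sg_mul zz h1 h2]; rfl
end

section four
variable [Finite G] {W : Subgroup G} (h : Four W) {a b x k v : G}
include h

theorem four_c (ha : a ∈ W) (hb : b ∈ W) (a1 : a ≠ 1) (b1 : b ≠ 1) (ab : a ≠ b) (e : x * a * x⁻¹ = a)
    (e' : x * b * x⁻¹ = b) : x ∈ 𝐂 W := mem_centralizer_iff'.2 fun v hv => by
  rcases four_cases h ha hb a1 b1 ab hv with rfl | rfl | rfl | rfl
  exacts [by simp, e, e', by rw [← conj_mul, e, e']]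

theorem four_fix (ha : a ∈ W) (hb : b ∈ W) (a1 : a ≠ 1) (b1 : b ≠ 1) (ab : a ≠ b) (hx : x ∈ 𝐍 W)
    (e : x * a * x⁻¹ = a) : x * b * x⁻¹ = b ∨ x * b * x⁻¹ = a * b := by
  rcases four_cases h ha hb a1 b1 ab (conj_mem_of_mem_normalizer hx hb) with j | j | j | j
  · exact absurd j (conj_ne_one x b1)
  · exact absurd (by simpa using j.trans e.symm : b = a) ab.symm
  exacts [.inl j, .inr j]

theorem four_sq (ha : a ∈ W) (a1 : a ≠ 1) (hx : x ∈ 𝐍 W) (e : x * a * x⁻¹ = a) : x * x ∈ 𝐂 W := by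
  obtain ⟨b, hb, n⟩ : ∃ b ∈ W, b ∉ zpowers a := SetLike.not_le_iff_exists.1 fun l => by
    have := card_le_of_le l
    rw [h.card, card_two (h.sq a ha) a1] at this; omega
  have b1 : b ≠ 1 := fun k => n (k ▸ one_mem _)
  have ab : a ≠ b := fun k => n (k ▸ mem_zpowers a)
  have k : ∀ c, x * x * c * (x * x)⁻¹ = x * (x * c * x⁻¹) * x⁻¹ := fun c => by group
  refine four_c h ha hb a1 b1 ab (by rw [k, e, e]) ?_
  rcases four_fix h ha hb a1 b1 ab hx e with j | j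
  · rw [k, j, j]
  · rw [k, j, ← conj_mul, e, j, ← mul_assoc, h.sq a ha, one_mul]

theorem four_fpf (hk : k ∈ 𝐍 W) (h3 : k ^ 3 ∈ 𝐂 W) (n : k ∉ 𝐂 W) (hv : v ∈ W) (e : k * v * k⁻¹ = v) : v = 1 :=
  by_contra fun v1 => n (mem_of_pow_mem_coprime (a := 2) (by norm_num) (pow_two k ▸ four_sq h hv v1 hk e) h3)

theorem four_surj (hk : k ∈ 𝐍 W) (h3 : k ^ 3 ∈ 𝐂 W) (n : k ∉ 𝐂 W) (hv : v ∈ W) : ∃ w ∈ W, k * w * k⁻¹ * v = w := by
  have m1 := conj_mem_of_mem_normalizer hk hv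
  have m2 := conj_mem_of_mem_normalizer hk m1
  have e3 : k * (k * (k * v * k⁻¹) * k⁻¹) * k⁻¹ = v := by
    calc _ = k * (k * k) * v * (k * (k * k))⁻¹ := by group
      _ = _ := mem_centralizer_iff'.1 (pow_three k ▸ h3) v hv
  have := four_fpf h hk h3 n (mul_mem (mul_mem m2 hv) m1) (by
    rw [← conj_mul, ← conj_mul, e3, h.le_c m2 _ (mul_mem hv m1), ← mul_assoc])
  exact ⟨_, m1, by rw [eq_inv_of_mul_eq_one_left this, inv_eq_of_mul_eq_one_right (h.sq _ m1)]⟩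

omit [Finite G] in
theorem four_23 (hx : x ∈ 𝐍 W) : x * x ∈ 𝐂 W ∨ x ^ 3 ∈ 𝐂 W := by
  obtain ⟨φ, hφ⟩ := h.exists_hom
  refine ((by decide : ∀ s : Equiv.Perm (Fin 3), s * s = 1 ∨ s ^ 3 = 1) (φ ⟨x, hx⟩)).imp (fun e => ?_) fun e => ?_
  · exact (hφ (⟨x, hx⟩ * ⟨x, hx⟩)).1 (by rw [map_mul, e])
  · exact (hφ (⟨x, hx⟩ ^ 3)).1 (by rw [map_pow, e])
end four

section ge
variable [Finite G] {S V : Subgroup G} {z : G} (h : Ge S V z)
include h

theorem z_mem {D : Subgroup G} (h1 : D ≤ S) (h2 : S ≤ 𝐍 D) (h3 : D ≠ ⊥) : z ∈ D := by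
  obtain ⟨x, ⟨a, b⟩, x1⟩ := (bot_or_exists_ne_one _).resolve_left (inf_omegaOne_center_ne_bot h.syl.isP h1 h2 h3)
  exact (mem_two h.zz (h.zeq ▸ b)).resolve_left x1 ▸ a

theorem z_mem' {B X : Subgroup G} (hX : S ≤ X) (h1 : B ≤ X) (h2 : X ≤ 𝐍 B) {c : G} (hc : c ∈ B) (c1 : c ≠ 1)
    (cc : c * c = 1) : z ∈ B :=
  (z_mem h inf_le_left (le_normalizer_inf le_normalizer (hX.trans h2))
    (((h.syl.mono hX le_top).inf_of_normal h2 h1).ne_bot
      (orderOf_eq_prime (by rw [pow_two, cc]) c1 ▸ orderOf_dvd_card_of_mem hc))).2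

theorem exists_three {N : Subgroup G} (hN : N ≤ 𝐍 V) (nN : 𝐍 V ≤ 𝐍 N) {q : G} (hq : q ∈ N) (qz : q ∈ 𝐂 (zpowers z))
    (qV : q ∉ 𝐂 V) : ∃ k ∈ N, k ^ 3 ∈ 𝐂 V ∧ k ∉ 𝐂 V := by
  obtain ⟨y, hy, n⟩ : ∃ b ∈ V, b ∉ zpowers z := SetLike.not_le_iff_exists.1 fun l => by
    have := card_le_of_le l
    rw [h.card, card_two h.zz h.z1] at this; omega
  have y1 : y ≠ 1 := fun k => n (k ▸ one_mem _)
  have zy : z ≠ y := fun k => n (k ▸ mem_zpowers z)
  obtain ⟨g, hg, e⟩ := h.trans_V hy y1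
  have m' := conj_mem_of_mem_normalizer (nN hg) hq
  have e1 := conj_eq_of_mem_c qz
  have e2 : g * q * g⁻¹ * y * (g * q * g⁻¹)⁻¹ = y := by
    calc _ = g * (q * z * q⁻¹) * g⁻¹ := by rw [← e]; group
      _ = _ := by rw [e1, e]
  have n2 : g * q * g⁻¹ ∉ 𝐂 V := fun k => qV (by
    simpa [mul_assoc] using conj_mem_of_mem_normalizer' (normalizer_le_normalizer_centralizer V hg) k)
  have n3 : q * (g * q * g⁻¹) ∉ 𝐂 V := fun k => qV (four_c h.four h.zV hy h.z1 y1 zy e1 (by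
    have := mem_centralizer_iff'.1 k y hy
    rwa [show ∀ x, q * x * y * (q * x)⁻¹ = q * (x * y * x⁻¹) * q⁻¹ from fun x => by group, e2] at this))
  exact ⟨_, mul_mem hq m', (four_23 h.four (hN (mul_mem hq m'))).resolve_left fun k => n3
    (h.four.two (hN hq) (hN m') (four_sq h.four h.zV h.z1 (hN hq) e1) (four_sq h.four hy y1 (hN m') e2) k qV n2), n3⟩

theorem aff {N : Subgroup G} (hN : N ≤ 𝐍 V) (nN : 𝐍 V ≤ 𝐍 N) {q : G} (hq : q ∈ N) (qz : q ∈ 𝐂 (zpowers z))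
    (qV : q ∉ 𝐂 V) {c : G} (cV : c ∈ 𝐂 V) (cc : c * c = 1) (c1 : c ∉ V) (hc : ∀ n ∈ N, ⁅n, c⁆ ∈ V) {v : G}
    (hv : v ∈ V) : ∃ r ∈ N, r ∈ 𝐂 V ∧ r ∈ S ∧ ⁅r, c⁆ = v := by
  obtain ⟨k, hk, k3, kV⟩ := exists_three h hN nN hq qz qV
  have nC := normalizer_le_normalizer_centralizer V
  have cw : ∀ r ∈ 𝐂 V, ∀ w ∈ V, ⁅r, c⁆ ∈ V → ⁅r, w * c⁆ = ⁅r, c⁆ := fun r hr w hw m => by
    calc _ = (r * w * r⁻¹) * ⁅r, c⁆ * w⁻¹ := by simp only [commutatorElement_def]; group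
      _ = _ := by rw [mem_centralizer_iff'.1 hr w hw, mem_centralizer_iff'.1 (h.four.le_c hw) _ m]
  let τ : ↥(N ⊓ 𝐂 V) →* G := MonoidHom.mk' (fun r => ⁅r.1, c⁆) fun r s => by
    rw [Subgroup.coe_mul, commutatorElement_mul_left_eq_conj_mul, mem_centralizer_iff'.1 r.2.2 _ (hc _ s.2.1),
      h.four.le_c (hc _ r.2.1) _ (hc _ s.2.1)]
  have l : τ.range ≤ V := by rintro _ ⟨r, rfl⟩; exact hc _ r.2.1
  have hv' : v ∈ τ.range := by
    by_cases e : τ.range = ⊥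
    · exfalso
      obtain ⟨w, hw, ew⟩ := four_surj h.four (hN hk) k3 kV (hc k hk)
      have kc : k ∈ centralizer {w * c} := mem_centralizer_singleton_iff.2 (by
        calc _ = k * w * k⁻¹ * ⁅k, c⁆ * c * k := by simp only [commutatorElement_def]; group
          _ = _ := by rw [ew])
      have m0 : w * c ∈ 𝐂 N := fun n hn => by
        obtain ⟨a, ha, b, hb, e1⟩ := (mem_sup_of_le_normalizer (zpowers_le.2 (nC (hN hk)))).1
          (h.four.mem_sup_three (hN hk) (hN (conj_mem_of_mem_normalizer' (le_normalizer hn) hk)) k3 kV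
            (by have := conj_mem_of_mem_normalizer (nC (hN (inv_mem hn))) k3
                rwa [← conj_pow, inv_inv] at this) (mem_zpowers k))
        have bN : b ∈ N := by
          have := mul_mem (inv_mem (zpowers_le.2 hk ha)) (conj_mem_of_mem_normalizer' (le_normalizer hn) hk)
          rwa [← e1, inv_mul_cancel_left] at this
        have bc : b ∈ centralizer {w * c} := mem_centralizer_singleton_iff.2 (commutatorElement_eq_one_iff_mul_comm.1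
          ((cw b hb w hw (hc b bN)).trans (mem_bot.1 (e ▸ (⟨⟨b, bN, hb⟩, rfl⟩ : _ ∈ τ.range)))))
        have e2 := mem_centralizer_singleton_iff.1 (e1 ▸ mul_mem (zpowers_le.2 kc ha) bc)
        have m1 : ⁅n, w * c⁆ ∈ V := by
          rw [show ⁅n, w * c⁆ = n * w * n⁻¹ * ⁅n, c⁆ * w⁻¹ by simp only [commutatorElement_def]; group]
          exact mul_mem (mul_mem (conj_mem_of_mem_normalizer (hN hn) hw) (hc n hn)) (inv_mem hw)
        refine commutatorElement_eq_one_iff_mul_comm.1 (four_fpf h.four (hN hk) k3 kV m1 ?_)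
        calc _ = n * (n⁻¹ * k * n * (w * c)) * n⁻¹ * (k * (w * c))⁻¹ := by simp only [commutatorElement_def]; group
          _ = _ := by rw [e2, mem_centralizer_singleton_iff.1 kc]; simp only [commutatorElement_def]; group
      have := z_mem' h h.le (inf_le_left : 𝐍 V ⊓ 𝐂 N ≤ _) (le_normalizer_inf le_normalizer (le_normalizer_centralizer nN))
        ⟨mul_mem (le_normalizer hw) (centralizer_le_normalizer _ cV), m0⟩
        (fun e => c1 (by simpa [eq_inv_of_mul_eq_one_right e] using hw))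
        (by rw [mul_assoc, ← mul_assoc c, ← cV w hw, mul_assoc, cc, mul_one, h.four.sq w hw])
      exact h.z1 (four_fpf h.four (hN hk) k3 kV h.zV (by rw [this.2 k hk, mul_inv_cancel_right]))
    obtain ⟨_, ⟨r, rfl⟩, r1⟩ := (bot_or_exists_ne_one _).resolve_left e
    have m2 : k * τ r * k⁻¹ ∈ τ.range := ⟨⟨k * r * k⁻¹, N.mul_mem (N.mul_mem hk r.2.1) (N.inv_mem hk),
      conj_mem_of_mem_normalizer (nC (hN hk)) r.2.2⟩, by
        change ⁅k * r.1 * k⁻¹, c⁆ = k * ⁅r.1, c⁆ * k⁻¹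
        rw [← cw r r.2.2 _ (hc _ (inv_mem hk)) (hc _ r.2.1)]; simp only [commutatorElement_def]; group⟩
    rcases four_cases h.four (l ⟨r, rfl⟩) (l m2) r1 (conj_ne_one k r1)
      (fun e => r1 (four_fpf h.four (hN hk) k3 kV (l ⟨r, rfl⟩) e.symm)) hv with rfl | rfl | rfl | rfl
    exacts [one_mem _, ⟨r, rfl⟩, m2, mul_mem ⟨r, rfl⟩ m2]
  have s1 := (((h.syl.mono h.le le_top).inf_of_normal (le_normalizer_inf nN nC) (inf_le_left.trans hN)).subgroupOf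
    le_rfl).map τ
  rw [subgroupOf_self, ← MonoidHom.range_eq_map] at s1
  obtain ⟨r, hr, e⟩ : v ∈ map τ _ := (s1.eq_of_isPGroup (h.four.isP.to_le l)).symm ▸ hv'
  exact ⟨r, r.2.1, r.2.2, hr.1, e⟩
end ge

/-- the case `b = 3` -/
structure B3 (S V : Subgroup G) (z y : G) : Prop extends Ge S V z where
  yV : y ∈ V
  y1 : y ≠ 1
  yz : y ≠ z
  nc : ¬ Up V y ≤ 𝐂 (Up V z)

/-- properties of the Fitting subgroup -/
structure Fi {Γ : Type*} [Group Γ] (F : Subgroup Γ) : Prop where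
  nor : F.Normal
  nil : Group.IsNilpotent F
  odd : ∀ f ∈ F, Odd (orderOf f)
  cen : ∀ x : Γ, (∀ f ∈ F, x * f = f * x) → x ∈ F

namespace B3
open _root_.H13.FFa.B3
variable [Finite G] {S V : Subgroup G} {z y : G} (h : B3 S V z y) {p g q x a b t u i : G}
include h

omit h [Finite G] in
theorem colp (hp : p ∈ V) (p1 : p ≠ 1) : Col V p p := ⟨p1, p1, V, Ln.self V, hp, hp⟩
theorem coly : Col V y y := colp h.yV h.y1
theorem yy : y * y = 1 := h.four.sq y h.yV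
theorem memV {v : G} (hv : v ∈ V) : v = 1 ∨ v = z ∨ v = y ∨ v = z * y :=
  four_cases h.four h.zV h.yV h.z1 h.y1 h.yz.symm hv
omit h [Finite G] in
theorem VU (hp : p ∈ V) : V ≤ Up V p := (Ln.self V).le_Up hp
omit h [Finite G] in
theorem CV (hp : p ∈ V) : 𝐂 V ≤ 𝐂 (zpowers p) := centralizer_anti (zpowers_le.2 hp)
omit h [Finite G] in
theorem CVn (hp : p ∈ V) : 𝐂 V ≤ 𝐍 (Up V p) := (CV hp).trans (c_le_n_Up V p)
theorem UC (hp : p ∈ V) (p1 : p ≠ 1) : Up V p ≤ 𝐂 V := (h.Up_ab (colp hp p1)).trans (centralizer_anti (VU hp))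
theorem AH : Up V y ≤ 𝐂 (zpowers z) := (h.UC h.yV h.y1).trans (CV h.zV)
theorem UH : Up V z ≤ 𝐂 (zpowers z) := h.Up_le_c h.colz
theorem UT : Up V z ≤ Tp V z := (h.Up_ab h.colz).trans (Ge.c_le_Tp h.colz)
theorem zy1 : z * y ≠ 1 := fun e => h.yz (mul_left_cancel (e.trans h.zz.symm))
theorem fixy (h1 : x ∈ 𝐂 (zpowers z)) (h2 : x ∈ 𝐍 V) : x * y * x⁻¹ = y ∨ x * y * x⁻¹ = z * y :=
  four_fix h.four h.zV h.yV h.z1 h.y1 h.yz.symm h2 (conj_eq_of_mem_c h1)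
theorem memC (h1 : x ∈ 𝐂 (zpowers z)) (h2 : x * y * x⁻¹ = y) : x ∈ 𝐂 V :=
  four_c h.four h.zV h.yV h.z1 h.y1 h.yz.symm (conj_eq_of_mem_c h1) h2
theorem movy (h1 : x ∈ 𝐂 (zpowers z)) (h2 : x ∈ 𝐍 V) (h3 : x ∉ 𝐂 V) : x * y * x⁻¹ = z * y :=
  (h.fixy h1 h2).resolve_left fun e => h3 (h.memC h1 e)

theorem swap : ∃ σ ∈ 𝐍 V, σ * z * σ⁻¹ = y ∧ σ * y * σ⁻¹ = z := by
  have m := mul_mem h.zV h.yV
  obtain ⟨g, hg, e⟩ := h.trans_V m h.zy1
  obtain ⟨s, hs, hs'⟩ := SetLike.not_le_iff_exists.1 h.not_S_le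
  have m1 : g * s * g⁻¹ ∈ 𝐍 V := mul_mem (mul_mem hg (h.le hs)) (inv_mem hg)
  have e1 : g * s * g⁻¹ * (z * y) * (g * s * g⁻¹)⁻¹ = z * y := by
    calc _ = g * (s * z * s⁻¹) * g⁻¹ := by rw [← e]; group
      _ = _ := by rw [conj_eq_of_mem_c (h.S_le hs), e]
  have n : z * y ≠ z := fun k => h.y1 (by simpa using k)
  have c : z * y * z = y := by rw [mul_assoc, h.four.le_c h.zV y h.yV, ← mul_assoc, h.zz, one_mul]
  have e2 := (four_fix h.four m h.zV h.zy1 h.z1 n m1 e1).resolve_left fun k => hs' (by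
    simpa [mul_assoc] using conj_mem_of_mem_normalizer' (normalizer_le_normalizer_centralizer V hg)
      (four_c h.four m h.zV h.zy1 h.z1 n e1 k))
  rw [c] at e2
  refine ⟨_, m1, e2, ?_⟩
  conv_lhs => rw [← c, ← conj_mul, e1, e2]
  rw [mul_assoc, h.yy, mul_one]

theorem nT : ¬ Up V y ≤ Tp V z := fun e => by
  obtain ⟨σ, -, e1, e2⟩ := h.swap
  have := cj_mono σ e
  rw [cj_Up, cj_Tp, e1, e2] at this
  exact h.nc (h.Up_comm e this)

theorem QS : pCoreOf 2 (𝐂 (zpowers z)) ≤ S := (h.syl.mono h.S_le le_top).pCoreOf_le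

theorem QT : pCoreOf 2 (𝐂 (zpowers z)) ≤ Tp V z := h.le_Tp_of h.z1 (pCoreOf_le _ _) fun l hl hz => by
  obtain ⟨g, rfl, e⟩ := h.trans hl hz h.z1
  rw [← cj_normalizer, ← cj_eq_of_mem_normalizer (le_normalizer_pCoreOf 2 _ (mem_c_of_conj_eq e))]
  exact cj_mono g (h.QS.trans h.le)

theorem US : Up V z ≤ S := (le_pCoreOf (h.Up_isP h.colz) h.UH (c_le_n_Up V z)).trans h.QS
theorem solH : Group.IsSolvable (𝐂 (zpowers z)) := H18.Solv.of_le
  (fr_sol h.toFr (h.four.isP.to_le (zpowers_le.2 h.zV)) (by simpa using h.z1)) (centralizer_le_normalizer _)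
theorem charH : CharPOf 2 (𝐂 (zpowers z)) :=
  fr_charP_c h.toFr (h.four.isP.to_le (zpowers_le.2 h.zV)) (by simpa using h.z1)
theorem commI (ha : a ∈ Up V y) (hu : u ∈ Up V z) : ⁅a, u⁆ ∈ Up V z ⊓ Up V y :=
  commutator_le_inf_of_le_normalizer ((h.UC h.zV h.z1).trans (CVn h.yV)) ((h.UC h.yV h.y1).trans (CVn h.zV))
    (by rw [commutator_comm]; exact commutator_mem_commutator ha hu)
theorem VI : V ≤ Up V z ⊓ Up V y := le_inf (VU h.zV) (VU h.yV)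
theorem TI (ht : t ∈ Tp V z) (hi : i ∈ Up V z ⊓ Up V y) : t * i * t⁻¹ ∈ Up V z ⊓ Up V y := by
  simpa [commutatorElement_def] using mul_mem (h.VI (zpowers_le.2 h.zV ((mem_Tp.1 ht).2 i hi.1))) hi

theorem χT (ht : t ∈ Tp V z) (hg : g ∈ 𝐂 (zpowers z)) (hu : u ∈ Up V z) : χ ⁅t, g⁆ u = χ t ⁅g⁻¹, u⁆ := by
  have m1 := conj_mem_of_mem_normalizer (c_le_n_Tp V z hg) (inv_mem ht)
  have m2 := conj_mem_of_mem_normalizer' (c_le_n_Up V z hg) hu
  rw [show ⁅t, g⁆ = t * (g * t⁻¹ * g⁻¹) by simp only [commutatorElement_def]; group,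
    χ_mul_left h.zz (Tp_le_c ht) ((mem_Tp.1 ht).2 u hu) ((mem_Tp.1 m1).2 u hu),
    show ⁅g⁻¹, u⁆ = g⁻¹ * u * g * u⁻¹ by simp only [commutatorElement_def]; group,
    χ_mul_right h.zz (h.UH m2) ((mem_Tp.1 ht).2 _ m2) ((mem_Tp.1 ht).2 _ (inv_mem hu)), χ_inv_right, add_comm,
    ← χ_inv_left t (g⁻¹ * u * g), ← χ_conj g t⁻¹]
  congr 2; group

variable {Γ W : Type*} [Group Γ] [Finite Γ] [AddCommGroup W] [Finite W] [DistribMulAction Γ W] {mk : G → W}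
  {ac : G → Γ} (m : Md (𝐂 (zpowers z)) (Up V z) z mk ac)
include m

omit [Finite Γ] [Finite W] h [Finite G] in
theorem ac_T (hx : x ∈ 𝐂 (zpowers z)) : ac x = 1 ↔ x ∈ Tp V z := by rw [m.ac_eq_one hx, mem_Tp, and_iff_right hx]

omit [Finite Γ] [Finite W] in
theorem mkV {v : G} (hv : v ∈ V) : mk v = 0 ∨ mk v = mk y := by
  have z0 := (m.mk_zero z (VU h.zV h.zV)).2 (mem_zpowers z)
  rcases h.memV hv with rfl | rfl | rfl | rfl
  exacts [.inl m.mk_one, .inl z0, .inr rfl, .inr (by rw [m.mk_mul _ (VU h.zV h.zV) _ (VU h.zV h.yV), z0, zero_add])]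

omit [Finite Γ] [Finite W] in
theorem y0 : mk y ≠ 0 := fun e => (mem_two h.zz ((m.mk_zero y (VU h.zV h.yV)).1 e)).elim h.y1 h.yz

omit [Finite Γ] [Finite W] in
theorem fix_M (h1 : x ∈ 𝐂 (zpowers z)) : ac x • mk y = mk y ↔ x ∈ 𝐍 V := by
  rw [m.fix h1 (VU h.zV h.yV)]
  refine ⟨fun e => mem_normalizer_of_conj_mem fun v hv => ?_, fun e => ?_⟩
  · have k : x * y * x⁻¹ ∈ V := by simpa [commutatorElement_def] using mul_mem (zpowers_le.2 h.zV e) h.yV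
    have k1 := conj_eq_of_mem_c h1
    rcases h.memV hv with rfl | rfl | rfl | rfl
    exacts [by simp, k1.symm ▸ hv, k, by rw [← conj_mul, k1]; exact mul_mem h.zV k]
  · rcases h.fixy h1 e with k | k <;> simp [commutatorElement_def, k]

omit [Finite Γ] [Finite W] in
theorem span (Y : AddSubgroup W) (hY : ∀ γ : Γ, γ • mk y ∈ Y) (w : W) : w ∈ Y := by
  obtain ⟨u, hu, rfl⟩ := m.mk_surj w
  have : Up V z ≤ m.pre Y := Up_le fun l hl hz => by
    obtain ⟨g, rfl, e⟩ := h.trans hl hz h.z1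
    rintro _ ⟨v, hv, rfl⟩
    refine ⟨m.cU (mem_c_of_conj_eq e) (VU h.zV hv), ?_⟩
    change mk (g * v * g⁻¹) ∈ Y
    rw [← m.smul _ (mem_c_of_conj_eq e) _ (VU h.zV hv)]
    rcases h.mkV m hv with k | k <;> rw [k]
    exacts [(smul_zero (ac g) : ac g • (0 : W) = 0).symm ▸ Y.zero_mem, hY _]
  exact (this hu).2

omit [Finite W] in
theorem exists_fi : ∃ F : Subgroup Γ, Fi F := by
  haveI := h.solH
  haveI : Group.IsSolvable Γ := Group.isSolvable_of_surjective m.hom_surj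
  obtain ⟨F, a, b, c, d⟩ := exists_F m.faith (h.span m) fun x hx => by
    have s := ((h.syl.mono h.S_le le_top).subgroupOf le_rfl).map m.hom
    rw [subgroupOf_self, ← MonoidHom.range_eq_map, MonoidHom.range_eq_top.2 m.hom_surj] at s
    obtain ⟨s, hs, rfl⟩ := s.pCoreOf_le (pCoreOf_top 2 Γ ▸ hx)
    exact (h.fix_M m s.2).2 (h.le hs)
  exact ⟨F, a, b, c, d⟩

variable {F : Subgroup Γ} (f : Fi F)
include f

omit [Finite Γ] [Finite W] in
theorem s1 : Up V z ⊓ 𝐂 (Tp V z) ≤ 𝐂 (m.pg F) := by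
  have l : m.pg F ≤ 𝐂 (zpowers z) := fun _ k => k.1
  have n : 𝐂 (zpowers z) ≤ 𝐍 (m.pg F) := fun g hg => mem_normalizer_of_conj_mem fun x hx =>
    ⟨mul_mem (mul_mem hg hx.1) (inv_mem hg), m.ac_conj hg hx.1 ▸ f.nor.conj_mem _ hx.2 _⟩
  have s := (h.syl.mono h.S_le le_top).inf_of_normal n l
  have n1 : 𝐂 (zpowers z) ≤ 𝐍 (Up V z ⊓ 𝐂 (Tp V z)) :=
    le_normalizer_inf (c_le_n_Up V z) (le_normalizer_centralizer (c_le_n_Tp V z))
  have l2 : S ⊓ m.pg F ≤ Tp V z := fun x hx => (ac_T m hx.2.1).1 (by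
    obtain ⟨k, hk⟩ := isPGroup_iff_mem.1 h.syl.isP x hx.1
    exact eq_one_of_pow_coprime (Nat.Coprime.pow_right k (Nat.coprime_two_right.2 (f.odd _ hx.2.2)))
      (pow_orderOf_eq_one _) (by rw [← m.ac_pow hx.2.1, hk, m.ac_one]))
  refine le_trans (le_inf le_rfl (inf_le_right.trans (centralizer_anti l2)))
    (le_centralizer_of_transfer (inf_le_left.trans ((h.Up_ab h.colz).trans (centralizer_anti inf_le_left)))
    ((h.Up_isP h.colz).to_le inf_le_left) (l.trans n1) s h.syl.isP (h.S_le.trans n1) (h.S_le.trans n)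
    (le_normalizer_inf le_normalizer (h.S_le.trans n)) (le_trans ?_ (le_centralizer_iff.1 l)))
  have e1 : Up V z ⊓ 𝐂 (Tp V z) ⊓ 𝐂 (S ⊓ m.pg F) ⊓ 𝐂 S ≤ Up V z := inf_le_left.trans (inf_le_left.trans inf_le_left)
  exact (le_oz (elemAb_mono (h.Up_ea h.colz) e1) (e1.trans h.US) inf_le_right).trans h.zeq.le

omit [Finite Γ] [Finite W] in
theorem exists_q : ∃ q ∈ Tp V z, q ∉ 𝐂 V := SetLike.not_le_iff_exists.1 fun e => by
  have e1 : Up V z ≤ 𝐂 (Tp V z) := by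
    rw [h.Up_z]; exact ncl_le_centralizer (le_centralizer_iff.1 e) (h.fH_eq.le.trans (c_le_n_Tp V z))
  obtain ⟨a, ha, n⟩ := SetLike.not_le_iff_exists.1 h.nT
  have k : ∀ φ ∈ F, φ = 1 := fun φ hφ => by
    obtain ⟨x, hx, rfl⟩ := m.ac_surj φ
    exact (m.ac_eq_one hx).2 fun u hu => by
      rw [commutatorElement_eq_one_iff_mul_comm.2 (h.s1 m f ⟨hu, e1 hu⟩ x ⟨hx, hφ⟩)]; exact one_mem _
  exact n ((ac_T m (h.AH ha)).1 (k _ (f.cen _ fun φ hφ => by rw [k φ hφ, mul_one, one_mul])))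

omit [Finite Γ] [Finite W] in
theorem I_le (hp : p ∈ V) (p1 : p ≠ 1) : Up V z ⊓ Up V y ≤ Up V p := by
  rcases h.memV hp with rfl | rfl | rfl | rfl
  exacts [absurd rfl p1, inf_le_left, inf_le_right, fun i hi => by
    obtain ⟨q, hq, n⟩ := h.exists_q m f
    rw [← h.movy (Tp_le_c hq) (Ge.Tp_le_n (Ln.self V) h.zV hq) n, ← cj_Up, mem_cj]
    simpa using (h.TI (inv_mem hq) hi).2]

omit [Finite Γ] [Finite W] in
theorem nI : 𝐍 V ≤ 𝐍 (Up V z ⊓ Up V y) := fun g hg => mem_normalizer_of_conj_mem fun i hi => by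
  have : ∀ p ∈ V, p ≠ 1 → g * i * g⁻¹ ∈ Up V p := fun p hp p1 => by
    have := conj_mem_cj g (h.I_le m f (conj_mem_of_mem_normalizer' hg hp) (fun e => p1 (conj_ne_one_aux e)) hi)
    rwa [cj_Up, show g * (g⁻¹ * p * g) * g⁻¹ = p by group] at this
  exact ⟨this z h.zV h.z1, this y h.yV h.y1⟩

omit [Finite Γ] [Finite W] in
theorem NI : 𝐍 (Up V z ⊓ Up V y) ≤ 𝐍 V := fr_uniq h.toFr ((h.Up_isP h.colz).to_le inf_le_left)
  (fun e => h.four.ne_bot (le_bot_iff.1 (e ▸ h.VI))) (h.nI m f)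

omit [Finite Γ] [Finite W] in
theorem hm (h1 : x ∈ 𝐂 (zpowers z)) (h2 : x ∈ 𝐍 V) : ∃ x' ∈ 𝐂 V, ac x' = ac x := by
  obtain ⟨q, hq, n⟩ := h.exists_q m f
  have qH := Tp_le_c hq
  rcases h.fixy h1 h2 with e | e
  · exact ⟨x, h.memC h1 e, rfl⟩
  · refine ⟨q * x, h.memC (mul_mem qH h1) ?_, by rw [m.ac_mul _ qH _ h1, (ac_T m qH).2 hq, one_mul]⟩
    rw [show q * x * y * (q * x)⁻¹ = q * (x * y * x⁻¹) * q⁻¹ by group, e, ← conj_mul, conj_eq_of_mem_c qH,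
      h.movy qH (Ge.Tp_le_n (Ln.self V) h.zV hq) n, ← mul_assoc, h.zz, one_mul]

omit [Finite Γ] [Finite W] in
theorem canon (ha : a ∈ Up V y) {θ : Γ} (hθ : θ ∈ F) (hi : ac a * θ * ac a = θ⁻¹) (e : θ • mk y = mk y) : θ = 1 := by
  obtain ⟨x, hx, rfl⟩ := m.ac_surj θ
  obtain ⟨x', hx', e'⟩ := h.hm m f hx ((h.fix_M m hx).1 e)
  have m1 := mul_mem (conj_mem_of_mem_normalizer (CVn h.yV hx') ha) ha
  have k := congrArg ac (h.Up_sq h.coly m1)
  rw [m.ac_mul _ (h.AH m1) _ (h.AH m1), m.ac_one, m.ac_mul _ (h.AH (conj_mem_of_mem_normalizer (CVn h.yV hx') ha)) _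
    (h.AH ha), m.ac_conj (CV h.zV hx') (h.AH ha), e'] at k
  have k1 : ac a * (ac x)⁻¹ * ac a = ac x := by
    have aa : ac a * ac a = 1 := by rw [← m.ac_mul _ (h.AH ha) _ (h.AH ha), h.Up_sq h.coly ha, m.ac_one]
    rw [← hi, ← mul_assoc, ← mul_assoc, aa, one_mul, mul_assoc, aa, mul_one]
  rw [mul_assoc (ac x), mul_assoc (ac x), k1] at k
  exact one_of_sq (f.odd _ hθ) (one_of_sq (f.odd _ (F.mul_mem hθ hθ)) k)

omit [Finite Γ] [Finite W] in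
theorem affI (hi : i ∈ Up V z ⊓ Up V y) (n : i ∉ V) :
    (∃ k ∈ 𝐍 V, k * i = i * k ∧ k ^ 3 ∈ 𝐂 V ∧ k ∉ 𝐂 V) ∧ ∃ r ∈ S, r ∈ 𝐂 V ∧ ⁅r, i⁆ = y := by
  obtain ⟨q, hq, qn⟩ := h.exists_q m f
  have l : commStab (Up V z ⊓ Up V y : Subgroup G) V ≤ 𝐍 V := fun _ k => k.1
  have nN : 𝐍 V ≤ 𝐍 (commStab (Up V z ⊓ Up V y : Subgroup G) V) := fun g hg => mem_normalizer_of_conj_mem fun x hx =>
    ⟨mul_mem (mul_mem hg hx.1) (inv_mem hg), fun j hj => by
      have := conj_mem_of_mem_normalizer hg (hx.2 _ (conj_mem_of_mem_normalizer' (h.nI m f hg) hj))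
      rwa [conjugate_commutatorElement, show g * (g⁻¹ * j * g) * g⁻¹ = j by group] at this⟩
  have mq : q ∈ commStab (Up V z ⊓ Up V y : Subgroup G) V :=
    ⟨Ge.Tp_le_n (Ln.self V) h.zV hq, fun j hj => zpowers_le.2 h.zV ((mem_Tp.1 hq).2 j hj.1)⟩
  have A := fun v hv => aff h.toGe l nN mq (Tp_le_c hq) qn (h.UC h.zV h.z1 hi.1) (h.Up_sq h.colz hi.1) n
    (fun n hn => hn.2 i hi) (v := v) hv
  obtain ⟨r, -, a, b, c⟩ := A y h.yV
  refine ⟨?_, r, b, a, c⟩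
  obtain ⟨k, hk, k3, kV⟩ := exists_three h.toGe l nN mq (Tp_le_c hq) qn
  obtain ⟨r, hr, a, -, c⟩ := A _ (hk.2 i hi)
  refine ⟨r * k, mul_mem hr.1 hk.1, commutatorElement_eq_one_iff_mul_comm.1 ?_, ?_, fun e => kV ?_⟩
  · rw [commutatorElement_mul_left_eq_conj_mul, mem_centralizer_iff'.1 a _ (hk.2 i hi), c, h.four.sq _ (hk.2 i hi)]
  · simpa using mul_mem (mul_pow_mul_inv_mem (normalizer_le_normalizer_centralizer V hk.1) a 3) k3
  · simpa using mul_mem (inv_mem a) e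

omit [Finite Γ] [Finite W] f in
theorem aa (ha : a ∈ Up V y) : ac a * ac a = 1 := by
  rw [← m.ac_mul _ (h.AH ha) _ (h.AH ha), h.Up_sq h.coly ha, m.ac_one]

omit [Finite Γ] [Finite W] in
theorem sol4 (ha : a ∈ Up V y) {θ : Γ} (hθ : θ ∈ F) (hi : ac a * θ * ac a = θ⁻¹) (h1 : θ ≠ 1) {w : W}
    (hw : w ∈ m.im (Up V z ⊓ Up V y)) (e : θ • w = w) : w = 0 := by
  obtain ⟨i, -, hI, rfl⟩ := hw
  by_cases iV : i ∈ V
  · exact (h.mkV m iV).resolve_right fun k => h1 (h.canon m f ha hθ hi (k ▸ e))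
  exfalso
  obtain ⟨x, hx, rfl⟩ := m.ac_surj θ
  have ai : (ac a)⁻¹ = ac a := inv_eq_of_mul_eq_one_right (h.aa m ha)
  have xi : x * x ∈ 𝐂 (zpowers i) := mem_c_of_conj_eq (by
    have k := (m.fix hx hI.1).1 e
    calc _ = x * ⁅x, i⁆ * x⁻¹ * ⁅x, i⁆ * i := by simp only [commutatorElement_def]; group
      _ = _ := by
        rw [mem_centralizer_iff'.1 hx _ k]
        rcases mem_two h.zz k with k | k <;> simp [k, h.zz])
  have i1 : i ≠ 1 := fun k => iV (k ▸ one_mem _)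
  have cI : ∀ p ∈ V, p ≠ 1 → Up V p ≤ 𝐂 (zpowers i) := fun p hp p1 =>
    (h.Up_ab (colp hp p1)).trans (centralizer_anti (zpowers_le.2 (h.I_le m f hp p1 hI)))
  obtain ⟨⟨k, hk, ki, k3, kV⟩, -⟩ := h.affI m f hI iV
  have nC := normalizer_le_normalizer_centralizer V
  refine (sol_ind (P := fun N => ∃ k ∈ N, k ∈ 𝐍 V ∧ k ^ 3 ∈ 𝐂 V ∧ k ∉ 𝐂 V) (H18.Solv.of_le
    (fr_sol h.toFr ((h.Up_isP h.colz).to_le (zpowers_le.2 hI.1)) (by simpa using i1)) (centralizer_le_normalizer _))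
    ⟨k, mem_centralizer_zpowers.2 ki.symm, hk, k3, kV⟩ ?_).elim fun k ⟨hk, _, _, kV⟩ => kV (mem_bot.1 hk ▸ one_mem _)
  have key : ∀ N ≤ 𝐂 (zpowers i), 𝐂 (zpowers i) ≤ 𝐍 N → ∀ k ∈ N, k ∈ 𝐍 V → k ^ 3 ∈ 𝐂 V → k ∉ 𝐂 V → k * y * k⁻¹ = z →
      ∃ k ∈ ⁅N, N⁆, k ∈ 𝐍 V ∧ k ^ 3 ∈ 𝐂 V ∧ k ∉ 𝐂 V := fun N l n k hk kM k3 kV ky => by
    have cN : ∀ t ∈ 𝐂 (zpowers i), ∀ g ∈ N, ⁅t, g⁆ ∈ N := fun t ht g hg =>
      commutator_le_of_le_normalizer' n (commutator_mem_commutator ht hg)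
    have cN' : ∀ t ∈ 𝐂 (zpowers i), ∀ g ∈ N, ⁅g, t⁆ ∈ N := fun t ht g hg =>
      commutator_le_of_le_normalizer n (commutator_mem_commutator hg ht)
    have m1 : k * a * k⁻¹ ∈ Up V z := by rw [← ky, ← cj_Up]; exact conj_mem_cj k ha
    have m2 : ⁅k, a⁆ ∈ 𝐂 (zpowers z) := mul_mem (h.UH m1) (inv_mem (h.AH ha))
    have e1 : ac ⁅k, a⁆ = ac a := by
      rw [commutatorElement_def, m.ac_mul _ (h.UH m1) _ (inv_mem (h.AH ha)), (ac_T m (h.UH m1)).2 (h.UT m1), one_mul,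
        m.ac_inv (h.AH ha), ai]
    obtain ⟨g, hg⟩ : ∃ g, g = ⁅⁅k, a⁆, x * x⁆ := ⟨_, rfl⟩
    have gN : g ∈ N := hg ▸ cN' _ xi _ (cN' _ (cI y h.yV h.y1 ha) _ hk)
    have xx := mul_mem hx hx
    have gH : g ∈ 𝐂 (zpowers z) := hg ▸ mul_mem (mul_mem (mul_mem m2 xx) (inv_mem m2)) (inv_mem xx)
    have e2 : ac g⁻¹ = ac x ^ 4 := by
      rw [m.ac_inv gH, hg, commutatorElement_def, m.ac_mul _ (mul_mem (mul_mem m2 xx) (inv_mem m2)) _ (inv_mem xx),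
        m.ac_conj m2 xx, m.ac_inv xx, m.ac_mul _ hx _ hx, e1, ← conj_mul, ai, hi]
      group
    have gF : ac g⁻¹ ∈ F := e2 ▸ pow_mem hθ 4
    have Tc : ∀ t ∈ Tp V z, ⁅t, g⁆ ∈ Tp V z := fun t ht =>
      commutator_le_of_le_normalizer (c_le_n_Tp V z) (commutator_mem_commutator ht gH)
    have Uc : ∀ u ∈ Up V z, ⁅g⁻¹, u⁆ ∈ Up V z := fun u hu =>
      commutator_le_of_le_normalizer' (c_le_n_Up V z) (commutator_mem_commutator (inv_mem gH) hu)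
    have yU := VU h.zV h.yV
    obtain ⟨t, ht, tn⟩ : ∃ t ∈ Tp V z, ⁅⁅⁅t, g⁆, g⁆, g⁆ ∉ 𝐂 V := by
      by_contra! c
      have m3 : ⁅g⁻¹, ⁅g⁻¹, ⁅g⁻¹, y⁆⁆⁆ ∈ 𝐂 (Tp V z) := fun t ht => χ_zero.1 (by
        rw [← h.χT ht gH (Uc _ (Uc _ yU)), ← h.χT (Tc _ ht) gH (Uc _ yU), ← h.χT (Tc _ (Tc _ ht)) gH yU]
        exact χ_zero.2 (c t ht y h.yV).symm)
      have k1 := (m.fix (inv_mem gH) (Uc _ (Uc _ (Uc _ yU)))).2 (by
        rw [commutatorElement_eq_one_iff_mul_comm.2 (h.s1 m f ⟨Uc _ (Uc _ (Uc _ yU)), m3⟩ _ ⟨inv_mem gH, gF⟩)]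
        exact one_mem _)
      have o := f.odd _ gF
      rw [m.comm (inv_mem gH) (Uc _ (Uc _ yU))] at k1
      have k2 := sub_eq_zero.1 (rg_fix m.two o ⟨_, rfl⟩ k1)
      rw [m.comm (inv_mem gH) (Uc _ yU)] at k2
      have k3 := sub_eq_zero.1 (rg_fix m.two o ⟨_, rfl⟩ k2)
      rw [m.comm (inv_mem gH) yU] at k3
      have k4 := h.canon m f ha gF (by
        rw [e2, ← inv_pow, ← hi]; conv_rhs => rw [show ∀ x, ac a * x * ac a = ac a * x * (ac a)⁻¹ by simp [ai], conj_pow]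
        rw [ai]) (sub_eq_zero.1 (rg_fix m.two o ⟨_, rfl⟩ k3))
      exact h1 (eq_one_of_pow_coprime (Nat.Coprime.pow_right 2 (Nat.coprime_two_right.2 (f.odd _ hθ)))
        (pow_orderOf_eq_one _) (e2 ▸ k4))
    have t1 : ⁅t, g⁆ ∈ 𝐂 (zpowers i) := mem_centralizer_zpowers.2 (χ_zero.1 (by
      rw [h.χT ht gH hI.1, commutatorElement_eq_one_iff_mul_comm.2 (mem_centralizer_zpowers.1 (l (inv_mem gN))).symm]
      exact χ_zero.2 (by simp))).symm
    have t2 := cN _ t1 _ gN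
    have qT := Tc _ (Tc _ (Tc _ ht))
    have qM := Ge.Tp_le_n (Ln.self V) h.zV qT
    obtain ⟨c1, c2⟩ := h.four.comm_three kM qM k3 kV
      (four_sq h.four h.zV h.z1 qM (conj_eq_of_mem_c (Tp_le_c qT))) tn
    exact ⟨_, commutator_mem_commutator hk (cN _ (l t2) _ gN), mul_mem (mul_mem (mul_mem kM qM) (inv_mem kM))
      (inv_mem qM), c1, c2⟩
  rintro N l n ⟨k, hk, kM, k3, kV⟩
  rcases h.memV (conj_mem_of_mem_normalizer kM h.yV) with j | j | j | j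
  · exact absurd j (conj_ne_one k h.y1)
  · exact key N l n k hk kM k3 kV j
  · exact absurd (four_fpf h.four kM k3 kV h.yV j) h.y1
  refine key N l n k⁻¹ (inv_mem hk) (inv_mem kM) (inv_pow k 3 ▸ inv_mem k3) (fun e => kV (inv_mem_iff.1 e)) ?_
  rcases h.memV (conj_mem_of_mem_normalizer kM h.zV) with j' | j' | j' | j'
  · exact absurd j' (conj_ne_one k h.z1)
  · exact absurd (four_fpf h.four kM k3 kV h.zV j') h.z1
  · rw [← j']; group
  · exact absurd (by simpa using j.trans j'.symm) h.yz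

omit [Finite Γ] [Finite W] in
theorem st (ha : a ∈ Up V y) (n : a ∉ Tp V z) : St F (ac a) (m.im (Up V z ⊓ Up V y)) :=
  ⟨m.two, m.faith, f.nor, f.odd, f.cen, h.aa m ha, fun e => n ((ac_T m (h.AH ha)).1 e), fun w => by
    obtain ⟨u, hu, rfl⟩ := m.mk_surj w
    exact ⟨_, (h.commI ha hu).1, h.commI ha hu, m.comm (h.AH ha) hu⟩, by
    rintro _ ⟨i, -, hi, rfl⟩
    rw [m.smul _ (h.AH ha) _ hi.1, mem_centralizer_iff'.1 (h.Up_ab h.coly ha) i hi.2],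
    fun θ hθ hi h1 _ => h.sol4 m f ha hθ hi h1⟩

omit [Finite Γ] [Finite W] in
theorem ac_eq (ha : a ∈ Up V y) (n : a ∉ Tp V z) (hb : b ∈ Up V y) (n' : b ∉ Tp V z) : ac b = ac a :=
  (h.st m f ha n).uniq (h.aa m hb) (h.st m f hb n').a1 (by
    rw [← m.ac_mul _ (h.AH ha) _ (h.AH hb), ← m.ac_mul _ (h.AH hb) _ (h.AH ha), h.Up_ab h.coly hb a ha])
    (h.st m f hb n').memI

omit [Finite Γ] [Finite W] in
theorem twoA (ha : a ∈ Up V y) (n : a ∉ Tp V z) (hb : b ∈ Up V y) (n' : b ∉ Tp V z) : a * b ∈ Tp V z :=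
  (ac_T m (h.AH (mul_mem ha hb))).1 (by rw [m.ac_mul _ (h.AH ha) _ (h.AH hb), h.ac_eq m f ha n hb n', h.aa m ha])

omit [Finite Γ] [Finite W] in
theorem twoU (ha : a ∈ Up V z) (n : a ∉ Tp V y) (hb : b ∈ Up V z) (n' : b ∉ Tp V y) : a * b ∈ Tp V y := by
  obtain ⟨σ, -, e1, e2⟩ := h.swap
  have k1 : ∀ x, σ * x * σ⁻¹ ∈ Tp V z ↔ x ∈ Tp V y := fun x => by rw [← e2, ← cj_Tp, conj_mem_cj_iff]
  have k2 : ∀ x, σ * x * σ⁻¹ ∈ Up V y ↔ x ∈ Up V z := fun x => by rw [← e1, ← cj_Up, conj_mem_cj_iff]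
  rw [← k1, ← conj_mul]
  exact h.twoA m f ((k2 a).2 ha) (mt (k1 a).1 n) ((k2 b).2 hb) (mt (k1 b).1 n')

omit [Finite Γ] [Finite W] in
theorem comm_a (ha : a ∈ Up V y) (n : a ∉ Tp V z) (h1 : x ∈ 𝐂 (zpowers z)) (h2 : x ∈ 𝐍 V) :
    ac x * ac a = ac a * ac x := by
  obtain ⟨x', hx, e⟩ := h.hm m f h1 h2
  have := h.ac_eq m f ha n (conj_mem_of_mem_normalizer (CVn h.yV hx) ha) fun k => n (by
    simpa [mul_assoc] using conj_mem_of_mem_normalizer' (c_le_n_Tp V z (CV h.zV hx)) k)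
  rw [m.ac_conj (CV h.zV hx) (h.AH ha), e] at this
  exact mul_inv_eq_iff_eq_mul.1 this

omit [Finite Γ] in
theorem M_of_comm (ha : a ∈ Up V y) (n : a ∉ Tp V z) (h1 : x ∈ 𝐂 (zpowers z)) (e : ac x * ac a = ac a * ac x) :
    x ∈ 𝐍 V := h.NI m f (mem_normalizer_of_conj_mem fun i hi => by
  obtain ⟨v, hv⟩ := (h.st m f ha n).comm_of_mem ⟨i, hi.1, hi, rfl⟩
  rw [← m.mem_im (h.VI h.zV) (m.cU h1 hi.1), ← m.smul _ h1 _ hi.1, ← hv, smul_sub, ← mul_smul, e, mul_smul]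
  exact (h.st m f ha n).memI _)

omit [Finite Γ] in
theorem st4 (ha : a ∈ Up V y) (n : a ∉ Tp V z) (hI : Up V z ⊓ Up V y ≠ V) :
    ∃ i₀, St4 F (ac a) (m.im (Up V z ⊓ Up V y)) (mk y) i₀ := by
  have s := h.st m f ha n
  have k1 : ∀ u ∈ Up V z, u ∈ Tp V y → mk ⁅a, u⁆ = 0 ∨ mk ⁅a, u⁆ = mk y := fun u _ hu =>
    h.mkV m (commutatorElement_inv u a ▸ inv_mem (zpowers_le.2 h.yV ((mem_Tp.1 hu).2 a ha)))
  obtain ⟨u₀, hu₀, n₀⟩ : ∃ u ∈ Up V z, u ∉ Tp V y := SetLike.not_le_iff_exists.1 fun e => by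
    obtain ⟨σ, -, e1, e2⟩ := h.swap
    have := cj_mono σ e
    rw [cj_Up, cj_Tp, e1, e2] at this
    exact h.nT this
  have four : ∀ w ∈ m.im (Up V z ⊓ Up V y), w = 0 ∨ w = mk y ∨ w = mk ⁅a, u₀⁆ ∨ w = mk ⁅a, u₀⁆ + mk y := fun w hw => by
    obtain ⟨v, rfl⟩ := s.comm_of_mem hw
    obtain ⟨u, hu, rfl⟩ := m.mk_surj v
    rw [← m.comm (h.AH ha) hu]
    by_cases c : u ∈ Tp V y
    · rcases k1 u hu c with k | k <;> simp [k]
    have k := k1 _ (mul_mem hu hu₀) (h.twoU m f hu c hu₀ n₀)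
    rw [m.comm (h.AH ha) (mul_mem hu hu₀), m.mk_mul _ hu _ hu₀, smul_add, add_sub_add_comm, ← m.comm (h.AH ha) hu,
      ← m.comm (h.AH ha) hu₀] at k
    rcases k with k | k
    · exact .inr (.inr (.inl (eq_of_add m.two k)))
    · exact .inr (.inr (.inr (by linear_combination (norm := abel1) k - m.two (mk ⁅a, u₀⁆))))
  have k2 : ¬ (mk ⁅a, u₀⁆ = 0 ∨ mk ⁅a, u₀⁆ = mk y) := fun k => hI (le_antisymm (fun i hi => by
    have : mk i = 0 ∨ mk i = mk y := by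
      rcases k with k | k <;> rcases four _ ⟨i, hi.1, hi, rfl⟩ with j | j | j | j <;> simp [j, k, m.two]
    rcases this with j | j
    · exact zpowers_le.2 h.zV ((m.mk_zero i hi.1).1 j)
    · simpa using mul_mem (zpowers_le.2 h.zV ((m.mk_eq hi.1 (VU h.zV h.yV)).1 j)) h.yV) h.VI)
  refine ⟨mk ⁅a, u₀⁆, s, f.nil, ⟨y, VU h.zV h.yV, h.VI h.yV, rfl⟩, ⟨_, (h.commI ha hu₀).1, h.commI ha hu₀, rfl⟩, h.y0 m,
    fun e => k2 (.inl e), fun e => k2 (.inr e), four, fun γ e => ?_, h.span m⟩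
  obtain ⟨x, hx, rfl⟩ := m.ac_surj γ
  exact (h.fix_M m hx).2 (h.M_of_comm m f ha n hx e)

end B3
end H13.FFa

end H226
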