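import Cfsg.Agent.H26.T2.H16Ti1
/-! Type Tits, part 2: two collinear points `z = ρ o`, `y = σ o` (`Tw ρ σ`): `U ⊓ U' = I`, `U ⊓ Q' = U₀`,
`C(U) ⊓ C(U') ≤ U`, commutators of the involutions `X j` of `Q`, squares in `Q`, the involutions of `C(z)`. -/
set_option autoImplicit false
set_option linter.unusedSectionVars false
namespace H16 end H16 namespace H16.Ti end H16.Ti namespace H16.Ti.Tw end H16.Ti.Tw namespace H226 end H226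
open H226
namespace H226
namespace H16.Ti
open _root_.H16 _root_.H16.Ti
open Subgroup Function Set

variable {G : Type*} [Group G] {ρ σ : F → G} {g h k c q r x : G} {α β α' β' i j : ZMod 5} {f f' a b n : F}

structure Tw (ρ σ : F → G) : Prop where
  p : Pt ρ
  p' : Pt σ
  e1 : σ o = ρ (d 0)
  e2 : σ (d 0) = ρ o
  nb : ∃ b f, A ρ (σ b) 4 0 f
  nb' : ∃ b f, A σ (ρ b) 4 0 f
  cj : ∃ g, σ = cρ g ρ

theorem cρ_cρ (g h : G) (ρ : F → G) : cρ g (cρ h ρ) = cρ (g * h) ρ := by ext; simp only [cρ]; group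
theorem cρ_one (ρ : F → G) : cρ 1 ρ = ρ := by ext; simp [cρ]

theorem cross {u a w : G} (ha : a * a = 1) (e : u * a * u⁻¹ = a * w) : a * u * a⁻¹ = w * u := by
  rw [inv_eq_of_mul_eq_one_right ha, ← mul_right_inj a, ← mul_assoc a w, ← e, ← mul_assoc, ← mul_assoc, ha,
    one_mul, inv_mul_cancel_right]

theorem A.fix0 (e : A ρ h α 0 f) (f0 : f 0 = 0) : h * ρ (d 0) * h⁻¹ = ρ (d 0) := by
  rw [e.e, (by decide +kernel : ∀ α f, α ≠ 0 → f 0 = 0 → act α 0 f (d 0) = d 0) _ _ e.1 f0]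

namespace Tw
open _root_.H16.Ti.Tw
variable (t : Tw ρ σ)
include t

theorem symm : Tw σ ρ := ⟨t.p', t.p, t.e2.symm, t.e1.symm, t.nb', t.nb,
  let ⟨g, e⟩ := t.cj; ⟨g⁻¹, by rw [e, cρ_cρ, inv_mul_cancel, cρ_one]⟩⟩

theorem conj (g : G) : Tw (cρ g ρ) (cρ g σ) := ⟨t.p.cj g, t.p'.cj g, by rw [cρ, cρ, t.e1], by rw [cρ, cρ, t.e2],
  let ⟨b, f, e⟩ := t.nb; ⟨b, f, e.cj g⟩, let ⟨b, f, e⟩ := t.nb'; ⟨b, f, e.cj g⟩,
  let ⟨k, e⟩ := t.cj; ⟨g * k * g⁻¹, by rw [e, cρ_cρ, cρ_cρ, inv_mul_cancel_right]⟩⟩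

theorem ofR (e : h * ρ o * h⁻¹ = ρ o) (e' : h * σ o * h⁻¹ = σ o) : ∃ α f, f 0 = 0 ∧ A ρ h α 0 f := by
  obtain ⟨α, β, f, k⟩ := t.p.ex h e
  obtain ⟨rfl, f0⟩ := (by decide +kernel : ∀ α β f, α ≠ 0 → act α β f (d 0) = d 0 → β = 0 ∧ f 0 = 0) α β f k.1
    (t.p.inj (by rw [← k.e, ← t.e1, e']))
  exact ⟨α, f, f0, k⟩

theorem toR (e : A ρ h α 0 f) (f0 : f 0 = 0) : ∃ α' f', f' 0 = 0 ∧ A σ h α' 0 f' :=
  t.symm.ofR (t.e1 ▸ e.fix0 f0) e.fix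

theorem pm1 (e : A ρ x α β f) (x2 : x * x = 1) : α = 1 ∧ β = 0 ∨ α = 4 :=
  let ⟨a, b, _⟩ := t.p.uniq (x2 ▸ e.mul e) .one
  (by decide : ∀ α β : ZMod 5, α * α = 1 → α * β + β = 0 → α = 1 ∧ β = 0 ∨ α = 4) _ _ a b

theorem sq (b : F) : ∃ f, f 0 = 0 ∧ (A ρ (σ b) 1 0 f ∨ A ρ (σ b) 4 0 f) := by
  obtain ⟨α, f, f0, e⟩ := t.symm.toR (t.p'.self b) rfl
  rcases t.pm1 e (t.p'.sq b) with ⟨rfl, -⟩ | rfl
  exacts [⟨f, f0, .inl e⟩, ⟨f, f0, .inr e⟩]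

theorem fixI (e : A ρ x 4 0 f) (k : x * ρ b * x⁻¹ = ρ b) : iI b :=
  (by decide +kernel : ∀ f b, act 4 0 f b = b → iI b) f b (t.p.inj ((e.e b).symm.trans k))

theorem memV (e : iV b) : ∃ a, iV a ∧ σ a = ρ b := by
  rcases (by decide +kernel : ∀ b, iV b → b = 0 ∨ b = o ∨ b = d 0 ∨ b = o + d 0) b e with rfl | rfl | rfl | rfl
  exacts [⟨0, by decide, t.p'.zero.trans t.p.zero.symm⟩, ⟨_, by decide, t.e2⟩, ⟨_, by decide, t.e1⟩,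
    ⟨d 0 + o, by decide, by rw [t.p.add, t.p'.add, t.e1, t.e2]⟩]

theorem memI : ρ b ∈ range σ ↔ iI b := by
  obtain ⟨b0, f, e⟩ := t.nb
  refine ⟨fun ⟨a, k⟩ => t.fixI e (by rw [← k, t.p'.comm, mul_inv_cancel_right]), fun k => ?_⟩
  rcases (by decide +kernel : ∀ f b, iI b → iV b ∨ iV (act 4 0 f (d 1) + d 1 + b)) f b k with k | k
  · exact let ⟨a, _, k⟩ := t.memV k; ⟨a, k⟩
  obtain ⟨a, -, k⟩ := t.memV k
  obtain ⟨α, f', -, j⟩ := t.toR (t.p.self (d 1)) rfl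
  refine ⟨b0 + act α 0 f' b0 + a, ?_⟩
  rw [t.p'.add, t.p'.add, k, ← j.e, t.p.add, t.p.add, ← e.e, t.p'.inv, t.p.inv]
  calc _ = σ b0 * ρ (d 1) * σ b0 * (ρ (d 1) * (σ b0 * ρ (d 1) * σ b0) * ρ (d 1)) * ρ b := by group
    _ = _ := by
      rw [show σ b0 * ρ (d 1) * σ b0 = _ from t.p'.inv b0 ▸ e.e (d 1), ← t.p.add, ← t.p.add, ← t.p.add, ← t.p.add]
      congr 1
      rw [add_comm (d 1), add_assoc _ (d 1), add_self, add_zero, add_self, zero_add]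

theorem toI (e : iI b) : ∃ a, iI a ∧ σ a = ρ b := let ⟨a, k⟩ := t.memI.2 e; ⟨a, t.symm.memI.1 ⟨b, k.symm⟩, k⟩

theorem memQ : (∃ f, A σ (ρ b) 1 0 f) ↔ ev b := by
  have k : ∀ b, (∃ f, A σ (ρ b) 1 0 f) → ev b := fun b ⟨f', k⟩ => by
    obtain ⟨b0, f, e⟩ := t.nb
    refine (by decide +kernel : ∀ f b, (act 4 0 f b = b ∨ act 4 0 f b = d 0 + b) → ev b) f b ?_
    rcases (by decide +kernel : ∀ f b, act 1 0 f b = b + 0 ∨ act 1 0 f b = b + o) f' b0 with j | j <;>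
      have := cross (t.p'.sq b0) ((k.e b0).trans (by rw [j, t.p'.add])) <;> rw [e.e] at this
    · exact .inl (t.p.inj (by rw [this, t.p'.zero, one_mul]))
    · exact .inr (t.p.inj (by rw [this, t.e1, t.p.add]))
  refine ⟨k b, fun e => ?_⟩
  obtain ⟨f, -, j | j⟩ := t.symm.sq b
  · exact ⟨f, j⟩
  obtain ⟨f', -, i | i⟩ := t.symm.sq (d 1)
  · exact absurd (k _ ⟨_, i⟩) (by decide)
  · exact absurd (k _ ⟨_, t.p.add _ _ ▸ (j.mul i).cast (by decide) (by decide) rfl⟩)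
      ((by decide +kernel : ∀ b, ev b → ¬ ev (b + d 1)) b e)

theorem odd (e : ¬ ev b) : ∃ f, A σ (ρ b) 4 0 f :=
  let ⟨f, _, k⟩ := t.symm.sq b; ⟨f, k.resolve_left fun k => e (t.memQ.1 ⟨f, k⟩)⟩

theorem cenI (e : A ρ (σ b) 1 0 0) : iI b :=
  let ⟨_, k⟩ := t.odd (b := d 1) (by decide); t.symm.fixI k (by rw [← e.comm, mul_inv_cancel_right])

theorem x0 (e : ev b) (e' : ¬ iI b) : A ρ (σ b) 1 0 (o + d 0) := by
  obtain ⟨f, k⟩ := t.symm.memQ.2 e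
  refine ((by decide +kernel : ∀ f, (∀ a, ev a → act 1 0 f a = a ∨ act 1 0 f a = d 0 + a) → f = 0 ∨ f = o + d 0) f
    fun a ha => ?_).elim (fun j => absurd (t.cenI (j ▸ k)) e') (· ▸ k)
  obtain ⟨f', i⟩ := t.memQ.2 ha
  rcases (by decide +kernel : ∀ f b, act 1 0 f b = b + 0 ∨ act 1 0 f b = b + o) f' b with j | j <;>
    have := cross (t.p'.sq b) ((i.e b).trans (by rw [j, t.p'.add])) <;> rw [k.e] at this
  · exact .inl (t.p.inj (by rw [this, t.p'.zero, one_mul]))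
  · exact .inr (t.p.inj (by rw [this, t.e1, t.p.add]))

theorem x0' : A ρ (σ (d 1 + d 2)) 1 0 (o + d 0) := t.x0 (by decide) (by decide)

theorem xj (j : ZMod 5) : ∃ h, A ρ h 1 (-j) 0 ∧ A ρ (h * σ (d 1 + d 2) * h⁻¹) 1 0 (o + d j) :=
  let ⟨h, e⟩ := t.p.su 1 (-j) 0 (by decide) rfl
  ⟨h, e, (e.conj t.x0').cast rfl rfl ((by decide +kernel : ∀ j, pm 1 (-j) (o + d 0) = o + d j) j)⟩

theorem zq (e : A ρ c 1 0 0) (e' : A σ c 1 0 0) (n : c ∉ range ρ) : ∃ c, A ρ c 1 0 0 ∧ A σ c 1 0 0 ∧ c ∉ range ρ ∧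
    (∀ q f, A ρ q 1 0 f → q * c * q⁻¹ = c) ∧ ∀ h α β f, A ρ h α β f → ∃ b, iZ b ∧ h * c * h⁻¹ = c * ρ b := by
  have k : ∀ j, ∃ x ε, A ρ x 1 0 (o + d j) ∧ x * c * x⁻¹ = c * ρ fun _ => ε := fun j => by
    obtain ⟨h, e1, e2⟩ := t.xj j
    obtain ⟨b, e3⟩ := t.p.cc e n e1.inv
    obtain ⟨ε, e4⟩ := (by decide +kernel : ∀ j b, ∃ ε, act 1 (-j) 0 (act 1 0 (o + d 0) b) =
      act 1 (-j) 0 b + fun _ => ε) j b
    refine ⟨_, ε, e2, ?_⟩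
    calc _ = h * (σ (d 1 + d 2) * (h⁻¹ * c * h⁻¹⁻¹) * (σ (d 1 + d 2))⁻¹) * h⁻¹ := by group
      _ = h * c * h⁻¹ * (h * (σ (d 1 + d 2) * ρ b * (σ (d 1 + d 2))⁻¹) * h⁻¹) := by
        rw [e3, ← mul_assoc _ c, ← e'.comm]; group
      _ = h * (c * ρ b) * h⁻¹ * ρ fun _ => ε := by rw [t.x0'.e, e1.e, e4, t.p.add, ← e1.e]; group
      _ = _ := by rw [← e3]; group
  choose x ε hx hε using k
  obtain ⟨b, hb⟩ := (by decide +kernel : ∀ ε : F, ∃ b, ∀ j, j ≠ 0 → (fun _ => ε j) + act 1 0 (o + d j) b = b) ε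
  have e1 := e.mulC (t.p.self b)
  have n1 : c * ρ b ∉ range ρ := fun ⟨a, j⟩ => n ⟨a + b, by rw [t.p.add, j, mul_assoc, t.p.sq, mul_one]⟩
  have k1 : ∀ q f, A ρ q 1 0 f → q * (c * ρ b) * q⁻¹ = c * ρ b := fun q f j => by
    obtain ⟨y, hy, i⟩ := t.p.gen (centralizer {c * ρ b}) (fun j hj => ⟨x j, mem_centralizer_singleton_iff.2 (by
      rw [← mul_inv_eq_iff_eq_mul, ← conj_mul, hε, (hx j).e, mul_assoc, ← t.p.add, hb j hj]), hx j⟩) j.2.1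
    have := mul_mem hy (mem_centralizer_singleton_iff.2 (t.p.Ccomm (i.div j) e1))
    rw [mul_inv_cancel_left, mem_centralizer_singleton_iff] at this
    rw [this, mul_inv_cancel_right]
  have k2 : ∀ h α β f, A ρ h α β f → ∃ a, iZ a ∧ h * (c * ρ b) * h⁻¹ = c * ρ b * ρ a := fun h α β f j => by
    obtain ⟨a, i⟩ := t.p.cc e1 n1 j
    refine ⟨a, t.p.fixQ fun q f l => ?_, i⟩
    rw [← mul_right_inj (q * (c * ρ b) * q⁻¹), conj_mul, k1 _ _ l, ← i]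
    calc _ = h * (h⁻¹ * q * h⁻¹⁻¹ * (c * ρ b) * (h⁻¹ * q * h⁻¹⁻¹)⁻¹) * h⁻¹ := by group
      _ = _ := by rw [k1 _ _ (j.inv.conj l)]
  refine ⟨_, e1, ?_, n1, k1, k2⟩
  obtain ⟨b0, f, j⟩ := t.nb
  obtain ⟨a, ha, i⟩ := k2 _ _ _ _ j
  rw [← conj_mul, ← e'.comm, mul_inv_cancel_right, j.e, mul_assoc, ← t.p.add, mul_right_inj, t.p.inj.eq_iff] at i
  obtain ⟨a', l⟩ := t.memI.2 ((by decide +kernel : ∀ f b, (act 4 0 f b = b + 0 ∨ act 4 0 f b = b + o) → iI b) f b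
    (ha.imp (fun j : a = 0 => j ▸ i) fun j : a = o => j ▸ i))
  exact l ▸ e'.mulC (t.p'.self a')

theorem zy (ha : iZ a) (hb : iZ b) (e : ρ a = σ b) : a = 0 := by
  rcases hb with rfl | rfl
  · exact t.p.eq1.1 (e.trans t.p'.zero)
  · rw [t.e1, t.p.inj.eq_iff] at e
    exact absurd (e ▸ ha) (by decide)

/-- `C(U) ⊓ C(U') ≤ U` -/
theorem cc (e : A ρ c 1 0 0) (e' : A σ c 1 0 0) : c ∈ range ρ := by
  have w : ∀ c, A ρ c 1 0 0 → c ∈ range σ → c ∈ range ρ := by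
    rintro _ e ⟨b, rfl⟩; exact t.symm.memI.2 (t.cenI e)
  by_contra n
  obtain ⟨c1, a1, a2, a3, a4, a5⟩ := t.zq e e' n
  obtain ⟨c2, b1, b2, b3, -, b5⟩ := t.symm.zq e' e (mt (w c e) n)
  obtain ⟨i, rfl⟩ := t.p.two _ _ a1 b2 a3 fun ⟨a, k⟩ => b3 (k ▸ t.memI.2 (t.symm.cenI (k ▸ b1)))
  have hi : iV i := (by decide +kernel : ∀ i, (∀ f, sm f = 0 → f 0 = 0 → act 1 0 f i ≠ i + o) → iV i) i
    fun f h1 h2 h3 => by
      obtain ⟨r, k⟩ := t.p.su 1 0 f (by decide) h1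
      obtain ⟨_, _, -, j⟩ := t.toR k h2
      obtain ⟨a, ha, l⟩ := b5 _ _ _ _ j
      rw [← conj_mul, a4 _ _ k, k.e, h3, t.p.add, ← mul_assoc, mul_right_inj] at l
      exact absurd (t.zy (.inr rfl) ha l) (by decide)
  have hR : ∀ r α f, A ρ r α 0 f → f 0 = 0 → r * c1 * r⁻¹ = c1 := fun r α f k f0 => by
    obtain ⟨_, _, -, j⟩ := t.toR k f0
    obtain ⟨a, ha, l⟩ := b5 _ _ _ _ j
    obtain ⟨b, hb, m⟩ := a5 _ _ _ _ k
    rw [← conj_mul, m, k.e, (by decide +kernel : ∀ α f i, α ≠ 0 ∧ sm f = 0 ∧ f 0 = 0 ∧ iV i → act α 0 f i = i)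
      _ _ _ ⟨k.1, k.2.1, f0, hi⟩, mul_assoc, t.p.comm, ← mul_assoc, mul_right_inj] at l
    rw [m, t.zy hb ha l, t.p.zero, mul_one]
  obtain ⟨a, ha, l⟩ := t.p.csq a1
  obtain ⟨b, hb, m⟩ := t.p'.csq b1
  rw [t.p.mulsq a1, l] at m
  rw [t.zy ha hb m, t.p.zero] at l
  refine (t.p.oz c1 l fun s α f k => ?_).elim (fun j => a3 ⟨0, t.p.zero.trans j.symm⟩) fun j => a3 ⟨_, j.symm⟩
  by_cases f0 : f 0 = 0
  · exact hR _ _ _ k f0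
  obtain ⟨q, j⟩ := t.p.su 1 0 (d 0 + d 1) (by decide) (by decide)
  have := hR _ _ _ ((j.mul k).cast rfl (by simp) rfl)
    ((by decide +kernel : ∀ f : F, f 0 ≠ 0 → (d 0 + d 1 + pm 1 0 f) 0 = 0) f f0)
  calc _ = q⁻¹ * (q * s * c1 * (q * s)⁻¹) * q⁻¹⁻¹ := by group
    _ = _ := by rw [this, a4 _ _ j.invQ]

theorem actI (e : A ρ c 1 0 0) (e' : A σ c α 0 f) (hi : iI b) : act α 0 f b = b := by
  obtain ⟨a, k⟩ := t.symm.memI.2 hi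
  exact t.p'.inj (by rw [← e'.e, ← k, e.comm, mul_inv_cancel_right])

theorem c14 (e : A ρ c 1 0 0) (n : c ∉ range ρ) : ∃ b, A σ (c * ρ b) 1 0 (d 1 + d 4) := by
  obtain ⟨b, f, k⟩ : ∃ b f, A σ (c * ρ b) 1 0 f := by
    obtain ⟨α, f, -, k⟩ := t.toR e rfl
    rcases (by decide +kernel : ∀ α f, α ≠ 0 → act α 0 f (d 1 + d 4) = d 1 + d 4 → α = 1 ∨ α = 4) α f k.1
      (t.actI e k (by decide)) with rfl | rfl
    · exact ⟨0, f, by rwa [t.p.zero, mul_one]⟩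
    · obtain ⟨f', j⟩ := t.odd (b := d 1) (by decide)
      exact ⟨_, _, (k.mul j).cast (by decide) (by decide) rfl⟩
  have w : ∀ b, ¬ A σ (c * ρ b) 1 0 0 := fun b j => let ⟨a, i⟩ := t.cc (e.mulC (t.p.self b)) j
    n ⟨a + b, by rw [t.p.add, i, mul_assoc, t.p.sq, mul_one]⟩
  have j := k.mulQ t.symm.x0'
  rw [mul_assoc, ← t.p.add] at j
  rcases (by decide +kernel : ∀ f, (∀ b, iI b → act 1 0 f b = b) → f = 0 ∨ f + (o + d 0) = 0 ∨ f = d 1 + d 4 ∨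
    f + (o + d 0) = d 1 + d 4) f fun b => t.actI (e.mulC (t.p.self _)) k with i | i | i | i
  exacts [absurd (i ▸ k) (w _), absurd (i ▸ j) (w _), ⟨_, i ▸ k⟩, ⟨_, i ▸ j⟩]

theorem third (e : A ρ q 1 0 f) (f0 : f 0 ≠ 0) (k : q * σ a * q⁻¹ = σ b) : iI b := by
  obtain ⟨g, rfl⟩ := t.cj
  have e1 := t.e1
  have e2 := t.e2
  simp only [cρ] at e1 e2
  obtain ⟨α, β, f', j⟩ := t.p.ex ((g * q * g)⁻¹ * (q * g)) (by
    rw [← mul_left_inj (g * q * g)⁻¹, ← mul_right_inj (g * q * g)]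
    calc _ = q * (g * ρ o * g⁻¹) * q⁻¹ := by group
      _ = g * ρ (d 0) * g⁻¹ * (g * ρ o * g⁻¹) := by
        rw [e1, e2, e.e, (by decide +kernel : ∀ f : F, f 0 ≠ 0 → act 1 0 f (d 0) = o + d 0) f f0, t.p.add]
      _ = g * (q * (g * ρ o * g⁻¹) * q⁻¹) * g⁻¹ := by
        rw [conj_mul, ← t.p.add, e1, e.e, (by decide +kernel : ∀ f : F, f 0 ≠ 0 → act 1 0 f (d 0) = d 0 + o) f f0]
      _ = _ := by group)
  refine (by decide +kernel : ∀ f b, sm f = 0 → iI (act 1 0 f b) → iI b) f b e.2.1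
    ((t.conj (g * q)).memI.1 ⟨act α β f' a, ?_⟩)
  simp only [cρ] at k ⊢
  rw [← j.e, ← e.invQ.e]
  calc _ = q * (g * ρ a * g⁻¹) * q⁻¹ := by group
    _ = _ := by rw [k]; group

end Tw
end H16.Ti

end H226
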