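import Cfsg.Agent.H26.T2.H16Ti2
/-! Type Tits, part 3: commutators of the involutions `X j` of `Q`, squares in `Q`, the involutions of `C(z)`,
the subgroup `Ω ρ` generated by the involutions of `Q`. -/
set_option autoImplicit false
set_option linter.unusedSectionVars false
namespace H16 end H16 namespace H16.Ti end H16.Ti namespace H16.Ti.Tw end H16.Ti.Tw namespace H226 end H226
open H226
namespace H226
namespace H16.Ti
open _root_.H16 _root_.H16.Ti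
open Subgroup Function Set

variable {G : Type*} [Group G] {ρ σ : F → G} {g h k c m q r x y : G} {α β α' β' i j : ZMod 5} {f f' a b n : F}

/-- involutions acting as the functional `x_j` -/
def X (ρ : F → G) (j : ZMod 5) (x : G) : Prop := x * x = 1 ∧ A ρ x 1 0 (o + d j)

/-- the commutator of `q` with an involution of type `x_j` -/
def Cm (ρ : F → G) (j : ZMod 5) (q : G) (f n : F) : Prop :=
  ev (pm 1 j n) ∧ (f j = 0 ↔ iI (pm 1 j n)) ∧ (f = 0 → iV (pm 1 j n) ∧ (q ∈ range ρ ↔ iZ n))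

abbrev N (j : ZMod 5) (n : F) : Prop := ev (pm 1 j n) ∧ ¬ iI (pm 1 j n)

theorem X.conj (e : X ρ i x) (k : A ρ h α β f) (hj : α * j + β = i) : X ρ j (h * x * h⁻¹) :=
  ⟨by rw [conj_mul, e.1]; simp, (k.conj e.2).cast rfl rfl
    (hj ▸ (by decide +kernel : ∀ α β j, α ≠ 0 → pm α β (o + d (α * j + β)) = o + d j) α β j k.1)⟩

theorem Pt.nU (p : Pt ρ) (n : c ∉ range ρ) (b : F) : c * ρ b ∉ range ρ :=
  fun ⟨a, j⟩ => n ⟨a + b, by rw [p.add, j, mul_assoc, p.sq, mul_one]⟩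

theorem A.memU (e : A ρ h α β f) : h * x * h⁻¹ ∈ range ρ ↔ x ∈ range ρ :=
  ⟨fun ⟨b, j⟩ => ⟨_, by rw [← e.inv.e, j]; group⟩, fun ⟨b, j⟩ => ⟨_, by rw [← e.e, j]⟩⟩

theorem inv2 {u m : G} (hu : u * u = 1) (h : u * m * (u * m) = 1) : m * u * m⁻¹ = u * (m * m)⁻¹ :=
  calc _ = u⁻¹ * (u * m * (u * m)) * (m * m)⁻¹ := by group
    _ = _ := by rw [h, mul_one, inv_eq_of_mul_eq_one_right hu]

theorem addZ : ∀ n a, iZ a → (ev (n + a) ↔ ev n) ∧ (iI (n + a) ↔ iI n) ∧ (iV (n + a) ↔ iV n) ∧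
    (iZ (n + a) ↔ iZ n) := by decide +kernel

namespace Tw
open _root_.H16.Ti.Tw
variable (t : Tw ρ σ)
include t

theorem X0 : X ρ 0 (σ (d 1 + d 2)) := ⟨t.p'.sq _, t.x0'⟩

theorem exX (j : ZMod 5) : ∃ x, X ρ j x := let ⟨_, e, _⟩ := t.xj j; ⟨_, t.X0.conj e (by simp)⟩

theorem cU (e : A ρ x 1 0 f) (x2 : x * x = 1) (b : F) : ∃ n, iZ n ∧ ρ b * x * (ρ b)⁻¹ = x * ρ n :=
  ⟨_, (by decide +kernel : ∀ f b, iZ (act 1 0 f b + b)) f b, by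
    rw [t.p.add, ← e.e, t.p.inv, inv_eq_of_mul_eq_one_right x2, ← mul_assoc, ← mul_assoc, ← mul_assoc, x2, one_mul]⟩

theorem cx (e : A ρ c 1 0 0) (n : c ∉ range ρ) :
    ∃ n, iZ (n + d 0) ∧ c * σ (d 1 + d 2) * c⁻¹ = σ (d 1 + d 2) * ρ n := by
  obtain ⟨b, k⟩ := t.c14 e n
  obtain ⟨a, ha, j⟩ := t.cU t.x0' (t.p'.sq _) b
  refine ⟨d 0 + a, by rwa [add_right_comm, add_self, zero_add], ?_⟩
  have := k.e (d 1 + d 2)
  rw [show act 1 0 (d 1 + d 4) (d 1 + d 2) = d 1 + d 2 + o by decide, t.p'.add _ o, t.e1] at this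
  calc _ = c * (ρ b * ρ b) * σ (d 1 + d 2) * (c * (ρ b * ρ b))⁻¹ := by rw [t.p.sq, mul_one]
    _ = c * ρ b * (ρ b * σ (d 1 + d 2) * (ρ b)⁻¹) * (c * ρ b)⁻¹ := by group
    _ = _ := by rw [j, ← conj_mul, this, (e.mulC (t.p.self b)).e, act_one, mul_assoc, ← t.p.add]

theorem same0 (e : X ρ 0 x) : ∃ b, ev b ∧ x = σ (d 1 + d 2) * ρ b := by
  have k := t.x0'.div e.2
  by_cases n : (σ (d 1 + d 2))⁻¹ * x ∈ range ρ
  · obtain ⟨b, n⟩ := n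
    have n : x = σ (d 1 + d 2) * ρ b := by rw [n, mul_inv_cancel_left]
    refine ⟨b, (by decide +kernel : ∀ b, act 1 0 (o + d 0) b + b = 0 → ev b) b (t.p.eq1.1 ?_), n⟩
    rw [t.p.add, ← t.x0'.e, t.p'.inv, mul_assoc, ← n, e.1]
  obtain ⟨a, ha, j⟩ := t.cx k n
  obtain ⟨b, hb, i⟩ := t.p.csq k
  refine absurd ha ((by decide +kernel : ∀ b, iZ b → ¬ iZ (b + d 0)) a (t.p.inj (?_ : ρ a = ρ b) ▸ hb))
  rw [← t.p.inv b, ← i, ← mul_right_inj (σ (d 1 + d 2)), ← j]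
  exact inv2 (t.p'.sq _) (by rw [mul_inv_cancel_left, e.1])

theorem cm0 (e : A ρ q 1 0 f) : ∃ n, Cm ρ 0 q f n ∧ q * σ (d 1 + d 2) * q⁻¹ = σ (d 1 + d 2) * ρ n := by
  obtain ⟨n, h1, h2⟩ := t.same0 (t.X0.conj e (by simp))
  refine ⟨n, ?_, h2⟩
  rw [Cm, pm_one]
  refine ⟨h1, ⟨fun f0 => ?_, fun hn => by_contra fun f0 => ?_⟩, ?_⟩
  · obtain ⟨α, f', -, k⟩ := t.toR e f0
    exact t.memI.1 ⟨d 1 + d 2 + act α 0 f' (d 1 + d 2), by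
      rw [t.p'.add _ (act _ _ _ _), ← k.e, h2, ← mul_assoc, t.p'.sq, one_mul]⟩
  · obtain ⟨a, ha, k⟩ := t.toI hn
    exact (by decide +kernel : ∀ a, iI a → ¬ iI (d 1 + d 2 + a)) a ha (t.third e f0 (by rw [h2, t.p'.add _ a, k]))
  rintro rfl
  by_cases k : q ∈ range ρ
  · obtain ⟨b, rfl⟩ := k
    obtain ⟨a, ha, j⟩ := t.cU t.x0' (t.p'.sq _) b
    obtain rfl : a = n := t.p.inj (mul_left_cancel (j.symm.trans h2))
    exact ⟨by rcases ha with rfl | rfl <;> decide, iff_of_true ⟨b, rfl⟩ ha⟩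
  · obtain ⟨a, ha, j⟩ := t.cx e k
    obtain rfl : a = n := t.p.inj (mul_left_cancel (j.symm.trans h2))
    exact ((by decide +kernel : ∀ a, iZ (a + d 0) → iV a ∧ ¬ iZ a) a ha).imp_right (iff_of_false k)

theorem cm (hx : X ρ j x) (e : A ρ q 1 0 f) : ∃ n, Cm ρ j q f n ∧ q * x * q⁻¹ = x * ρ n := by
  obtain ⟨h, k⟩ := t.p.su 1 j 0 (by decide) rfl
  obtain ⟨b, -, l⟩ := t.same0 (hx.conj k (by simp))
  obtain ⟨n, ⟨c1, c2, c3⟩, m⟩ := t.cm0 (k.conj e)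
  obtain ⟨n', e1, e2⟩ := k.sur (n + (act 1 0 (pm 1 j f) b + b))
  obtain ⟨z1, z2, z3, z4⟩ := addZ n _ ((by decide +kernel : ∀ f b, iZ (act 1 0 f b + b)) (pm 1 j f) b)
  rw [pm_one] at c1 c2 c3
  rw [act_zero] at e1
  refine ⟨n', ?_, ?_⟩
  · rw [Cm, e1, z1, z2, z3, ← (by decide +kernel : ∀ j n, iZ (pm 1 j n) ↔ iZ n) j n', e1, z4, ← k.memU (x := q)]
    exact ⟨c1, by simpa [pm] using c2, fun f0 => c3 (by rw [f0]; rfl)⟩
  rw [← mul_left_inj h⁻¹, ← mul_right_inj h, ← mul_assoc h (x * _), ← conj_mul, e2, l]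
  calc _ = h * q * h⁻¹ * (h * x * h⁻¹) * (h * q * h⁻¹)⁻¹ := by group
    _ = _ := by
      rw [l, ← conj_mul, m, (k.conj e).e, mul_assoc, mul_assoc, ← t.p.add, ← t.p.add, add_comm b, add_assoc n,
        add_assoc, add_self, add_zero]

theorem same (e : X ρ j x) (e' : X ρ j y) : ∃ b, y = x * ρ b := by
  obtain ⟨a, ⟨-, -, k⟩, l⟩ := t.cm e (e.2.div e'.2)
  obtain ⟨b, hb, i⟩ := t.p.csq (e.2.div e'.2)
  rw [inv2 e.1 (by rw [mul_inv_cancel_left, e'.1]), i, t.p.inv, mul_right_inj, t.p.inj.eq_iff] at l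
  obtain ⟨b, i⟩ := (k rfl).2.2 (l ▸ hb)
  exact ⟨b, by rw [i, mul_inv_cancel_left]⟩

theorem sqx (e : X ρ i x) (e' : X ρ j y) (ij : i ≠ j) : ∃ n, N i n ∧ N j n ∧ x * y * (x * y) = ρ n := by
  have w : ∀ i j, i ≠ j → (o + d i) j ≠ 0 := by decide
  obtain ⟨a, ⟨a1, a2, -⟩, k⟩ := t.cm e e'.2
  obtain ⟨b, ⟨b1, b2, -⟩, l⟩ := t.cm e' e.2
  have l' : x * y * (x * y) = ρ (act 1 0 (o + d j) b) := by
    rw [← e'.2.e, ← l, inv_eq_of_mul_eq_one_right e.1, inv_eq_of_mul_eq_one_right e'.1, mul_assoc (x * y)]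
  have k' : x * y * (x * y) = ρ a := by
    rw [← mul_right_inj x, ← k, inv_eq_of_mul_eq_one_right e'.1, ← mul_assoc, ← mul_assoc, ← mul_assoc, e.1, one_mul]
  refine ⟨a, ⟨a1, mt a2.2 (w _ _ ij.symm)⟩, ?_, k'⟩
  rw [t.p.inj (k'.symm.trans l')]
  exact (by decide +kernel : ∀ j b, N j b → N j (act 1 0 (o + d j) b)) j b ⟨b1, mt b2.2 (w _ _ ij)⟩

theorem sq2 (e : X ρ i x) (e' : X ρ j y) (ij : i ≠ j) (hm : A ρ m 1 0 0) : ∃ n,
    x * y * m * (x * y * m) = ρ n ∧ n ≠ 0 ∧ (m ∈ range ρ → N i n ∧ N j n) := by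
  obtain ⟨n, n1, n2, k⟩ := t.sqx e e' ij
  obtain ⟨a, ⟨-, a1, a2⟩, l1⟩ := t.cm e hm
  obtain ⟨b, ⟨-, b1, b2⟩, l2⟩ := t.cm e' hm
  obtain ⟨c, hc, l3⟩ := t.p.csq hm
  refine ⟨n + (act 1 0 (o + d j) a + b + c), ?_, ?_⟩
  · calc _ = x * y * (m * x * m⁻¹ * (m * y * m⁻¹)) * (m * m) := by group
      _ = x * y * (x * y) * (y⁻¹ * ρ a * y⁻¹⁻¹ * ρ b * ρ c) := by rw [l1, l2, l3]; group
      _ = _ := by rw [k, e'.2.invQ.e, ← t.p.add, ← t.p.add, ← t.p.add]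
  obtain ⟨a3, a4⟩ := a2 rfl
  obtain ⟨b3, b4⟩ := b2 rfl
  have u : ∀ j a, iZ (act 1 0 (o + d j) a + a) := by decide +kernel
  have v : ∀ j a, iV (pm 1 j a) → iZ a ∨ iZ (a + d j) := by decide +kernel
  have w : ∀ a b c, iZ a → iZ b → iZ c → iZ (a + b + c) := by rintro _ _ _ (rfl | rfl) (rfl | rfl) (rfl | rfl) <;> decide
  by_cases hm' : m ∈ range ρ
  · have : ∀ i n a, iZ a → N i n → N i (n + a) ∧ n + a ≠ 0 := by
      rintro i n _ (rfl | rfl) <;> revert i n <;> decide +kernel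
    have z := w _ _ _ (by simpa [add_assoc, add_self] using w _ _ 0 (u j a) (a4.1 hm') (.inl rfl) :
      iZ (act 1 0 (o + d j) a)) (b4.1 hm') hc
    exact ⟨(this _ _ _ z n1).2, fun _ => ⟨(this _ _ _ z n1).1, (this _ _ _ z n2).1⟩⟩
  refine ⟨fun z => ?_, fun z => absurd z hm'⟩
  have z1 := w _ _ _ (w _ _ _ (u j a) ((v _ _ a3).resolve_left (mt a4.2 hm')) ((v _ _ b3).resolve_left (mt b4.2 hm')))
    hc (.inl rfl)
  refine (by decide +kernel : ∀ i j n, i ≠ j → ev (pm 1 i n) → ¬ iZ (n + (d i + d j))) i j n ij n1.1 ?_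
  convert z1 using 1
  rw [eq_neg_of_add_eq_zero_left z, neg_eq_of_add_eq_zero_left (add_self _)]
  linear_combination (exp := 1) - add_self a

theorem sq2' (e : A ρ q 1 0 (d i + d j)) (ij : i ≠ j) : q * q ≠ 1 := fun z => by
  obtain ⟨x, hx⟩ := t.exX i
  obtain ⟨y, hy⟩ := t.exX j
  obtain ⟨n, k, n0, -⟩ := t.sq2 hx hy ij (((hx.2.mulQ hy.2).cast rfl rfl
    ((by decide +kernel : ∀ i j, o + d i + (o + d j) = d i + d j) i j)).div e)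
  rw [mul_inv_cancel_left, z] at k
  exact n0 (t.p.eq1.1 k.symm)

theorem cz (e : A ρ c 1 0 0) (n : c ∉ range ρ) : c * c = ρ o := by
  obtain ⟨b, k⟩ := t.c14 e n
  obtain ⟨a, rfl | rfl, l⟩ := t.p.csq e
  · exact absurd (by rw [t.p.mulsq e, l, t.p.zero]) (t.symm.sq2' k (by decide))
  · exact l

/-- the involutions of `Q` -/
theorem invQ (e : A ρ x 1 0 f) (x2 : x * x = 1) : x ∈ range ρ ∨ ∃ j, X ρ j x := by
  rcases (by decide +kernel : ∀ f, sm f = 0 → f = 0 ∨ (∃ j, f = o + d j) ∨ ∃ i j, i ≠ j ∧ f = d i + d j) f e.2.1 with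
    rfl | ⟨j, rfl⟩ | ⟨i, j, ij, rfl⟩
  · refine .inl (by_contra fun n => absurd (t.p.eq1.1 ((t.cz e n).symm.trans x2)) (by decide))
  · exact .inr ⟨j, x2, e⟩
  · exact absurd x2 (t.sq2' e ij)

theorem invX (e : X ρ j x) : ∃ h α β f b, A ρ h α β f ∧ ev b ∧ ¬ iI b ∧ h * x * h⁻¹ = σ b := by
  obtain ⟨h, k⟩ := t.p.su 1 j 0 (by decide) rfl
  obtain ⟨b, hb, l⟩ := t.same0 (e.conj k (by simp))
  have w : ∀ a, iI a → ev (d 1 + d 2 + a) ∧ ¬ iI (d 1 + d 2 + a) := by decide +kernel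
  by_cases i : iI b
  · obtain ⟨a, ha, i⟩ := t.toI i
    exact ⟨h, _, _, _, _, k, (w a ha).1, (w a ha).2, by rw [l, t.p'.add _ a, i]⟩
  obtain ⟨q, u⟩ := t.p.su 1 0 (d 0 + d 1) (by decide) (by decide)
  obtain ⟨n, ⟨n1, n2, -⟩, v⟩ := t.cm0 u
  rw [pm_one] at n1 n2
  obtain ⟨a, ha, i⟩ := t.toI ((by decide +kernel : ∀ n b, ev n ∧ ¬ iI n ∧ ev b ∧ ¬ iI b →
    iI (n + act 1 0 (d 0 + d 1) b)) n b ⟨n1, mt n2.2 (by decide), hb, i⟩)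
  exact ⟨q * h, _, _, _, _, u.mul k, (w a ha).1, (w a ha).2, by
    rw [t.p'.add _ a, i, t.p.add, ← mul_assoc, ← v, ← u.e, conj_mul, ← l]; group⟩

theorem inv4 (e : A ρ x 4 0 f) (x2 : x * x = 1) : ∃ q g b, A ρ q 1 0 g ∧ q * x * q⁻¹ = σ b := by
  obtain ⟨b, f', k⟩ := t.nb
  obtain ⟨g, g0, hg⟩ := (by decide +kernel : ∀ f f', f + pm 4 0 f = 0 ∧ f' + pm 4 0 f' = 0 ∧ sm f = 0 ∧ sm f' = 0 →
    ∃ g, sm g = 0 ∧ g + pm 1 0 f + pm 4 0 g = f') f f' ⟨(t.p.uniq (x2 ▸ e.mul e) .one).2.2,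
      (t.p.uniq (t.p'.sq b ▸ k.mul k) .one).2.2, e.2.1, k.2.1⟩
  obtain ⟨q, u⟩ := t.p.su 1 0 g (by decide) g0
  have l := k.div (((u.mul e).mul u.invQ).cast (by decide) (by decide) hg)
  have s : σ b * ((σ b)⁻¹ * (q * x * q⁻¹)) * (σ b * ((σ b)⁻¹ * (q * x * q⁻¹))) = 1 := by
    rw [mul_inv_cancel_left, conj_mul, x2, mul_one, mul_inv_cancel]
  refine ⟨q, g, ?_⟩
  by_cases n : (σ b)⁻¹ * (q * x * q⁻¹) ∈ range ρ
  · obtain ⟨a, n⟩ := n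
    obtain ⟨a', i⟩ := t.memI.2 (t.fixI k (b := a) (by
      rw [t.p'.inv, ← mul_left_inj (ρ a), t.p.sq, n, mul_assoc, s]))
    exact ⟨b + a', u, by rw [t.p'.add, i, n, mul_inv_cancel_left]⟩
  have v := inv2 (t.p'.sq b) s
  obtain ⟨α, f'', -, w⟩ := t.toR l rfl
  rw [t.cz l n, t.p.inv, w.e, ← t.e2, ← t.p'.add, t.p'.inj.eq_iff] at v
  refine absurd (t.symm.memQ.2 ?_) fun ⟨_, z⟩ => absurd (t.p.uniq z k).1 (by decide)
  exact (by decide +kernel : ∀ α f b, act α 0 f (d 1 + d 4) = d 1 + d 4 → act α 0 f b = b + d 0 → ev b) α f'' b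
    (t.actI l w (by decide)) v

/-- every involution of `H` is conjugate in `H` into `U` or `U'` -/
theorem inv (e : A ρ x α β f) (x2 : x * x = 1) :
    ∃ h α β f, A ρ h α β f ∧ (h * x * h⁻¹ ∈ range ρ ∨ h * x * h⁻¹ ∈ range σ) := by
  rcases t.pm1 e x2 with ⟨rfl, rfl⟩ | rfl
  · rcases t.invQ e x2 with k | ⟨j, k⟩
    · exact ⟨1, _, _, _, .one, .inl (by simpa using k)⟩
    · obtain ⟨h, _, _, _, b, k, -, -, l⟩ := t.invX k
      exact ⟨h, _, _, _, k, .inr ⟨b, l.symm⟩⟩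
  obtain ⟨h, k⟩ := t.p.su 1 (3 * β) 0 (by decide) rfl
  obtain ⟨q, _, b, l, m⟩ := t.inv4 (((k.mul e).mul k.inv).cast (by decide)
    ((by decide : ∀ β : ZMod 5, 1 ^ 3 * (4 * (3 * β) + β) + -(1 ^ 3 * (3 * β)) = 0) β) rfl)
    (by rw [conj_mul, x2, mul_one, mul_inv_cancel])
  exact ⟨q * h, _, _, _, l.mul k, .inr ⟨b, by rw [← m]; group⟩⟩

end Tw
end H16.Ti

end H226
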