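import Cfsg.Agent.H26.T2.H16Ti3
/-! Type Tits, part 4: the subgroup `Ω ρ` generated by the involutions of `Q` and the subgroup of index two of
`H = C(z)` when `C(U) ≠ U`. -/
set_option autoImplicit false
set_option linter.unusedSectionVars false
namespace H16 end H16 namespace H16.Ti end H16.Ti namespace H16.Ti.Tw end H16.Ti.Tw namespace H226 end H226 namespace H26 end H26
open H226
namespace H226
namespace H16.Ti
open _root_.H16 _root_.H16.Ti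
open Subgroup Function H26 _root_.H26
open Set (range)

variable {G : Type*} [Group G] {ρ σ : F → G} {g h k c m q r s x y : G} {α β α' β' i j : ZMod 5} {f f' a b n : F}

/-- generated by the involutions of `Q` -/
def Ω (ρ : F → G) : Subgroup G := closure {x | x * x = 1 ∧ ∃ f, A ρ x 1 0 f}

def B (f : F) : F := fun i =>
  if i = 1 then f 3 + f 4 else if i = 2 then f 1 + f 3 else if i = 3 then f 2 + f 4 else if i = 4 then f 1 + f 2 else 0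

theorem memΩ (x2 : x * x = 1) (e : A ρ x 1 0 f) : x ∈ Ω ρ := subset_closure ⟨x2, f, e⟩
theorem Pt.UΩ (p : Pt ρ) (b : F) : ρ b ∈ Ω ρ := memΩ (p.sq b) (p.self b)

theorem Ω_conj (e : ∀ x f, A ρ x 1 0 f → ∃ f', A σ (g * x * g⁻¹) 1 0 f') (hq : q ∈ Ω ρ) : g * q * g⁻¹ ∈ Ω σ :=
  (closure_le ((Ω σ).comap (MulAut.conj g).toMonoidHom)).2 (fun x (hx : x * x = 1 ∧ ∃ f, A ρ x 1 0 f) =>
    let ⟨x2, f, k⟩ := hx; let ⟨_, l⟩ := e x f k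
    (memΩ (by rw [conj_mul, x2, mul_one, mul_inv_cancel]) l : g * x * g⁻¹ ∈ Ω σ)) hq

theorem A.Ω (e : A ρ h α β f) (hq : q ∈ Ω ρ) : h * q * h⁻¹ ∈ Ω ρ := Ω_conj (fun _ _ k => ⟨_, e.conj k⟩) hq

theorem A.pow (e : A ρ h α β f) (k : ℕ) : ∃ β' f', A ρ (h ^ k) (α ^ k) β' f' ∧ (α = 1 → β' = k * β) ∧
    (β = 0 → β' = 0) := by
  induction k with
  | zero => exact ⟨0, 0, by simpa using A.one, by simp, by simp⟩
  | succ k ih =>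
    obtain ⟨β', f', a, b, c⟩ := ih
    exact ⟨_, _, pow_succ h k ▸ (a.mul e).cast (pow_succ' α k).symm rfl rfl,
      fun j => by rw [b j, j]; push_cast; ring, fun j => by rw [c j, j]; simp⟩

namespace Tw
open _root_.H16.Ti.Tw
variable (t : Tw ρ σ)
include t

theorem Ω_spec (hq : q ∈ Ω ρ) :
    ∃ f n, A ρ q 1 0 f ∧ iZ (n + B f) ∧ q * σ (d 1 + d 2) * q⁻¹ = σ (d 1 + d 2) * ρ n := by
  have k : ∀ x ∈ {x | x * x = 1 ∧ ∃ f, A ρ x 1 0 f},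
      ∃ f n, A ρ x 1 0 f ∧ iZ (n + B f) ∧ x * σ (d 1 + d 2) * x⁻¹ = σ (d 1 + d 2) * ρ n := by
    rintro x ⟨x2, f, e⟩
    rcases t.invQ e x2 with ⟨b, rfl⟩ | ⟨j, e⟩
    · obtain ⟨n, h1, h2⟩ := t.cU t.x0' (t.p'.sq _) b
      exact ⟨0, n, t.p.self b, by rcases h1 with rfl | rfl <;> decide, h2⟩
    by_cases j0 : j = 0
    · subst j0
      obtain ⟨b, -, rfl⟩ := t.same0 e
      obtain ⟨n, h1, h2⟩ := t.cU t.x0' (t.p'.sq _) b
      refine ⟨_, act 1 0 (o + d 0) n, e.2, by rcases h1 with rfl | rfl <;> decide, ?_⟩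
      rw [← t.x0'.e, ← mul_assoc, ← mul_assoc, mul_assoc _ _ (ρ n), ← h2]; group
    obtain ⟨n, h1, h2, h3⟩ := t.sqx t.X0 e (Ne.symm j0)
    refine ⟨_, n, e.2, (by decide +kernel : ∀ j n, j ≠ 0 ∧ N 0 n ∧ N j n → iZ (n + B (o + d j))) j n ⟨j0, h1, h2⟩, ?_⟩
    rw [← h3, ← mul_assoc, ← mul_assoc, ← mul_assoc, t.p'.sq, one_mul, inv_eq_of_mul_eq_one_right x2]
  induction hq using closure_induction'' with
  | mem x hx => exact k x hx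
  | inv_mem x hx => exact (inv_eq_of_mul_eq_one_right hx.1).symm ▸ k x hx
  | one => exact ⟨0, 0, .one, by decide, by simp [t.p.zero]⟩
  | mul x y _ _ hx hy =>
    obtain ⟨f, n, a1, a2, a3⟩ := hx
    obtain ⟨f', n', b1, b2, b3⟩ := hy
    refine ⟨_, n + act 1 0 f n', a1.mulQ b1, ?_, ?_⟩
    · have := (addZ _ _ ((by decide +kernel : ∀ f b, iZ (act 1 0 f b + b)) f n')).2.2.2.2 ((addZ _ _ b2).2.2.2.2 a2)
      rw [(by decide +kernel : ∀ f f', B (f + f') = B f + B f')]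
      convert this using 1
      linear_combination (exp := 1) - add_self n'
    · calc _ = x * (y * σ (d 1 + d 2) * y⁻¹) * x⁻¹ := by group
        _ = _ := by rw [b3, ← conj_mul, a3, a1.e, t.p.add, mul_assoc]

theorem ΩQ (hq : q ∈ Ω ρ) : ∃ f, A ρ q 1 0 f := let ⟨f, _, e, _⟩ := t.Ω_spec hq; ⟨f, e⟩

theorem ΩC (hq : q ∈ Ω ρ) (e : A ρ q 1 0 0) : q ∈ range ρ := by
  obtain ⟨f, n, a1, a2, a3⟩ := t.Ω_spec hq
  obtain ⟨n', ⟨-, -, b⟩, b3⟩ := t.cm0 e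
  obtain ⟨-, -, rfl⟩ := t.p.uniq e a1
  obtain rfl : n = n' := t.p.inj (mul_left_cancel (a3.symm.trans b3))
  exact (b rfl).2.2 (by rwa [show B 0 = 0 by decide, add_zero] at a2)

theorem Ωf (hf : sm f = 0) : ∃ x ∈ Ω ρ, A ρ x 1 0 f :=
  t.p.gen _ (fun j _ => let ⟨x, e⟩ := t.exX j; ⟨x, memΩ e.1 e.2, e.2⟩) hf

theorem Ωtwo (e : A ρ q 1 0 f) (e' : A ρ r 1 0 f') (n : q ∉ Ω ρ) (n' : r ∉ Ω ρ) : q * r ∈ Ω ρ := by
  have w : ∀ q f, A ρ q 1 0 f → q ∉ Ω ρ → ∃ x ∈ Ω ρ, A ρ (x⁻¹ * q) 1 0 0 ∧ x⁻¹ * q ∉ range ρ := fun q f e n =>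
    let ⟨x, hx, k⟩ := t.Ωf e.2.1
    ⟨x, hx, k.div e, fun ⟨b, l⟩ => n (by simpa [l] using mul_mem hx (t.p.UΩ b))⟩
  obtain ⟨x, hx, a1, a2⟩ := w _ _ e n
  obtain ⟨y, hy, b1, b2⟩ := w _ _ e' n'
  obtain ⟨b, l⟩ := t.p.two _ _ a1 b1 a2 b2
  have := mul_mem (mul_mem (mul_mem hx (a1.Ω hy)) (t.cz a1 a2 ▸ t.p.UΩ o)) (t.p.UΩ b)
  rwa [mul_assoc _ _ (ρ b), mul_assoc _ _ (ρ b), ← l, show x * (x⁻¹ * q * y * (x⁻¹ * q)⁻¹) * (x⁻¹ * q * (y⁻¹ * r)) =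
    q * r by group] at this

theorem Ωsq (hq : q ∈ Ω ρ) (e : A ρ q 1 0 (d i + d j)) (ij : i ≠ j) : ∃ n, N i n ∧ N j n ∧ q * q = ρ n := by
  obtain ⟨x, hx⟩ := t.exX i
  obtain ⟨y, hy⟩ := t.exX j
  have l := ((hx.2.mulQ hy.2).cast rfl rfl ((by decide +kernel : ∀ i j, o + d i + (o + d j) = d i + d j) i j)).div e
  obtain ⟨n, k, -, n0⟩ := t.sq2 hx hy ij l
  rw [mul_inv_cancel_left] at k
  have := n0 (t.ΩC (mul_mem (inv_mem (mul_mem (memΩ hx.1 hx.2) (memΩ hy.1 hy.2))) hq) l)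
  exact ⟨n, this.1, this.2, k⟩

theorem Ω14 (e : A ρ c 1 0 0) (n : c ∉ range ρ) (k : A σ (c * ρ b) 1 0 (d 1 + d 4)) : c * ρ b ∉ Ω σ := fun l => by
  obtain ⟨a, a1, a2, a3⟩ := t.symm.Ωsq l k (by decide)
  rw [t.p.mulsq e, t.cz e n, ← t.e2, t.p'.inj.eq_iff] at a3
  subst a3
  exact absurd a1 (by decide)

theorem ΩΩ (e : A ρ c 1 0 0) (n : c ∉ range ρ) (hr : r ∈ Ω σ) (k : A ρ r 1 0 f) : r ∈ Ω ρ := by
  obtain ⟨f', k'⟩ := t.symm.ΩQ hr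
  have u := t.symm.x0'
  obtain ⟨b, hb, l⟩ : ∃ b, ρ b ∈ Ω σ ∧ (A σ (r * ρ b) 1 0 0 ∨ A σ (r * ρ b) 1 0 (d 1 + d 4)) := by
    have j := k'.mulQ u
    have j' : A σ (r * ρ 0) 1 0 f' := by rwa [t.p.zero, mul_one]
    have z : ρ 0 ∈ Ω σ := t.p.zero ▸ one_mem _
    rcases (by decide +kernel : ∀ f, (∀ b, iI b → act 1 0 f b ≠ b + o) → f = 0 ∨ f + (o + d 0) = 0 ∨ f = d 1 + d 4 ∨
      f + (o + d 0) = d 1 + d 4) f' fun b hb l => by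
        obtain ⟨a, -, i⟩ := t.symm.toI hb
        have := k'.e b
        rw [l, t.p'.add, ← i, k.e, t.e1, ← t.p.add, t.p.inj.eq_iff] at this
        exact (by decide +kernel : ∀ f a, act 1 0 f a ≠ a + d 0) f a this with i | i | i | i
    exacts [⟨_, z, .inl (i ▸ j')⟩, ⟨_, memΩ (t.p.sq _) u, .inl (i ▸ j)⟩, ⟨_, z, .inr (i ▸ j')⟩,
      ⟨_, memΩ (t.p.sq _) u, .inr (i ▸ j)⟩]
  refine (mul_mem_cancel_right (t.p.UΩ b)).1 ?_
  have hr' := mul_mem hr hb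
  have k1 := k.mulC (t.p.self b)
  rcases l with l | l
  · obtain ⟨a, i⟩ := t.symm.ΩC hr' l
    exact memΩ (i ▸ t.p'.sq a) k1
  obtain ⟨b0, l0⟩ := t.c14 e n
  have c0 := e.mulC (t.p.self b0)
  have m0 := l0.div l
  have m1 : (c * ρ b0)⁻¹ * (r * ρ b) ∉ range σ := fun ⟨a, i⟩ => t.Ω14 e n l0 (by
    simpa [i, mul_assoc] using mul_mem hr' (inv_mem (t.p'.UΩ a)))
  obtain ⟨b1, l1⟩ := t.symm.c14 m0 m1
  have m2 := c0.invQ.mulQ k1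
  have := t.Ωtwo c0 m2 (fun i => t.p.nU n b0 (t.ΩC i c0)) fun i => t.symm.Ω14 m0 m1 l1 (mul_mem i
    (memΩ (t.p'.sq b1) (inv_mul_cancel_left _ (σ b1) ▸ m2.invQ.mulQ l1)))
  rwa [mul_inv_cancel_left] at this

theorem exS : ∃ s ∈ Ω σ, ∃ α f, (α = 2 ∨ α = 3) ∧ A ρ s α 0 f ∧ f 0 = 0 ∧ s * s ∈ range σ := by
  obtain ⟨s, hs, e⟩ := t.symm.Ωf (f := d 1 + d 2) (by decide)
  obtain ⟨α, f, f0, k⟩ := t.symm.toR e (by decide)
  obtain ⟨n, -, -, l⟩ := t.symm.Ωsq hs e (by decide)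
  obtain ⟨a, ha, i⟩ := t.symm.toI (b := d 1 + d 4) (by decide)
  have := e.e (d 1 + d 4)
  rw [show act 1 0 (d 1 + d 2) (d 1 + d 4) = d 1 + d 4 + o by decide, t.p'.add _ o, ← i, k.e, t.e1, ← t.p.add,
    t.p.inj.eq_iff] at this
  exact ⟨s, hs, α, f, (by decide +kernel : ∀ α f a, α ≠ 0 ∧ iI a ∧ act α 0 f a = a + d 0 → α = 2 ∨ α = 3) α f a
    ⟨k.1, ha, this⟩, k, f0, n, l.symm⟩

theorem swapQ (e : g * ρ o * g⁻¹ = σ o) (k : A ρ x 1 0 f) : ∃ f', A σ (g * x * g⁻¹) 1 0 f' := by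
  obtain ⟨g', rfl⟩ := t.cj
  obtain ⟨α, β, f', l⟩ := t.p.ex (g'⁻¹ * g) (by
    rw [← mul_left_inj g'⁻¹, ← mul_right_inj g', ← mul_assoc g' (ρ o)]
    exact Eq.trans (by group) e)
  exact ⟨_, by simpa [mul_assoc] using (l.conj k).cj g'⟩

theorem exH0 [Finite G] (ec : A ρ c 1 0 0) (n : c ∉ range ρ) : ∃ H₀ : Subgroup G, H₀ ≤ centralizer {ρ o} ∧
    H₀.relIndex (centralizer {ρ o}) = 2 ∧ c ∉ H₀ ∧ (∀ x, x * ρ o = ρ o * x → x * x = 1 → x ∈ H₀) ∧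
    ∀ g, g * ρ o * g⁻¹ = σ o → g * σ o * g⁻¹ = ρ o → ∀ x ∈ H₀, x * σ o = σ o * x → g * x * g⁻¹ ∈ H₀ := by
  obtain ⟨s, hs, α, fs, hα, es, f0, bs, s2⟩ := t.exS
  obtain ⟨e0, e1⟩ := t.p.su 1 1 0 (by decide) rfl
  have pw : ∀ k : ℕ, ∃ f, A ρ ((e0 ^ 6) ^ k) 1 k f := fun k => by
    obtain ⟨_, f, a, b, -⟩ := e1.pow (6 * k)
    exact ⟨f, pow_mul e0 6 k ▸ a.cast (one_pow _) (by rw [b rfl]; push_cast; rw [show (6 : ZMod 5) = 1 by decide]; ring) rfl⟩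
  have two : ∀ q f h α β f', A ρ q 1 0 f → A ρ h α β f' → q * (h * q * h⁻¹) ∈ Ω ρ := fun q f h α β f' a b => by
    by_cases l : q ∈ Ω ρ
    · exact mul_mem l (b.Ω l)
    · exact t.Ωtwo a (b.conj a) l fun i => l (by simpa [mul_assoc] using b.inv.Ω i)
  have e5 : (e0 ^ 6) ^ 5 ∈ Ω ρ := by
    obtain ⟨_, f, a, b, -⟩ := e1.pow 15
    simpa [← pow_mul, ← pow_add] using two _ _ _ _ _ _ (a.cast (one_pow _) (by rw [b rfl]; decide) rfl) .one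
  have ex : ∀ h, h ∈ centralizer {ρ o} → ∃ α β f, A ρ h α β f := fun h l =>
    t.p.ex h (by rw [mem_centralizer_singleton_iff.1 l, mul_inv_cancel_right])
  have mem : ∀ {h α β f}, A ρ h α β f → h ∈ centralizer {ρ o} := fun l =>
    mem_centralizer_singleton_iff.2 (mul_inv_eq_iff_eq_mul.1 l.fix)
  have nΩ : ∀ {h α β f}, A ρ h α β f → h ∈ 𝐍 (Ω ρ) := fun l => mem_normalizer_of_conj_mem fun _ => l.Ω
  obtain ⟨fe, ee⟩ := pw 1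
  rw [pow_one] at ee
  set e := e0 ^ 6 with he
  have sqE : ∀ h β f, A ρ h 1 β f → h * h ∈ Ω ρ ⊔ zpowers e := fun h β f l => by
    obtain ⟨f', a⟩ := pw β.val
    have b := (l.mul a.inv).cast (show _ = 1 by decide) (show _ = 0 by simp) rfl
    have := mul_mem_sup (two _ _ _ _ _ _ b a) (pow_mem (pow_mem (mem_zpowers e) β.val) 2)
    rwa [show h * (e ^ β.val)⁻¹ * (e ^ β.val * (h * (e ^ β.val)⁻¹) * (e ^ β.val)⁻¹) * (e ^ β.val) ^ 2 = h * h by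
      rw [pow_two]; group] at this
  have nE : ∀ {h α β f}, A ρ h α β f → h ∈ 𝐍 (Ω ρ ⊔ zpowers e) := fun {h α β f} l => mem_normalizer_of_cj_le (by
    rw [cj_sup, cj_zpowers]
    refine sup_le ((cj_eq_iff.2 (nΩ l)).le.trans le_sup_left) (zpowers_le.2 ?_)
    obtain ⟨_, f, a, -⟩ := e1.pow 3
    have := sqE _ _ _ (((l.mul a).mul l.inv).cast ((by decide : ∀ a : ZMod 5, a ≠ 0 → a ^ 3 * (1 ^ 3 * a) = 1) α l.1)
      rfl rfl)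
    rwa [conj_mul, ← pow_add] at this)
  have s4 : s ^ 4 = 1 := by rw [show s ^ 4 = s * s * (s * s) by rw [← pow_two, ← pow_two, ← pow_mul], ← s2, t.p'.sq]
  set H₀ := Ω ρ ⊔ zpowers e ⊔ zpowers s
  have hΩ : Ω ρ ≤ H₀ := le_sup_left.trans le_sup_left
  have he : e ∈ H₀ := le_sup_left (a := Ω ρ ⊔ zpowers e) (le_sup_right (a := Ω ρ) (mem_zpowers e))
  have hs' : s ∈ H₀ := le_sup_right (a := Ω ρ ⊔ zpowers e) (mem_zpowers s)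
  have nf : ∀ x ∈ H₀, ∀ α' f, A ρ x α' 0 f → ∃ k < 4, α' = α ^ k ∧ x * (s ^ k)⁻¹ ∈ Ω ρ := fun x hx α' f l => by
    obtain ⟨_, h1, _, h2, rfl⟩ := (mem_sup_of_le_normalizer' (zpowers_le.2 (nE es))).1 hx
    obtain ⟨q, hq, _, h3, rfl⟩ := (mem_sup_of_le_normalizer' (zpowers_le.2 (nΩ ee))).1 h1
    obtain ⟨k, rfl⟩ := mem_powers_iff_mem_zpowers.2 h2
    obtain ⟨j, rfl⟩ := mem_powers_iff_mem_zpowers.2 h3
    obtain ⟨_, a⟩ := t.ΩQ hq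
    obtain ⟨_, b⟩ := pw j
    obtain ⟨_, _, c, -, c0⟩ := es.pow (k % 4)
    simp only [pow_eq_pow_mod k s4] at l ⊢
    obtain ⟨u1, u2, -⟩ := t.p.uniq l ((a.mul b).mul c)
    refine ⟨_, Nat.mod_lt _ (by norm_num), by simpa using u1, ?_⟩
    rw [c0 rfl] at u2
    obtain ⟨i, rfl⟩ := (ZMod.natCast_eq_zero_iff j 5).1
      ((by decide : ∀ a b : ZMod 5, a ≠ 0 → 0 = a * (1 * 0 + b) + 0 → b = 0) _ _ c.1 u2)
    rw [mul_inv_cancel_right, pow_mul]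
    exact mul_mem hq (pow_mem e5 i)
  have cH : c ∉ H₀ := fun l => by
    obtain ⟨k, h1, h2, h3⟩ := nf c l _ _ ec
    obtain rfl : k = 0 := (by decide : ∀ k < 4, ∀ α : ZMod 5, (α = 2 ∨ α = 3) → 1 = α ^ k → k = 0) k h1 α hα h2
    exact n (t.ΩC (by simpa using h3) ec)
  have cov : ∀ h α β f, A ρ h α β f → h * c ∈ H₀ ∨ h ∈ H₀ := fun h α' β f l => by
    obtain ⟨k, j, u1, u2⟩ := (by decide : ∀ α α' β : ZMod 5, (α = 2 ∨ α = 3) → α' ≠ 0 → ∃ k : Fin 4, ∃ j : Fin 5,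
      α' * α ^ k.1 = 1 ∧ α' * (α ^ k.1 * j.1) + β = 0) α α' β hα l.1
    obtain ⟨_, a⟩ := pw j
    obtain ⟨_, _, b, -, b0⟩ := es.pow k
    have q := ((a.mul b).mul l).cast (by simpa using u1) (by simpa [b0 rfl] using u2) rfl
    have m := mul_mem (pow_mem he j) (pow_mem hs' k)
    by_cases u : e ^ j.1 * s ^ k.1 * h ∈ Ω ρ
    · exact .inr ((mul_mem_cancel_left m).1 (hΩ u))
    · exact .inl ((mul_mem_cancel_left m).1 (mul_assoc _ h c ▸ hΩ (t.Ωtwo q ec u fun i => n (t.ΩC i ec))))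
  have le : H₀ ≤ centralizer {ρ o} := sup_le (sup_le (fun x hx => let ⟨_, l⟩ := t.ΩQ hx; mem l)
    (zpowers_le.2 (mem ee))) (zpowers_le.2 (mem es))
  have nH : ∀ h α β f, A ρ h α β f → ∀ x ∈ H₀, h * x * h⁻¹ ∈ H₀ := fun h α β f l x hx => by
    rcases cov _ _ _ _ l with u | u
    · obtain ⟨_, _, _, v⟩ := ex x (le hx)
      obtain ⟨b, w⟩ := t.p.cc ec n v.inv
      have := mul_mem (mul_mem u (mul_mem hx (inv_mem (hΩ (t.p.UΩ b))))) (inv_mem u)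
      rwa [← inv_mul_eq_iff_eq_mul.2 w, show h * c * (x * (c⁻¹ * (x⁻¹ * c * x⁻¹⁻¹))⁻¹) * (h * c)⁻¹ =
        h * (c * x * x⁻¹ * c⁻¹) * x * h⁻¹ by group, show c * x * x⁻¹ * c⁻¹ = 1 by group, mul_one] at this
    · exact mul_mem (mul_mem u hx) (inv_mem u)
  refine ⟨H₀, le, relIndex_eq_two_iff_exists_notMem_and.2 ⟨c, mem ec, cH, fun h l => ?_⟩, cH, fun x l x2 => ?_,
    fun g g1 g2 x hx l => ?_⟩
  · obtain ⟨_, _, _, v⟩ := ex h l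
    exact cov _ _ _ _ v
  · obtain ⟨_, _, _, v⟩ := ex x (mem_centralizer_singleton_iff.2 l)
    obtain ⟨h, _, _, _, u, ⟨b, w⟩ | ⟨b, w⟩⟩ := t.inv v x2 <;> refine
      (show h⁻¹ * (h * x * h⁻¹) * h⁻¹⁻¹ = x by group) ▸ nH _ _ _ _ u.inv _ (w ▸ ?_)
    · exact hΩ (t.p.UΩ b)
    obtain ⟨f, -, i | i⟩ := t.sq b
    · exact hΩ (memΩ (t.p'.sq b) i)
    have := (es.mul es).mul i
    rw [← s2, ← t.p'.add] at this
    have := hΩ (memΩ (t.p'.sq _) (this.cast (by rcases hα with rfl | rfl <;> decide) (by simp) rfl))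
    rwa [t.p'.add, s2, mul_mem_cancel_left (mul_mem hs' hs')] at this
  obtain ⟨_, _, _, v⟩ := ex x (le hx)
  obtain ⟨α', f, -, v⟩ := t.ofR v.fix (by rw [l, mul_inv_cancel_right])
  obtain ⟨k, -, -, u⟩ := nf x hx _ _ v
  have a := hΩ (pow_mem (Ω_conj (fun _ _ => t.symm.swapQ g2) hs) k)
  have b := Ω_conj (fun _ _ => t.swapQ g1) u
  have sy : s ∈ centralizer {σ o} := mem_centralizer_singleton_iff.2 (mul_inv_eq_iff_eq_mul.1 (t.e1 ▸ es.fix0 f0))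
  have xy := mem_centralizer_singleton_iff.1 (mul_mem (mem_centralizer_singleton_iff.2 l) (inv_mem (pow_mem sy k)))
  obtain ⟨_, r⟩ := t.symm.ΩQ b
  obtain ⟨α', f, -, v⟩ := t.ofR (h := g * (x * (s ^ k)⁻¹) * g⁻¹) (by
    rw [← g2, conj_mul, xy]; group) r.fix
  obtain ⟨j, u1⟩ := (by decide : ∀ α α' : ZMod 5, (α = 2 ∨ α = 3) → α' ≠ 0 → ∃ k : Fin 4, α' * α ^ k.1 = 1)
    α α' hα v.1
  obtain ⟨_, _, w, -, w0⟩ := es.pow j
  have := hΩ (t.ΩΩ ec n (mul_mem (pow_mem hs j) b) ((w.mul v).cast u1 (by simp [w0 rfl]) rfl))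
  have := mul_mem ((mul_mem_cancel_left (pow_mem hs' j)).1 this) a
  rwa [conj_pow, conj_mul, inv_mul_cancel_right] at this

end Tw
end H16.Ti

end H226
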