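import Cfsg.Agent.H26.T2.H16Ti4
/-! Type Tits, part 5: the elements of `I \ V` are not points and their centralizers normalize `V`. -/
set_option autoImplicit false
set_option linter.unusedSectionVars false
namespace H16 end H16 namespace H16.Ti end H16.Ti namespace H16.Ti.Tw end H16.Ti.Tw namespace H226 end H226 namespace H26 end H26
open H226
namespace H226
namespace H16.Ti
open _root_.H16 _root_.H16.Ti
open Subgroup Function H26 _root_.H26 Cfsg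
open Set (range)

variable {G : Type*} [Group G] {ρ σ : F → G} {g h k c m p q r s x y : G} {α β α' β' i j : ZMod 5} {f f' a b n : F}

theorem Pt.pow8 (p : Pt ρ) (e : A ρ h 1 0 f) : h ^ 8 = 1 := by
  obtain ⟨b, -, k⟩ := p.csq ((e.mulQ e).cast rfl rfl (add_self f))
  rw [show h ^ 8 = h * h * (h * h) * (h * h * (h * h)) by simp only [pow_succ, pow_zero, one_mul, mul_assoc], k, p.sq]

theorem Pt.pow160 (p : Pt ρ) (e : A ρ h α β f) : h ^ 160 = 1 := by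
  obtain ⟨_, _, a, -⟩ := e.pow 4
  obtain ⟨_, _, b, c, -⟩ := a.pow 5
  have k := (by decide : ∀ a : ZMod 5, a ≠ 0 → a ^ 4 = 1) α e.1
  rw [← p.pow8 (b.cast (by rw [k, one_pow]) (by rw [c k]; exact (by decide : ∀ a : ZMod 5, ((5 : ℕ) : ZMod 5) * a = 0) _)
    rfl), ← pow_mul, ← pow_mul]

/-- membership in `V` -/
def inV (ρ : F → G) (x : G) : Prop := ∃ b, iV b ∧ ρ b = x

theorem A.inV (e : A ρ h α 0 f) : inV ρ x → inV ρ (h * x * h⁻¹) := by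
  rintro ⟨b, k, rfl⟩
  exact ⟨_, (by decide +kernel : ∀ α f b, α ≠ 0 → iV b → iV (act α 0 f b)) α f b e.1 k, (e.e b).symm⟩

theorem Pt.transI (p : Pt ρ) (h1 : iI b) (h2 : ¬ iV b) :
    ∃ r α f, A ρ r α 0 f ∧ f 0 = 0 ∧ r * ρ b * r⁻¹ = ρ (d 1 + d 4) := by
  obtain ⟨α, f, a1, a2, a3, a4⟩ := (by decide +kernel : ∀ b, iI b ∧ ¬ iV b →
    ∃ α f, α ≠ 0 ∧ sm f = 0 ∧ f 0 = 0 ∧ act α 0 f b = d 1 + d 4) b ⟨h1, h2⟩
  obtain ⟨r, k⟩ := p.su α 0 f a1 a2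
  exact ⟨r, α, f, k, a3, by rw [k.e, a4]⟩

namespace Tw
open _root_.H16.Ti.Tw
variable (t : Tw ρ σ)
include t

theorem toI' (h1 : iI b) (h2 : ¬ iV b) : ∃ a, iI a ∧ ¬ iV a ∧ σ a = ρ b :=
  let ⟨a, k, l⟩ := t.toI h1
  ⟨a, k, fun i => let ⟨_, j, u⟩ := t.symm.memV i; h2 (t.p.inj (u.trans l) ▸ j), l⟩

theorem n1 : ∃ n α f, n * ρ (d 1 + d 4) * n⁻¹ = ρ (d 1 + d 4) ∧ α ≠ 0 ∧ sm f = 0 ∧ f 0 = 0 ∧
    ∀ b, n * ρ b * n⁻¹ = σ (act α 0 f b) := by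
  obtain ⟨a, a1, a2, a3⟩ := t.symm.toI' (b := d 1 + d 4) (by decide) (by decide)
  obtain ⟨r, _, _, b1, b2, b3⟩ := t.p.transI a1 a2
  obtain ⟨α, f, c1, c2⟩ := t.toR b1 b2
  obtain ⟨g, e⟩ := t.cj
  have k : ∀ b, r * g * ρ b * (r * g)⁻¹ = r * σ b * r⁻¹ := fun b => by rw [e, cρ]; group
  exact ⟨r * g, α, f, by rw [k, ← a3, b3], c2.1, c2.2.1, c1, fun b => by rw [k, c2.e]⟩

theorem n2 : ∃ n, n * ρ (d 1 + d 4) * n⁻¹ = ρ (d 1 + d 4) ∧ A ρ n 1 0 (d 0 + d 2) :=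
  let ⟨n, e⟩ := t.p.su 1 0 (d 0 + d 2) (by decide) (by decide); ⟨n, by rw [e.e]; congr 1; decide, e⟩

theorem npt (h1 : iI b) (h2 : ¬ iV b) : ¬ IsConj (ρ o) (ρ b) := fun e => by
  obtain ⟨r, _, _, -, -, k⟩ := t.p.transI h1 h2
  obtain ⟨g, e⟩ := isConj_iff.1 (e.trans (isConj_iff.2 ⟨r, k⟩))
  obtain ⟨n, α, f, a1, a2, a3, a4, a5⟩ := t.n1
  obtain ⟨m, b1, b2⟩ := t.n2
  have c : ∀ b, n * m * ρ b * (n * m)⁻¹ = σ (act α 0 f (act 1 0 (d 0 + d 2) b)) := fun b => by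
    rw [← a5, ← b2.e]; group
  have w := (by decide +kernel : ∀ α f, α ≠ 0 ∧ sm f = 0 ∧ f 0 = 0 → act α 0 f (act 1 0 (d 0 + d 2) o) = o ∧
    act α 0 f (act 1 0 (d 0 + d 2) (d 0)) = d 0 + o ∧ act α 0 f (act 1 0 (d 0 + d 2) (o + d 0)) = d 0) α f ⟨a2, a3, a4⟩
  have c1 := c o
  have c2 := c (d 0)
  have c3 := c (o + d 0)
  rw [w.1, t.e1] at c1
  rw [w.2.1, t.p'.add, t.e1, t.e2, ← t.p.add] at c2
  rw [w.2.2, t.e2] at c3
  have c4 : n * m * ρ (d 1 + d 4) * (n * m)⁻¹ = ρ (d 1 + d 4) := by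
    rw [mul_inv_rev, mul_assoc n, mul_assoc n, ← mul_assoc _ m⁻¹, b1, ← mul_assoc, a1]
  generalize n * m = θ at c1 c2 c3 c4
  obtain ⟨_, _, _, l⟩ := t.p.ex (g⁻¹ * θ * g) (by
    rw [← mul_left_inj g⁻¹, ← mul_right_inj g, ← mul_assoc g (ρ o), e, ← c4, ← e]; group)
  have l := t.p.pow160 l
  rw [show g⁻¹ * θ * g = g⁻¹ * θ * g⁻¹⁻¹ by rw [inv_inv], conj_pow, mul_inv_eq_one, mul_eq_left] at l
  have u : θ ^ 3 ∈ centralizer {ρ o} := mem_centralizer_singleton_iff.2 (mul_inv_eq_iff_eq_mul.1 (by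
    rw [show θ ^ 3 * ρ o * (θ ^ 3)⁻¹ = θ * (θ * (θ * ρ o * θ⁻¹) * θ⁻¹) * θ⁻¹ by
      simp only [pow_succ, pow_zero, one_mul, mul_assoc, mul_inv_rev], c1, c2, c3]))
  have v := pow_mem u 107
  rw [← pow_mul, show 3 * 107 = 160 * 2 + 1 by rfl, pow_succ, pow_mul, l, one_pow, one_mul,
    mem_centralizer_singleton_iff] at v
  rw [v, mul_inv_cancel_right, t.p.inj.eq_iff] at c1
  exact absurd c1 (by decide)

theorem ptU (e : IsConj (ρ o) (ρ b)) : b = o ∨ ∃ j, iZ (b + d j) := by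
  rcases (by decide +kernel : ∀ b, b = 0 ∨ (b = o ∨ ∃ j, iZ (b + d j)) ∨ ∃ β, iI (pm 1 β b) ∧ ¬ iV (pm 1 β b)) b with
    rfl | k | ⟨β, k⟩
  · rw [t.p.zero, isConj_one_left, t.p.eq1] at e
    exact absurd e (by decide)
  · exact k
  obtain ⟨h, l⟩ := t.p.su 1 β 0 (by decide) rfl
  exact absurd (e.trans (isConj_iff.2 ⟨h, by rw [l.e, act_zero]⟩)) (t.npt k.1 k.2)

theorem zy' : IsConj (σ o) (ρ o) := let ⟨g, e⟩ := t.cj; (isConj_iff.2 ⟨g, by rw [e, cρ]⟩).symm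

theorem pts (hP : ∀ x ∈ centralizer {ρ (d 1 + d 4)}, ∀ y ∈ centralizer {ρ (d 1 + d 4)},
    Commute (x * ρ o * x⁻¹) (y * ρ o * y⁻¹)) (hx : x ∈ centralizer {ρ (d 1 + d 4)}) : inV ρ (x * ρ o * x⁻¹) := by
  obtain ⟨n, α, f, a1, a2, a3, a4, a5⟩ := t.n1
  obtain ⟨m, b1, b2⟩ := t.n2
  replace a1 := mem_centralizer_singleton_iff.2 (mul_inv_eq_iff_eq_mul.1 a1)
  replace b1 := mem_centralizer_singleton_iff.2 (mul_inv_eq_iff_eq_mul.1 b1)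
  have k1 : ∀ x ∈ centralizer {ρ (d 1 + d 4)}, x * ρ o * x⁻¹ ∈ range ρ → inV ρ (x * ρ o * x⁻¹) := by
    rintro x hx ⟨b, e⟩
    refine ⟨b, by_contra fun l => ?_, e⟩
    have w := (by decide +kernel : ∀ b, (b = o ∨ ∃ j, iZ (b + d j)) → ¬ iV b → ¬ ev b ∧ ¬ iI b) b
      (t.ptU (isConj_iff.2 ⟨x, e.symm⟩)) l
    obtain ⟨_, u⟩ := t.symm.odd (mt ((by decide +kernel : ∀ α f b, α ≠ 0 → ev (act α 0 f b) → ev b) α f b a2) w.1)
    have := hP _ (mul_mem a1 hx) x hx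
    rw [show n * x * ρ o * (n * x)⁻¹ = n * (x * ρ o * x⁻¹) * n⁻¹ by group, ← e, a5] at this
    exact w.2 (t.fixI u (by rw [this.eq, mul_inv_cancel_right]))
  have k2 : ∀ x ∈ centralizer {ρ (d 1 + d 4)}, x * ρ o * x⁻¹ ∈ range σ → inV ρ (x * ρ o * x⁻¹) := by
    rintro x hx ⟨b, e⟩
    obtain ⟨a, rfl⟩ := (by decide +kernel : ∀ α f b, α ≠ 0 → sm f = 0 → ∃ a, act α 0 f a = b) α f b a2 a3
    have l : n⁻¹ * x * ρ o * (n⁻¹ * x)⁻¹ = ρ a := by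
      rw [← mul_left_inj n⁻¹, ← mul_right_inj n, ← mul_assoc n (ρ a), a5, e]; group
    obtain ⟨b, u, v⟩ := k1 _ (mul_mem (inv_mem a1) hx) ⟨a, l.symm⟩
    rw [l, t.p.inj.eq_iff] at v
    obtain ⟨c, w⟩ := t.symm.memV ((by decide +kernel : ∀ α f b, α ≠ 0 → iV b → iV (act α 0 f b)) α f a a2 (v ▸ u))
    exact ⟨c, w.1, w.2.trans e⟩
  have p2 : x * ρ o * x⁻¹ * (x * ρ o * x⁻¹) = 1 := by rw [conj_mul, t.p.sq, mul_one, mul_inv_cancel]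
  obtain ⟨α', f', f0, e⟩ := t.ofR (h := x * ρ o * x⁻¹)
    (mul_inv_eq_iff_eq_mul.2 (by simpa using (hP x hx 1 (one_mem _)).eq))
    (mul_inv_eq_iff_eq_mul.2 (by simpa only [a5, act_o _ _ _ a3] using (hP x hx n a1).eq))
  rcases t.pm1 e p2 with ⟨rfl, -⟩ | rfl
  · rcases t.invQ e p2 with l | ⟨j, l⟩
    · exact k1 x hx l
    obtain ⟨h, _, _, _, b, -, u, v, w⟩ := t.invX l
    exact absurd (t.symm.ptU (t.zy'.trans ((isConj_iff.2 ⟨x, rfl⟩).trans (isConj_iff.2 ⟨h, w⟩))))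
      ((by decide +kernel : ∀ b, ev b → ¬ iI b → ¬ (b = o ∨ ∃ j, iZ (b + d j))) b u v)
  obtain ⟨q, g, b, u, v⟩ := t.inv4 e p2
  by_cases g0 : g 0 = 0
  · obtain ⟨_, _, -, w⟩ := t.toR u.invQ g0
    exact k2 x hx ⟨_, by rw [← w.e, ← v]; group⟩
  obtain ⟨_, _, -, w⟩ := t.toR (b2.mulQ u.invQ) ((by decide +kernel : ∀ g : F, g 0 ≠ 0 → (d 0 + d 2 + g) 0 = 0) g g0)
  have := b2.invQ.inV (k2 _ (mul_mem b1 hx) ⟨_, by rw [← w.e, ← v]; group⟩)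
  rwa [show m⁻¹ * (m * x * ρ o * (m * x)⁻¹) * m⁻¹⁻¹ = x * ρ o * x⁻¹ by group] at this

theorem commP [Finite G] (ch : CharPOf 2 (centralizer {ρ (d 1 + d 4)})) (hx : x ∈ centralizer {ρ (d 1 + d 4)})
    (hy : y ∈ centralizer {ρ (d 1 + d 4)}) : Commute (x * ρ o * x⁻¹) (y * ρ o * y⁻¹) := by
  set X := centralizer {ρ (d 1 + d 4)}
  have hT : IsPGroup 2 ↥(X ⊓ centralizer {ρ o}) := isPGroup_iff_mem.2 fun h ⟨h1, h2⟩ => by
    obtain ⟨α, β, f, e⟩ := t.p.ex h (mul_inv_eq_iff_eq_mul.2 (mem_centralizer_singleton_iff.1 h2))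
    obtain ⟨u, rfl⟩ := (by decide +kernel : ∀ α β f, α ≠ 0 → act α β f (d 1 + d 4) = d 1 + d 4 → α * α = 1 ∧ β = 0)
      α β f e.1 (t.p.inj ((e.e _).symm.trans (mul_inv_eq_iff_eq_mul.2 (mem_centralizer_singleton_iff.1 h1))))
    exact ⟨4, by rw [← t.p.pow8 ((e.mul e).cast u (by simp) rfl), ← pow_two, ← pow_mul]; rfl⟩
  have zT : ρ o ∈ X ⊓ centralizer {ρ o} :=
    ⟨mem_centralizer_singleton_iff.2 (t.p.comm _ _), mem_centralizer_singleton_iff.2 rfl⟩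
  have hS : IsSyl 2 (X ⊓ centralizer {ρ o}) X := isSyl_of_normalizer (by
    rw [show X ⊓ 𝐍 (X ⊓ centralizer {ρ o}) = X ⊓ centralizer {ρ o} from le_antisymm (fun x ⟨h1, h2⟩ => ⟨h1, ?_⟩)
      (le_inf inf_le_left le_normalizer)]
    · exact isSyl_self hT
    have k : ∀ s ∈ X ⊓ centralizer {ρ o}, s * (x * ρ o * x⁻¹) * s⁻¹ = x * ρ o * x⁻¹ := fun s hs => by
      have := mem_centralizer_singleton_iff.1 (conj_mem_of_mem_normalizer' h2 hs).2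
      calc _ = x * (x⁻¹ * s * x * ρ o) * x⁻¹ * s⁻¹ := by group
        _ = _ := by rw [this]; group
    have e := t.p.ofC fun b => (mul_inv_eq_iff_eq_mul.1 (k (ρ b)
      ⟨mem_centralizer_singleton_iff.2 (t.p.comm _ _), mem_centralizer_singleton_iff.2 (t.p.comm _ _)⟩)).symm
    obtain ⟨b, l⟩ := (t.invQ e (by rw [conj_mul, t.p.sq, mul_one, mul_inv_cancel])).resolve_right fun ⟨j, l⟩ =>
      (by decide +kernel : ∀ j, 0 ≠ o + d j) j (t.p.uniq e l.2).2.2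
    refine mem_centralizer_singleton_iff.2 (mul_inv_eq_iff_eq_mul.1 (l.symm.trans (congrArg ρ ?_)))
    refine (by decide +kernel : ∀ b, (b = o ∨ ∃ j, iZ (b + d j)) →
      (∀ f, sm f = 0 → act 1 0 f (d 1 + d 4) = d 1 + d 4 → act 1 0 f b = b) → b = o) b
      (t.ptU (isConj_iff.2 ⟨x, l.symm⟩)) fun f h3 h4 => t.p.inj ?_
    obtain ⟨q, u⟩ := t.p.su 1 0 f (by decide) h3
    rw [← u.e, l, k q ⟨mem_centralizer_singleton_iff.2 (mul_inv_eq_iff_eq_mul.1 (by rw [u.e, h4])),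
      mem_centralizer_singleton_iff.2 (mul_inv_eq_iff_eq_mul.1 u.fix)⟩])
  have z : ρ o ∈ pCoreOf 2 X := ch ⟨zT.1, fun s hs => mem_centralizer_singleton_iff.1 (hS.pCoreOf_le hs).2⟩
  have := mem_centralizer_singleton_iff.1 (hS.pCoreOf_le (conj_mem_of_mem_normalizer
    (le_normalizer_pCoreOf 2 X (mul_mem (inv_mem hy) hx)) z)).2
  calc _ = y * (y⁻¹ * x * ρ o * (y⁻¹ * x)⁻¹ * ρ o) * y⁻¹ := by group
    _ = _ := by rw [this]; group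

/-- `C(t)` normalizes `V` -/
theorem line [Finite G] (ch : CharPOf 2 (centralizer {ρ (d 1 + d 4)})) (hx : x ∈ centralizer {ρ (d 1 + d 4)})
    (e : inV ρ y) : inV ρ (x * y * x⁻¹) := by
  have k := fun x hx => t.pts (x := x) (fun _ a _ b => t.commP ch a b) hx
  obtain ⟨n, α, f, a1, -, a3, -, a5⟩ := t.n1
  obtain ⟨m, b1, b2⟩ := t.n2
  replace a1 := mem_centralizer_singleton_iff.2 (mul_inv_eq_iff_eq_mul.1 a1)
  replace b1 := mem_centralizer_singleton_iff.2 (mul_inv_eq_iff_eq_mul.1 b1)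
  have c := a5 o
  rw [act_o _ _ _ a3, t.e1] at c
  obtain ⟨b, hb, rfl⟩ := e
  rcases (by decide +kernel : ∀ b, iV b → b = 0 ∨ b = o ∨ b = d 0 ∨ b = act 1 0 (d 0 + d 2) (d 0)) b hb with
    rfl | rfl | rfl | rfl
  · exact ⟨0, hb, by simp [t.p.zero]⟩
  · exact k x hx
  · convert k _ (mul_mem hx a1) using 1
    rw [← c]; group
  · convert k _ (mul_mem (mul_mem hx b1) a1) using 1
    rw [← b2.e, ← c]; group

end Tw
end H16.Ti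

end H226
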