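import Cfsg.Agent.H26.T2.H16Ti5
/-! Type Tits, part 6: the coordinates exist (`exPt`); the local facts `H6.Oc` hold (`oc`). -/
set_option autoImplicit false
set_option linter.unusedSectionVars false
namespace H118 end H118 namespace H16 end H16 namespace H16.Ti end H16.Ti namespace H226 end H226 namespace H26 end H26 namespace H4 end H4
open H226
namespace H226
namespace H16.Ti
open _root_.H16 _root_.H16.Ti
open Subgroup Function H26 _root_.H26 Cfsg H118 _root_.H118 H4 _root_.H4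
open Set (range)
open scoped IsMulCommutative

local notation "O₂" => pCoreOf 2

variable {G : Type*} [Group G] {ρ σ : F → G} {g h k c m p q r s x y z : G} {α β α' β' i j : ZMod 5} {f f' a b n : F}

theorem exρ {U : Subgroup G} (hU : U ≤ 𝐂 U) (w : ZMod 5 → G) (hw : ∀ j, w j ∈ U) (h2 : ∀ j, w j * w j = 1) :
    ∃ ρ : F → G, (∀ a b, ρ (a + b) = ρ a * ρ b) ∧ (∀ j, ρ (d j) = w j) ∧ ∀ b, ρ b ∈ U := by
  have := isMulCommutative_iff'.2 hU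
  refine ⟨fun b => ((∏ j, (⟨w j, hw j⟩ : U) ^ (b j).val : U) : G), fun a b => ?_, fun j => ?_, fun b => Subtype.prop _⟩
  · rw [← coe_mul, ← Finset.prod_mul_distrib]
    refine congrArg _ (Finset.prod_congr rfl fun j _ => ?_)
    rw [Pi.add_apply, ZMod.val_add, ← pow_eq_pow_mod _ (Subtype.ext (by simpa [pow_two] using h2 j)), pow_add]
  · beta_reduce
    rw [Finset.prod_eq_single j (fun i _ k => by simp [d, k]) (by simp)]
    simp [d, ZMod.val_one]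

theorem lin (add : ∀ a b, ρ (a + b) = ρ a * ρ b) (hα : α ≠ 0)
    (e : ∀ j, h * ρ (d (α * j + β)) * h⁻¹ = ρ (d j + fun _ => f j)) (b : F) : h * ρ b * h⁻¹ = ρ (act α β f b) := by
  have z : ρ 0 = 1 := by simpa using add 0 0
  have z' : act α β f 0 = 0 := by simpa using act_add α β f 0 0
  induction b using Pi.single_induction with
  | zero => simp [z, z']
  | add a b ha hb => rw [act_add, add, add, ← conj_mul, ha, hb]
  | single i m =>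
    obtain ⟨j, rfl⟩ := (by decide : ∀ α β i : ZMod 5, α ≠ 0 → ∃ j, α * j + β = i) α β i hα
    rcases (by decide +kernel : ∀ i m, (Pi.single i m : F) = 0 ∨ (Pi.single i m : F) = d i) (α * j + β) m with k | k
    · simp [k, z, z']
    · rw [k, e, act_d _ _ _ _ hα]

theorem lines (add : ∀ a b, ρ (a + b) = ρ a * ρ b) (inj : Injective ρ) (hα : α ≠ 0) (hz : h * ρ o * h⁻¹ = ρ o)
    (e : ∀ j, ∃ ε, h * ρ (d (α * j + β)) * h⁻¹ = ρ (d j + fun _ => ε)) : ∃ f, A ρ h α β f := by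
  choose f e using e
  exact ⟨f, hα, (by decide +kernel : ∀ α β f, act α β f o = o → sm f = 0) α β f
    (inj ((lin add hα e o).symm.trans hz)), lin add hα e⟩

theorem mkTw (p : Pt ρ) (e1 : g * ρ o * g⁻¹ = ρ (d 0)) (e2 : g * ρ (d 0) * g⁻¹ = ρ o)
    (nb : ∀ f, ¬ A ρ (cρ g ρ b) 1 0 f) : Tw ρ (cρ g ρ) := by
  have p' := p.cj g
  obtain ⟨α, β, f, k⟩ := p.ex (cρ g ρ b) (by rw [← e2, ← cρ, p'.comm, mul_inv_cancel_right])
  obtain ⟨rfl, -⟩ := (by decide +kernel : ∀ α β f, α ≠ 0 → act α β f (d 0) = d 0 → β = 0 ∧ f 0 = 0) α β f k.1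
    (p.inj (by rw [← k.e, ← e1, ← cρ, p'.comm, mul_inv_cancel_right]))
  obtain rfl := ((by decide : ∀ α : ZMod 5, α * α = 1 → α = 1 ∨ α = 4) α
    (p.uniq (p'.sq b ▸ k.mul k) .one).1).resolve_left fun l => nb f (l ▸ k)
  obtain ⟨_, _, _, l⟩ := p.ex (g * g) (Eq.trans (by rw [← e1]; group) e2)
  exact ⟨p, p', e1, e2, ⟨b, f, k⟩, ⟨_, f, l.e b ▸ (by simpa [cρ, mul_assoc] using k.cj g :
    A (cρ g ρ) (g * g * ρ b * (g * g)⁻¹) 4 0 f)⟩, g, rfl⟩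

variable [Finite G] {S V : Subgroup G}

theorem exρ' (T : Ti S V) (h : Ge S V z) {e : G} (he : e ∈ fH S) (e5 : e ^ 5 = 1) (eV : e ∉ 𝐍 V) :
    ∃ ρ : F → G, (∀ a b, ρ (a + b) = ρ a * ρ b) ∧ Injective ρ ∧ ρ o = z ∧ ρ (d 0) ∈ V ∧ A ρ e 1 4 0 ∧
      ∀ x, x ∈ fU S V ↔ x ∈ range ρ := by
  have ez := conj_eq_of_mem_c (h.fH_eq ▸ he)
  have k : ∀ v ∈ V, ∃ ρ : F → G, (∀ a b, ρ (a + b) = ρ a * ρ b) ∧
      (∀ j, ρ (d j) = e ^ j.val * v * (e ^ j.val)⁻¹) ∧ ∀ b, ρ b ∈ fU S V := fun v hv =>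
    exρ T.ab _ (fun j => cj_le_ncl (pow_mem he _) (conj_mem_cj _ hv))
      fun j => by rw [conj_mul, h.four.sq v hv, mul_one, mul_inv_cancel]
  obtain ⟨v, hv, v1, vz, ρ, ⟨add, hd, hU⟩, ho⟩ : ∃ v ∈ V, v ≠ 1 ∧ v ≠ z ∧ ∃ ρ : F → G, ((∀ a b, ρ (a + b) = ρ a * ρ b) ∧
      (∀ j, ρ (d j) = e ^ j.val * v * (e ^ j.val)⁻¹) ∧ ∀ b, ρ b ∈ fU S V) ∧ ρ o ≠ 1 := by
    obtain ⟨v, hv, n⟩ := SetLike.not_le_iff_exists.1 fun l => fr_oz_ne h.toFr (le_antisymm (fr_oz_le h.toFr) l)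
    rw [h.zeq] at n
    obtain ⟨ρ, a⟩ := k v hv
    by_cases l : ρ o = 1
    swap
    · exact ⟨v, hv, fun i => n (i ▸ one_mem _), fun i => n (i ▸ mem_zpowers z), ρ, a, l⟩
    obtain ⟨ρ', a'⟩ := k _ (mul_mem hv h.zV)
    refine ⟨_, mul_mem hv h.zV, fun i => n (eq_inv_of_mul_eq_one_left i ▸ inv_mem (mem_zpowers z)),
      fun i => n (mul_eq_right.1 i ▸ one_mem _), ρ', a', fun i => h.z1 ?_⟩
    have c : ∀ j, ρ' (d j) = ρ (d j) * z := fun j => by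
      rw [a'.2.1, a.2.1, ← conj_mul, conj_eq_of_mem_c (p := z) (h.fH_eq ▸ pow_mem he _)]
    have c' : ∀ j, Commute z (ρ (d j)) := fun j => T.ab (a.2.2 _) z (le_ncl _ _ h.zV)
    rw [show o = d 0 + d 1 + d 2 + d 3 + d 4 by decide] at l i
    simp only [a.1, a'.1, c, mul_assoc, (c' _).left_comm, h.zz, mul_one] at l i
    simp only [← mul_assoc] at l i
    rwa [l, one_mul] at i
  have d0 : ρ (d 0) = v := by simp [hd]
  have A1 : A ρ e 1 4 0 := ⟨by decide, rfl, lin add (by decide) fun j => by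
    rw [show (d j + fun _ => (0 : F) j) = d j from add_zero _, hd, hd, pow_eq_pow_mod j.val e5,
      show j.val % 5 = ((1 * j + 4).val + 1) % 5 by revert j; decide, ← pow_eq_pow_mod _ e5, pow_succ']
    group⟩
  have A2 : ∀ k : ℕ, A ρ (e ^ k) 1 (k * 4) 0 := fun k => by
    induction k with
    | zero => simpa using A.one
    | succ k ih => exact pow_succ e k ▸ (ih.mul A1).cast (one_mul _) (by push_cast; ring) (add_zero _)
  have z0 : ρ 0 = 1 := by simpa using add 0 0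
  have sq : ∀ b, ρ b * ρ b = 1 := fun b => by rw [← add, add_self, z0]
  have ker : ∀ b, ρ b = 1 → b = 0 := fun b l => by
    have u : ∀ i, ρ (pm 1 i b) = 1 := fun i => by
      have := (A2 (4 * i).val).e b
      rwa [l, mul_one, mul_inv_cancel, act_zero, (by decide : ∀ i : ZMod 5, ((4 * i).val : ZMod 5) * 4 = i), eq_comm] at this
    rcases (by decide +kernel : ∀ b, b = 0 ∨ b = o ∨
      ∃ i j k l, pm 1 i b + pm 1 j b + pm 1 k b + pm 1 l b = d 0 + act 1 4 0 (d 0)) b with w | rfl | ⟨i, j, k, l, w⟩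
    exacts [w, absurd l ho, absurd (mem_normalizer_of_conj_mem fun x hx => by
      have := congrArg ρ w
      rw [add, add, add, u, u, u, u, add, ← A1.e, d0, one_mul, one_mul, one_mul, eq_comm, mul_eq_one_iff_inv_eq,
        inv_eq_of_mul_eq_one_right (h.four.sq v hv)] at this
      rcases four_cases h.four h.zV hv h.z1 v1 vz.symm hx with rfl | rfl | rfl | rfl
      exacts [by simp, ez.symm ▸ hx, this ▸ hx, by rwa [← conj_mul, ez, ← this]]) eV]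
  have inj : Injective ρ := fun a b l => by
    have := ker (a + b) (by rw [add, l, sq])
    rwa [add_eq_zero_iff_eq_neg, neg_eq_of_add_eq_zero_left (add_self b)] at this
  have sur := ((Nat.bijective_iff_injective_and_card (fun b => (⟨ρ b, hU b⟩ : fU S V))).2
    ⟨fun a b l => inj (congrArg Subtype.val l), by rw [T.cardU]; simp⟩).2
  have mem : ∀ x, x ∈ fU S V ↔ x ∈ range ρ := fun x =>
    ⟨fun l => let ⟨b, i⟩ := sur ⟨x, l⟩; ⟨b, congrArg Subtype.val i⟩, fun ⟨b, l⟩ => l ▸ hU b⟩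
  obtain ⟨b, l⟩ := (mem z).1 (le_ncl _ _ h.zV)
  refine ⟨ρ, add, inj, ?_, d0 ▸ hv, A1, mem⟩
  rcases (by decide +kernel : ∀ b, act 1 4 0 b = b → iZ b) b (inj (by rw [← A1.e, l, ez])) with rfl | rfl
  exacts [absurd (l.symm.trans z0) h.z1, l]

theorem exPt (T : Ti S V) (h : Ge S V z) : ∃ ρ : F → G, Pt ρ ∧ ρ o = z ∧ (∀ x, x ∈ V ↔ inV ρ x) ∧
    (∀ x, x ∈ fU S V ↔ x ∈ range ρ) ∧ (∀ x, x ∈ O₂ (fH S) ↔ ∃ f, A ρ x 1 0 f) ∧
    (∀ x, x ∈ S ↔ ∃ α f, A ρ x α 0 f) := by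
  obtain ⟨e, he, s, hs, e5, -, se, g1, g2⟩ := T.gen
  obtain ⟨ρ, add, inj, rfl, hv, A1, mU⟩ := exρ' T h he e5 fun l => T.nH (g2.trans (sup_le T.le (zpowers_le.2 l)))
  have z0 : ρ 0 = 1 := by simpa using add 0 0
  have v1 : ρ (d 0) ≠ 1 := fun l => absurd (inj (l.trans z0.symm)) (by decide)
  have vz : ρ o ≠ ρ (d 0) := fun l => absurd (inj l) (by decide)
  have mV : ∀ x, x ∈ V ↔ inV ρ x := fun x => ⟨fun l => by
    rcases four_cases h.four h.zV hv h.z1 v1 vz l with rfl | rfl | rfl | rfl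
    exacts [⟨0, by decide, z0⟩, ⟨_, by decide, rfl⟩, ⟨_, by decide, rfl⟩, ⟨o + d 0, by decide, add _ _⟩], by
    rintro ⟨b, hb, rfl⟩
    rcases (by decide +kernel : ∀ b, iV b → b = 0 ∨ b = o ∨ b = d 0 ∨ b = o + d 0) b hb with rfl | rfl | rfl | rfl
    exacts [z0 ▸ one_mem _, h.zV, hv, add _ _ ▸ mul_mem h.zV hv]⟩
  have mH : ∀ {x}, x ∈ fH S ↔ x * ρ o * x⁻¹ = ρ o := h.fH_eq ▸ ⟨conj_eq_of_mem_c, mem_c_of_conj_eq⟩
  have inv : ∀ b, (ρ b)⁻¹ = ρ b := fun b => inv_eq_of_mul_eq_one_right (by rw [← add, add_self, z0])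
  have mQ : ∀ x, x ∈ O₂ (fH S) ↔ ∃ f, A ρ x 1 0 f := fun x => by
    rw [T.eqQ]
    refine ⟨fun l => lines add inj (by decide) (mH.1 l.1) fun j => ?_, fun ⟨f, l⟩ => ⟨mH.2 l.fix,
      centralizer_le_normalizer _ (mH.2 l.fix), fun u hu => ?_⟩⟩
    · rw [one_mul, add_zero]
      rcases mem_two h.zz (h.zeq ▸ l.2.2 _ ((mU _).2 ⟨d j, rfl⟩)) with i | i <;>
        rw [commutatorElement_def, mul_inv_eq_iff_eq_mul] at i
      exacts [⟨0, by rw [i, one_mul]; exact congrArg ρ (add_zero _).symm⟩, ⟨1, by rw [i, ← add, add_comm]; rfl⟩]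
    · obtain ⟨b, rfl⟩ := (mU u).1 hu
      rw [commutatorElement_def, l.e, inv, ← add, h.zeq]
      rcases (by decide +kernel : ∀ f b, iZ (act 1 0 f b + b)) f b with i | i <;> rw [i]
      exacts [z0 ▸ one_mem _, mem_zpowers _]
  have mC : ∀ x, x ∈ 𝐂 (fU S V) ↔ A ρ x 1 0 0 := fun x => ⟨fun l => ⟨by decide, rfl, fun b => by
    rw [act_one, ← l _ ((mU _).2 ⟨b, rfl⟩), mul_inv_cancel_right]⟩, fun l u hu => by
    obtain ⟨b, rfl⟩ := (mU u).1 hu; exact (l.comm b).symm⟩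
  have SH : S ≤ fH S := h.fH_eq ▸ h.S_le
  have hd : ∀ j : ZMod 5, ρ (d j) = e ^ j.val * ρ (d 0) * (e ^ j.val)⁻¹ := fun j => by
    have : ∀ k : ℕ, e ^ k * ρ (d 0) * (e ^ k)⁻¹ = ρ (d k) := fun k => by
      induction k with
      | zero => simp
      | succ k ih => rw [pow_succ', mul_inv_rev, mul_assoc e, mul_assoc e, ← mul_assoc _ _ e⁻¹, ih, ← mul_assoc, A1.e,
          Nat.cast_succ, (by decide +kernel : ∀ j, act 1 4 0 (d j) = d (j + 1))]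
    rw [this, ZMod.natCast_zmod_val]
  obtain ⟨fs, As⟩ : ∃ f, A ρ s 3 0 f := lines add inj (by decide) (mH.1 (SH hs)) fun j => by
    obtain ⟨_, a⟩ := (mQ _).1 se
    obtain ⟨_, f, b, c, -⟩ := (((A1.mul A1).mul a).cast (show _ = 1 by decide) (show _ = 3 by decide) rfl).pow
      (3 * j + 0).val
    obtain ⟨u, hu, l⟩ := (mV _).1 (conj_mem_of_mem_normalizer (T.le hs) hv)
    have n : ¬ iZ u := by
      rintro (rfl | rfl)
      · exact conj_ne_one s v1 (l.symm.trans z0)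
      · exact vz (by simpa using (mH.1 (SH hs)).trans l)
    obtain ⟨ε, i⟩ := (by decide +kernel : ∀ j f u, sm f = 0 ∧ iV u ∧ ¬ iZ u →
      ∃ ε, act 1 (((3 * j + 0).val : ℕ) * 3) f u = d j + fun _ => ε) j f u ⟨b.2.1, hu, n⟩
    refine ⟨ε, ?_⟩
    rw [← i, ← (b.cast (one_pow _) (c rfl) rfl).e, l, ← pow_two, mul_inv_cancel_left, conj_pow, hd]
    group
  let K : Subgroup G := 
    { carrier := {x | ∃ α β f, A ρ x α β f}
      one_mem' := ⟨_, _, _, .one⟩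
      mul_mem' := fun ⟨_, _, _, a⟩ ⟨_, _, _, b⟩ => ⟨_, _, _, a.mul b⟩
      inv_mem' := fun ⟨_, _, _, a⟩ => ⟨_, _, _, a.inv⟩ }
  have ex : fH S ≤ K := g2.trans (sup_le (g1.trans (sup_le (fun x l => ⟨_, _, (mQ x).1 l⟩)
    (zpowers_le.2 ⟨_, _, _, As⟩))) (zpowers_le.2 ⟨_, _, _, A1⟩))
  have su : ∀ f, sm f = 0 → ∃ q, A ρ q 1 0 f := fun f hf => by
    choose φ hφ using fun q : O₂ (fH S) => (mQ q).1 q.2
    obtain ⟨q, l⟩ := ((Nat.bijective_iff_injective_and_card (fun q : O₂ (fH S) ⧸ (𝐂 (fU S V)).subgroupOf (O₂ (fH S)) =>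
      (⟨φ q.out, (hφ _).2.1⟩ : {f // sm f = 0}))).2 ⟨fun a b l => by
        rw [← a.out_eq', ← b.out_eq', QuotientGroup.eq]
        exact (mC _).2 ((hφ _).div ((hφ _).cast rfl rfl (Subtype.ext_iff.1 l).symm)),
      T.idxC.trans (by rw [Nat.card_eq_fintype_card]; decide +kernel)⟩).2 ⟨f, hf⟩
    exact ⟨_, (hφ _).cast rfl rfl (Subtype.ext_iff.1 l)⟩
  have mS : ∀ x, x ∈ S ↔ ∃ α f, A ρ x α 0 f := fun x => ⟨fun l => by
    obtain ⟨α, β, f, a⟩ := ex (SH l)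
    obtain ⟨u, hu, i⟩ := (mV _).1 (conj_mem_of_mem_normalizer (T.le l) hv)
    rw [a.e, inj.eq_iff] at i
    exact ⟨α, f, (by decide +kernel : ∀ α β f, α ≠ 0 → iV (act α β f (d 0)) → β = 0) α β f a.1 (i ▸ hu) ▸ a⟩,
    fun ⟨α, f, a⟩ => by
    obtain ⟨k, i⟩ := (by decide : ∀ α : ZMod 5, α ≠ 0 → ∃ k : Fin 4, α * 3 ^ k.1 = 1) α a.1
    obtain ⟨_, _, b, -, c⟩ := As.pow k
    exact (mul_mem_cancel_left (pow_mem hs k)).1 ((T.syl.mono SH le_top).pCoreOf_le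
      ((mQ _).2 ⟨_, (b.mul a).cast i (by simp [c rfl]) rfl⟩))⟩
  refine ⟨ρ, ⟨add, inj, fun x l => ex (mH.2 l), fun α β f h1 h2 => ?_, fun c c' a a' n n' => ?_, fun c c2 l => ?_⟩,
    rfl, mV, mU, mQ, mS⟩
  · obtain ⟨k, j, u1, u2⟩ := (by decide : ∀ α β : ZMod 5, α ≠ 0 → ∃ k : Fin 4, ∃ j : Fin 5,
      3 ^ k.1 * 1 ^ j.1 = α ∧ 3 ^ k.1 * (j.1 * 4) + 0 = β) α β h1
    obtain ⟨_, _, a, a1, -⟩ := A1.pow j
    obtain ⟨_, _, b, -, b0⟩ := As.pow k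
    have c := (a.mul b).cast u1 (by rw [a1 rfl, b0 rfl, u2]) rfl
    obtain ⟨q, l⟩ := su _ ((sm_add _ _).trans ((congrArg₂ _ h2 c.2.1).trans (add_zero _)))
    exact ⟨_, (l.mul c).cast (mul_one _) (by simp) (by rw [pm_one, add_assoc, add_self, add_zero])⟩
  · have i := T.idxU
    have i0 : (fU S V).relIndex (𝐂 (fU S V)) ≠ 0 := index_ne_zero_of_finite
    have i1 : (fU S V).relIndex (𝐂 (fU S V)) ≠ 1 := fun i => n ((mU _).1 (relIndex_eq_one.1 i ((mC _).2 a)))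
    obtain ⟨b, l⟩ := (mU _).1 (two_of_relIndex (by omega) _ ((mC _).2 a.invQ) _ ((mC _).2 a')
      (fun i => n ((mU _).1 (inv_mem_iff.1 i))) fun i => n' ((mU _).1 i))
    exact ⟨b, by rw [l, mul_inv_cancel_left]⟩
  · have c3 : c ∈ 𝐂 S := fun s hs => let ⟨_, _, a⟩ := (mS s).1 hs; mul_inv_eq_iff_eq_mul.1 (l _ _ _ a)
    exact mem_two h.zz (h.zeq ▸ mem_omegaOne ⟨T.syl.le_of_le_normalizer' (isPGroup_zpowers (k := 1)
      (by simpa [pow_two] using c2)) le_top (zpowers_le.2 (centralizer_le_normalizer _ c3)) (mem_zpowers c), c3⟩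
      (by rwa [pow_two]))

theorem oc (T : Ti S V) : ∃ z y Q I, H6.Oc z y S Q V I := by
  obtain ⟨z, h⟩ := exists_ge T.toF4
  obtain ⟨ρ, p, rfl, mV, mU, mQ, mS⟩ := exPt T h
  have SN : ∀ {x α f}, A ρ x α 0 f → x ∈ 𝐍 V := fun a => T.le ((mS _).2 ⟨_, _, a⟩)
  have mH : ∀ {x}, x ∈ fH S ↔ x * ρ o * x⁻¹ = ρ o := h.fH_eq ▸ ⟨conj_eq_of_mem_c, mem_c_of_conj_eq⟩
  have mS' : ∀ {x}, x * ρ o * x⁻¹ = ρ o → x ∈ 𝐍 V → ∃ α f, A ρ x α 0 f := fun {x} l n => by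
    obtain ⟨α, β, f, a⟩ := p.ex x l
    obtain ⟨u, hu, i⟩ := (mV _).1 (conj_mem_of_mem_normalizer n ((mV _).2 ⟨d 0, by decide, rfl⟩))
    rw [a.e, p.inj.eq_iff] at i
    exact ⟨α, f, (by decide +kernel : ∀ α β f, α ≠ 0 → iV (act α β f (d 0)) → β = 0) α β f a.1 (i ▸ hu) ▸ a⟩
  have ne : ∀ {a b}, a ≠ b → ρ a ≠ ρ b := fun l => mt p.inj.eq_iff.1 l
  have ne1 : ∀ {a}, a ≠ 0 → ρ a ≠ 1 := fun l => mt p.eq1.1 l
  have cas : ∀ x, x ∈ V ↔ x = 1 ∨ x = ρ o ∨ x = ρ (d 0) ∨ x = ρ o * ρ (d 0) := fun x =>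
    ⟨four_cases h.four h.zV ((mV _).2 ⟨d 0, by decide, rfl⟩) h.z1 (ne1 (by decide)) (ne (by decide)), by
      rintro (rfl | rfl | rfl | rfl)
      exacts [one_mem _, h.zV, (mV _).2 ⟨d 0, by decide, rfl⟩, (mV _).2 ⟨_, by decide, p.add _ _⟩]⟩
  obtain ⟨q, aq⟩ := p.su 1 0 (d 0 + d 1) (by decide) (by decide)
  have q1 : q * ρ (d 0) * q⁻¹ = ρ o * ρ (d 0) := by rw [aq.e, ← p.add]; congr 1; decide
  have q2 : q * (ρ o * ρ (d 0)) * q⁻¹ = ρ (d 0) := by rw [← p.add, aq.e]; congr 1; decide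
  obtain ⟨g, gN, g1, g2⟩ : ∃ g ∈ 𝐍 V, g * ρ o * g⁻¹ = ρ (d 0) ∧ g * ρ (d 0) * g⁻¹ = ρ o := by
    obtain ⟨g, n, l⟩ := h.trans_V ((mV _).2 ⟨d 0, by decide, rfl⟩) (ne1 (by decide))
    rcases (cas _).1 (conj_mem_of_mem_normalizer n ((mV _).2 ⟨d 0, by decide, rfl⟩)) with i | i | i | i
    · exact absurd i (conj_ne_one _ (ne1 (by decide)))
    · exact ⟨g, n, l, i⟩
    · exact absurd (by simpa using i.trans l.symm) (ne (by decide : d 0 ≠ o))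
    refine ⟨g * q, mul_mem n (SN aq), ?_, ?_⟩ <;> rw [mul_inv_rev, mul_assoc g, mul_assoc g, ← mul_assoc _ q⁻¹]
    · rw [aq.fix, ← mul_assoc, l]
    · rw [q1, ← mul_assoc, ← conj_mul, l, i, ← mul_assoc, p.comm, mul_assoc, p.sq, mul_one]
  obtain ⟨_, ⟨u, hu, rfl⟩, nb⟩ := SetLike.not_le_iff_exists.1 (T.nb g gN fun l => ne (by decide : o ≠ d 0)
    ((mH.1 l).symm.trans g1)).1
  obtain ⟨b0, rfl⟩ := (mU u).1 hu
  have t : Tw ρ (cρ g ρ) := mkTw p g1 g2 fun f l => nb ((mQ _).2 ⟨f, l⟩)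
  have mI : ∀ x, x ∈ fU S V ⊓ cj g (fU S V) ↔ ∃ b, iI b ∧ ρ b = x := fun x => by
    rw [mem_inf, mem_cj, mU, mU, ← mem_cρ]
    exact ⟨fun ⟨⟨b, l⟩, i⟩ => ⟨b, t.memI.1 (l ▸ i), l⟩, fun ⟨b, l, i⟩ => ⟨⟨b, i⟩, i ▸ t.memI.2 l⟩⟩
  have nV : ∀ {b}, ρ b ∉ V ↔ ¬ iV b := not_congr ((mV _).trans ⟨fun ⟨a, l, i⟩ => p.inj i ▸ l, fun l => ⟨_, l, rfl⟩⟩)
  have col : ∀ x, H6.Col (ρ o) (ρ (d 0)) (ρ o) x ↔ ∃ b, (∃ j, iZ (b + d j)) ∧ ρ b = x := fun x => ⟨by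
    rintro ⟨k, l, rfl⟩
    obtain ⟨α, β, f, a⟩ := p.ex k l
    exact ⟨_, (by decide +kernel : ∀ α β f, α ≠ 0 → ∃ j, iZ (act α β f (d 0) + d j)) α β f a.1, (a.e _).symm⟩, by
    rintro ⟨b, l, rfl⟩
    obtain ⟨β, f, h1, h2⟩ := (by decide +kernel : ∀ b, (∃ j, iZ (b + d j)) → ∃ β f, sm f = 0 ∧ act 1 β f (d 0) = b) b l
    obtain ⟨k, a⟩ := p.su 1 β f (by decide) h1
    exact ⟨k, a.fix, by rw [a.e, h2]⟩⟩
  have far : ∀ x, H6.Col (ρ o) (ρ (d 0)) (ρ (d 0)) x → x ∉ V → ∃ f, x * x = 1 ∧ A ρ x 4 0 f := by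
    rintro _ ⟨k, l, rfl⟩ n
    obtain ⟨b, i, j⟩ := (col _).1 ⟨g⁻¹ * k, by rw [mul_inv_rev, mul_assoc _ k, mul_assoc, ← mul_assoc _ k⁻¹, l, ← g1]; group,
      rfl⟩
    have j : cρ g ρ b = k * ρ (d 0) * k⁻¹ := by rw [cρ, j]; group
    obtain ⟨f, a⟩ := t.symm.odd ((by decide +kernel : ∀ b, (∃ j, iZ (b + d j)) → ¬ iV b → ¬ ev b) b i fun l =>
      let ⟨a, l, m⟩ := t.symm.memV l; n ((mV _).2 ⟨a, l, m.trans j⟩))
    exact ⟨f, j ▸ t.p'.sq b, j ▸ a⟩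
  have SI : ∀ {x α f}, A ρ x α 0 f → x ∈ 𝐍 (fU S V ⊓ cj g (fU S V)) := fun {x α f} a =>
    mem_normalizer_of_conj_mem fun w l => by
      obtain ⟨b, i, rfl⟩ := (mI w).1 l
      exact (mI _).2 ⟨_, (by decide +kernel : ∀ α f b, α ≠ 0 → iI b → iI (act α 0 f b)) α f b a.1 i, (a.e b).symm⟩
  have gI : g ∈ 𝐍 (fU S V ⊓ cj g (fU S V)) := mem_normalizer_of_conj_mem fun w l => by
    obtain ⟨b, i, rfl⟩ := (mI w).1 l
    exact (mI _).2 (t.symm.toI i)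
  have npt : ∀ w ∈ fU S V ⊓ cj g (fU S V), w ∉ V → ¬ IsConj (ρ o) w := fun w l n => by
    obtain ⟨b, i, rfl⟩ := (mI w).1 l
    exact t.npt i (nV.1 n)
  have inU : ∀ b, ∃ k, k * ρ o * k⁻¹ = ρ o ∧ k * ρ b * k⁻¹ ∈ fU S V ⊓ cj g (fU S V) := fun b => by
    obtain ⟨β, l⟩ := (by decide +kernel : ∀ b, ∃ β, iI (act 1 β 0 b)) b
    obtain ⟨k, a⟩ := p.su 1 β 0 (by decide) rfl
    exact ⟨k, a.fix, (mI _).2 ⟨_, l, (a.e b).symm⟩⟩
  refine ⟨ρ o, ρ (d 0), O₂ (fH S), fU S V ⊓ cj g (fU S V), h.z1, ne1 (by decide), ne (by decide), cas, ⟨g, g1, g2⟩,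
    ⟨q, aq.fix, q1⟩, ?_, ⟨T.syl.toSylow, T.syl.coe_toSylow⟩, fun x => ⟨fun l => ?_, fun l => (mS x).2
      (mS' (mul_inv_eq_iff_eq_mul.2 l.1) l.2)⟩, fun x l b i => ?_, fun x l n b i j => ?_, fun x l y i x2 y2 => ?_,
    fun a l n i => ?_, fun a b l n i j => ?_, fun x l => ?_, fun x l => ?_,
    ⟨_, (mI _).2 ⟨d 1 + d 4, by decide, rfl⟩, nV.2 (by decide)⟩, fun w l w' l' n n' => ?_, fun w l => ?_,
    fun k l w i w' i' => ?_, npt, fun w l n k i => ?_, fun x x2 l => ?_, fun l => ?_, ?_⟩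
  · rw [show {b | H6.Col (ρ o) (ρ (d 0)) (ρ o) b} = ρ '' {b | ∃ j, iZ (b + d j)} from Set.ext col,
      Set.ncard_image_of_injective _ p.inj, Set.ncard_eq_toFinset_card']
    decide +kernel
  · obtain ⟨_, _, a⟩ := (mS x).1 l
    exact ⟨mul_inv_eq_iff_eq_mul.1 a.fix, T.le l⟩
  · obtain ⟨f, a⟩ := (mQ x).1 l
    obtain ⟨b, -, rfl⟩ := (col b).1 i
    rw [a.e, ← p.add, p.inj.eq_iff, p.inj.eq_iff]
    exact (by decide +kernel : ∀ f b, act 1 0 f b = b ∨ act 1 0 f b = o + b) f b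
  · obtain ⟨α, f, a⟩ := (mS x).1 l
    obtain ⟨b, ⟨m, u⟩, rfl⟩ := (col b).1 i
    rw [a.e, ← p.add, p.inj.eq_iff, p.inj.eq_iff] at j
    exact (mV _).2 ⟨b, (by decide +kernel : ∀ α m b, α ≠ 0 ∧ α ≠ 1 ∧ iZ (b + d m) ∧ iZ (b + pm α 0 b) → iV b) α m b
      ⟨a.1, fun k => n ((mQ x).2 ⟨f, k ▸ a⟩), u, j.elim (fun j => by simpa only [j] using act_pm α 0 f b) fun j =>
        (addZ _ o (.inr rfl)).2.2.2.1 (by rw [add_right_comm, add_comm b, ← j]; exact act_pm α 0 f b)⟩, rfl⟩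
  · obtain ⟨α, f, a⟩ := (mS x).1 l
    obtain ⟨α', f', a'⟩ := (mS y).1 i
    rcases t.pm1 a x2 with ⟨rfl, -⟩ | rfl
    · exact .inl ((mQ _).2 ⟨_, a⟩)
    rcases t.pm1 a' y2 with ⟨rfl, -⟩ | rfl
    · exact .inr (.inl ((mQ _).2 ⟨_, a'⟩))
    · exact .inr (.inr ((mQ _).2 ⟨_, (a.mul a').cast (by decide) (by decide) rfl⟩))
  · obtain ⟨_, -, u⟩ := far a l n
    obtain ⟨_, v⟩ := (mQ a).1 i
    exact absurd (p.uniq u v).1 (by decide)
  · obtain ⟨f, b2, u⟩ := far b i j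
    obtain ⟨a, v, rfl⟩ := (col a).1 l
    rw [show ρ a * b * (ρ a * b) = ρ (a + act 4 0 f a) by
      rw [p.add, ← u.e, inv_eq_of_mul_eq_one_right b2]; group, nV, mI]
    exact ((by decide +kernel : ∀ f a, (∃ j, iZ (a + d j)) → ¬ iV a → iI (a + act 4 0 f a) ∧ ¬ iV (a + act 4 0 f a))
      f a v (nV.1 n)).imp_left fun k => ⟨_, k, rfl⟩
  · obtain ⟨b, i, rfl⟩ := (mV x).1 l
    exact (mI _).2 ⟨b, (by decide +kernel : ∀ b, iV b → iI b) b i, rfl⟩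
  · rcases (cas _).1 (conj_mem_of_mem_normalizer l h.zV) with i | i | i | i
    · exact absurd i (conj_ne_one _ h.z1)
    · exact let ⟨_, _, a⟩ := mS' i l; SI a
    · obtain ⟨_, _, a⟩ := mS' (x := g * x) (Eq.trans (by rw [← i]; group) g2) (mul_mem gN l)
      exact (mul_mem_cancel_left gI).1 (SI a)
    · obtain ⟨_, _, a⟩ := mS' (x := g * q * x) (Eq.trans (by rw [← q2, ← i]; group) g2) (mul_mem (mul_mem gN (SN aq)) l)
      exact (mul_mem_cancel_left (mul_mem gI (SI aq))).1 (SI a)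
  · obtain ⟨b, i, rfl⟩ := (mI w).1 l
    obtain ⟨b', i', rfl⟩ := (mI w').1 l'
    exact (mV _).2 ⟨_, (by decide +kernel : ∀ b b', iI b ∧ iI b' ∧ ¬ iV b ∧ ¬ iV b' → iV (b + b')) b b'
      ⟨i, i', nV.1 n, nV.1 n'⟩, p.add _ _⟩
  · obtain ⟨b, -, rfl⟩ := (mI w).1 l
    exact p.sq b
  · obtain ⟨b, -, rfl⟩ := (mI w).1 i
    obtain ⟨b', -, rfl⟩ := (mI w').1 i'
    obtain ⟨_, _, _, a⟩ := p.ex k (mul_inv_eq_iff_eq_mul.2 l)
    rw [a.e, p.comm]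
  · have n' : k * w * k⁻¹ ∉ V := fun j => by
      by_cases j1 : k * w * k⁻¹ = 1
      · exact n (conj_eq_one_iff.1 j1 ▸ one_mem _)
      · obtain ⟨x, -, u⟩ := h.trans_V j j1
        exact npt w l n ((isConj_iff.2 ⟨x, u⟩).trans (isConj_iff.2 ⟨k, rfl⟩).symm)
    obtain ⟨b, m, rfl⟩ := (mI w).1 l
    obtain ⟨b', l', i⟩ := (mI _).1 i
    obtain ⟨r, _, _, a, -, u⟩ := p.transI m (nV.1 n)
    obtain ⟨r', _, _, a', -, u'⟩ := p.transI l' (nV.1 (i ▸ n'))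
    have ch := fr_charP_c h.toFr (isPGroup_zpowers (k := 1) (x := ρ (d 1 + d 4)) (by simpa [pow_two] using p.sq _))
      (zpowers_ne_bot' (ne1 (by decide)))
    rw [centralizer_zpowers] at ch
    have := mem_normalizer_of_conj_mem (g := r' * k * r⁻¹) fun x j => (mV _).2 (t.line ch
      (mem_centralizer_singleton_iff.2 (mul_inv_eq_iff_eq_mul.1 (Eq.trans (by rw [i, ← u]; group) u'))) ((mV x).1 j))
    exact (mul_mem_cancel_left (SN a')).1 ((mul_mem_cancel_right (inv_mem (SN a))).1 this)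
  · obtain ⟨_, _, _, a⟩ := p.ex x (mul_inv_eq_iff_eq_mul.2 l)
    obtain ⟨k, _, _, _, u, ⟨b, v⟩ | ⟨b, v⟩⟩ := t.inv a x2 <;> obtain ⟨m, i, j⟩ := inU b
    · refine ⟨(m * k)⁻¹, .inl (Eq.trans ?_ u.inv.fix), by convert j using 1; rw [v]; group⟩
      nth_rw 1 [← i]; group
    · refine ⟨k⁻¹ * g * m⁻¹, .inr ⟨k⁻¹, u.inv.fix, by rw [← g1]; nth_rw 2 [← i]; group⟩, ?_⟩
      convert j using 1
      calc _ = m * (g⁻¹ * (k * x * k⁻¹) * g) * m⁻¹ := by group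
        _ = _ := by rw [← v, cρ]; group
  · obtain ⟨x, l⟩ := exists_prime_orderOf_dvd_card' 3 l
    obtain ⟨_, _, _, a⟩ := p.ex x (mul_inv_eq_iff_eq_mul.2 (mem_centralizer_singleton_iff.1 x.2))
    have := orderOf_dvd_of_pow_eq_one (p.pow160 a)
    rw [orderOf_coe, l] at this
    omega
  by_cases k : 𝐂 (fU S V) ≤ fU S V
  · left
    rw [← centralizer_zpowers, ← h.fH_eq, ← card_mul_relIndex_of_le (pCoreOf_le 2 _), T.idx,
      ← card_mul_relIndex_of_le T.leC, T.idxC, le_antisymm k T.ab, T.cardU]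
  obtain ⟨c, c1, c2⟩ := SetLike.not_le_iff_exists.1 k
  have a := p.ofC fun b => (c1 _ ((mU _).2 ⟨b, rfl⟩)).symm
  obtain ⟨H₀, h1, h2, h3, h4, h5⟩ := t.exH0 a (mt (mU c).2 c2)
  exact .inr ⟨H₀, c, h1, h2, h3, t.cz a (mt (mU c).2 c2), h4, t.e1 ▸ h5⟩

end H16.Ti

end H226
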