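import Cfsg.Agent.H26.T2.H26NFr
/-! The point-line geometry of `H26.F4 S V`: points are the conjugates of the central involution `z`, lines the
conjugates of `V`; `Up V p` is generated by the lines through `p`. -/
set_option autoImplicit false
namespace H118 end H118 namespace H118.Ge end H118.Ge namespace H226 end H226 namespace H26 end H26 namespace H4 end H4
open H226
namespace H226
namespace H118
open _root_.H118
open Cfsg Subgroup H26 _root_.H26 H4 _root_.H4
open scoped Pointwise commutatorElement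

local notation "O₂" => pCoreOf 2

variable {G : Type*} [Group G]

/-- lines -/
def Ln (V l : Subgroup G) : Prop := ∃ g : G, cj g V = l

/-- the group generated by the lines through `p` -/
def Up (V : Subgroup G) (p : G) : Subgroup G := sSup {l | Ln V l ∧ p ∈ l}

/-- the kernel of the action of `C(p)` on the lines through `p` -/
def Tp (V : Subgroup G) (p : G) : Subgroup G := 𝐂 (zpowers p) ⊓ commStab (Up V p : Set G) (zpowers p)

/-- collinear points -/
def Col (V : Subgroup G) (p q : G) : Prop := p ≠ 1 ∧ q ≠ 1 ∧ ∃ l, Ln V l ∧ p ∈ l ∧ q ∈ l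

/-- `Near V n p q`: the points `p`, `q` are joined by a path with at most `n` steps -/
inductive Near (V : Subgroup G) : ℕ → G → G → Prop
  | zero {p : G} (h : Col V p p) : Near V 0 p p
  | succ {n : ℕ} {p q r : G} (h : Near V n p q) (h' : Col V q r) : Near V (n + 1) p r

section basic
variable {V l m : Subgroup G} {p q r g : G} {n : ℕ}

theorem Ln.self (V : Subgroup G) : Ln V V := ⟨1, cj_one V⟩

theorem Ln.cj (h : Ln V l) (g : G) : Ln V (cj g l) := by
  obtain ⟨x, rfl⟩ := h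
  exact ⟨g * x, cj_mul g x V⟩

theorem Ln.le_Up (h : Ln V l) (hp : p ∈ l) : l ≤ Up V p := le_sSup ⟨h, hp⟩

theorem Up_le {K : Subgroup G} (h : ∀ l, Ln V l → p ∈ l → l ≤ K) : Up V p ≤ K := sSup_le fun l hl => h l hl.1 hl.2

theorem cj_Up_le (g p : G) : cj g (Up V p) ≤ Up V (g * p * g⁻¹) :=
  cj_le_iff.2 (Up_le fun l hl hp => cj_le_iff.1 ((hl.cj g).le_Up (conj_mem_cj g hp)))

theorem cj_Up (g p : G) : cj g (Up V p) = Up V (g * p * g⁻¹) := by
  refine le_antisymm (cj_Up_le g p) (le_cj_iff.2 ?_)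
  have := cj_Up_le (V := V) g⁻¹ (g * p * g⁻¹)
  rwa [show g⁻¹ * (g * p * g⁻¹) * g⁻¹⁻¹ = p by group] at this

theorem conj_eq_of_mem_c {g p : G} (h : g ∈ 𝐂 (zpowers p)) : g * p * g⁻¹ = p :=
  mem_centralizer_iff'.1 h p (mem_zpowers p)

theorem mem_c_of_conj_eq {g p : G} (h : g * p * g⁻¹ = p) : g ∈ 𝐂 (zpowers p) :=
  mem_centralizer_zpowers.2 (by rw [← mul_inv_eq_iff_eq_mul.1 h])

theorem c_le_n_Up (V : Subgroup G) (p : G) : 𝐂 (zpowers p) ≤ 𝐍 (Up V p) := fun g hg =>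
  cj_eq_iff.1 (by rw [cj_Up, conj_eq_of_mem_c hg])

theorem le_Tp {K : Subgroup G} : K ≤ Tp V p ↔ K ≤ 𝐂 (zpowers p) ∧ ⁅K, Up V p⁆ ≤ zpowers p := by
  rw [Tp, le_inf_iff, le_commStab_iff]
  exact ⟨fun h => ⟨h.1, h.2.2⟩, fun h => ⟨h.1, le_normalizer_of_le_centralizer h.1, h.2⟩⟩

theorem Tp_le_c : Tp V p ≤ 𝐂 (zpowers p) := inf_le_left

theorem comm_Tp : ⁅Tp V p, Up V p⁆ ≤ zpowers p := (le_Tp.1 le_rfl).2

theorem mem_Tp {x : G} : x ∈ Tp V p ↔ x ∈ 𝐂 (zpowers p) ∧ ∀ u ∈ Up V p, ⁅x, u⁆ ∈ zpowers p :=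
  ⟨fun h => ⟨h.1, h.2.2⟩, fun h => ⟨h.1, centralizer_le_normalizer _ h.1, h.2⟩⟩

theorem cj_Tp_le (g p : G) : cj g (Tp V p) ≤ Tp V (g * p * g⁻¹) := by
  rw [le_Tp, ← cj_Up, ← cj_zpowers, ← cj_centralizer, ← cj_commutator]
  exact ⟨cj_mono g Tp_le_c, cj_mono g comm_Tp⟩

theorem cj_Tp (g p : G) : cj g (Tp V p) = Tp V (g * p * g⁻¹) := by
  refine le_antisymm (cj_Tp_le g p) (le_cj_iff.2 ?_)
  have := cj_Tp_le (V := V) g⁻¹ (g * p * g⁻¹)
  rwa [show g⁻¹ * (g * p * g⁻¹) * g⁻¹⁻¹ = p by group] at this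

theorem c_le_n_Tp (V : Subgroup G) (p : G) : 𝐂 (zpowers p) ≤ 𝐍 (Tp V p) := fun g hg =>
  cj_eq_iff.1 (by rw [cj_Tp, conj_eq_of_mem_c hg])

theorem Col.symm (h : Col V p q) : Col V q p :=
  let ⟨a, b, l, c, d, e⟩ := h; ⟨b, a, l, c, e, d⟩

theorem Col.left (h : Col V p q) : Col V p p :=
  let ⟨a, _, l, c, d, _⟩ := h; ⟨a, a, l, c, d, d⟩

theorem Col.right (h : Col V p q) : Col V q q := h.symm.left

theorem conj_ne_one (g : G) (h : p ≠ 1) : g * p * g⁻¹ ≠ 1 := fun e => h (by simpa using e)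

theorem conj_ne_one_aux {x : G} (h : x⁻¹ * p * x = 1) : p = 1 := by
  rw [show p = x * (x⁻¹ * p * x) * x⁻¹ by group, h]; group

theorem Col.cj (h : Col V p q) (g : G) : Col V (g * p * g⁻¹) (g * q * g⁻¹) :=
  let ⟨a, b, l, c, d, e⟩ := h
  ⟨conj_ne_one g a, conj_ne_one g b, cj g l, c.cj g, conj_mem_cj g d, conj_mem_cj g e⟩

theorem Col.mem (h : Col V p q) : q ∈ Up V p :=
  let ⟨_, _, _, c, d, e⟩ := h; c.le_Up d e

theorem Near.cj (h : Near V n p q) (g : G) : Near V n (g * p * g⁻¹) (g * q * g⁻¹) := by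
  induction h with
  | zero h => exact .zero (h.cj g)
  | succ _ h' ih => exact .succ ih (h'.cj g)

theorem Near.right (h : Near V n p q) : Col V q q := by
  cases h with
  | zero h => exact h
  | succ _ h' => exact h'.right

theorem Near.left (h : Near V n p q) : Col V p p := by
  induction h with
  | zero h => exact h
  | succ _ _ ih => exact ih

theorem Near.up (h : Near V n p q) : Near V (n + 1) p q := .succ h h.right

theorem Near.mono (h : Near V n p q) {k : ℕ} (hk : n ≤ k) : Near V k p q := by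
  induction hk with
  | refl => exact h
  | step _ ih => exact ih.up

theorem Col.near (h : Col V p q) : Near V 1 p q := .succ (.zero h.left) h

theorem Near.trans {k : ℕ} (h : Near V n p q) (h' : Near V k q r) : Near V (n + k) p r := by
  induction h' with
  | zero _ => exact h
  | succ _ h2 ih => exact .succ (ih h) h2

theorem Near.cons (h : Col V p q) (h' : Near V n q r) : Near V (n + 1) p r := by
  rw [add_comm]; exact h.near.trans h'

theorem Near.symm (h : Near V n p q) : Near V n q p := by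
  induction h with
  | zero h => exact .zero h
  | succ _ h' ih => exact Near.cons h'.symm ih

theorem Near.zero_eq (h : Near V 0 p q) : p = q := by cases h; rfl

theorem Near.last (h : Near V (n + 1) p r) : ∃ q, Near V n p q ∧ Col V q r := by
  cases h with
  | succ h h' => exact ⟨_, h, h'⟩

theorem Near.first (h : Near V (n + 1) p r) : ∃ q, Col V p q ∧ Near V n q r :=
  let ⟨q, a, b⟩ := h.symm.last; ⟨q, b.symm, a.symm⟩

end basic

/-- `F4 S V` with the central involution `z` -/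
structure Ge (S V : Subgroup G) (z : G) : Prop extends F4 S V where
  zeq : oz S = zpowers z
  z1 : z ≠ 1

variable [Finite G] {S V : Subgroup G} {z : G}

theorem fr_ncl (h : Fr S V) : ncl (oz S) (𝐍 V) = V :=
  ((h.syl.mono h.le le_top).sylowCenterClosure_eq).symm.trans h.zv

theorem fr_oz_le (h : Fr S V) : oz S ≤ V := (le_ncl _ _).trans (fr_ncl h).le

theorem fr_oz_ne (h : Fr S V) : oz S ≠ V := fun e => h.nH (by
  show 𝐂 (oz S) ≤ 𝐍 V
  rw [e]; exact centralizer_le_normalizer _)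

theorem fr_oz_ne_bot (h : Fr S V) : oz S ≠ ⊥ := fun e => fr_oz_ne h (by
  have := fr_ncl h
  rw [e] at this ⊢
  rw [← this]
  exact (ncl_eq_self (by rw [normalizer_bot']; exact le_top)).symm)

theorem f4_four (h : F4 S V) : Four V := by
  refine ⟨h.card, fun w hw => ?_⟩
  have e : IsElementaryAbelian 2 (fU S V) :=
    elemAb_iSup (fun g : fH S => elemAb_cj (p := 2) ?_ (g : G)) fun i j => ?_
  · have := e.2 w (le_ncl _ _ hw)
    rwa [pow_two] at this
  · have c : V ≤ 𝐂 V := (le_ncl _ _).trans (h.ab.trans (centralizer_anti (le_ncl _ _)))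
    rw [← fr_ncl h.toFr] at c ⊢
    exact elemAb_iSup (fun g : 𝐍 V => elemAb_cj (elemAb_oz S) (g : G)) fun i j =>
      (cj_le_ncl i.2).trans (c.trans (centralizer_anti (cj_le_ncl j.2)))
  · exact (cj_le_ncl i.2).trans (h.ab.trans (centralizer_anti (cj_le_ncl j.2)))

theorem exists_ge (h : F4 S V) : ∃ z, Ge S V z := by
  rcases (f4_four h).card_cases (fr_oz_le h.toFr) with e | e | e
  · exact absurd e (fr_oz_ne_bot h.toFr)
  · obtain ⟨z, hz, z1⟩ := exists_ne_one_of_card (U := oz S) (by omega)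
    refine ⟨z, h, le_antisymm (fun x hx => ?_) (zpowers_le.2 hz), z1⟩
    by_cases e1 : x = 1
    · exact e1 ▸ one_mem _
    · exact mem_of_card_two e hz hx z1 e1 ▸ mem_zpowers z
  · exact absurd e (fr_oz_ne h.toFr)

omit [Finite G] in
theorem mem_two {t x : G} (t2 : t * t = 1) (h : x ∈ zpowers t) : x = 1 ∨ x = t := by
  obtain ⟨n, rfl⟩ := mem_zpowers_iff.1 h
  have e : t ^ (2 : ℤ) = 1 := by rw [zpow_two, t2]
  rcases Int.even_or_odd' n with ⟨k, rfl | rfl⟩
  · left; rw [zpow_mul, e, one_zpow]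
  · right; rw [zpow_add, zpow_mul, e, one_zpow, one_mul, zpow_one]

omit [Finite G] in
theorem card_two {t : G} (t2 : t * t = 1) (t1 : t ≠ 1) : Nat.card (zpowers t) = 2 := by
  rw [Nat.card_zpowers, orderOf_eq_prime (by rw [pow_two, t2]) t1]

omit [Finite G] in
theorem four_cases {W : Subgroup G} (h : Four W) {a b x : G} (ha : a ∈ W) (hb : b ∈ W) (a1 : a ≠ 1) (b1 : b ≠ 1)
    (ab : a ≠ b) (hx : x ∈ W) : x = 1 ∨ x = a ∨ x = b ∨ x = a * b := by
  have h2 := h.relIndex_of_card (zpowers_le.2 ha) (card_two (h.sq a ha) a1)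
  by_cases e : x ∈ zpowers a
  · rcases mem_two (h.sq a ha) e with e | e <;> simp [e]
  have e' : b ∉ zpowers a := fun k => by
    rcases mem_two (h.sq a ha) k with k | k
    exacts [b1 k, ab k.symm]
  rcases mem_two (h.sq a ha) (two_of_relIndex h2 x hx b hb e e') with k | k
  · right; right; left
    rw [← mul_right_inj x, k] 
    exact h.sq x hx
  · right; right; right
    rw [← k, mul_assoc, h.sq b hb, mul_one]

namespace Ge
open _root_.H118.Ge
variable (h : Ge S V z) {l m : Subgroup G} {p q r g : G} {n : ℕ}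
include h

theorem four : Four V := f4_four h.toF4
theorem zoz : z ∈ oz S := h.zeq ▸ mem_zpowers z
theorem zV : z ∈ V := fr_oz_le h.toFr h.zoz
theorem zz : z * z = 1 := h.four.sq z h.zV
theorem fH_eq : fH S = 𝐂 (zpowers z) := by rw [fH, h.zeq]
theorem S_le : S ≤ 𝐂 (zpowers z) := h.zeq ▸ le_c_oz S
theorem colz : Col V z z := ⟨h.z1, h.z1, V, Ln.self V, h.zV, h.zV⟩
theorem ln_four (hl : Ln V l) : Four l := let ⟨g, e⟩ := hl; e ▸ h.four.conj g

theorem not_S_le : ¬ S ≤ 𝐂 V := fun e => fr_oz_ne h.toFr (le_antisymm (fr_oz_le h.toFr)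
  (le_oz h.four.ea (h.syl.le_of_le_normalizer h.four.isP le_top h.le) (le_centralizer_iff.1 e)))

theorem trans_V (hp : p ∈ V) (p1 : p ≠ 1) : ∃ g ∈ 𝐍 V, g * z * g⁻¹ = p := by
  have e : ¬ 𝐍 V ≤ 𝐂 (zpowers z) := fun e => fr_oz_ne h.toFr (by
    have := fr_ncl h.toFr
    rw [ncl_eq_self (h.zeq ▸ le_normalizer_of_le_centralizer e)] at this
    exact this)
  obtain ⟨g, hg, hg'⟩ := SetLike.not_le_iff_exists.1 e
  have y1 : g * z * g⁻¹ ≠ 1 := conj_ne_one g h.z1
  have yz : z ≠ g * z * g⁻¹ := fun k => hg' (mem_c_of_conj_eq k.symm)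
  have yV : g * z * g⁻¹ ∈ V := conj_mem_of_mem_normalizer hg h.zV
  rcases four_cases h.four h.zV yV h.z1 y1 yz hp with k | k | k | k
  · exact absurd k p1
  · exact ⟨1, one_mem _, by simp [k]⟩
  · exact ⟨g, hg, k.symm⟩
  obtain ⟨s, hs, hs'⟩ := SetLike.not_le_iff_exists.1 h.not_S_le
  have sz := conj_eq_of_mem_c (h.S_le hs)
  refine ⟨s * g, mul_mem (h.le hs) hg, ?_⟩
  have e2 : s * g * z * (s * g)⁻¹ = s * (g * z * g⁻¹) * s⁻¹ := by group
  rw [e2, k]
  rcases four_cases h.four h.zV yV h.z1 y1 yz (conj_mem_of_mem_normalizer (h.le hs) yV) with j | j | j | j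
  · exact absurd j (conj_ne_one s y1)
  · refine absurd ?_ yz
    have := j.trans sz.symm
    rw [mul_left_inj, mul_right_inj] at this
    exact this.symm
  · refine absurd (mem_centralizer_iff'.2 fun v hv => ?_) hs'
    rcases four_cases h.four h.zV yV h.z1 y1 yz hv with i | i | i | i <;> rw [i]
    · simp
    · exact sz
    · exact j
    · rw [show s * (z * (g * z * g⁻¹)) * s⁻¹ = (s * z * s⁻¹) * (s * (g * z * g⁻¹) * s⁻¹) by group, sz, j]
  · exact j

theorem trans (hl : Ln V l) (hp : p ∈ l) (p1 : p ≠ 1) : ∃ g, cj g V = l ∧ g * z * g⁻¹ = p := by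
  obtain ⟨x, rfl⟩ := hl
  obtain ⟨g, hg, e⟩ := h.trans_V (mem_cj.1 hp) (fun k => p1 (by simpa using conj_ne_one_aux k))
  exact ⟨x * g, by rw [cj_mul, cj_eq_of_mem_normalizer hg], by
    rw [show x * g * z * (x * g)⁻¹ = x * (g * z * g⁻¹) * x⁻¹ by group, e]; group⟩

theorem pt (hp : Col V p q) : ∃ g, g * z * g⁻¹ = p :=
  let ⟨a, _, _, c, d, _⟩ := hp; let ⟨g, _, e⟩ := h.trans c d a; ⟨g, e⟩

theorem Up_z : Up V z = fU S V := by
  refine le_antisymm (Up_le fun l hl hz => ?_) (ncl_le_iff.2 fun g hg => ((Ln.self V).cj g).le_Up ?_)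
  · obtain ⟨g, rfl, e⟩ := h.trans hl hz h.z1
    exact cj_le_ncl (h.zeq ▸ mem_c_of_conj_eq e)
  · rw [← conj_eq_of_mem_c (h.zeq ▸ hg : g ∈ 𝐂 (zpowers z))]
    exact conj_mem_cj g h.zV

theorem Tp_z : Tp V z = fT S V := by rw [Tp, fT, h.Up_z, h.fH_eq, h.zeq]

theorem Up_ab (hp : Col V p q) : Up V p ≤ 𝐂 (Up V p) := by
  obtain ⟨g, rfl⟩ := h.pt hp
  rw [← cj_Up, ← cj_centralizer, h.Up_z]
  exact cj_mono g h.ab

theorem Up_ea (hp : Col V p q) : IsElementaryAbelian 2 (Up V p) := by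
  rw [Up, sSup_eq_iSup']
  exact elemAb_iSup (fun l => (h.ln_four l.2.1).ea) fun i j =>
    (i.2.1.le_Up i.2.2).trans ((h.Up_ab hp).trans (centralizer_anti (j.2.1.le_Up j.2.2)))

theorem Up_sq (hp : Col V p q) {u : G} (hu : u ∈ Up V p) : u * u = 1 := by
  have := (h.Up_ea hp).2 u hu
  rwa [pow_two] at this

theorem Up_isP (hp : Col V p q) : IsPGroup 2 (Up V p) := elemAb_isPGroup (h.Up_ea hp)

theorem pp (hp : Col V p q) : p * p = 1 := h.Up_sq hp hp.left.mem

theorem Up_le_c (hp : Col V p q) : Up V p ≤ 𝐂 (zpowers p) :=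
  (h.Up_ab hp).trans (centralizer_anti (zpowers_le.2 hp.left.mem))

omit h in
theorem c_le_Tp (hp : Col V p q) : 𝐂 (Up V p) ≤ Tp V p :=
  le_Tp.2 ⟨centralizer_anti (zpowers_le.2 hp.left.mem), by
    rw [commutator_comm, commutator_eq_bot_iff'.2 le_rfl]; exact bot_le⟩

omit h in
theorem Tp_le_n (hl : Ln V l) (hp : p ∈ l) : Tp V p ≤ 𝐍 l :=
  le_normalizer_of_commutator_le (by
    rw [commutator_comm]
    exact ((commutator_mono le_rfl (hl.le_Up hp)).trans comm_Tp).trans (zpowers_le.2 hp))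

/-- lines normalizing each other commute -/
theorem ln_comm (hl : Ln V l) (hm : Ln V m) (h1 : l ≤ 𝐍 m) (h2 : m ≤ 𝐍 l) : l ≤ 𝐂 m := by
  by_contra e
  have e' : ⁅m, l⁆ ≠ ⊥ := fun k => e (commutator_eq_bot_iff'.1 k)
  obtain ⟨x, hx, x1⟩ := (bot_or_exists_ne_one _).resolve_left e'
  have hx' := commutator_le_inf_of_le_normalizer h2 h1 hx
  exact e ((hl.le_Up hx'.2).trans ((h.Up_ab ⟨x1, x1, l, hl, hx'.2, hx'.2⟩).trans
    (centralizer_anti (hm.le_Up hx'.1))))

theorem Up_comm (h1 : Up V p ≤ Tp V q) (h2 : Up V q ≤ Tp V p) : Up V p ≤ 𝐂 (Up V q) :=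
  Up_le fun l hl hp => le_centralizer_iff.1 (Up_le fun m hm hq => h.ln_comm hm hl
    ((hm.le_Up hq).trans (h2.trans (Tp_le_n hl hp))) ((hl.le_Up hp).trans (h1.trans (Tp_le_n hm hq))))

end Ge

end H118

end H226
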