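import Cfsg.Agent.H26.T2.H18FL
/-! The action of a solvable group `H` on `U/⟨y⟩`: the odd core `Fo H T` of `H/T`, the dihedral lemma, transvections
and their components. -/
set_option autoImplicit false
namespace H118 end H118 namespace H18 end H18 namespace H226 end H226 namespace H26 end H26 namespace H4 end H4
open H226
namespace H226
namespace H118
open _root_.H118
open Cfsg Subgroup H26 _root_.H26 H4 _root_.H4
open scoped Pointwise commutatorElement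

local notation "O²" => pResidualOf 2

variable {G : Type*} [Group G]

/-- the preimage of `O(H/T)` -/
def Fo (H T : Subgroup G) : Subgroup G := sSup {E | E ≤ H ∧ H ≤ 𝐍 E ∧ ∀ f ∈ E, ∃ k, Odd k ∧ f ^ k ∈ T}

abbrev We (U : Subgroup G) (e : G) : Subgroup G := ⁅U, zpowers e⁆
abbrev Ce (U : Subgroup G) (e : G) : Subgroup G := U ⊓ 𝐂 (zpowers e)

/-- the involution `t` inverts `e` -/
structure In (H T : Subgroup G) (e t : G) : Prop where
  eF : e ∈ Fo H T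
  eT : e ∉ T
  od : Odd (orderOf e)
  tH : t ∈ H
  tt : t * t = 1
  inv : t * e * t⁻¹ = e⁻¹

/-- `t` is a transvection on `[U, e]` with centre `c` -/
structure Qd (U H T : Subgroup G) (e t c : G) : Prop extends In H T e t where
  cW : c ∈ We U e
  c1 : c ≠ 1
  tw : ∀ w ∈ We U e, ⁅t, w⁆ ∈ zpowers c

/-- `t` is a transvection on `U/⟨y⟩` with centre `c` -/
structure Tr (y : G) (U H T : Subgroup G) (e t c : G) : Prop extends Qd U H T e t c where
  tv : ∀ u ∈ U, ⁅t, u⁆ ∈ zpowers c ⊔ zpowers y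

section basic
variable {U H T K W : Subgroup G} {e t c y g x : G}

theorem Fo_le : Fo H T ≤ H := sSup_le fun _ h => h.1

theorem cj_Fo_le (g : G) : cj g (Fo H T) ≤ Fo (cj g H) (cj g T) :=
  cj_le_iff.2 (sSup_le fun E ⟨a, b, c⟩ => cj_le_iff.1 (le_sSup ⟨cj_mono g a, by
    rw [← cj_normalizer]; exact cj_mono g b, fun f hf => by
      obtain ⟨k, h1, h2⟩ := c _ (mem_cj.1 hf)
      refine ⟨k, h1, mem_cj.2 ?_⟩
      rwa [show g⁻¹ * f * g = g⁻¹ * f * g⁻¹⁻¹ by rw [inv_inv], conj_pow, inv_inv] at h2⟩))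

theorem le_n_Fo (h : H ≤ 𝐍 T) [Finite G] : H ≤ 𝐍 (Fo H T) := fun g hg => mem_normalizer_of_cj_le (by
  have := cj_Fo_le (H := H) (T := T) g
  rwa [cj_eq_of_mem hg, cj_eq_of_mem_normalizer (h hg)] at this)

theorem le_Fo (h1 : T ≤ H) (h : H ≤ 𝐍 T) : T ≤ Fo H T :=
  le_sSup ⟨h1, h, fun f hf => ⟨1, odd_one, by rwa [pow_one]⟩⟩

theorem cj_We (g : G) : cj g (We U e) = We (cj g U) (g * e * g⁻¹) := by rw [cj_commutator, cj_zpowers]

theorem cj_Ce (g : G) : cj g (Ce U e) = Ce (cj g U) (g * e * g⁻¹) := by rw [cj_inf, cj_centralizer, cj_zpowers]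

theorem conj_comm (g a b : G) : g * ⁅a, b⁆ * g⁻¹ = ⁅g * a * g⁻¹, g * b * g⁻¹⁆ := by group

theorem In.cj (h : In H T e t) (g : G) : In (cj g H) (cj g T) (g * e * g⁻¹) (g * t * g⁻¹) :=
  ⟨cj_Fo_le g (conj_mem_cj g h.eF), fun k => h.eT (conj_mem_cj_iff.1 k), by rw [orderOf_cj]; exact h.od,
    conj_mem_cj g h.tH, by rw [conj_mul, h.tt]; simp, by
      rw [show g * t * g⁻¹ * (g * e * g⁻¹) * (g * t * g⁻¹)⁻¹ = g * (t * e * t⁻¹) * g⁻¹ by group, h.inv]; group⟩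

theorem Qd.cj (h : Qd U H T e t c) (g : G) :
    Qd (cj g U) (cj g H) (cj g T) (g * e * g⁻¹) (g * t * g⁻¹) (g * c * g⁻¹) :=
  ⟨h.toIn.cj g, cj_We g ▸ conj_mem_cj g h.cW, conj_ne_one g h.c1, fun w hw => by
    rw [← cj_We] at hw
    obtain ⟨v, hv, rfl⟩ := mem_cj'.1 hw
    rw [← conj_comm, ← cj_zpowers]
    exact conj_mem_cj g (h.tw v hv)⟩

theorem Tr.cj (h : Tr y U H T e t c) (g : G) :
    Tr (g * y * g⁻¹) (cj g U) (cj g H) (cj g T) (g * e * g⁻¹) (g * t * g⁻¹) (g * c * g⁻¹) :=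
  ⟨h.toQd.cj g, fun w hw => by
    obtain ⟨v, hv, rfl⟩ := mem_cj'.1 hw
    rw [← conj_comm, ← cj_zpowers, ← cj_zpowers, ← cj_sup]
    exact conj_mem_cj g (h.tv v hv)⟩

theorem mem_of_sq_mem (h : Odd (orderOf e)) (h2 : e * e ∈ K) : e ∈ K :=
  mem_of_pow_mem_coprime_orderOf (a := 2) (Nat.coprime_two_right.2 h) (by rwa [pow_two])

theorem In.sq (h : In H T e t) : e * t * e⁻¹ * t = e * e := by
  have e1 : t⁻¹ = t := inv_eq_of_mul_eq_one_right h.tt
  have : t * e⁻¹ * t = e := by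
    rw [← inv_inj, mul_inv_rev, mul_inv_rev, inv_inv, e1, ← mul_assoc, ← h.inv, e1]
  rw [mul_assoc, mul_assoc, ← mul_assoc t, this]

/-- `e` lies in every subgroup normalized by `e` containing `t` -/
theorem In.mem (h : In H T e t) (h1 : t ∈ K) (h2 : e * t * e⁻¹ ∈ K) : e ∈ K :=
  mem_of_sq_mem h.od (h.sq ▸ mul_mem h2 h1)

theorem mem_cs [Finite G] (hK : K ≤ W) (h : ∀ w ∈ W, ⁅t, w⁆ ∈ K) : t ∈ commStab (W : Set G) K :=
  ⟨mem_normalizer_of_conj_mem fun x hx => by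
    rw [show t * x * t⁻¹ = ⁅t, x⁆ * x by group]; exact mul_mem (h x (hK hx)) hx, h⟩

theorem comm_mem_We (hu : x ∈ U) : ⁅e, x⁆ ∈ We U e := by
  rw [We, commutator_comm]; exact commutator_mem_commutator (mem_zpowers e) hu

theorem mem_Ce : x ∈ Ce U e ↔ x ∈ U ∧ e * x * e⁻¹ = x :=
  and_congr_right fun _ => mem_centralizer_zpowers.trans mul_inv_eq_iff_eq_mul.symm

theorem u3abs {Q : Type*} [Group Q] {φ ψ : MulAut Q} {c u v : Q} (cc : c * c = 1) (uu : u * u = 1) (vv : v * v = 1)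
    (uc : u * c = c * u) (vc : v * c = c * v) (vu : v * u = u * v) (h1 : φ c = u) (h2 : φ u = c * u)
    (h3 : φ v = c * v ∨ φ v = u * v) (k1 : ψ c = v) (k2 : ψ v = c * v) (k3 : ψ u = c * u ∨ ψ u = u * v)
    (od : ∀ g, g = φ⁻¹ * ψ ∨ g = φ * ψ ∨ g = ψ * φ → (g ^ 4) c = c → g c = c) :
    v = 1 ∨ u = 1 ∨ v = u ∨ v = c * u := by
  have cc' : ∀ x, c * (c * x) = x := fun x => by rw [← mul_assoc, cc, one_mul]
  have uu' : ∀ x, u * (u * x) = x := fun x => by rw [← mul_assoc, uu, one_mul]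
  have vv' : ∀ x, v * (v * x) = x := fun x => by rw [← mul_assoc, vv, one_mul]
  have uc' : ∀ x, u * (c * x) = c * (u * x) := fun x => by rw [← mul_assoc, uc, mul_assoc]
  have vc' : ∀ x, v * (c * x) = c * (v * x) := fun x => by rw [← mul_assoc, vc, mul_assoc]
  have vu' : ∀ x, v * (u * x) = u * (v * x) := fun x => by rw [← mul_assoc, vu, mul_assoc]
  have p4 : ∀ g : MulAut Q, (g ^ 4) c = g (g (g (g c))) := fun g => by simp [pow_succ]
  have i1 : φ⁻¹ c = c * u := by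
    rw [MulAut.inv_def, MulEquiv.symm_apply_eq]; simp [h1, h2, uc', uu]
  have i2 : φ⁻¹ u = c := by rw [MulAut.inv_def, MulEquiv.symm_apply_eq, h1]
  rcases h3 with h3 | h3 <;> rcases k3 with k3 | k3
  · have i3 : φ⁻¹ v = c * (u * v) := by
      rw [MulAut.inv_def, MulEquiv.symm_apply_eq]; simp [h1, h2, h3, mul_assoc, uc', uu', cc']
    have := od _ (.inl rfl) (by
      rw [p4]; simp [k1, k2, k3, i1, i2, i3, mul_assoc, cc, uu, vv, uc, vc, vu, cc', uu', vv', uc', vc', vu'])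
    simp only [MulAut.mul_apply, k1, i3, mul_eq_left] at this
    right; right; left
    rw [← mul_right_inj u, this, uu]
  · have := od _ (.inr (.inl rfl)) (by
      rw [p4]; simp [k1, k2, k3, h1, h2, h3, mul_assoc, cc, uu, vv, uc, vc, vu, cc', uu', vv', uc', vc', vu'])
    simp only [MulAut.mul_apply, k1, h3, mul_eq_left] at this
    exact .inl this
  · have := od _ (.inr (.inr rfl)) (by
      rw [p4]; simp [k1, k2, k3, h1, h2, h3, mul_assoc, cc, uu, vv, uc, vc, vu, cc', uu', vv', uc', vc', vu'])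
    simp only [MulAut.mul_apply, h1, k3, mul_eq_left] at this
    exact .inr (.inl this)
  · have := od _ (.inr (.inl rfl)) (by
      rw [p4]; simp [k1, k2, k3, h1, h2, h3, mul_assoc, cc, uu, vv, uc, vc, vu, cc', uu', vv', uc', vc', vu'])
    simp only [MulAut.mul_apply, k1, h3] at this
    right; right; right
    rw [← this, mul_assoc, vu, uu']

end basic

variable [Finite G] {U H T K P : Subgroup G} {y e e' t t' c c' s u w x : G}

open H18 _root_.H18 in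
theorem Fo_eq (h1 : T ≤ H) (h : H ≤ 𝐍 T) : Fo H T = H ⊓ qpre T (H17.oQ 2 (H ⫽ T)) := by
  refine le_antisymm (sSup_le fun E ⟨a, b, c⟩ => le_inf a ((mim_le_iff (a.trans h)).1
    (H17.le_oQ (mim_mono a) (mim_norm b) fun k => ?_))) (le_sSup ⟨inf_le_left,
      le_normalizer_inf le_normalizer (norm_mpre h (H17.le_normalizer_oQ 2 _)), fun f hf => ?_⟩)
  · obtain ⟨⟨x, hx⟩, ho⟩ := exists_prime_orderOf_dvd_card' 2 k
    obtain ⟨f, hf, rfl⟩ := (mem_quo (a.trans h)).1 hx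
    obtain ⟨n, h1, h2⟩ := c f hf
    rw [← cs_eq_one_iff (pow_mem (h (a hf)) n), mfun_pow (h (a hf)), ← orderOf_dvd_iff_pow_eq_one] at h2
    rw [← orderOf_coe] at ho
    exact (Nat.not_even_iff_odd.2 h1) (even_iff_two_dvd.2 (ho ▸ h2))
  · refine ⟨Nat.card (H17.oQ 2 (H ⫽ T)), Nat.not_even_iff_odd.1 fun k => H17.oQ_not_dvd 2 _ (even_iff_two_dvd.1 k), ?_⟩
    rw [← cs_eq_one_iff (pow_mem (h hf.1) _), mfun_pow (h hf.1), ← orderOf_dvd_iff_pow_eq_one]
    exact orderOf_dvd_card_of_mem (mem_mpre.1 hf.2).2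

theorem Fo_odd (h1 : T ≤ H) (h : H ≤ 𝐍 T) : ∀ f ∈ Fo H T, ∃ k, Odd k ∧ f ^ k ∈ T := by
  intro f hf
  rw [Fo_eq h1 h] at hf
  refine ⟨Nat.card (H17.oQ 2 (H18.mim (H18.coset T) H)),
    Nat.not_even_iff_odd.1 fun k => H17.oQ_not_dvd 2 _ (even_iff_two_dvd.1 k), ?_⟩
  rw [← H18.cs_eq_one_iff (pow_mem (h hf.1) _), H18.mfun_pow (h hf.1), ← orderOf_dvd_iff_pow_eq_one]
  exact orderOf_dvd_card_of_mem (H18.mem_mpre.1 hf.2).2

theorem mem_of_Fo (h1 : T ≤ H) (h : H ≤ 𝐍 T) (hK : T ≤ K) (hx : x ∈ Fo H T) {n : ℕ} (h2 : x ^ 2 ^ n ∈ K) : x ∈ K :=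
  let ⟨_, a, b⟩ := Fo_odd h1 h x hx
  mem_of_pow_mem_coprime ((Nat.coprime_two_right.2 a).pow_right n) (hK b) h2

/-- the odd part of an inverted element -/
theorem exists_in (h1 : T ≤ H) (h : H ≤ 𝐍 T) (hx : x ∈ Fo H T) (hx' : x ∉ T) (tH : t ∈ H) (tt : t * t = 1)
    (i : t * x * t⁻¹ = x⁻¹) : ∃ n, In H T (x ^ 2 ^ n) t := by
  obtain ⟨n, hn⟩ := exists_pow_coprime (p := 2) (isOfFinOrder_of_finite x)
  exact ⟨n, pow_mem hx _, fun k => hx' (mem_of_Fo h1 h le_rfl hx k), Nat.coprime_two_right.1 hn, tH, tt, by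
    rw [← conj_pow, i, inv_pow]⟩

open H18 _root_.H18 in
/-- the dihedral lemma -/
theorem dl (h1 : T ≤ H) (h : H ≤ 𝐍 T) (hs : Group.IsSolvable H) (hr : RedM H T) (hP : P ≤ H)
    (hP' : IsElementaryAbelian 2 P) (ht : t ∈ P) (ht' : t ∉ T) :
    ∃ e, In H T e t ∧ ∀ s ∈ P, ⁅s, e⁆ ∈ T ∨ ⁅s * t, e⁆ ∈ T := by
  have n := hP.trans h
  have o2 : pCoreOf 2 (H ⫽ T) = ⊥ := by
    have e : (H ⊓ qpre T (pCoreOf 2 (H ⫽ T))) ⫽ T = _ := mim_inf_mpre_of_le (pCoreOf_le _ _)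
    rw [← e, quo_eq_bot_iff (inf_le_left.trans h)]
    refine hr _ inf_le_left (le_normalizer_inf le_normalizer (norm_mpre h (le_normalizer_pCoreOf 2 _))) ?_
    rw [← quo_eq_bot_iff ((pResidualOf_le _ _).trans (inf_le_left.trans h)), mim,
      ← pResidualOf_subgroupOf (inf_le_left.trans h), map_pResidualOf]
    exact pResidualOf_eq_bot (e.symm ▸ isPGroup_pCoreOf 2 _ :)
  have eP : IsElementaryAbelian 2 (P ⫽ T) := elemAb_map (elemAb_of_subgroupOf hP' n) _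
  have t1 : cs T t ≠ 1 := fun k => ht' ((cs_eq_one_iff (n ht)).1 k)
  have tm : cs T t ∈ P ⫽ T := mfun_mem_mim ht
  have cop : (Nat.card (H17.oQ 2 (H ⫽ T))).Coprime 2 :=
    ((Nat.Prime.coprime_iff_not_dvd Nat.prime_two).2 (H17.oQ_not_dvd 2 _)).symm
  have nc : ¬ H17.oQ 2 (H ⫽ T) ≤ 𝐂 (zpowers (cs T t)) := fun k => t1 (by
    have := (pSol_of_solvable (p := 2) (Solv.mim (f := coset T) hs)).centralizer_oQ_le o2
      ⟨mim_mono hP tm, zpowers_le.1 (le_centralizer_iff.1 k)⟩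
    exact eq_one_of_pow_coprime cop (orderOf_dvd_iff_pow_eq_one.1 (orderOf_dvd_card_of_mem this)) (eP.2 _ tm))
  have := mt (le_of_hyperplanes eP (fun k => t1 (mem_bot.1 (k ▸ tm)))
    ((mim_mono hP).trans (H17.le_normalizer_oQ 2 _)) cop) nc
  push Not at this
  obtain ⟨B, hB, hm, hn⟩ := this
  obtain ⟨f, ⟨hf, hf'⟩, hf''⟩ := SetLike.not_le_iff_exists.1 hn
  obtain ⟨x, hx, rfl⟩ := (mem_quo h).1 (H17.oQ_le 2 _ hf)
  have tt : t * t = 1 := by have := hP'.2 t ht; rwa [pow_two] at this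
  have xF : x ∈ Fo H T := (Fo_eq h1 h).symm ▸ ⟨hx, mem_mpre.2 ⟨h hx, hf⟩⟩
  have gF : ⁅x, t⁆ ∈ Fo H T := by
    rw [commutatorElement_def, mul_assoc, mul_assoc, ← mul_assoc t]
    exact mul_mem xF (conj_mem_of_mem_normalizer (le_n_Fo h (hP ht)) (inv_mem xF))
  obtain ⟨m, hm'⟩ := exists_in h1 h gF (fun k => hf'' (mem_centralizer_zpowers.2 (by
    rw [← cs_eq_one_iff (h (Fo_le gF)), mfun_comm (h hx) (n ht)] at k
    exact (commutatorElement_eq_one_iff_mul_comm.1 k).symm))) (hP ht) tt (by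
      rw [commutatorElement_inv, commutatorElement_def, commutatorElement_def, inv_eq_of_mul_eq_one_right tt]
      simp only [mul_assoc, tt, mul_one])
  have key : ∀ s ∈ P, cs T s ∈ B → ⁅s, ⁅x, t⁆ ^ 2 ^ m⁆ ∈ T := fun s hs hs' => by
    have g := pow_mem (h (Fo_le gF)) (2 ^ m)
    rw [← cs_eq_one_iff (commutator_le_of_le_normalizer le_normalizer (commutator_mem_commutator (n hs) g)),
      mfun_comm (n hs) g, mfun_pow (h (Fo_le gF)), mfun_comm (h hx) (n ht), commutatorElement_eq_one_iff_mul_comm]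
    have c1 : cs T t ∈ 𝐂 B := centralizer_anti hB.le (elemAb_le_centralizer eP tm)
    have c2 : ⁅cs T x, cs T t⁆ ∈ 𝐂 B := mul_mem (mul_mem (mul_mem hf' c1) (inv_mem hf')) (inv_mem c1)
    exact pow_mem c2 _ _ hs'
  refine ⟨_, hm', fun s hs => ?_⟩
  have tB : cs T t ∉ B := fun k => hf'' (centralizer_anti (zpowers_le.2 k) hf')
  have e : zpowers (cs T t) ⊔ B = P ⫽ T := (hm _ le_sup_right (sup_le (zpowers_le.2 tm) hB.le)).resolve_left
    fun k => tB (k ▸ mem_sup_left (mem_zpowers _))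
  have tt' : cs T t * cs T t = 1 := by rw [← mfun_mul (n ht) (n ht), tt, mfun_one]
  rcases mem_or_of_sq (centralizer_le_normalizer _ (centralizer_anti hB.le (elemAb_le_centralizer eP tm)))
    (tt' ▸ one_mem B) (e ▸ mfun_mem_mim hs) with k | k
  · exact .inl (key s hs k)
  · refine .inr (key _ (mul_mem hs ht) ?_)
    rwa [elemAb_le_centralizer hP' ht s hs, mfun_mul (n ht) (n hs), ← inv_eq_of_mul_eq_one_right tt']

end H118

end H226
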