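import Cfsg.Agent.H26.T2.H18FE3
/-! `Mo y U H T`: a solvable group `H` acting on `U/⟨y⟩` with kernel `T`, `O₂(H/T) = 1`; transvections and components. -/
set_option autoImplicit false
namespace H118 end H118 namespace H118.Mo end H118.Mo namespace H226 end H226 namespace H26 end H26 namespace H4 end H4
open H226
namespace H226
namespace H118
open _root_.H118
open Cfsg Subgroup H26 _root_.H26 H4 _root_.H4
open scoped Pointwise commutatorElement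

variable {G : Type*} [Group G]

structure Mo (y : G) (U H T : Subgroup G) : Prop where
  y1 : y ≠ 1
  yU : y ∈ U
  ea : IsElementaryAbelian 2 U
  Hy : H ≤ 𝐂 (zpowers y)
  UH : U ≤ H
  HU : H ≤ 𝐍 U
  mT : ∀ x, x ∈ T ↔ x ∈ H ∧ ∀ u ∈ U, ⁅x, u⁆ ∈ zpowers y
  sol : Group.IsSolvable H
  red : RedM H T
  ct : Fo H T ≤ 𝐂 (U ⊓ 𝐂 T)

theorem comm_mul_left (a b u : G) : ⁅a * b, u⁆ = a * ⁅b, u⁆ * a⁻¹ * ⁅a, u⁆ := by group
theorem comm_mul_right (a u v : G) : ⁅a, u * v⁆ = ⁅a, u⁆ * (u * ⁅a, v⁆ * u⁻¹) := by group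
theorem conj_eq_comm (a u : G) : a * u * a⁻¹ = ⁅a, u⁆ * u := by group
theorem comm_eq_one_of_conj {a u : G} (h : a * u * a⁻¹ = u) : ⁅a, u⁆ = 1 := by rw [commutatorElement_def, h, mul_inv_cancel]
theorem conj_eq_of_comm {a u : G} (h : ⁅a, u⁆ = 1) : a * u * a⁻¹ = u := by rw [conj_eq_comm, h, one_mul]

variable [Finite G] {U H T K P : Subgroup G} {y e e' t t' c c' s u v w x : G}

namespace Mo
open _root_.H118.Mo
variable (h : Mo y U H T)
include h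

theorem Uc : U ≤ 𝐂 U := elemAb_le_centralizer h.ea
theorem sq (hu : u ∈ U) : u * u = 1 := by have := h.ea.2 u hu; rwa [pow_two] at this
theorem inv (hu : u ∈ U) : u⁻¹ = u := inv_eq_of_mul_eq_one_right (h.sq hu)
theorem cm (hu : u ∈ U) (hv : v ∈ U) : u * v = v * u := h.Uc hv u hu
theorem fixU (hu : u ∈ U) (hv : v ∈ U) : u * v * u⁻¹ = v := by rw [h.cm hu hv, mul_inv_cancel_right]
theorem ZU : zpowers y ≤ U := zpowers_le.2 h.yU
theorem HZ : H ≤ 𝐍 (zpowers y) := le_normalizer_of_le_centralizer h.Hy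
theorem fixZ (hx : x ∈ H) (hu : u ∈ zpowers y) : x * u * x⁻¹ = u := mem_centralizer_iff'.1 (h.Hy hx) u hu
theorem TH : T ≤ H := fun x hx => ((h.mT x).1 hx).1
theorem Tc (hx : x ∈ T) (hu : u ∈ U) : ⁅x, u⁆ ∈ zpowers y := ((h.mT x).1 hx).2 u hu
theorem T_eq : T = H ⊓ commStab (U : Set G) (zpowers y) :=
  Subgroup.ext fun x => (h.mT x).trans ⟨fun k => ⟨k.1, h.HZ k.1, k.2⟩, fun k => ⟨k.1, k.2.2⟩⟩
theorem nT : H ≤ 𝐍 T := h.T_eq ▸ le_normalizer_inf le_normalizer (le_normalizer_commStab h.HU h.HZ)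
theorem cT (hx : x ∈ H) (h2 : x ∈ 𝐂 U) : x ∈ T := (h.mT x).2 ⟨hx, fun u hu => by
  rw [commutatorElement_eq_one_iff_mul_comm.2 (h2 u hu).symm]; exact one_mem _⟩
theorem UT : U ≤ T := fun _ hx => h.cT (h.UH hx) (h.Uc hx)
theorem nF : H ≤ 𝐍 (Fo H T) := le_n_Fo h.nT
theorem TF : T ≤ Fo H T := le_Fo h.TH h.nT
theorem conjU (hx : x ∈ H) (hu : u ∈ U) : x * u * x⁻¹ ∈ U := conj_mem_of_mem_normalizer (h.HU hx) hu
theorem commU (hx : x ∈ H) (hu : u ∈ U) : ⁅x, u⁆ ∈ U := mul_mem (h.conjU hx hu) (inv_mem hu)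
theorem comm_mul (hx : x ∈ H) (hu : u ∈ U) (hv : v ∈ U) : ⁅x, u * v⁆ = ⁅x, u⁆ * ⁅x, v⁆ := by
  rw [comm_mul_right, h.fixU hu (h.commU hx hv)]
theorem commZ (hx : x ∈ H) (hu : u ∈ zpowers y) : ⁅x, u⁆ = 1 := comm_eq_one_of_conj (h.fixZ hx hu)
theorem le_n (hK : K ≤ U) : U ≤ 𝐍 K := le_normalizer_of_le_centralizer (h.Uc.trans (centralizer_anti hK))
theorem mem_yc (hc : c ∈ U) (hx : x ∈ zpowers c ⊔ zpowers y) : x ∈ zpowers y ∨ c * x ∈ zpowers y := by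
  have := mem_or_of_sq (h.le_n h.ZU hc) (h.sq hc ▸ one_mem _) hx
  rwa [h.inv hc] at this

section odd
variable (he : e ∈ H) (ho : Odd (orderOf e))
include he

theorem We_le : We U e ≤ U := commutator_le_of_le_normalizer (zpowers_le.2 (h.HU he))
theorem WZ_le : We U e ⊔ zpowers y ≤ U := sup_le (h.We_le he) h.ZU
theorem Z_le_Ce : zpowers y ≤ Ce U e := le_inf h.ZU (le_centralizer_iff.1 (zpowers_le.2 (h.Hy he)))
omit he h in
theorem e_nW : e ∈ 𝐍 (We U e) := le_normalizer_commutator_right _ _ (mem_zpowers e)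
theorem mem_WZ (hx : x ∈ We U e ⊔ zpowers y) : ∃ w ∈ We U e, ∃ z ∈ zpowers y, w * z = x :=
  (mem_sup_of_le_normalizer ((h.We_le he).trans (h.le_n h.ZU))).1 hx

include ho
theorem cop : (Nat.card (zpowers e)).Coprime (Nat.card U) := by
  obtain ⟨n, hn⟩ := (elemAb_isPGroup h.ea).exists_card_eq
  rw [Nat.card_zpowers, hn]; exact (Nat.coprime_two_right.2 ho).pow_right n

theorem disj (h1 : x ∈ We U e) (h2 : x ∈ Ce U e) : x = 1 := by
  haveI := h.ea.1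
  exact mem_bot.1 (H1.inf_centralizer_inf_commutator_eq_bot (zpowers_le.2 (h.HU he)) (h.cop he ho) ▸ mem_inf.2 ⟨h2, h1⟩)

theorem split (hu : u ∈ U) : ∃ w ∈ We U e, ∃ γ ∈ Ce U e, w * γ = u := by
  haveI := h.ea.1
  rw [← H1.inf_centralizer_sup_commutator_eq (zpowers_le.2 (h.HU he)) (h.cop he ho), sup_comm] at hu
  exact (mem_sup_of_le_normalizer ((h.We_le he).trans (h.le_n inf_le_left))).1 hu

theorem We_comm : ⁅We U e, zpowers e⁆ = We U e :=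
  H1.commutator_commutator_eq (zpowers_le.2 (h.HU he)) (h.cop he ho)

theorem WZ_one (h1 : x ∈ We U e) (h2 : x ∈ zpowers y) : x = 1 := h.disj he ho h1 (h.Z_le_Ce he h2)

theorem fix (hu : u ∈ U) (h1 : ⁅e, u⁆ ∈ zpowers y) : u ∈ Ce U e :=
  mem_Ce.2 ⟨hu, conj_eq_of_comm (h.WZ_one he ho (comm_mem_We hu) h1)⟩

theorem WZ_inf (h1 : x ∈ We U e ⊔ zpowers y) (h2 : x ∈ Ce U e) : x ∈ zpowers y := by
  obtain ⟨w, hw, z, hz, rfl⟩ := h.mem_WZ he h1
  rw [h.disj he ho hw ((mul_mem_cancel_right (h.Z_le_Ce he hz)).1 h2), one_mul]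
  exact hz

theorem We_le_of (hK : K ≤ We U e) (h1 : e ∈ commStab (We U e : Set G) K) : We U e ≤ K :=
  (h.We_comm he ho).ge.trans ((le_commStab_iff' hK).1 (zpowers_le.2 h1))

omit he in
theorem Ce_le (he' : e' ∈ H) (h1 : e ∈ zpowers e' ⊔ T) : Ce U e' ≤ Ce U e := fun γ hγ => by
  have : zpowers e' ⊔ T ≤ H ⊓ commStab {γ} (zpowers y) := sup_le (zpowers_le.2 ⟨he', h.HZ he', fun a ha => by
    rw [ha, comm_eq_one_of_conj (mem_Ce.1 hγ).2]; exact one_mem _⟩)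
    fun x hx => ⟨h.TH hx, h.HZ (h.TH hx), fun a ha => ha ▸ h.Tc hx hγ.1⟩
  exact h.fix (this h1).1 ho hγ.1 ((this h1).2.2 γ rfl)

omit ho in
theorem WZ_mono (h1 : e' ∈ zpowers e ⊔ T) : We U e' ⊔ zpowers y ≤ We U e ⊔ zpowers y :=
  sup_le ((le_commStab_iff' (h.WZ_le he)).1 ((zpowers_le.2 h1).trans (sup_le
    ((le_commStab_iff' (h.WZ_le he)).2 le_sup_left) fun x hx => mem_cs (h.WZ_le he) fun u hu =>
      mem_sup_right (h.Tc hx hu)))) le_sup_right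

theorem n_Ce (hs : s ∈ H) (h1 : s * e * s⁻¹ ∈ zpowers e ⊔ T) : s ∈ 𝐍 (Ce U e) := by
  rw [← inv_mem_iff]
  refine mem_normalizer_of_cj_le (cj_le_iff.2 ?_)
  rw [inv_inv, cj_Ce, cj_eq_of_mem_normalizer (h.HU hs)]
  exact h.Ce_le (by rwa [orderOf_cj]) he h1

omit ho in
theorem n_WZ (hs : s ∈ H) (h1 : s * e * s⁻¹ ∈ zpowers e ⊔ T) : s ∈ 𝐍 (We U e ⊔ zpowers y) := by
  refine mem_normalizer_of_cj_le ?_
  rw [cj_sup, cj_We, cj_eq_of_mem_normalizer (h.HU hs), cj_eq_of_mem_normalizer (h.HZ hs)]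
  exact h.WZ_mono he h1

end odd

omit h in
theorem conj_mem_of_comm (h1 : ⁅s, e⁆ ∈ T) : s * e * s⁻¹ ∈ zpowers e ⊔ T := by
  rw [conj_eq_comm]; exact mul_mem (mem_sup_right h1) (mem_sup_left (mem_zpowers e))

omit h in
theorem conj_mem_of_inv (h1 : s * e * s⁻¹ * e ∈ T) : s * e * s⁻¹ ∈ zpowers e ⊔ T := by
  rw [show s * e * s⁻¹ = s * e * s⁻¹ * e * e⁻¹ by group]
  exact mul_mem (mem_sup_right h1) (mem_sup_left (inv_mem (mem_zpowers e)))

section cyc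
variable (he : e ∈ H) (ho : Odd (orderOf e)) (hc : c ∈ We U e) (c1 : c ≠ 1)
include he ho hc c1

theorem ne_conj : c ≠ e * c * e⁻¹ := fun k => c1 (h.disj he ho hc (mem_Ce.2 ⟨h.We_le he hc, k.symm⟩))

theorem cases4 (f : Four (We U e)) (hw : w ∈ We U e) :
    w = 1 ∨ w = c ∨ w = e * c * e⁻¹ ∨ w = c * (e * c * e⁻¹) :=
  four_cases f hc (conj_mem_of_mem_normalizer e_nW hc) c1 (conj_ne_one e c1) (h.ne_conj he ho hc c1) hw

theorem cyc (f : Four (We U e)) : e * (e * c * e⁻¹) * e⁻¹ = c * (e * c * e⁻¹) := by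
  have m := conj_mem_of_mem_normalizer e_nW hc
  rcases h.cases4 he ho hc c1 f (conj_mem_of_mem_normalizer e_nW m) with k | k | k | k
  · exact absurd k (conj_ne_one e (conj_ne_one e c1))
  · refine absurd (conj_eq_of_mem_c (mem_of_sq_mem ho (K := 𝐂 (zpowers c)) (mem_c_of_conj_eq ?_))).symm
      (h.ne_conj he ho hc c1)
    rw [← k]; conv_lhs => rw [k]
    conv_rhs => rw [k]
    rw [show e * e * c * (e * e)⁻¹ = e * (e * c * e⁻¹) * e⁻¹ by group, k]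
  · exact absurd k.symm (h.ne_conj he ho m (conj_ne_one e c1))
  · exact k

theorem cyc' (f : Four (We U e)) : e * (c * (e * c * e⁻¹)) * e⁻¹ = c := by
  have m := h.We_le he (conj_mem_of_mem_normalizer e_nW hc)
  rw [← conj_mul, h.cyc he ho hc c1 f, ← mul_assoc, h.cm m (h.We_le he hc), mul_assoc, h.sq m, mul_one]

theorem We_le_of_mem (f : Four (We U e)) (h1 : c ∈ K) (h2 : e * c * e⁻¹ ∈ K) : We U e ≤ K := fun w hw => by
  rcases h.cases4 he ho hc c1 f hw with k | k | k | k <;> rw [k]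
  exacts [one_mem _, h1, h2, mul_mem h1 h2]

end cyc

section inn
variable (i : In H T e t)
include i

omit h in
theorem eH : e ∈ H := Fo_le i.eF
omit h in
theorem t_conj : t * e * t⁻¹ ∈ zpowers e ⊔ T := i.inv ▸ mem_sup_left (inv_mem (mem_zpowers e))

theorem t_nW : t ∈ 𝐍 (We U e) := mem_normalizer_of_cj_le (by
  rw [cj_We, cj_eq_of_mem_normalizer (h.HU i.tH), i.inv, We, zpowers_inv])

theorem commW (hw : w ∈ We U e) : ⁅t, w⁆ ∈ We U e :=
  mul_mem (conj_mem_of_mem_normalizer (h.t_nW i) hw) (inv_mem hw)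

theorem gen (hK : e ∈ 𝐍 K) (h1 : ∀ w ∈ We U e, ⁅t, w⁆ ∈ K) : We U e ≤ K := by
  have m : t ∈ commStab (We U e : Set G) (K ⊓ We U e) :=
    mem_cs inf_le_right fun w hw => ⟨h1 w hw, h.commW i hw⟩
  exact (h.We_le_of (eH i) i.od inf_le_right (i.mem m (conj_mem_of_mem_normalizer (zpowers_le.1 (le_normalizer_commStab
    (zpowers_le.2 e_nW) (le_normalizer_inf (zpowers_le.2 hK) (zpowers_le.2 e_nW)))) m))).trans inf_le_left

theorem exists_comm : ∃ w ∈ We U e, ⁅t, w⁆ ≠ 1 := by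
  by_contra k
  push Not at k
  have := h.gen i (K := ⊥) (by rw [normalizer_bot']; trivial) fun w hw => mem_bot.2 (k w hw)
  exact i.eT (h.cT (eH i) (zpowers_le.1 (commutator_eq_bot_iff'.1 (le_bot_iff.1 this))))

theorem quad (hs : s ∈ H) (h1 : ⁅s, e⁆ ∈ T) (h2 : ∀ w ∈ We U e, ⁅s, ⁅t, w⁆⁆ ∈ zpowers y) (hw : w ∈ We U e) :
    ⁅s, w⁆ ∈ zpowers y := by
  have sT : zpowers s ⊔ T ≤ H := sup_le (zpowers_le.2 hs) h.TH
  have m : ∀ u ∈ U, u ∈ commStab (zpowers s ⊔ T : Subgroup G) (zpowers y) ↔ ⁅s, u⁆ ∈ zpowers y := fun u hu =>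
    ⟨fun k => by rw [← commutatorElement_inv]; exact inv_mem (k.2 s (mem_sup_left (mem_zpowers s))), fun k =>
      ⟨h.le_n h.ZU hu, fun a ha => by
        have : zpowers s ⊔ T ≤ commStab {u} (zpowers y) := sup_le (zpowers_le.2 ⟨h.HZ hs, fun b hb => hb ▸ k⟩)
          fun x hx => ⟨h.HZ (h.TH hx), fun b hb => hb ▸ h.Tc hx hu⟩
        rw [← commutatorElement_inv]; exact inv_mem ((this ha).2 u rfl)⟩⟩
  have n : e ∈ 𝐍 (zpowers s ⊔ T) := mem_normalizer_of_cj_le (by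
    rw [cj_sup, cj_zpowers, cj_eq_of_mem_normalizer (h.nT (eH i))]
    refine sup_le (zpowers_le.2 ?_) le_sup_right
    rw [conj_eq_comm, ← commutatorElement_inv]
    exact mul_mem (mem_sup_right (inv_mem h1)) (mem_sup_left (mem_zpowers s)))
  have W := h.We_le (eH i)
  exact (m w (W hw)).1 (h.gen i (zpowers_le.1 (le_normalizer_commStab (zpowers_le.2 n) (zpowers_le.2 (h.HZ (eH i)))))
    (fun w hw => (m _ (W (h.commW i hw))).2 (h2 w hw)) hw)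

theorem qd_of (hc : c ∈ U) (h1 : ∀ w ∈ We U e, ⁅t, w⁆ ∈ zpowers c ⊔ zpowers y) :
    ∃ c', Qd U H T e t c' ∧ c * c' ∈ zpowers y := by
  obtain ⟨w, hw, hw'⟩ := h.exists_comm i
  have key : ∀ w ∈ We U e, ⁅t, w⁆ ≠ 1 → c * ⁅t, w⁆ ∈ zpowers y := fun w hw k =>
    (h.mem_yc hc (h1 w hw)).resolve_left fun k' => k (h.WZ_one (eH i) i.od (h.commW i hw) k')
  refine ⟨_, ⟨i, h.commW i hw, hw', fun v hv => ?_⟩, key w hw hw'⟩
  by_cases k : ⁅t, v⁆ = 1
  · rw [k]; exact one_mem _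
  have := h.WZ_one (eH i) i.od (mul_mem (inv_mem (h.commW i hw)) (h.commW i hv)) (by
    have := mul_mem (inv_mem (key w hw hw')) (key v hv k)
    rwa [mul_inv_rev, mul_assoc, inv_mul_cancel_left] at this)
  rw [← inv_mul_eq_one.1 this]
  exact mem_zpowers _

/-- a vector moved by `e` gives a nontrivial character of `T` -/
theorem exists_T (hu : u ∈ U) (h1 : u ∉ Ce U e) : ∃ τ ∈ T, ⁅τ, u⁆ = y := by
  by_contra k
  push Not at k
  refine h1 ⟨hu, le_centralizer_iff.1 (zpowers_le.2 (h.ct i.eF)) ⟨hu, fun τ hτ => ?_⟩⟩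
  exact commutatorElement_eq_one_iff_mul_comm.1
    ((mem_two (h.sq h.yU) (h.Tc hτ hu)).resolve_right (k τ hτ))

end inn

section qd
variable (q : Qd U H T e t c)
include q

theorem cU : c ∈ U := h.We_le (eH q.toIn) q.cW
theorem dW : e * c * e⁻¹ ∈ We U e := conj_mem_of_mem_normalizer e_nW q.cW
theorem c_nZ : c ∉ zpowers y := fun k => q.c1 (h.WZ_one (eH q.toIn) q.od q.cW k)

theorem four : Four (We U e) := by
  have dW := h.dW q
  have W := h.We_le (eH q.toIn)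
  have hK : zpowers c ⊔ zpowers (e * c * e⁻¹) ≤ We U e := sup_le (zpowers_le.2 q.cW) (zpowers_le.2 dW)
  have e1 := h.We_le_of (eH q.toIn) q.od hK (q.toIn.mem (mem_cs hK fun w hw => mem_sup_left (q.tw w hw))
    (mem_cs hK fun w hw => mem_sup_right (by
      have := conj_mem_cj e (q.tw _ (conj_mem_of_mem_normalizer' e_nW hw))
      rwa [cj_zpowers, conj_comm, show e * (e⁻¹ * w * e) * e⁻¹ = w by group] at this)))
  refine ⟨?_, fun w hw => h.sq (W hw)⟩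
  have e2 := card_sup_mul_card_inf ((zpowers_le.2 (W q.cW)).trans (h.le_n (zpowers_le.2 (W dW))))
  have e3 : zpowers c ⊓ zpowers (e * c * e⁻¹) = ⊥ := eq_bot_iff.2 fun x hx => by
    rcases mem_two (h.sq (W q.cW)) hx.1 with k | k
    · exact k
    rcases mem_two (h.sq (W dW)) hx.2 with k' | k'
    · exact k'
    · exact absurd (k.symm.trans k') (h.ne_conj (eH q.toIn) q.od q.cW q.c1)
  rwa [e3, card_bot, mul_one, card_two (h.sq (W q.cW)) q.c1, card_two (h.sq (W dW)) (conj_ne_one e q.c1),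
    le_antisymm hK e1] at e2

theorem t_c : ⁅t, c⁆ = 1 := (mem_two (h.sq (h.cU q)) (q.tw c q.cW)).resolve_right fun k => conj_ne_one t q.c1 (by
  rw [conj_eq_comm, k, h.sq (h.cU q)])

theorem t_d : ⁅t, e * c * e⁻¹⁆ = c := by
  have e1 : t * (e * c * e⁻¹) * t⁻¹ = e⁻¹ * c * e := by
    rw [show t * (e * c * e⁻¹) * t⁻¹ = (t * e * t⁻¹) * (t * c * t⁻¹) * (t * e * t⁻¹)⁻¹ by group, q.inv,
      conj_eq_of_comm (h.t_c q), inv_inv]
  have e2 : e⁻¹ * c * e = c * (e * c * e⁻¹) := by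
    conv_lhs => rw [← h.cyc' (eH q.toIn) q.od q.cW q.c1 (h.four q)]
    group
  rw [commutatorElement_def, e1, e2, mul_inv_cancel_right]

theorem qcases (hw : w ∈ We U e) : w = 1 ∨ w = c ∨ w = e * c * e⁻¹ ∨ w = c * (e * c * e⁻¹) :=
  h.cases4 (eH q.toIn) q.od q.cW q.c1 (h.four q) hw

theorem t_cd : ⁅t, c * (e * c * e⁻¹)⁆ = c := by
  rw [h.comm_mul q.tH (h.cU q) (h.We_le (eH q.toIn) (h.dW q)), h.t_c q, h.t_d q, one_mul]

theorem fixW (hw : w ∈ We U e) (h1 : ⁅t, w⁆ ∈ zpowers y) : w ∈ zpowers c := by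
  rcases h.qcases q hw with k | k | k | k <;> rw [k] at h1 ⊢
  exacts [one_mem _, mem_zpowers _, absurd (h.t_d q ▸ h1) (h.c_nZ q), absurd (h.t_cd q ▸ h1) (h.c_nZ q)]

end qd

local notation "π" => H18.mfun (H18.coset (zpowers y))

theorem pi_mul (hx : x ∈ H) (hs : s ∈ H) : π (x * s) = π x * π s := H18.mfun_mul (h.HZ hx) (h.HZ hs)
theorem pi_inv (hx : x ∈ H) : π x⁻¹ = (π x)⁻¹ := H18.mfun_inv (h.HZ hx)
theorem pi_conj (hx : x ∈ H) (hs : s ∈ H) : π (x * s * x⁻¹) = π x * π s * (π x)⁻¹ := H18.mfun_conj (h.HZ hx) (h.HZ hs)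
theorem pi_one (hx : x ∈ H) : π x = 1 ↔ x ∈ zpowers y := H18.cs_eq_one_iff (h.HZ hx)
theorem pi_eq (hu : u ∈ U) (hv : v ∈ U) : π u = π v ↔ u * v ∈ zpowers y := by
  rw [H18.cs_eq_iff (h.HZ (h.UH hu)) (h.HZ (h.UH hv)), h.inv hu]
theorem pi_fix (hx : x ∈ H) (hu : u ∈ U) : π x * π u * (π x)⁻¹ = π u ↔ ⁅x, u⁆ ∈ zpowers y := by
  rw [← h.pi_conj hx (h.UH hu), h.pi_eq (h.conjU hx hu) hu, conj_eq_comm, mul_assoc, h.sq hu, mul_one]

section qd2
variable (q : Qd U H T e t c)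
include q

theorem inv_act (hs : s ∈ H) (h1 : s * e * s⁻¹ * e ∈ T) (h2 : ⁅s, c⁆ ∈ zpowers y) :
    c * ⁅s, e * c * e⁻¹⁆ ∈ zpowers y := by
  have eH := eH q.toIn
  have cU := h.cU q
  have dU := h.conjU eH cU
  have e2 : e⁻¹ * c * e = c * (e * c * e⁻¹) := by
    conv_lhs => rw [← h.cyc' eH q.od q.cW q.c1 (h.four q)]
    group
  have e1 : s * (e * c * e⁻¹) * s⁻¹ = (s * e * s⁻¹ * e) * ((e⁻¹ * ⁅s, c⁆ * e⁻¹⁻¹) * (e⁻¹ * c * e)) *
      (s * e * s⁻¹ * e)⁻¹ := by group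
  rw [h.fixZ (inv_mem eH) h2, e2, conj_eq_comm (s * e * s⁻¹ * e)] at e1
  have m := h.Tc h1 (mul_mem (h.ZU h2) (mul_mem cU dU))
  rw [commutatorElement_def s, e1]
  generalize ⁅s * e * s⁻¹ * e, ⁅s, c⁆ * (c * (e * c * e⁻¹))⁆ = a at m
  rw [show c * (a * (⁅s, c⁆ * (c * (e * c * e⁻¹))) * (e * c * e⁻¹)⁻¹) = c * (a * ⁅s, c⁆) * c by group,
    h.cm cU (h.ZU (mul_mem m h2)), mul_assoc, h.sq cU, mul_one]
  exact mul_mem m h2

theorem side (hs : s ∈ H) (h1 : s * e * s⁻¹ * e ∈ T) (h2 : ⁅s, c⁆ ∈ zpowers y) (hv : v ∈ U)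
    (h3 : c * ⁅s, v⁆ ∈ zpowers y) : e * v * e⁻¹ = c * v ∨ e * v * e⁻¹ = e * c * e⁻¹ * v := by
  have eH := eH q.toIn
  have cU := h.cU q
  have dU := h.conjU eH cU
  obtain ⟨w, hw, γ, hγ, rfl⟩ := h.split eH q.od hv
  have wU := h.We_le eH hw
  have m1 : ⁅s, w⁆ ∈ We U e ⊔ zpowers y := mul_mem (conj_mem_of_mem_normalizer (h.n_WZ eH hs (conj_mem_of_inv h1))
    (mem_sup_left hw)) (inv_mem (mem_sup_left hw))
  have m2 : ⁅s, γ⁆ ∈ Ce U e := mul_mem (conj_mem_of_mem_normalizer (h.n_Ce eH q.od hs (conj_mem_of_inv h1)) hγ)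
    (inv_mem hγ)
  rw [h.comm_mul hs wU hγ.1, ← mul_assoc] at h3
  have m3 := h.WZ_inf eH q.od ((mul_mem_cancel_left (mul_mem (mem_sup_left q.cW) m1)).1 (mem_sup_right h3)) m2
  have m4 : ⁅s, w⁆ ∉ zpowers y := fun k => h.c_nZ q ((mul_mem_cancel_right k).1 ((mul_mem_cancel_right m3).1 h3))
  rw [← conj_mul, (mem_Ce.1 hγ).2]
  rcases h.qcases q hw with k | k | k | k <;> rw [k] at m4 ⊢
  · exact absurd (by simp) m4
  · exact absurd h2 m4
  · left; rw [h.cyc eH q.od q.cW q.c1 (h.four q), mul_assoc]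
  · right; rw [h.cyc' eH q.od q.cW q.c1 (h.four q), ← mul_assoc, h.cm cU dU, ← mul_assoc, h.sq dU, one_mul]

theorem card_WZ : Nat.card ↥(We U e ⊔ zpowers y) = 8 := by
  have e2 := card_sup_mul_card_inf ((h.We_le (eH q.toIn)).trans (h.le_n h.ZU))
  have e3 : We U e ⊓ zpowers y = ⊥ := eq_bot_iff.2 fun x hx => h.WZ_one (eH q.toIn) q.od hx.1 hx.2
  rwa [e3, card_bot, mul_one, (h.four q).card, card_two (h.sq h.yU) h.y1] at e2

theorem tri (hx : x ∈ Fo H T) (h1 : ∀ u ∈ U, ⁅x, u⁆ ∈ We U e ⊔ zpowers y) (h2 : ⁅x, c⁆ ∈ zpowers y)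
    (h3 : ⁅x, e * c * e⁻¹⁆ ∈ zpowers y) : x ∈ T := by
  have xH := Fo_le hx
  have eH := eH q.toIn
  have k : ∀ u ∈ We U e ⊔ zpowers y, ⁅x, u⁆ ∈ zpowers y := fun u hu => by
    obtain ⟨w, hw, z, hz, rfl⟩ := h.mem_WZ eH hu
    rw [h.comm_mul xH (h.We_le eH hw) (h.ZU hz), h.commZ xH hz, mul_one]
    rcases h.qcases q hw with k | k | k | k <;> rw [k]
    · simp
    · exact h2
    · exact h3
    · rw [h.comm_mul xH (h.cU q) (h.conjU eH (h.cU q))]; exact mul_mem h2 h3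
  refine mem_of_Fo h.TH h.nT le_rfl hx (n := 1) ((h.mT _).2 ⟨pow_mem xH _, fun u hu => ?_⟩)
  rw [pow_one, pow_two, comm_mul_left, conj_eq_comm, mul_assoc, h.sq (h.commU xH hu), mul_one]
  exact k _ (h1 u hu)

variable (q' : Qd U H T e' t' c')
include q'

theorem u3 (hc : c * c' ∈ zpowers y) (hs : s ∈ H) (h1 : s * e * s⁻¹ * e ∈ T) (h1' : s * e' * s⁻¹ * e' ∈ T)
    (h2 : ⁅s, c⁆ ∈ zpowers y) : We U e' ≤ We U e ⊔ zpowers y := by
  have eH := eH q.toIn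
  have eH' := Mo.eH q'.toIn
  have cU := h.cU q
  have cU' := h.cU q'
  have dU := h.conjU eH cU
  have dU' := h.conjU eH' cU'
  have pc := (h.pi_eq cU cU').2 hc
  have h2' : ⁅s, c'⁆ ∈ zpowers y := by rwa [← h.pi_fix hs cU', ← pc, h.pi_fix hs cU]
  have a1 := h.inv_act q hs h1 h2
  have a1' := h.inv_act q' hs h1' h2'
  rw [← h.pi_eq cU (h.commU hs dU), pc, h.pi_eq cU' (h.commU hs dU)] at a1
  rw [← h.pi_eq cU' (h.commU hs dU'), ← pc, h.pi_eq cU (h.commU hs dU')] at a1'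
  have s1 := h.side q hs h1 h2 dU' a1'
  have s2 := h.side q' hs h1' h2' dU a1
  have sq : ∀ {u}, u ∈ U → π u * π u = 1 := fun hu => by rw [← h.pi_mul (h.UH hu) (h.UH hu), h.sq hu, H18.mfun_one]
  have cm : ∀ {u v}, u ∈ U → v ∈ U → π u * π v = π v * π u := fun hu hv => by
    rw [← h.pi_mul (h.UH hu) (h.UH hv), h.cm hu hv, h.pi_mul (h.UH hv) (h.UH hu)]
  have jj : ∀ {x u}, x ∈ H → u ∈ U → MulAut.conj (π x) (π u) = π (x * u * x⁻¹) := fun hx hu => by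
    rw [h.pi_conj hx (h.UH hu), MulAut.conj_apply]
  have key : ∀ x ∈ Fo H T, (MulAut.conj (π x) ^ 4) (π c) = π c → MulAut.conj (π x) (π c) = π c := fun x hx k => by
    have xH := Fo_le hx
    rw [← map_pow, ← H18.mfun_pow (h.HZ xH), MulAut.conj_apply, h.pi_fix (pow_mem xH _) cU] at k
    rw [MulAut.conj_apply, h.pi_fix xH cU]
    exact (mem_of_Fo (K := commStab {c} (zpowers y)) h.TH h.nT (fun τ hτ => ⟨h.HZ (h.TH hτ), fun a ha => ha ▸ h.Tc hτ cU⟩)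
      hx (n := 2) ⟨h.HZ (pow_mem xH _), fun a ha => ha ▸ k⟩).2 c rfl
  have := u3abs (φ := MulAut.conj (π e)) (ψ := MulAut.conj (π e')) (sq cU) (sq dU) (sq dU') (cm dU cU) (cm dU' cU)
    (cm dU' dU) (jj eH cU) (by rw [jj eH dU, h.cyc eH q.od q.cW q.c1 (h.four q), h.pi_mul (h.UH cU) (h.UH dU)])
    (s1.imp (fun k => by rw [jj eH dU', k, h.pi_mul (h.UH cU) (h.UH dU')])
      fun k => by rw [jj eH dU', k, h.pi_mul (h.UH dU) (h.UH dU')])
    (by rw [pc, jj eH' cU'])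
    (by rw [jj eH' dU', h.cyc eH' q'.od q'.cW q'.c1 (h.four q'), h.pi_mul (h.UH cU') (h.UH dU'), pc])
    (s2.imp (fun k => by rw [jj eH' dU, k, h.pi_mul (h.UH cU') (h.UH dU), pc])
      fun k => by rw [jj eH' dU, k, h.pi_mul (h.UH dU') (h.UH dU), cm dU' dU])
    (by
      rintro g (rfl | rfl | rfl)
      · rw [← map_inv, ← map_mul, ← h.pi_inv eH, ← h.pi_mul (inv_mem eH) eH']
        exact key _ (mul_mem (inv_mem q.eF) q'.eF)
      · rw [← map_mul, ← h.pi_mul eH eH']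
        exact key _ (mul_mem q.eF q'.eF)
      · rw [← map_mul, ← h.pi_mul eH' eH]
        exact key _ (mul_mem q'.eF q.eF))
  refine h.We_le_of_mem eH' q'.od q'.cW q'.c1 (h.four q')
    ((mul_mem_cancel_left (mem_sup_left q.cW)).1 (mem_sup_right hc)) ?_
  rcases this with k | k | k | k
  · exact mem_sup_right ((h.pi_one (h.UH dU')).1 k)
  · exact absurd (h.WZ_one eH q.od (h.dW q) ((h.pi_one (h.UH dU)).1 k)) (conj_ne_one e q.c1)
  · exact (mul_mem_cancel_right (mem_sup_left (h.dW q))).1 (mem_sup_right ((h.pi_eq dU' dU).1 k))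
  · rw [← h.pi_mul (h.UH cU) (h.UH dU), h.pi_eq dU' (mul_mem cU dU)] at k
    exact (mul_mem_cancel_right (mem_sup_left (mul_mem q.cW (h.dW q)))).1 (mem_sup_right k)

theorem WZ_eq (h1 : We U e' ≤ We U e ⊔ zpowers y) : We U e' ⊔ zpowers y = We U e ⊔ zpowers y :=
  eq_of_le_of_card_ge (sup_le h1 le_sup_right) (by rw [h.card_WZ q, h.card_WZ q'])

theorem same (h1 : We U e' ≤ We U e ⊔ zpowers y) : e⁻¹ * e' ∈ T ∨ e * e' ∈ T := by
  have eH := eH q.toIn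
  have eH' := Mo.eH q'.toIn
  have cU := h.cU q
  have dU := h.conjU eH cU
  obtain ⟨a, ha, z, hz, e1⟩ := h.mem_WZ eH' ((h.WZ_eq q q' h1).symm ▸ mem_sup_left q.cW)
  have a1 : a ≠ 1 := fun k => h.c_nZ q (by rwa [← e1, k, one_mul])
  have aU := h.We_le eH' ha
  have bW := conj_mem_of_mem_normalizer e_nW ha
  have bU := h.We_le eH' bW
  have pa : π c = π a := by rw [← e1, h.pi_mul (h.UH aU) (h.UH (h.ZU hz)), (h.pi_one (h.UH (h.ZU hz))).2 hz, mul_one]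
  obtain ⟨w, hw, z', hz', e2⟩ := h.mem_WZ eH (h1 bW)
  have pb : π (e' * a * e'⁻¹) = π w := by
    rw [← e2, h.pi_mul (h.UH (h.We_le eH hw)) (h.UH (h.ZU hz')), (h.pi_one (h.UH (h.ZU hz'))).2 hz', mul_one]
  have n : ∀ x, x = e⁻¹ ∨ x = e → ∀ u ∈ U, ⁅x * e', u⁆ ∈ We U e ⊔ zpowers y := fun x hx u hu => by
    have m : x ∈ zpowers e := hx.elim (fun k => k ▸ inv_mem (mem_zpowers e)) fun k => k ▸ mem_zpowers e
    rw [comm_mul_left]
    refine mul_mem (conj_mem_of_mem_normalizer (zpowers_le.2 (h.n_WZ eH eH (by simp [mem_sup_left])) m)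
      (h1 (comm_mem_We hu))) (mem_sup_left ?_)
    rw [We, commutator_comm]; exact commutator_mem_commutator m hu
  have cy := h.cyc eH q.od q.cW q.c1 (h.four q)
  have cy' := h.cyc eH' q'.od ha a1 (h.four q')
  have cz := h.cyc' eH q.od q.cW q.c1 (h.four q)
  have cz' := h.cyc' eH' q'.od ha a1 (h.four q')
  have f : ∀ {x u}, x ∈ H → u ∈ U → π (x * (e' * u * e'⁻¹) * x⁻¹) = π u → ⁅x * e', u⁆ ∈ zpowers y := fun {x u} hx hu k => by
    rwa [← h.pi_fix (mul_mem hx eH') hu, ← h.pi_conj (mul_mem hx eH') (h.UH hu),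
      show x * e' * u * (x * e')⁻¹ = x * (e' * u * e'⁻¹) * x⁻¹ by group]
  have g : ∀ {x u v}, x ∈ H → u ∈ U → v ∈ U → π u = π v → π (x * u * x⁻¹) = π (x * v * x⁻¹) := fun hx hu hv k => by
    rw [h.pi_conj hx (h.UH hu), h.pi_conj hx (h.UH hv), k]
  rcases h.qcases q hw with k | k | k | k <;> rw [k] at pb
  · rw [H18.mfun_one, h.pi_one (h.UH bU)] at pb
    exact absurd (h.WZ_one eH' q'.od bW pb) (conj_ne_one _ a1)
  · rw [pa, h.pi_eq bU aU] at pb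
    have := h.WZ_one eH' q'.od (mul_mem bW ha) pb
    rw [mul_eq_one_iff_eq_inv, h.inv aU] at this
    exact absurd this.symm (h.ne_conj eH' q'.od ha a1)
  · refine .inl (h.tri q (mul_mem (inv_mem q.eF) q'.eF) (n _ (.inl rfl)) (f (inv_mem eH) cU ?_) (f (inv_mem eH) dU ?_))
    · rw [g (inv_mem eH) (h.conjU eH' cU) dU ((g eH' cU aU pa).trans pb)]; congr 1; group
    · rw [g (inv_mem eH) (h.conjU eH' dU) (h.conjU eH dU) (by
        rw [g eH' dU bU pb.symm, cy', cy, h.pi_mul (h.UH aU) (h.UH bU), h.pi_mul (h.UH cU) (h.UH dU), pa, pb])]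
      congr 1; group
  · refine .inr (h.tri q (mul_mem q.eF q'.eF) (n _ (.inr rfl)) (f eH cU ?_) (f eH dU ?_))
    · rw [g eH (h.conjU eH' cU) (mul_mem cU dU) ((g eH' cU aU pa).trans pb), cz]
    · refine g eH (h.conjU eH' dU) cU ?_
      rw [g eH' dU (mul_mem aU bU) (by
        rw [h.pi_mul (h.UH aU) (h.UH bU), pb, ← pa, ← h.pi_mul (h.UH cU) (h.UH (mul_mem cU dU)), ← mul_assoc c,
          h.sq cU, one_mul]), cz', pa]

theorem mem_of_le (h1 : We U e' ≤ We U e ⊔ zpowers y) : e' ∈ zpowers e ⊔ T ∧ e ∈ zpowers e' ⊔ T := by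
  have m := mem_sup_left (T := T) (mem_zpowers e)
  have m' := mem_sup_left (T := T) (mem_zpowers e')
  rcases h.same q q' h1 with k | k
  · exact ⟨(mul_mem_cancel_left (inv_mem m)).1 (mem_sup_right k),
      inv_mem_iff.1 ((mul_mem_cancel_right m').1 (mem_sup_right k))⟩
  · exact ⟨(mul_mem_cancel_left m).1 (mem_sup_right k), (mul_mem_cancel_right m').1 (mem_sup_right k)⟩

theorem Ce_eq (h1 : We U e' ≤ We U e ⊔ zpowers y) : Ce U e' = Ce U e :=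
  le_antisymm (h.Ce_le q.od (eH q'.toIn) (h.mem_of_le q q' h1).2) (h.Ce_le q'.od (eH q.toIn) (h.mem_of_le q q' h1).1)

end qd2

section tr
variable (r : Tr y U H T e t c)
include r

theorem tvW (hu : u ∈ U) : ⁅t, u⁆ ∈ We U e ⊔ zpowers y := sup_le_sup_right (zpowers_le.2 r.cW) _ (r.tv u hu)

theorem t_Ce (hu : u ∈ Ce U e) : ⁅t, u⁆ ∈ zpowers y :=
  h.WZ_inf (eH r.toIn) r.od (h.tvW r hu.1) (mul_mem (conj_mem_of_mem_normalizer
    (h.n_Ce (eH r.toIn) r.od r.tH (t_conj r.toIn)) hu) (inv_mem hu))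

/-- the axis -/
theorem axis (hu : u ∈ U) : ⁅t, u⁆ ∈ zpowers y ↔ u ∈ Ce U e ∨ c * u ∈ Ce U e := by
  have eH := eH r.toIn
  have cU := h.cU r.toQd
  refine ⟨fun k => ?_, fun k => k.elim (h.t_Ce r) fun k => ?_⟩
  · obtain ⟨w, hw, γ, hγ, rfl⟩ := h.split eH r.od hu
    rw [h.comm_mul r.tH (h.We_le eH hw) hγ.1, mul_mem_cancel_right (h.t_Ce r hγ)] at k
    rcases mem_two (h.sq cU) (h.fixW r.toQd hw k) with k | k <;> rw [k]
    · left; rwa [one_mul]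
    · right; rwa [← mul_assoc, h.sq cU, one_mul]
  · have := h.t_Ce r k
    rwa [h.comm_mul r.tH cU hu, h.t_c r.toQd, one_mul] at this

theorem comm_inv (hx : x ∈ Fo H T) (i : t * x * t⁻¹ = x⁻¹) (hu : u ∈ U) : ⁅x, u⁆ ∈ We U e ⊔ zpowers y := by
  by_cases k : x ∈ T
  · exact mem_sup_right (h.Tc k hu)
  obtain ⟨n, i'⟩ := exists_in h.TH h.nT hx k r.tH r.tt i
  obtain ⟨c', q', hc⟩ := h.qd_of i' (h.cU r.toQd) fun w hw => r.tv w (h.We_le (eH i') hw)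
  have := h.u3 r.toQd q' hc r.tH (by rw [r.inv, inv_mul_cancel]; exact one_mem _)
    (by rw [i'.inv, inv_mul_cancel]; exact one_mem _) (by rw [h.t_c r.toQd]; exact one_mem _)
  have W := h.WZ_le (eH r.toIn)
  exact (mem_of_Fo (K := commStab (U : Set G) (We U e ⊔ zpowers y)) h.TH h.nT
    (fun τ hτ => mem_cs W fun u hu => mem_sup_right (h.Tc hτ hu)) hx
    (mem_cs W fun u hu => this (comm_mem_We hu))).2 u hu

theorem F_le_n : Fo H T ≤ 𝐍 (We U e ⊔ zpowers y) := fun f hf => by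
  have eH := eH r.toIn
  have W := h.WZ_le eH
  have key : ∀ f ∈ Fo H T, f * c * f⁻¹ ∈ We U e ⊔ zpowers y := fun f hf => by
    have gF : ⁅f, t⁆ ∈ Fo H T := by
      rw [commutatorElement_def, mul_assoc, mul_assoc, ← mul_assoc t]
      exact mul_mem hf (conj_mem_of_mem_normalizer (h.nF r.tH) (inv_mem hf))
    have gi := fun u hu => h.comm_inv r (u := u) gF (by
      rw [commutatorElement_inv, commutatorElement_def, commutatorElement_def, inv_eq_of_mul_eq_one_right r.tt]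
      simp only [mul_assoc, r.tt, mul_one]) hu
    have dU := h.conjU (Fo_le hf) (h.conjU eH (h.cU r.toQd))
    rw [← h.t_d r.toQd, conj_comm, show f * t * f⁻¹ = ⁅f, t⁆ * t by group, comm_mul_left]
    exact mul_mem (conj_mem_of_mem_normalizer (mem_cs W gi).1 (h.tvW r dU)) (gi _ dU)
  refine mem_normalizer_of_cj_le ?_
  rw [cj_sup, cj_eq_of_mem_normalizer (h.HZ (Fo_le hf))]
  refine sup_le (cj_le_iff.2 (h.We_le_of_mem eH r.od r.cW r.c1 (h.four r.toQd) ?_ ?_)) le_sup_right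
  · rw [mem_cj, inv_inv]; exact key f hf
  · rw [mem_cj, inv_inv, show f * (e * c * e⁻¹) * f⁻¹ = (f * e) * c * (f * e)⁻¹ by group]
    exact key _ (mul_mem hf r.eF)

theorem dich1 (q' : Qd U H T e' t' c') : We U e' ≤ We U e ⊔ zpowers y ∨ We U e ≤ Ce U e' := by
  refine or_iff_not_imp_right.2 fun k => ?_
  obtain ⟨w, hw, hw'⟩ := SetLike.not_le_iff_exists.1 k
  have wU := h.We_le (eH r.toIn) hw
  have n := h.F_le_n r q'.eF
  have m : ⁅e', w⁆ ∈ We U e ⊔ zpowers y :=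
    mul_mem (conj_mem_of_mem_normalizer n (mem_sup_left hw)) (inv_mem (mem_sup_left hw))
  exact h.We_le_of_mem (eH q'.toIn) q'.od (comm_mem_We wU) (fun k => hw' (mem_Ce.2 ⟨wU, conj_eq_of_comm k⟩))
    (h.four q') m (conj_mem_of_mem_normalizer n m)

variable (r' : Tr y U H T e' t' c')
include r'

/-- two components are equal or centralize each other -/
theorem dich : (We U e' ⊔ zpowers y = We U e ⊔ zpowers y ∧ Ce U e' = Ce U e) ∨
    (We U e ≤ Ce U e' ∧ We U e' ≤ Ce U e) := by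
  rcases h.dich1 r r'.toQd with k | k
  · exact .inl ⟨h.WZ_eq r.toQd r'.toQd k, h.Ce_eq r.toQd r'.toQd k⟩
  rcases h.dich1 r' r.toQd with k' | k'
  · exact .inl ⟨(h.WZ_eq r'.toQd r.toQd k').symm, (h.Ce_eq r'.toQd r.toQd k').symm⟩
  · exact .inr ⟨k, k'⟩

theorem eq_of_mem (h1 : u ∈ We U e ⊔ zpowers y) (h2 : u ∈ We U e' ⊔ zpowers y) (h3 : u ∉ zpowers y) :
    We U e' ⊔ zpowers y = We U e ⊔ zpowers y ∧ Ce U e' = Ce U e :=
  (h.dich r r').resolve_right fun k => h3 (h.WZ_inf (eH r'.toIn) r'.od h2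
    (sup_le k.1 (h.Z_le_Ce (eH r'.toIn)) h1))

/-- transvections with the same centre have the same axis -/
theorem axis_iff (hc : c * c' ∈ zpowers y) (hu : u ∈ U) : ⁅t, u⁆ ∈ zpowers y ↔ ⁅t', u⁆ ∈ zpowers y := by
  have e1 := (h.eq_of_mem r r' (mem_sup_left r.cW)
    ((mul_mem_cancel_right (mem_sup_left r'.cW)).1 (mem_sup_right hc)) (h.c_nZ r.toQd)).2
  rw [h.axis r hu, h.axis r' hu, e1]
  refine or_congr_right ?_
  rw [← mul_mem_cancel_left (h.Z_le_Ce (eH r.toIn) hc), h.cm (h.cU r.toQd) (h.cU r'.toQd), mul_assoc, ← mul_assoc c,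
    h.sq (h.cU r.toQd), one_mul]

end tr

end Mo

end H118

end H226
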