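import Cfsg.Agent.H26.T2.H18FE4
/-! Local facts of the geometry of `Ge S V z`: `Mo` at every point, `swap`, `nc`, `j3`, `pt'`. -/
set_option autoImplicit false
namespace H118 end H118 namespace H118.Ge end H118.Ge namespace H118.Mo end H118.Mo namespace H226 end H226 namespace H26 end H26 namespace H4 end H4
open H226
namespace H226
namespace H118
open _root_.H118
open Cfsg Subgroup H26 _root_.H26 H4 _root_.H4
open scoped Pointwise commutatorElement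

variable {G : Type*} [Group G]

/-- the intersection of the `U(s)`, `s` on the line `l` -/
def Jl (V l : Subgroup G) : Subgroup G := sInf {X | ∃ p ∈ l, p ≠ 1 ∧ X = Up V p}

theorem mem_Jl {V l : Subgroup G} {i : G} : i ∈ Jl V l ↔ ∀ p ∈ l, p ≠ 1 → i ∈ Up V p := by
  rw [Jl, Subgroup.mem_sInf]
  exact ⟨fun h p a b => h _ ⟨p, a, b, rfl⟩, fun h _ ⟨p, a, b, e⟩ => e ▸ h p a b⟩

theorem n_le_n_Jl [Finite G] (V l : Subgroup G) : 𝐍 l ≤ 𝐍 (Jl V l) := fun g hg =>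
  mem_normalizer_of_conj_mem fun x hx => mem_Jl.2 fun p hp p1 => by
    have := conj_mem_cj g (mem_Jl.1 hx _ (conj_mem_of_mem_normalizer' hg hp) fun k => p1 (conj_ne_one_aux k))
    rwa [cj_Up, show g * (g⁻¹ * p * g) * g⁻¹ = p by group] at this

theorem sol_ind {Y : Subgroup G} (hs : Group.IsSolvable Y) (P : Subgroup G → Prop) (h : P Y)
    (hP : ∀ N ≤ Y, Y ≤ 𝐍 N → P N → P ⁅N, N⁆) : P ⊥ := by
  obtain ⟨n, hn⟩ := hs.solvable
  have key : ∀ k, P ((derivedSeries Y k).map Y.subtype) := fun k => by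
    induction k with
    | zero => rwa [derivedSeries_zero, map_subtype_top]
    | succ k ih =>
      rw [derivedSeries_succ, map_commutator]
      exact hP _ (map_subtype_le _) (normal_iff_le_normalizer_map_subtype.1 inferInstance) ih
  have := key n
  rwa [hn, Subgroup.map_bot] at this

variable [Finite G] {S V : Subgroup G} {z : G}

namespace Mo
open _root_.H118.Mo
variable {U H T N : Subgroup G} {y e t a u v w : G} (h : Mo y U H T) (i : In H T e t)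
include h i

theorem indep (hu : u ∈ U) (hv : v ∈ U) (h1 : u * v ∉ Ce U e) (h2 : ∃ σ ∈ T, ⁅σ, u⁆ = y) :
    ∃ τ ∈ T, ⁅τ, u⁆ = y ∧ ⁅τ, v⁆ = 1 := by
  obtain ⟨τ, hτ, e1⟩ := h.exists_T i (mul_mem hu hv) h1
  obtain ⟨σ, hσ, e2⟩ := h2
  have yy := h.sq h.yU
  rw [h.comm_mul (h.TH hτ) hu hv] at e1
  rcases mem_two yy (h.Tc hτ hv) with k | k
  · exact ⟨τ, hτ, by rwa [k, mul_one] at e1, k⟩
  rcases mem_two yy (h.Tc hσ hv) with k' | k'
  · exact ⟨σ, hσ, e2, k'⟩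
  rw [k, mul_eq_right] at e1
  exact ⟨σ * τ, mul_mem hσ hτ, by rw [comm_mul_left, e1, e2]; simp,
    by rw [comm_mul_left, k, k', h.fixZ (h.TH hσ) (mem_zpowers y), yy]⟩

theorem fact (h1 : a * t ∈ T) : ⁅a, e⁆ * (e * e) ∈ T := by
  rw [show ⁅a, e⁆ * (e * e) = (a * t) * (t⁻¹ * e * t) * (a * t)⁻¹ * e by group, inv_eq_of_mul_eq_one_right i.tt,
    show t * e * t = e⁻¹ by rw [← i.inv, inv_eq_of_mul_eq_one_right i.tt],
    show a * t * e⁻¹ * (a * t)⁻¹ * e = a * t * (e⁻¹ * (a * t)⁻¹ * e) by group]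
  exact mul_mem h1 (conj_mem_of_mem_normalizer' (h.nT (eH i)) (inv_mem h1))

theorem mem_fact (h1 : a * t ∈ T) : e ∈ zpowers ⁅a, e⁆ ⊔ T :=
  mem_of_sq_mem i.od ((mul_mem_cancel_left (mem_sup_left (mem_zpowers _))).1 (mem_sup_right (h.fact i h1)))

theorem cover {X : Subgroup G} (hn : X ≤ 𝐍 N) (hU : U ≤ X) (he : e ∈ X) (ha : a ∈ N) (h1 : a * t ∈ T)
    (hw : w ∈ We U e) : ∃ w' ∈ ⁅N, N⁆, w' ∈ U ∧ w * w' ∈ zpowers y := by
  have aH : a ∈ H := (mul_mem_cancel_right i.tH).1 (h.TH h1)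
  have fH : ⁅a, e⁆ ∈ H := commutator_le_of_le_normalizer le_normalizer (commutator_mem_commutator aH (eH i))
  have fN : ⁅a, e⁆ ∈ N := commutator_le_of_le_normalizer hn (commutator_mem_commutator ha he)
  have m := h.mem_fact i h1
  have W := h.We_le fH
  have W2 : ⁅We U ⁅a, e⁆, zpowers ⁅a, e⁆⁆ ≤ We U ⁅a, e⁆ := commutator_le_of_le_normalizer (zpowers_le.2 e_nW)
  have k : ⁅We U ⁅a, e⁆, zpowers ⁅a, e⁆⁆ ⊔ zpowers y ≤ We U ⁅a, e⁆ ⊔ zpowers y := sup_le_sup_right W2 _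
  have e1 : We U e ≤ ⁅We U ⁅a, e⁆, zpowers ⁅a, e⁆⁆ ⊔ zpowers y := by
    refine (h.We_comm (eH i) i.od).ge.trans ((commutator_mono (le_sup_left.trans (h.WZ_mono fH m)) le_rfl).trans
      ((le_commStab_iff' k).1 ((zpowers_le.2 m).trans (sup_le ((le_commStab_iff' k).2 ?_) fun x hx =>
        mem_cs k fun u hu => mem_sup_right (h.Tc hx (h.WZ_le fH hu))))))
    rw [commutator_sup_eq_of_comm h.ea.1 (zpowers_le.2 (h.HU fH)) W h.ZU]
    exact sup_le_sup_left (commutator_le_of_le_normalizer (zpowers_le.2 (h.HZ fH))) _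
  obtain ⟨w', hw', z, hz, rfl⟩ := (mem_sup_of_le_normalizer ((W2.trans W).trans (h.le_n h.ZU))).1 (e1 hw)
  refine ⟨w', commutator_mono ((commutator_mono le_rfl (zpowers_le.2 fN)).trans
    (commutator_le_of_le_normalizer' (hU.trans hn))) (zpowers_le.2 fN) hw', W (W2 hw'), ?_⟩
  rwa [h.cm (W (W2 hw')) (h.ZU hz), mul_assoc, h.sq (W (W2 hw')), mul_one]

end Mo

namespace Ge
open _root_.H118.Ge
variable (h : Ge S V z) {l m : Subgroup G} {p q r g x e a i : G} {n : ℕ}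
include h

theorem trans2 (hl : Ln V l) (hp : p ∈ l) (p1 : p ≠ 1) (hm : Ln V m) (hq : q ∈ m) (q1 : q ≠ 1) :
    ∃ g, cj g l = m ∧ g * p * g⁻¹ = q := by
  obtain ⟨a, rfl, rfl⟩ := h.trans hl hp p1
  obtain ⟨b, rfl, rfl⟩ := h.trans hm hq q1
  exact ⟨b * a⁻¹, by rw [cj_mul, cj_inv_cj], by group⟩

theorem exists_syl (hl : Ln V l) (hp : p ∈ l) (p1 : p ≠ 1) : ∃ P, IsSyl 2 P ⊤ ∧ P ≤ 𝐍 l ∧ oz P = zpowers p := by
  obtain ⟨a, rfl, rfl⟩ := h.trans hl hp p1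
  exact ⟨cj a S, h.syl.cj_of_mem (mem_top a), cj_normalizer a V ▸ cj_mono a h.le, by rw [← cj_oz, h.zeq, cj_zpowers]⟩

theorem le_n_all {K : Subgroup G} (hl : Ln V l) (hp : p ∈ l) (p1 : p ≠ 1) (hn : 𝐂 (zpowers p) ≤ 𝐍 K) (h1 : K ≤ 𝐍 l)
    (hm : Ln V m) (hq : p ∈ m) : K ≤ 𝐍 m := by
  obtain ⟨g, rfl, e⟩ := h.trans2 hl hp p1 hm hq p1
  rw [← cj_normalizer, ← cj_eq_of_mem_normalizer (hn (mem_c_of_conj_eq e))]
  exact cj_mono g h1

theorem Up_le_of {K : Subgroup G} (hl : Ln V l) (hp : p ∈ l) (p1 : p ≠ 1) (hn : 𝐂 (zpowers p) ≤ 𝐍 K) (h1 : l ≤ K) :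
    Up V p ≤ K := Up_le fun m hm hq => by
  obtain ⟨g, rfl, e⟩ := h.trans2 hl hp p1 hm hq p1
  exact cj_le_of_mem_normalizer h1 (hn (mem_c_of_conj_eq e))

theorem isP_zp (hp : Col V p q) : IsPGroup 2 (zpowers p) := (h.Up_isP hp).to_le (zpowers_le.2 hp.left.mem)

omit h in
theorem zp_ne (p1 : p ≠ 1) : zpowers p ≠ ⊥ := fun k => p1 (zpowers_eq_bot.1 k)

theorem sol_c (h1 : i * i = 1) (i1 : i ≠ 1) : Group.IsSolvable (𝐂 (zpowers i)) :=
  H18.Solv.of_le (fr_sol h.toFr (isPGroup_zpowers (k := 1) (by simpa [pow_two] using h1)) (zp_ne i1))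
    (centralizer_le_normalizer _)

theorem mo (hp : Col V p q) : Mo p (Up V p) (𝐂 (zpowers p)) (Tp V p) := by
  obtain ⟨p1, -, l, hl, hp', -⟩ := hp.left
  obtain ⟨P, s, n, o⟩ := h.exists_syl hl hp' p1
  have s' : IsSyl 2 P (𝐂 (zpowers p)) := s.mono (o ▸ le_c_oz P) le_top
  refine ⟨p1, hp.left.mem, h.Up_ea hp, le_rfl, h.Up_le_c hp, c_le_n_Up V p, fun _ => mem_Tp, h.sol_c (h.pp hp) p1,
    fun K hK hn hO => h.le_Tp_of p1 hK fun m hm hq => h.le_n_all hl hp' p1 hn ((s'.inf_of_normal hn hK).le_of_pResidualOf_le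
      (hO.trans (Tp_le_n hl hp')) (inf_le_left.trans n)) hm hq, ?_⟩
  have nF : 𝐂 (zpowers p) ≤ 𝐍 (Fo (𝐂 (zpowers p)) (Tp V p)) := le_n_Fo (c_le_n_Tp V p)
  have s2 := s'.inf_of_normal nF Fo_le
  have n2 : 𝐂 (zpowers p) ≤ 𝐍 (Up V p ⊓ 𝐂 (Tp V p)) :=
    le_normalizer_inf (c_le_n_Up V p) (le_normalizer_centralizer (c_le_n_Tp V p))
  rw [le_centralizer_iff]
  refine le_trans (le_inf le_rfl (inf_le_right.trans (centralizer_anti fun x hx => ?_)))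
    (le_centralizer_of_transfer (inf_le_left.trans ((h.Up_ab hp).trans (centralizer_anti inf_le_left)))
    ((h.Up_isP hp).to_le inf_le_left) (Fo_le.trans n2) s2 s.isP (s'.le.trans n2) (s'.le.trans nF)
    (le_normalizer_inf le_normalizer (s'.le.trans nF)) (le_trans ?_ (le_centralizer_iff.1 Fo_le)))
  · obtain ⟨k, hk⟩ := isPGroup_iff_mem.1 s.isP x hx.1
    exact mem_of_Fo Tp_le_c (c_le_n_Tp V p) le_rfl hx.2 (hk ▸ one_mem _)
  · have e1 : Up V p ⊓ 𝐂 (Tp V p) ⊓ 𝐂 (P ⊓ Fo (𝐂 (zpowers p)) (Tp V p)) ⊓ 𝐂 P ≤ Up V p :=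
      inf_le_left.trans (inf_le_left.trans inf_le_left)
    exact (le_oz (elemAb_mono (h.Up_ea hp) e1) (e1.trans (s'.le_of_le_normalizer (h.Up_isP hp) (h.Up_le_c hp)
      (s'.le.trans (c_le_n_Up V p)))) inf_le_right).trans o.le

theorem not_le_n (hl : Ln V l) (hp : p ∈ l) (p1 : p ≠ 1) : ¬ 𝐂 (zpowers p) ≤ 𝐍 l := fun k => by
  obtain ⟨a, rfl, rfl⟩ := h.trans hl hp p1
  rw [← cj_zpowers, ← cj_centralizer, ← cj_normalizer, cj_le_cj_iff, ← h.fH_eq] at k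
  exact h.nH k

theorem ln_cases (hl : Ln V l) (hp : p ∈ l) (p1 : p ≠ 1) (hq : q ∈ l) (hq' : q ∉ zpowers p) (hx : x ∈ l) :
    x = 1 ∨ x = p ∨ x = q ∨ x = p * q :=
  four_cases (h.ln_four hl) hp hq p1 (fun k => hq' (k ▸ one_mem _)) (fun k => hq' (k ▸ mem_zpowers _)) hx

theorem ln_le {K : Subgroup G} (hl : Ln V l) (hp : p ∈ l) (p1 : p ≠ 1) (hq : q ∈ l) (hq' : q ∉ zpowers p)
    (h1 : p ∈ K) (h2 : q ∈ K) : l ≤ K := fun x hx => by
  rcases h.ln_cases hl hp p1 hq hq' hx with k | k | k | k <;> rw [k]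
  exacts [one_mem _, h1, h2, mul_mem h1 h2]

theorem ln_eq (hl : Ln V l) (hm : Ln V m) (hp : p ∈ l) (p1 : p ≠ 1) (hq : q ∈ l) (hq' : q ∉ zpowers p)
    (h1 : p ∈ m) (h2 : q ∈ m) : l = m :=
  (h.ln_four hm).eq_of_le (h.ln_four hl) (h.ln_le hl hp p1 hq hq' h1 h2)

theorem exists_other (hl : Ln V l) (hp : p ∈ l) : ∃ q ∈ l, q ∉ zpowers p := by
  refine SetLike.not_le_iff_exists.1 fun k => ?_
  have k1 := card_le_of_le k
  have k2 : Nat.card (zpowers p) ≤ 2 := by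
    rw [Nat.card_zpowers]; exact orderOf_le_of_pow_eq_one two_pos (by rw [pow_two, (h.ln_four hl).sq p hp])
  rw [(h.ln_four hl).card] at k1
  omega

theorem swap (hl : Ln V l) (hp : p ∈ l) (p1 : p ≠ 1) (hq : q ∈ l) (hq' : q ∉ zpowers p) :
    ∃ τ ∈ Tp V p, ⁅τ, q⁆ = p := by
  have c : Col V p p := ⟨p1, p1, l, hl, hp, hp⟩
  have M := h.mo c
  by_contra k
  push Not at k
  have k1 : Tp V p ≤ 𝐂 l := le_centralizer_iff.1 (h.ln_le hl hp p1 hq hq'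
    (zpowers_le.1 (le_centralizer_iff.1 Tp_le_c)) fun τ hτ => commutatorElement_eq_one_iff_mul_comm.1
      ((mem_two (h.pp c) (M.Tc hτ (hl.le_Up hp hq))).resolve_right (k τ hτ)))
  have k2 : Up V p ≤ 𝐂 (Tp V p) := h.Up_le_of hl hp p1 (le_normalizer_centralizer M.nT) (le_centralizer_iff.1 k1)
  obtain ⟨E, e1, e2, -, e4, -, e5⟩ := odd_top M.sol M.red le_rfl le_normalizer
    fun k => h.not_le_n hl hp p1 (k.trans (Tp_le_n hl hp))
  refine e4 (le_trans (show E ≤ Fo (𝐂 (zpowers p)) (Tp V p) from le_sSup ⟨e1, e2, fun f hf => ?_⟩)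
    (M.ct.trans ((centralizer_anti (le_inf le_rfl k2)).trans (c_le_Tp c))))
  obtain ⟨a, b, h1, h2⟩ := exists_pow_pElement (p := 2) (isOfFinOrder_of_finite f)
  exact ⟨a, Nat.coprime_two_right.1 h1, e5 _ (zpowers_le.2 (pow_mem hf a)) (isPGroup_zpowers h2) (mem_zpowers _)⟩

/-- an element inverted by `a ∈ U(x)` fixes no point near `x` -/
theorem nc {H T : Subgroup G} (c : Cm V n) (i : In H T e a) (ha : a ∈ Up V x) {j : ℕ} (hj : j ≤ n)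
    (hn : Near V j x q) : e * q * e⁻¹ ≠ q := by
  induction hn with
  | @zero p hp =>
    intro k
    have m : e ∈ Up V p := i.mem ha (conj_mem_of_mem_normalizer (c_le_n_Up V p (mem_c_of_conj_eq k)) ha)
    refine i.eT ((eq_one_of_pow_coprime (Nat.coprime_two_right.2 i.od) (pow_orderOf_eq_one e)
      (by rw [pow_two, h.Up_sq hp m])) ▸ one_mem _)
  | @succ j p q r h1 h2 ih =>
    intro k
    have m : a ∈ 𝐂 (Up V r) := c _ _ ((h1.succ h2).mono hj) ha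
    have := i.mem m (conj_mem_of_mem_normalizer (normalizer_le_normalizer_centralizer _
      (c_le_n_Up V r (mem_c_of_conj_eq k))) m)
    exact ih ha (by omega) (mem_centralizer_iff'.1 this _ h2.symm.mem)

theorem le_Jl (hl : Ln V l) : l ≤ Jl V l := fun _ hx => mem_Jl.2 fun _ hp _ => hl.le_Up hp hx

theorem mem_Jl_of (hl : Ln V l) (hp : p ∈ l) (p1 : p ≠ 1) (hq : q ∈ l) (hq' : q ∉ zpowers p) (h1 : i ∈ Up V p)
    (h2 : i ∈ Up V q) : i ∈ Jl V l := mem_Jl.2 fun s hs s1 => by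
  rcases h.ln_cases hl hp p1 hq hq' hs with k | k | k | k
  · exact absurd k s1
  · rwa [k]
  · rwa [k]
  obtain ⟨τ, hτ, e⟩ := h.swap hl hp p1 hq hq'
  have := conj_mem_cj τ h2
  rw [cj_Up, conj_eq_comm, conj_eq_comm, e, ← k] at this
  exact (mul_mem_cancel_left (hl.le_Up hs (zpowers_le.2 hp ((mem_Tp.1 hτ).2 i h1)))).1 this

theorem j3 (hl : Ln V l) (hi : i ∈ Jl V l) (hi' : i ∉ l) (hp : p ∈ l) (p1 : p ≠ 1) (hq : q ∈ l)
    (hq' : q ∉ zpowers p) : ∃ τ ∈ Tp V p, ⁅τ, i⁆ = 1 ∧ ⁅τ, q⁆ = p := by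
  by_contra k
  push Not at k
  have f := h.ln_four hl
  have M : ∀ {s}, s ∈ l → s ≠ 1 → _ := fun {s} hs s1 => h.mo (⟨s1, s1, l, hl, hs, hs⟩ : Col V s s)
  have Mp := M hp p1
  have iU := mem_Jl.1 hi p hp p1
  have qU := hl.le_Up hp hq
  have q1 : q ≠ 1 := fun k => hq' (k ▸ one_mem _)
  have pq : p ∉ zpowers q := fun k => (mem_two (f.sq q hq) k).elim p1 fun k => hq' (k ▸ mem_zpowers _)
  have g1 : ∀ τ ∈ Tp V p, τ * (i * q) * τ⁻¹ = i * q := fun τ hτ => conj_eq_of_comm (by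
    rw [Mp.comm_mul (Mp.TH hτ) iU qU]
    obtain ⟨σ, hσ, e⟩ := h.swap hl hp p1 hq hq'
    have e' := (mem_two (f.sq p hp) (Mp.Tc hσ iU)).resolve_left fun k' => k σ hσ k' e
    rcases mem_two (f.sq p hp) (Mp.Tc hτ iU) with a | a <;> rcases mem_two (f.sq p hp) (Mp.Tc hτ qU) with b | b
    · rw [a, b, one_mul]
    · exact absurd b (k τ hτ a)
    · refine absurd ?_ (k _ (mul_mem hσ hτ) ?_)
      · rw [comm_mul_left, b, e]; simp
      · rw [comm_mul_left, a, e', Mp.fixZ (Mp.TH hσ) (mem_zpowers p), f.sq p hp]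
    · rw [a, b, f.sq p hp])
  have tr : ∀ {s r τ j}, (∀ σ ∈ Tp V s, σ * j * σ⁻¹ = j) → τ * s * τ⁻¹ = r →
      ∀ σ ∈ Tp V r, σ * (τ * j * τ⁻¹) * σ⁻¹ = τ * j * τ⁻¹ := fun {s r τ j} a b σ hσ => by
    rw [← b, ← cj_Tp] at hσ
    obtain ⟨ρ, hρ, rfl⟩ := mem_cj'.1 hσ
    rw [show τ * ρ * τ⁻¹ * (τ * j * τ⁻¹) * (τ * ρ * τ⁻¹)⁻¹ = τ * (ρ * j * ρ⁻¹) * τ⁻¹ by group, a ρ hρ]
  have pq1 : p * q ≠ 1 := fun k => hq' (by rw [eq_inv_of_mul_eq_one_right k]; exact inv_mem (mem_zpowers p))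
  have ppq : p ∉ zpowers (p * q) := fun k => (mem_two (f.sq _ (mul_mem hp hq)) k).elim p1 fun k => q1 (by simpa using k)
  obtain ⟨τ, hτ, e⟩ := h.swap hl (mul_mem hp hq) pq1 hp ppq
  have cpq : p * q = q * p := f.le_c hq p hp
  have g2 := tr g1 (τ := τ) (r := q) (by rw [conj_eq_comm, e, cpq, mul_assoc, f.sq p hp, mul_one])
  have iq : i * q ∈ Jl V l := mul_mem hi (h.le_Jl hl hq)
  have m : ⁅τ, i * q⁆ ∈ l := zpowers_le.2 (mul_mem hp hq) ((mem_Tp.1 hτ).2 _ (mem_Jl.1 iq _ (mul_mem hp hq) pq1))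
  rw [conj_eq_comm τ] at g2
  have fp : ∀ σ ∈ Tp V p, σ * p * σ⁻¹ = p := fun σ hσ => conj_eq_of_mem_c (Tp_le_c hσ)
  have fq : ∀ σ ∈ Tp V q, σ * q * σ⁻¹ = q := fun σ hσ => conj_eq_of_mem_c (Tp_le_c hσ)
  obtain ⟨j, j1, j2, j3, j4⟩ : ∃ j ∈ Jl V l, j ∉ l ∧ (∀ σ ∈ Tp V p, σ * j * σ⁻¹ = j) ∧ ∀ σ ∈ Tp V q, σ * j * σ⁻¹ = j := by
    have n1 : i * q ∉ l := fun k => hi' ((mul_mem_cancel_right hq).1 k)
    have n2 : p * (i * q) ∉ l := fun k => n1 ((mul_mem_cancel_left hp).1 k)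
    have a1 : ∀ σ ∈ Tp V p, σ * (p * (i * q)) * σ⁻¹ = p * (i * q) := fun σ hσ => by rw [← conj_mul, fp σ hσ, g1 σ hσ]
    have a2 : ∀ σ ∈ Tp V q, σ * (q * (⁅τ, i * q⁆ * (i * q))) * σ⁻¹ = q * (⁅τ, i * q⁆ * (i * q)) := fun σ hσ => by
      rw [← conj_mul, fq σ hσ, g2 σ hσ]
    rcases h.ln_cases hl hp p1 hq hq' m with k | k | k | k <;> rw [k] at g2 a2
    · exact ⟨_, iq, n1, g1, by rwa [one_mul] at g2⟩
    · exact ⟨_, mul_mem (h.le_Jl hl hp) iq, n2, a1, g2⟩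
    · exact ⟨_, iq, n1, g1, by rwa [← mul_assoc q q, f.sq q hq, one_mul] at a2⟩
    · exact ⟨_, mul_mem (h.le_Jl hl hp) iq, n2, a1, by
        rwa [cpq, mul_assoc q p, ← mul_assoc q q, f.sq q hq, one_mul] at a2⟩
  obtain ⟨σ, hσ, e2⟩ := h.swap hl hp p1 hq hq'
  have j5 := tr j4 (τ := σ) (r := p * q) (by rw [conj_eq_comm, e2])
  rw [j3 σ hσ] at j5
  let L : Subgroup G := sSup {X | ∃ s ∈ l, s ≠ 1 ∧ X = Tp V s}
  have nL : 𝐍 l ≤ 𝐍 L := fun g hg => mem_normalizer_of_cj_le (cj_le_iff.2 (sSup_le fun _ ⟨s, a, b, e⟩ => by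
    rw [e, ← cj_le_iff, cj_Tp]
    exact le_sSup ⟨_, conj_mem_of_mem_normalizer hg a, conj_ne_one g b, rfl⟩))
  have jL : j ∈ 𝐂 L := zpowers_le.1 (le_centralizer_iff.1 (sSup_le fun _ ⟨s, a, b, e⟩ σ hσ => mem_c_of_conj_eq (by
    rw [e] at hσ
    rcases h.ln_cases hl hp p1 hq hq' a with k | k | k | k <;> rw [k] at hσ
    exacts [absurd k b, j3 σ hσ, j4 σ hσ, j5 σ hσ])))
  obtain ⟨P, s, nP, o⟩ := h.exists_syl hl hp p1
  have JU : Jl V l ≤ Up V p := fun x hx => mem_Jl.1 hx p hp p1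
  have nD : P ≤ 𝐍 (Jl V l ⊓ 𝐂 L) := nP.trans (le_normalizer_inf (n_le_n_Jl V l) (le_normalizer_centralizer nL))
  have := inf_omegaOne_center_ne_bot s.isP (s.le_of_le_normalizer
    ((elemAb_isPGroup Mp.ea).to_le (inf_le_left.trans JU)) le_top nD) nD fun k => j2 (by
      have : j ∈ (⊥ : Subgroup G) := k ▸ mem_inf.2 ⟨j1, jL⟩
      rw [mem_bot.1 this]; exact one_mem _)
  obtain ⟨x, hx, x1⟩ := (bot_or_exists_ne_one _).resolve_left this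
  have x2 : x = p := (mem_two (f.sq p hp) (o ▸ hx.2 : x ∈ zpowers p)).resolve_left x1
  obtain ⟨ρ, hρ, e3⟩ := h.swap hl hq q1 hp pq
  exact q1 (e3 ▸ commutatorElement_eq_one_iff_mul_comm.2 ((x2 ▸ hx.1.2 : p ∈ 𝐂 L) ρ (le_sSup
    (s := {X | ∃ s ∈ l, s ≠ 1 ∧ X = Tp V s}) ⟨q, hq, q1, rfl⟩ hρ)))

theorem ovr {Y : Subgroup G} (hY : IsPGroup 2 Y) (h1 : Y ≠ ⊥) (hn : S ≤ 𝐍 Y) (hg : g ∈ 𝐍 Y) : g * z * g⁻¹ ∈ V := by
  have s : IsSyl 2 S (𝐍 Y) := h.syl.mono hn le_top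
  have e := s.sylowCenterClosure_eq
  have n : 𝐍 Y ≤ 𝐍 (zc (𝐍 Y)) := by rw [zc, e]; exact le_normalizer_ncl _ _
  obtain ⟨a, ha, c, hc, rfl⟩ := (mem_sup_of_le_normalizer (inf_le_left.trans
    (le_normalizer_inf le_normalizer (le_normalizer_centralizer n)))).1
    (h.f1 _ S (fr_charP h.toFr hY h1) s inf_le_left hg)
  rw [show a * c * z * (a * c)⁻¹ = a * (c * z * c⁻¹) * a⁻¹ by group,
    mem_centralizer_iff'.1 hc.2 z (by rw [zc, e]; exact le_ncl _ _ h.zoz)]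
  exact conj_mem_of_mem_normalizer ha.2 h.zV

theorem card_oz {P : Subgroup G} (s : IsSyl 2 P ⊤) : Nat.card (oz P) = 2 := by
  obtain ⟨g, -, rfl⟩ := h.syl.exists_cj_eq s
  rw [← cj_oz, card_cj, h.zeq, card_two h.zz h.z1]

theorem pt' (hx : Col V x x) (h1 : x ∈ S) (h2 : ∀ s ∈ S, ⁅s, x⁆ ∈ zpowers z) : x ∈ V := by
  have xx := h.pp hx
  have mo : ∀ {P : Subgroup G} {u : G}, u ∈ P → u * u = 1 → P ≤ 𝐂 (zpowers u) → u ∈ oz P := fun hu uu hc =>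
    le_oz (elemAb_zpowers (by rwa [pow_two])) (zpowers_le.2 hu) (le_centralizer_iff.1 hc) (mem_zpowers _)
  by_cases k : S ≤ 𝐂 (zpowers x)
  · exact fr_oz_le h.toFr (mo h1 xx k)
  have cx : ∀ {s u : G}, s ∈ 𝐂 (zpowers u) ↔ ⁅s, u⁆ = 1 :=
    ⟨fun k => comm_eq_one_of_conj (conj_eq_of_mem_c k), fun k => mem_c_of_conj_eq (conj_eq_of_comm k)⟩
  have fz : ∀ s ∈ S, s * z * s⁻¹ = z := fun s hs => conj_eq_of_mem_c (h.S_le hs)
  have two : ∀ s ∈ S, ∀ t ∈ S, s ∉ 𝐂 (zpowers x) → t ∉ 𝐂 (zpowers x) → s * t ∈ 𝐂 (zpowers x) := fun s hs t ht a b => by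
    rw [cx] at a b ⊢
    rw [comm_mul_left, (mem_two h.zz (h2 s hs)).resolve_left a, (mem_two h.zz (h2 t ht)).resolve_left b, fz s hs, h.zz]
  have c2 := card_mul_relIndex (𝐂 (zpowers x)) S
  rw [relIndex_eq_two_of k two, inf_comm] at c2
  set S1 := S ⊓ 𝐂 (zpowers x) with hS1
  have p1 : IsPGroup 2 S1 := h.syl.isP.to_le inf_le_left
  have n1 : S ≤ 𝐍 S1 := fun s hs => mem_normalizer_of_conj_mem fun t ht => mem_inf.2 ⟨mul_mem (mul_mem hs (mem_inf.1 ht).1) (inv_mem hs), by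
    by_cases a : s ∈ 𝐂 (zpowers x)
    · exact mul_mem (mul_mem a (mem_inf.1 ht).2) (inv_mem a)
    · exact two _ (mul_mem hs (mem_inf.1 ht).1) _ (inv_mem hs) (fun k => a ((mul_mem_cancel_right (mem_inf.1 ht).2).1 k))
        fun k => a (inv_mem_iff.1 k)⟩
  obtain ⟨P, sP, hP⟩ := exists_isSyl_ge p1 inf_le_right
  obtain ⟨a, ha⟩ := h.pt hx
  have c3 := sP.card_le (isPGroup_cj a h.syl.isP) (by rw [← ha, ← cj_zpowers, ← cj_centralizer]; exact cj_mono a h.S_le)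
  rw [card_cj] at c3
  have pos := card_pos' S1
  obtain ⟨g, hg, hg'⟩ := SetLike.exists_of_lt (lt_inf_normalizer sP.isP (lt_of_le_of_ne hP fun e => by
    rw [← e] at c3; omega))
  have zS1 : z ∈ S1 := ⟨oz_le S h.zoz, mem_c_of_conj_eq (by
    have := fz x h1
    rw [mul_inv_eq_iff_eq_mul] at this ⊢
    exact this.symm)⟩
  have zo : z ∈ oz S1 := mo zS1 h.zz (inf_le_left.trans h.S_le)
  have go := normalizer_le_normalizer_omegaOne 2 _ (le_normalizer_inf le_rfl (normalizer_le_normalizer_centralizer S1) hg.2)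
  have yV := h.ovr (elemAb_isPGroup (elemAb_oz S1)) (fun e => h.z1 (mem_bot.1 (e ▸ zo))) (le_n_oz n1) go
  have yo : g * z * g⁻¹ ∈ oz S1 := conj_mem_of_mem_normalizer go zo
  have yz : g * z * g⁻¹ ≠ z := fun e => by
    have p2 : IsPGroup 2 ↥(S1 ⊔ zpowers g) := sP.isP.to_le (sup_le hP (zpowers_le.2 hg.1))
    have s2 : IsSyl 2 (S1 ⊔ zpowers g) ⊤ := h.syl.of_card_ge p2 le_top (by
      have := mul_card_le_of_lt p2 (lt_of_le_of_ne (le_sup_left (a := S1))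
        fun e => hg' (e ▸ mem_sup_right (mem_zpowers g)))
      omega)
    have e1 := mem_of_card_two (h.card_oz s2) (mo (mem_sup_left zS1) h.zz (sup_le (inf_le_left.trans h.S_le)
      (zpowers_le.2 (mem_c_of_conj_eq e)))) (mo (mem_sup_left ⟨h1, mem_c_of_conj_eq (by group)⟩) xx
      (sup_le inf_le_right (zpowers_le.2 (sP.le hg.1)))) h.z1 hx.1
    exact k (e1 ▸ h.S_le)
  obtain ⟨s, hs, hs'⟩ := SetLike.not_le_iff_exists.1 k
  set y := g * z * g⁻¹ with hy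
  have c1 : ∀ t ∈ S1, t ∈ 𝐂 (zpowers y) := fun t ht => centralizer_anti (zpowers_le.2 yo) (le_c_oz S1 ht)
  have all : ∀ {u : G}, S1 ≤ 𝐂 (zpowers u) → s ∈ 𝐂 (zpowers u) → S ≤ 𝐂 (zpowers u) := fun a b t ht => by
    by_cases c : t ∈ 𝐂 (zpowers x)
    · exact a ⟨ht, c⟩
    · exact (mul_mem_cancel_left b).1 (a ⟨mul_mem hs ht, two s hs t ht hs' c⟩)
  have yy := h.four.sq y yV
  have yS : y ∈ S1 := oz_le _ yo
  have e1 : ⁅s, y⁆ = z := (mem_two h.zz (by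
      rw [← commutatorElement_inv]
      exact inv_mem (h.comm_ln (Ln.self V) h.zV h.z1 h.S_le h.le (commutator_mem_commutator yV hs)))).resolve_left
    fun e => by
      have := mo yS.1 yy (all c1 (cx.2 e))
      rw [h.zeq] at this
      exact (mem_two h.zz this).elim (conj_ne_one g h.z1) yz
  have e2 : ⁅s, x⁆ = z := (mem_two h.zz (h2 s hs)).resolve_left fun e => hs' (cx.2 e)
  have xy : x * y = y * x := mem_centralizer_zpowers.1 yS.2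
  have := mo (mul_mem h1 yS.1) (by rw [mul_assoc, ← mul_assoc y, ← xy, mul_assoc, yy, mul_one, xx])
    (all (fun t ht => mem_c_of_conj_eq (by rw [← conj_mul, conj_eq_of_mem_c ht.2, conj_eq_of_mem_c (c1 t ht)]))
      (cx.2 (by rw [comm_mul_right, e1, e2, fz x h1, h.zz])))
  exact (mul_mem_cancel_right yV).1 (fr_oz_le h.toFr this)

end Ge

end H118

end H226
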