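import Cfsg.Agent.H26.T2.H18FE5
/-! Pure critical pairs: transvections, `Sol0`, `Sol4`. -/
set_option autoImplicit false
namespace H118 end H118 namespace H118.Ge end H118.Ge namespace H118.Mo end H118.Mo namespace H226 end H226 namespace H26 end H26 namespace H4 end H4
open H226
namespace H226
namespace H118
open _root_.H118
open Cfsg Subgroup H26 _root_.H26 H4 _root_.H4
open scoped Pointwise commutatorElement

variable {G : Type*} [Group G]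

abbrev Tv (V : Subgroup G) (y e t c : G) : Prop := Tr y (Up V y) (𝐂 (zpowers y)) (Tp V y) e t c
abbrev Iv (V : Subgroup G) (y e t : G) : Prop := In (𝐂 (zpowers y)) (Tp V y) e t
abbrev Wy (V : Subgroup G) (y e : G) : Subgroup G := We (Up V y) e ⊔ zpowers y
abbrev Lp (p q : G) : Subgroup G := zpowers p ⊔ zpowers q

/-- distinct collinear points -/
structure Ed (V : Subgroup G) (p q : G) : Prop where
  col : Col V p q
  ne : p ≠ q

/-- critical pairs -/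
structure Cr (V : Subgroup G) (n : ℕ) (x y : G) : Prop where
  cm : Cm V (n + 1)
  nr : Near V (n + 2) x y
  nc : ¬ Up V x ≤ 𝐂 (Up V y)

/-- pure critical pairs -/
structure Pu (V : Subgroup G) (n : ℕ) (x y : G) : Prop extends Cr V n x y where
  xB : x ∉ Up V y
  yA : y ∉ Up V x

structure Hfe (V : Subgroup G) (x y a b e c : G) : Prop where
  aA : a ∈ Up V x
  bW : b ∈ Wy V y e
  tr : Tv V y e a c
  ab : ⁅a, b⁆ = c
  d1 : ∀ s ∈ Up V x, ⁅s, e⁆ ∈ Tp V y ∨ ⁅s * a, e⁆ ∈ Tp V y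

structure Pr (V : Subgroup G) (n : ℕ) (x y a b e e' c : G) : Prop extends Pu V n x y where
  f : Hfe V x y a b e c
  f' : Hfe V y x b a e' c

section basic
variable {V K : Subgroup G} {x y p q a b e e' t c g s u : G} {n : ℕ}

theorem Tv.conj (r : Tv V y e t c) (g : G) : Tv V (g * y * g⁻¹) (g * e * g⁻¹) (g * t * g⁻¹) (g * c * g⁻¹) := by
  have := Tr.cj r g
  rwa [cj_Up, cj_centralizer, cj_zpowers, cj_Tp] at this

theorem cj_Wy (g : G) : cj g (Wy V y e) = Wy V (g * y * g⁻¹) (g * e * g⁻¹) := by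
  rw [cj_sup, cj_We, cj_Up, cj_zpowers]

theorem cj_Lp (g : G) : cj g (Lp p q) = Lp (g * p * g⁻¹) (g * q * g⁻¹) := by rw [cj_sup, cj_zpowers, cj_zpowers]

theorem Lp_left : p ∈ Lp p q := mem_sup_left (mem_zpowers p)
theorem Lp_right : q ∈ Lp p q := mem_sup_right (mem_zpowers q)
theorem Lp_le (h1 : p ∈ K) (h2 : q ∈ K) : Lp p q ≤ K := sup_le (zpowers_le.2 h1) (zpowers_le.2 h2)

theorem conj_mem_Up (hu : u ∈ Up V p) (g : G) : g * u * g⁻¹ ∈ Up V (g * p * g⁻¹) := cj_Up g p ▸ conj_mem_cj g hu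

theorem comm_iff : u ∈ 𝐂 K ↔ ∀ s ∈ K, ⁅u, s⁆ = 1 :=
  forall₂_congr fun _ _ => eq_comm.trans commutatorElement_eq_one_iff_mul_comm.symm

theorem comm_one_symm (h : ⁅s, u⁆ = 1) : ⁅u, s⁆ = 1 := by rw [← commutatorElement_inv, h, inv_one]

theorem Ed.symm (h : Ed V p q) : Ed V q p := ⟨h.col.symm, h.ne.symm⟩
theorem Ed.conj (h : Ed V p q) (g : G) : Ed V (g * p * g⁻¹) (g * q * g⁻¹) :=
  ⟨h.col.cj g, fun k => h.ne (by simpa using k)⟩

theorem Cr.symm (h : Cr V n x y) : Cr V n y x := ⟨h.cm, h.nr.symm, fun k => h.nc (le_centralizer_iff.1 k)⟩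
theorem Cr.conj (h : Cr V n x y) (g : G) : Cr V n (g * x * g⁻¹) (g * y * g⁻¹) :=
  ⟨h.cm, h.nr.cj g, fun k => h.nc (by rwa [← cj_Up, ← cj_Up, ← cj_centralizer, cj_le_cj_iff] at k)⟩
theorem Cr.fix (h : Cr V n x y) : Up V x ≤ 𝐂 (zpowers y) := h.cm.fix h.nr
theorem Cr.cm1 (h : Cr V n x y) : Cm V 1 := h.cm.mono (by omega)
theorem Cr.memB (h : Cr V n x y) (hs : s ∈ Up V x) (hu : u ∈ Up V y) : ⁅s, u⁆ ∈ Up V y :=
  mul_mem (conj_mem_of_mem_normalizer (h.cm.norm h.nr hs) hu) (inv_mem hu)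
theorem Cr.memA (h : Cr V n x y) (hs : s ∈ Up V x) (hu : u ∈ Up V y) : ⁅s, u⁆ ∈ Up V x := by
  rw [← commutatorElement_inv]; exact inv_mem (h.symm.memB hu hs)
theorem Cr.ed (h : Cr V n x y) (h1 : Near V (n + 1) x p) (h2 : Col V p y) : Ed V p y :=
  ⟨h2, fun k => h.nc (k ▸ h.cm _ _ h1)⟩
theorem Pu.symm (h : Pu V n x y) : Pu V n y x := ⟨h.toCr.symm, h.yA, h.xB⟩
theorem Pr.symm (h : Pr V n x y a b e e' c) : Pr V n y x b a e' e c := ⟨h.toPu.symm, h.f', h.f⟩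

theorem In.t_nT {H T : Subgroup G} (i : In H T e t) (h : e ∈ 𝐍 T) : t ∉ T := fun k =>
  i.eT (i.mem k (conj_mem_of_mem_normalizer h k))

end basic

variable [Finite G] {S V : Subgroup G} {z : G}

namespace Mo
open _root_.H118.Mo
variable {U H T P : Subgroup G} {y e t a b c k u v w : G} (h : Mo y U H T)
include h

/-- no over-offenders -/
theorem nov (hP : P ≤ H) (hP' : IsElementaryAbelian 2 P)
    (hc : ∀ s ∈ U, (∀ w ∈ P, ⁅s, w⁆ = 1) ∨ ∀ w ∈ P, ⁅s * a, w⁆ = 1) :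
    ∀ w ∈ P, ∀ w' ∈ P, w ∉ T → w' ∉ T → w * w' ∈ T := by
  have e1 := no_over_sec h.ea h.ZU h.HU h.HZ h.sol (fun K a b c => (h.red K a b (by
    rw [h.T_eq]; exact le_inf ((pResidualOf_le _ _).trans a) c)).trans (h.T_eq.le.trans inf_le_right)) hP hP'
  have m : ∀ s ∈ U, (∀ w ∈ P, ⁅s, w⁆ = 1) → s ∈ commStab (P : Set G) (zpowers y) := fun s hs k =>
    ⟨h.HZ (h.UH hs), fun w hw => k w hw ▸ one_mem _⟩
  have e2 : (commStab (P : Set G) (zpowers y)).relIndex U ≤ 2 := by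
    by_cases k : U ≤ commStab (P : Set G) (zpowers y)
    · rw [relIndex_eq_one.2 k]; omega
    refine (relIndex_eq_two_of k fun s hs s' hs' k1 k2 => ?_).le
    have a1 := comm_iff.2 ((hc s hs).resolve_left fun j => k1 (m s hs j))
    have a2 := comm_iff.2 ((hc s' hs').resolve_left fun j => k2 (m s' hs' j))
    refine m _ (mul_mem hs hs') (comm_iff.1 ?_)
    have := mul_mem a1 (inv_mem a2)
    rwa [show s * a * (s' * a)⁻¹ = s * s'⁻¹ by group, h.inv hs'] at this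
  have e3 := relIndex_pos (commStab (U : Set G) (zpowers y)) P
  intro w hw w' hw' k1 k2
  rw [h.T_eq] at k1 k2 ⊢
  by_cases k : (commStab (U : Set G) (zpowers y)).relIndex P = 1
  · exact absurd ⟨hP hw, relIndex_eq_one.1 k hw⟩ k1
  exact ⟨mul_mem (hP hw) (hP hw'), two_of_relIndex (by omega) w hw w' hw' (fun j => k1 ⟨hP hw, j⟩) fun j => k2 ⟨hP hw', j⟩⟩

theorem fixWZ (q : Qd U H T e t c) (hw : w ∈ We U e ⊔ zpowers y) (h1 : ⁅t, w⁆ ∈ zpowers y) : w ∈ Lp c y := by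
  obtain ⟨v, hv, z, hz, rfl⟩ := h.mem_WZ (eH q.toIn) hw
  rw [h.comm_mul q.tH (h.We_le (eH q.toIn) hv) (h.ZU hz), h.commZ q.tH hz, mul_one] at h1
  exact mul_mem (mem_sup_left (h.fixW q hv h1)) (mem_sup_right hz)

theorem off (r : Tr y U H T e t c) (hu : u ∈ U) (hv : v ∈ U) (h1 : ⁅t, u⁆ ∉ zpowers y) (h2 : ⁅t, v⁆ ∉ zpowers y) :
    ⁅t, u * v⁆ ∈ zpowers y := by
  have cU := h.cU r.toQd
  have := mul_mem (inv_mem ((h.mem_yc cU (r.tv u hu)).resolve_left h1)) ((h.mem_yc cU (r.tv v hv)).resolve_left h2)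
  rwa [mul_inv_rev, mul_assoc, inv_mul_cancel_left, h.inv (h.commU r.tH hu), ← h.comm_mul r.tH hu hv] at this

theorem cj_tr (r : Tr y U H T e t c) (hk : k ∈ H) :
    Tr y U H T (k * e * k⁻¹) (k * t * k⁻¹) (k * c * k⁻¹) ∧ cj k (We U e ⊔ zpowers y) = We U (k * e * k⁻¹) ⊔ zpowers y ∧
      cj k (Ce U e) = Ce U (k * e * k⁻¹) := by
  have := r.cj k
  rw [h.fixZ hk (mem_zpowers y), cj_eq_of_mem_normalizer (h.HU hk), cj_eq_of_mem hk,
    cj_eq_of_mem_normalizer (h.nT hk)] at this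
  exact ⟨this, by rw [cj_sup, cj_We, cj_eq_of_mem_normalizer (h.HU hk), cj_eq_of_mem_normalizer (h.HZ hk)],
    by rw [cj_Ce, cj_eq_of_mem_normalizer (h.HU hk)]⟩

/-- elements commuting with a transvection -/
theorem cab (r : Tr y U H T e t c) (hk : k ∈ H) (h1 : k * t * k⁻¹ = t) (hb : b ∈ We U e ⊔ zpowers y) :
    ⁅k, b⁆ ∈ Lp c y := by
  obtain ⟨r', e1, -⟩ := h.cj_tr r hk
  have cU := h.cU r.toQd
  have bU := h.WZ_le (eH r.toIn) hb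
  have m : c * (k * c * k⁻¹) ∈ zpowers y := (h.mem_yc cU (by
    rw [← h.t_d r'.toQd, h1]; exact r.tv _ (h.We_le (eH r'.toIn) (h.dW r'.toQd)))).resolve_left (h.c_nZ r'.toQd)
  have e2 := (h.eq_of_mem r r' ((mul_mem_cancel_left (mem_sup_left r.cW)).1 (mem_sup_right m)) (mem_sup_left r'.cW)
    (h.c_nZ r'.toQd)).1
  have m2 : k * b * k⁻¹ ∈ We U e ⊔ zpowers y := by rw [← e2, ← e1]; exact conj_mem_cj k hb
  refine h.fixWZ r.toQd (mul_mem m2 (inv_mem hb)) ?_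
  rw [commutatorElement_def k, h.comm_mul r.tH (h.conjU hk bU) (inv_mem bU), h.inv bU,
    show ⁅t, k * b * k⁻¹⁆ = k * ⁅t, b⁆ * k⁻¹ by rw [conj_comm, h1]]
  have f : ∀ {u}, u ∈ zpowers y → k * u * k⁻¹ * u ∈ zpowers y := fun hu => by
    rw [h.fixZ hk hu]; exact mul_mem hu hu
  rcases h.mem_yc cU (r.tv b bU) with j | j
  · exact f j
  have := mul_mem m (f j)
  generalize ⁅t, b⁆ = x at this j ⊢
  have xU : x ∈ U := (mul_mem_cancel_left cU).1 (h.ZU j)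
  rwa [show c * (k * c * k⁻¹) * (k * (c * x) * k⁻¹ * (c * x)) = c * (k * (c * c) * k⁻¹ * (k * x * k⁻¹)) * (c * x) by group,
    h.sq cU, mul_one, mul_inv_cancel, one_mul, h.cm cU (h.conjU hk xU), mul_assoc, ← mul_assoc c, h.sq cU, one_mul] at this

end Mo

namespace Ge
open _root_.H118.Ge
variable (h : Ge S V z) {l m : Subgroup G} {x y p q r g a b e e' c i s u w p' q' : G} {n : ℕ}
include h

theorem nz (E : Ed V p q) : q ∉ zpowers p := fun k => (mem_two (h.pp E.col) k).elim E.col.2.1 E.ne.symm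

theorem ln_Lp (E : Ed V p q) : Ln V (Lp p q) := by
  obtain ⟨p1, -, l, hl, hp, hq⟩ := E.col
  rwa [le_antisymm (Lp_le hp hq) (h.ln_le hl hp p1 hq (h.nz E) Lp_left Lp_right)]

theorem Lp_cases (E : Ed V p q) (hx : x ∈ Lp p q) : x = 1 ∨ x = p ∨ x = q ∨ x = p * q :=
  h.ln_cases (h.ln_Lp E) Lp_left E.col.1 Lp_right (h.nz E) hx

theorem ed_of (E : Ed V p q) (hx : x ∈ Lp p q) (hx' : x ∉ zpowers p) : Ed V p x :=
  ⟨⟨E.col.1, fun k => hx' (k ▸ one_mem _), _, h.ln_Lp E, Lp_left, hx⟩, fun k => hx' (k ▸ mem_zpowers _)⟩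

theorem ed_mul (E : Ed V p q) : Ed V p (p * q) :=
  h.ed_of E (mul_mem Lp_left Lp_right) fun k => h.nz E ((mul_mem_cancel_left (mem_zpowers p)).1 k)

theorem ed_cm (E : Ed V p q) : p * q = q * p := (h.ln_four (h.ln_Lp E)).le_c Lp_right p Lp_left

theorem swap' (E : Ed V p q) : ∃ τ ∈ Tp V p, ⁅τ, q⁆ = p := h.swap (h.ln_Lp E) Lp_left E.col.1 Lp_right (h.nz E)

theorem trans3 (E : Ed V p q) (E' : Ed V p' q') : ∃ g, g * p * g⁻¹ = p' ∧ g * q * g⁻¹ = q' := by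
  obtain ⟨g, e1, e2⟩ := h.trans2 (h.ln_Lp E) Lp_left E.col.1 (h.ln_Lp E') Lp_left E'.col.1
  have E2 := E.conj g
  rw [e2] at E2
  rcases h.Lp_cases E' (e1 ▸ conj_mem_cj g Lp_right) with k | k | k | k
  · exact absurd k E2.col.2.1
  · exact absurd k.symm E2.ne
  · exact ⟨g, e2, k⟩
  obtain ⟨τ, hτ, e3⟩ := h.swap' (h.ed_mul E')
  refine ⟨τ * g, ?_, ?_⟩
  · rw [show τ * g * p * (τ * g)⁻¹ = τ * (g * p * g⁻¹) * τ⁻¹ by group, e2, conj_eq_of_mem_c (Tp_le_c hτ)]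
  · rw [show τ * g * q * (τ * g)⁻¹ = τ * (g * q * g⁻¹) * τ⁻¹ by group, k, conj_eq_comm, e3, ← mul_assoc, h.pp E'.col,
      one_mul]

theorem pu_bot (P : Pu V n x y) (hi : i ∈ Up V x) (hi' : i ∈ zpowers y) : i = 1 :=
  (mem_two (h.pp P.nr.right) hi').resolve_right fun k => P.yA (k ▸ hi)

theorem pu_one (P : Pu V n x y) (hs : s ∈ Up V x) (hu : u ∈ Up V y) (k : ⁅s, u⁆ ∈ zpowers y) : ⁅s, u⁆ = 1 :=
  h.pu_bot P (P.memA hs hu) k

theorem pu_T (P : Pu V n x y) (hs : s ∈ Up V x) : s ∈ Tp V y ↔ s ∈ 𝐂 (Up V y) :=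
  ⟨fun k => comm_iff.2 fun u hu => h.pu_one P hs hu ((mem_Tp.1 k).2 u hu), fun k => c_le_Tp P.nr.right k⟩

theorem d2 (P : Pu V n x y) (i : Iv V y e a) (ha : a ∈ Up V x) (hs : s ∈ Up V x) (k : ⁅s, e⁆ ∈ Tp V y)
    (hw : w ∈ Wy V y e) : ⁅s, w⁆ = 1 := by
  have M := h.mo P.nr.right
  have eH := Mo.eH i
  obtain ⟨v, hv, z, hz, rfl⟩ := M.mem_WZ eH hw
  rw [M.comm_mul (P.fix hs) (M.We_le eH hv) (M.ZU hz), M.commZ (P.fix hs) hz, mul_one]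
  refine h.pu_one P hs (M.We_le eH hv) (M.quad i (P.fix hs) k (fun w hw => ?_) hv)
  rw [comm_iff.1 (h.Up_ab P.nr.left hs) _ (P.memA ha (M.We_le eH hw))]
  exact one_mem _

theorem half (P : Pu V n x y) (ha : a ∈ Up V x) (ha' : a ∉ 𝐂 (Up V y)) :
    ∃ e b c, Qd (Up V y) (𝐂 (zpowers y)) (Tp V y) e a c ∧ b ∈ We (Up V y) e ∧ ⁅a, b⁆ = c ∧
      (∀ s ∈ Up V x, ⁅s, e⁆ ∈ Tp V y ∨ ⁅s * a, e⁆ ∈ Tp V y) ∧ ∀ s ∈ Up V x, ⁅b, s⁆ ∈ zpowers c := by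
  have M := h.mo P.nr.right
  have M' := h.mo P.nr.left
  obtain ⟨e, i, d1⟩ := dl M.TH M.nT M.sol M.red P.fix M'.ea ha fun k => ha' ((h.pu_T P ha).1 k)
  have W := M.We_le (Mo.eH i)
  obtain ⟨b, hb, b1⟩ := M.exists_comm i
  have d : ∀ s ∈ Up V x, (∀ w ∈ We (Up V y) e, ⁅s, w⁆ = 1) ∨ ∀ w ∈ We (Up V y) e, ⁅s * a, w⁆ = 1 := fun s hs =>
    (d1 s hs).imp (fun k w hw => h.d2 P i ha hs k (mem_sup_left hw))
      fun k w hw => h.d2 P i ha (mul_mem hs ha) k (mem_sup_left hw)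
  have two := M'.nov (W.trans P.symm.fix) (elemAb_mono M.ea W) d
  have t1 : ∀ w ∈ Up V y, w ∈ Tp V x → ⁅a, w⁆ = 1 := fun w hw k =>
    comm_one_symm (comm_iff.1 ((h.pu_T P.symm hw).1 k) a ha)
  refine ⟨e, b, _, ⟨i, M.commW i hb, b1, fun w hw => ?_⟩, hb, rfl, d1, fun s hs => ?_⟩
  · by_cases k : w ∈ Tp V x
    · rw [t1 w (W hw) k]; exact one_mem _
    have := t1 _ (mul_mem (W hb) (W hw)) (two b hb w hw (fun j => b1 (t1 b (W hb) j)) k)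
    rw [M.comm_mul i.tH (W hb) (W hw)] at this
    rw [eq_inv_of_mul_eq_one_right this]; exact inv_mem (mem_zpowers _)
  rcases d s hs with k | k
  · rw [comm_one_symm (k b hb)]; exact one_mem _
  have := comm_one_symm (k b hb)
  rw [M'.comm_mul (P.symm.fix (W hb)) hs ha] at this
  rw [eq_inv_of_mul_eq_one_left this, commutatorElement_inv]; exact mem_zpowers _

theorem exists_pr (P : Pu V n x y) : ∃ a b e e' c, Pr V n x y a b e e' c := by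
  have M := h.mo P.nr.right
  have M' := h.mo P.nr.left
  obtain ⟨a0, h0, h0'⟩ := SetLike.not_le_iff_exists.1 P.nc
  obtain ⟨e0, b, c, q0, hb, ab0, -, l0⟩ := h.half P h0 h0'
  have bB := M.We_le (Mo.eH q0.toIn) hb
  have cc := M.sq (M.cU q0)
  obtain ⟨e', a, c', q', ha, ba, d', l'⟩ := h.half P.symm bB fun k => q0.c1 (ab0 ▸ comm_one_symm (comm_iff.1 k a0 h0))
  have aA := M'.We_le (Mo.eH q'.toIn) ha
  obtain rfl : c' = c := (mem_two cc (ba ▸ l0 a aA)).resolve_left q'.c1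
  obtain ⟨e, b2, c2, q2, hb2, ab2, d, -⟩ := h.half P aA fun k => q'.c1 (ba ▸ comm_one_symm (comm_iff.1 k b bB))
  obtain rfl : c2 = c' := (mem_two cc (ab2 ▸ l' b2 (M.We_le (Mo.eH q2.toIn) hb2))).resolve_left q2.c1
  have r : Tv V y e a c2 := ⟨q2, fun u hu => mem_sup_left (l' u hu)⟩
  refine ⟨a, b, e, e', c2, P, ⟨aA, ?_, r, ?_, d⟩, ⟨bB, mem_sup_left ha, ⟨q', fun u hu => mem_sup_left (l0 u hu)⟩, ba, d'⟩⟩
  · exact (M.dich1 r q0).elim (fun k => k hb) fun k => absurd (M.disj (Mo.eH q0.toIn) q0.od q0.cW (k q2.cW)) q0.c1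
  · rw [← commutatorElement_inv, ba, inv_eq_of_mul_eq_one_right cc]

section pr
variable (P : Pr V n x y a b e e' c)
include P

omit h in
theorem aA : a ∈ Up V x := P.f.aA
omit h in
theorem bB : b ∈ Up V y := P.f'.aA
omit h in
theorem cA : c ∈ Up V x := P.f.ab ▸ P.memA P.f.aA P.f'.aA

theorem sol0 (h1 : i ∈ Up V x) (h2 : i ∈ Up V y) (h3 : e * i * e⁻¹ = i) (h4 : e' * i * e'⁻¹ = i) : i = 1 := by
  by_contra i1
  have M := h.mo P.nr.right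
  have M' := h.mo P.nr.left
  have key : ∀ {x y a b e e'}, Pr V n x y a b e e' c → i ∈ Up V y → e * i * e⁻¹ = i → ∀ N, 𝐂 (zpowers i) ≤ 𝐍 N →
      (∃ a' ∈ N, a' * a ∈ Tp V y) → ∃ b' ∈ ⁅N, N⁆, b' * b ∈ Tp V x := fun {x y a b e e'} P h2 h3 N hn ⟨a', k1, k2⟩ => by
    have M := h.mo P.nr.right
    obtain ⟨w, hw, z, hz, rfl⟩ := M.mem_WZ (Mo.eH P.f.tr.toIn) P.f.bW
    obtain ⟨w', j1, j2, j3⟩ := M.cover P.f.tr.toIn hn (M.Uc.trans (centralizer_anti (zpowers_le.2 h2)))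
      (mem_c_of_conj_eq h3) k1 k2 hw
    refine ⟨w', j1, c_le_Tp P.nr.left (le_centralizer_iff.1 P.fix ?_)⟩
    rw [← mul_assoc, M.cm j2 (M.We_le (Mo.eH P.f.tr.toIn) hw)]
    exact mul_mem j3 hz
  obtain ⟨a', k1, k2⟩ := sol_ind (h.sol_c (M.sq h2) i1) (fun N => ∃ a' ∈ N, a' * a ∈ Tp V y)
    ⟨a, M'.Uc.trans (centralizer_anti (zpowers_le.2 h1)) P.f.aA, M'.sq P.f.aA ▸ one_mem _⟩ fun N _ hn k => by
      obtain ⟨b', j1, j2⟩ := key P h2 h3 N hn k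
      exact key P.symm h1 h4 N hn ⟨b', commutator_le_of_le_normalizer le_normalizer j1, j2⟩
  rw [mem_bot.1 k1, one_mul] at k2
  exact P.f.tr.toIn.t_nT (M.nT (Mo.eH P.f.tr.toIn)) k2

theorem comm_Ce (hs : s ∈ Up V x) (k : ⁅s, e⁆ ∈ Tp V y) (hu : u ∈ Up V y) : e * ⁅s, u⁆ * e⁻¹ = ⁅s, u⁆ := by
  have M := h.mo P.nr.right
  have i := P.f.tr.toIn
  obtain ⟨w, hw, γ, hγ, rfl⟩ := M.split (Mo.eH i) i.od hu
  rw [M.comm_mul (P.fix hs) (M.We_le (Mo.eH i) hw) hγ.1, h.d2 P.toPu i P.f.aA hs k (mem_sup_left hw), one_mul]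
  exact (mem_Ce.1 (mul_mem (conj_mem_of_mem_normalizer (M.n_Ce (Mo.eH i) i.od (P.fix hs) (Mo.conj_mem_of_comm k)) hγ)
    (inv_mem hγ))).2

theorem two (hs : s ∈ Up V x) : s ∈ 𝐂 (Up V y) ∨ s * a ∈ 𝐂 (Up V y) := by
  have M := h.mo P.nr.right
  have key : ∀ s ∈ Up V x, ⁅s, e⁆ ∈ Tp V y → s ∈ 𝐂 (Up V y) := fun s hs k => comm_iff.2 fun u hu => by
    have f : ∀ u ∈ Up V y, ⁅u, e'⁆ ∈ Tp V x → ⁅s, u⁆ = 1 := fun u hu k' =>
      h.sol0 P (P.memA hs hu) (P.memB hs hu) (h.comm_Ce P hs k hu) (by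
        rw [← commutatorElement_inv, ← conj_inv, h.comm_Ce P.symm hu k' hs])
    rcases P.f'.d1 u hu with k' | k'
    · exact f u hu k'
    have := f _ (mul_mem hu P.f'.aA) k'
    rwa [M.comm_mul (P.fix hs) hu P.f'.aA, h.d2 P.toPu P.f.tr.toIn P.f.aA hs k P.f.bW, mul_one] at this
  exact (P.f.d1 s hs).imp (key s hs) (key _ (mul_mem hs P.f.aA))

theorem comm_a (hs : s ∈ Up V x) (hs' : s ∉ 𝐂 (Up V y)) (hu : u ∈ Up V y) : ⁅s, u⁆ = ⁅a, u⁆ := by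
  have k := comm_one_symm (comm_iff.1 ((h.two P hs).resolve_left hs') u hu)
  have M' := h.mo P.nr.left
  rw [M'.comm_mul (P.symm.fix hu) hs P.f.aA] at k
  rw [← commutatorElement_inv, eq_inv_of_mul_eq_one_left k, inv_inv, ← commutatorElement_inv,
    M'.inv (P.memA P.f.aA hu)]

theorem comm_eq (hs : s ∈ Up V x) (hs' : s ∉ 𝐂 (Up V y)) (hu : u ∈ Up V y) (hu' : u ∉ 𝐂 (Up V x)) : ⁅s, u⁆ = c := by
  rw [h.comm_a P hs hs' hu, ← commutatorElement_inv, h.comm_a P.symm hu hu' P.f.aA, commutatorElement_inv, P.f.ab]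

theorem comm_c (hs : s ∈ Up V x) (hu : u ∈ Up V y) : ⁅s, u⁆ ∈ zpowers c := by
  by_cases k : s ∈ 𝐂 (Up V y)
  · rw [comm_iff.1 k u hu]; exact one_mem _
  by_cases k' : u ∈ 𝐂 (Up V x)
  · rw [comm_one_symm (comm_iff.1 k' s hs)]; exact one_mem _
  rw [h.comm_eq P hs k hu k']; exact mem_zpowers c

theorem p_nC (h1 : Near V (n + 1) x p) : p ∉ Ce (Up V y) e := fun k =>
  h.nc P.cm P.f.tr.toIn P.f.aA le_rfl h1 (mem_Ce.1 k).2

theorem ncp (h1 : Near V (n + 1) x p) (h2 : Col V p y) : c * p ∈ Ce (Up V y) e :=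
  (((h.mo P.nr.right).axis P.f.tr h2.symm.mem).1 (by
    rw [comm_iff.1 (P.cm _ _ h1 P.f.aA) p h2.left.mem]; exact one_mem _)).resolve_left (h.p_nC P h1)

theorem sol4a (h1 : Near V (n + 1) x p) (h2 : Col V p y) (hi : i ∈ Up V p) (hi' : i ∈ Ce (Up V y) e) :
    i ∈ Lp p y := by
  by_contra il
  have M := h.mo P.nr.right
  have E := P.ed h1 h2
  have r := P.f.tr
  have eH := Mo.eH r.toIn
  have aC : a ∈ 𝐂 (Up V p) := P.cm _ _ h1 P.f.aA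
  have pB := h2.symm.mem
  have hl := h.ln_Lp E
  have iJ := h.mem_Jl_of hl Lp_left E.col.1 Lp_right (h.nz E) hi hi'.1
  have cx : ∀ {s u : G}, ⁅s, u⁆ = 1 → s ∈ 𝐂 (zpowers u) := fun k => mem_c_of_conj_eq (conj_eq_of_comm k)
  obtain ⟨τ1, a1, a2, a3⟩ := h.j3 hl iJ il Lp_left E.col.1 Lp_right (h.nz E)
  obtain ⟨τ2, b1, b2, b3⟩ := h.j3 hl iJ il Lp_right E.col.2.1 Lp_left (h.nz E.symm)
  have pp := h.pp E.col
  have yy := h.pp E.col.symm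
  have py := h.ed_cm E
  obtain ⟨k, k1, k2, -⟩ := sol_ind (h.sol_c (M.sq hi'.1) fun j => il (j ▸ one_mem _))
    (fun N => ∃ k ∈ N, k * p * k⁻¹ = y ∧ k * y * k⁻¹ = p * y)
    ⟨τ1 * τ2, mul_mem (cx a2) (cx b2), by
      rw [show τ1 * τ2 * p * (τ1 * τ2)⁻¹ = τ1 * (τ2 * p * τ2⁻¹) * τ1⁻¹ by group, conj_eq_comm τ2, b3, ← conj_mul,
        conj_eq_comm τ1 y, a3, conj_eq_of_mem_c (Tp_le_c a1), py, mul_assoc, pp, mul_one], by
      rw [show τ1 * τ2 * y * (τ1 * τ2)⁻¹ = τ1 * (τ2 * y * τ2⁻¹) * τ1⁻¹ by group, conj_eq_of_mem_c (Tp_le_c b1),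
        conj_eq_comm, a3]⟩
    fun N _ hn ⟨k, k1, k2, k3⟩ => by
      have cN : ∀ {s u : G}, s ∈ 𝐂 (zpowers i) → u ∈ N → ⁅s, u⁆ ∈ N := fun hs hu =>
        mul_mem (conj_mem_of_mem_normalizer (hn hs) hu) (inv_mem hu)
      have aN := cN (centralizer_anti (zpowers_le.2 hi) aC) k1
      have m : k * a⁻¹ * k⁻¹ ∈ 𝐂 (Up V y) := by
        rw [← k2, ← cj_Up, ← cj_centralizer]; exact conj_mem_cj k (inv_mem aC)
      have aT : ⁅a, k⁆ * a ∈ Tp V y := by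
        rw [show ⁅a, k⁆ * a = a * (k * a⁻¹ * k⁻¹) * a⁻¹ * (a * a) by group, r.tt, mul_one]
        exact conj_mem_of_mem_normalizer (M.nT r.tH) (c_le_Tp P.nr.right m)
      have f1 := M.fact r.toIn aT
      have f2 := M.mem_fact r.toIn aT
      have fN : ⁅⁅a, k⁆, e⁆ ∈ N := by
        rw [← commutatorElement_inv]; exact inv_mem (cN (mem_c_of_conj_eq (mem_Ce.1 hi').2) aN)
      generalize ⁅⁅a, k⁆, e⁆ = f at f1 f2 fN
      have fm : f⁻¹ ∈ zpowers e ⊔ Tp V y := inv_mem ((mul_mem_cancel_right (mem_sup_left (mul_mem (mem_zpowers e)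
        (mem_zpowers e)))).1 (mem_sup_right f1))
      have fH : f⁻¹ ∈ 𝐂 (zpowers y) := sup_le (zpowers_le.2 eH) M.TH fm
      have uB := M.commU fH pB
      have uC : ⁅f⁻¹, p⁆ ∉ Ce (Up V y) e := fun j => h.p_nC P h1 (M.fix eH r.od pB ((sup_le (b := Tp V y)
        (c := commStab {p} (zpowers y)) (zpowers_le.2 (inv_mem_iff.1 ⟨M.HZ fH, fun s hs => hs ▸ M.WZ_inf eH r.od
          (M.WZ_mono eH fm (mem_sup_left (comm_mem_We pB))) j⟩))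
        (fun s hs => ⟨M.HZ (M.TH hs), fun u hu => hu ▸ M.Tc hs pB⟩) f2).2 p rfl))
      obtain ⟨σ, s1, s2, s3⟩ := M.indep r.toIn uB hi'.1 (fun j => uC ((mul_mem_cancel_right hi').1 j))
        (M.exists_T r.toIn uB uC)
      have tN := cN (cx s3) fN
      have fH' := inv_mem_iff.1 fH
      have tT : ⁅σ, f⁆ ∈ Tp V y := by
        rw [show ⁅σ, f⁆ = σ * (f * σ⁻¹ * f⁻¹) by group]
        exact mul_mem s1 (conj_mem_of_mem_normalizer (M.nT fH') (inv_mem s1))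
      have tp : ⁅σ, f⁆ * p * ⁅σ, f⁆⁻¹ = y * p := by
        have g1 : ∀ u ∈ Up V y, σ⁻¹ * u * σ = ⁅σ, u⁆ * u := fun u hu => by
          rw [show σ⁻¹ * u * σ = (σ⁻¹ * ⁅σ, u⁆ * σ⁻¹⁻¹)⁻¹ * u by group, M.fixZ (inv_mem (M.TH s1)) (M.Tc s1 hu),
            M.inv (M.ZU (M.Tc s1 hu))]
        have g2 := mul_mem (mem_zpowers y) (M.Tc s1 pB)
        rw [show ⁅σ, f⁆ * p * ⁅σ, f⁆⁻¹ = σ * (f * (σ⁻¹ * (⁅f⁻¹, p⁆ * p) * σ) * f⁻¹) * σ⁻¹ by group,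
          g1 _ (mul_mem uB pB), M.comm_mul (M.TH s1) uB pB, s2,
          show σ * (f * (y * ⁅σ, p⁆ * (⁅f⁻¹, p⁆ * p)) * f⁻¹) * σ⁻¹ =
            σ * (f * (y * ⁅σ, p⁆) * f⁻¹) * σ⁻¹ * (⁅σ, p⁆ * p) by group, M.fixZ fH' g2, M.fixZ (M.TH s1) g2,
          mul_assoc, ← mul_assoc ⁅σ, p⁆, M.sq (M.ZU (M.Tc s1 pB)), one_mul]
      have ty := conj_eq_of_mem_c (Tp_le_c tT)
      generalize ⁅σ, f⁆ = τ at tN tp ty
      have i1 : k⁻¹ * y * k = p := by rw [← k2]; group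
      have i2 : k⁻¹ * p * k = y * p := by
        rw [← mul_left_inj (k⁻¹ * y * k), show k⁻¹ * p * k * (k⁻¹ * y * k) = k⁻¹ * (p * y) * k by group, ← k3, i1,
          mul_assoc y, pp]; group
      have i3 : τ⁻¹ * y * τ = y := by conv_lhs => rw [← ty]
                                      group
      have i4 : τ⁻¹ * (y * p) * τ = p := by rw [← tp]; group
      have i5 : τ⁻¹ * p * τ = y * p := by
        rw [← mul_right_inj (τ⁻¹ * y * τ), show τ⁻¹ * y * τ * (τ⁻¹ * p * τ) = τ⁻¹ * (y * p) * τ by group, i4, i3,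
          ← mul_assoc, yy, one_mul]
      refine ⟨_, commutator_mem_commutator tN k1, ?_, ?_⟩
      · rw [show ⁅τ, k⁆ * p * ⁅τ, k⁆⁻¹ = τ * (k * (τ⁻¹ * (k⁻¹ * p * k) * τ) * k⁻¹) * τ⁻¹ by group, i2, i4, k2, ty]
      · rw [show ⁅τ, k⁆ * y * ⁅τ, k⁆⁻¹ = τ * (k * (τ⁻¹ * (k⁻¹ * y * k) * τ) * k⁻¹) * τ⁻¹ by group, i1, i5,
          show k * (y * p) * k⁻¹ = k * y * k⁻¹ * (k * p * k⁻¹) by group, k2, k3, mul_assoc p, yy, mul_one, tp, py]
  rw [mem_bot.1 k1] at k2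
  exact E.ne (by simpa using k2)

/-- `J(m) = m` for all lines -/
theorem sol4 (E : Ed V p' q') (h1 : i ∈ Up V p') (h2 : i ∈ Up V q') : i ∈ Lp p' q' := by
  obtain ⟨p, a1, a2⟩ := P.nr.last
  obtain ⟨g, rfl, rfl⟩ := h.trans3 (P.ed a1 a2) E
  rw [← cj_Up, mem_cj] at h1 h2
  rw [← cj_Lp, mem_cj]
  have M := h.mo P.nr.right
  rcases (M.axis P.f.tr h2).1 (by rw [comm_iff.1 (P.cm _ _ a1 P.f.aA) _ h1]; exact one_mem _) with k | k
  · exact h.sol4a P a1 a2 h1 k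
  refine (mul_mem_cancel_left Lp_left).1 (h.sol4a P a1 a2 (mul_mem a2.left.mem h1) ?_)
  have := mul_mem (inv_mem (h.ncp P a1 a2)) k
  rwa [mul_inv_rev, mul_assoc, inv_mul_cancel_left, M.inv a2.symm.mem] at this

end pr

end Ge

end H118

end H226
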