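import Cfsg.Agent.H26.T2.H18FE7
/-! Critical pairs at distance two do not occur. -/
set_option autoImplicit false
namespace H118 end H118 namespace H118.Ge end H118.Ge namespace H118.Mo end H118.Mo namespace H226 end H226 namespace H26 end H26 namespace H4 end H4
open H226
namespace H226
namespace H118
open _root_.H118
open Cfsg Subgroup H26 _root_.H26 H4 _root_.H4
open scoped Pointwise commutatorElement

variable {G : Type*} [Group G]

/-- generated by the components belonging to the flags on `m` -/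
def Om (V m : Subgroup G) : Subgroup G :=
  sSup {X | ∃ q ∈ m, ∃ s ∈ m, ∃ e t, q ≠ 1 ∧ Tv V q e t s ∧ X = We (Up V q) e}

theorem le_Om {V m : Subgroup G} {q s e t : G} (hq : q ∈ m) (hs : s ∈ m) (q1 : q ≠ 1) (r : Tv V q e t s) :
    We (Up V q) e ≤ Om V m := le_sSup ⟨q, hq, s, hs, e, t, q1, r, rfl⟩

theorem cj_Om_le (V m : Subgroup G) (g : G) : cj g (Om V m) ≤ Om V (cj g m) :=
  cj_le_iff.2 (sSup_le fun _ ⟨q, a, s, b, e, t, c, r, k⟩ => cj_le_iff.1 (by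
    rw [k, cj_We, cj_Up]; exact le_Om (conj_mem_cj g a) (conj_mem_cj g b) (conj_ne_one g c) (r.conj g)))

variable [Finite G] {S V : Subgroup G} {z : G}

namespace Mo
open _root_.H118.Mo
variable {U H T : Subgroup G} {y e t c u v : G} (h : Mo y U H T)
include h

theorem d_nL (q : Qd U H T e t c) : e * c * e⁻¹ ∉ Lp c y := fun k => q.c1 (by
  have : Lp c y ≤ 𝐂 (zpowers t) := Lp_le (mem_c_of_conj_eq (conj_eq_of_comm (comm_one_symm (h.t_c q))))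
    (mem_c_of_conj_eq (conj_eq_of_comm (comm_one_symm (h.commZ q.tH (mem_zpowers y)))))
  rw [← h.t_d q]; exact comm_one_symm (comm_eq_one_of_conj (conj_eq_of_mem_c (this k))))

theorem mv (r : Tr y U H T e t c) (hu : u ∈ We U e ⊔ zpowers y) (hu' : u ∉ Lp c y) (hv : v ∈ We U e ⊔ zpowers y)
    (hv' : v ∉ Lp c y) : ∃ g ∈ H, g * c * g⁻¹ = c ∧ g * u * g⁻¹ = v := by
  have eH := eH r.toIn
  have dW := h.dW r.toQd
  have dU := h.We_le eH dW
  have cU := h.cU r.toQd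
  obtain ⟨τ, hτ, t1, t2⟩ := h.indep r.toIn dU cU (fun k => h.ne_conj eH r.od r.cW r.c1 (by
    rw [eq_inv_of_mul_eq_one_left (h.disj eH r.od (mul_mem dW r.cW) k), h.inv cU]))
    (h.exists_T r.toIn dU fun k => conj_ne_one e r.c1 (h.disj eH r.od dW k))
  have a1 := conj_eq_of_comm t2
  have a2 := conj_eq_of_comm (h.t_c r.toQd)
  have a3 : τ * (e * c * e⁻¹) * τ⁻¹ = e * c * e⁻¹ * y := by rw [conj_eq_comm, t1, h.cm h.yU dU]
  have a4 : t * (e * c * e⁻¹) * t⁻¹ = c * (e * c * e⁻¹) := by rw [conj_eq_comm, h.t_d r.toQd]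
  have key : ∀ u ∈ We U e ⊔ zpowers y, u ∉ Lp c y → ∃ g ∈ H, g * c * g⁻¹ = c ∧ g * (e * c * e⁻¹) * g⁻¹ = u := by
    intro u hu hu'
    obtain ⟨w, hw, z, hz, rfl⟩ := h.mem_WZ eH hu
    rcases h.qcases r.toQd hw with k | k | k | k <;> rw [k] at hu' ⊢
    · exact absurd (mul_mem (one_mem _) (mem_sup_right hz)) hu'
    · exact absurd (mul_mem Lp_left (mem_sup_right hz)) hu'
    all_goals rcases mem_two (h.sq h.yU) hz with j | j <;> rw [j]
    · exact ⟨1, one_mem _, by group, by group⟩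
    · exact ⟨τ, h.TH hτ, a1, a3⟩
    · exact ⟨t, r.tH, a2, by rw [a4, mul_one]⟩
    · exact ⟨t * τ, mul_mem r.tH (h.TH hτ), by rw [show t * τ * c * (t * τ)⁻¹ = t * (τ * c * τ⁻¹) * t⁻¹ by group, a1, a2],
        by rw [show t * τ * (e * c * e⁻¹) * (t * τ)⁻¹ = t * (τ * (e * c * e⁻¹) * τ⁻¹) * t⁻¹ by group, a3, ← conj_mul, a4,
          h.fixZ r.tH (mem_zpowers y)]⟩
  obtain ⟨g, hg, b1, b2⟩ := key u hu hu'
  obtain ⟨k, hk, c1, c2⟩ := key v hv hv'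
  refine ⟨k * g⁻¹, mul_mem hk (inv_mem hg), ?_, by rw [← b2, ← c2]; group⟩
  conv_lhs => rw [← b1]
  conv_rhs => rw [← c1]
  group

end Mo

namespace Ge
open _root_.H118.Ge
variable (h : Ge S V z) {x y p q a b e e' c s t u v w x0 x' e0 t0 e1 t1 e2 t2 : G} {n : ℕ}
include h

theorem off_axis (P : Pr V n x y a b e e' c) (r : Tv V y e1 t c) (hu : u ∈ Up V y) (k : ⁅t, u⁆ ∉ zpowers y) :
    u ∉ 𝐂 (Up V x) := fun j => k (((h.mo P.nr.right).axis_iff P.f.tr r ((h.Up_sq P.nr.left (cA P)) ▸ one_mem _) hu).1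
      (by rw [comm_one_symm (comm_iff.1 j a P.f.aA)]; exact one_mem _))

theorem c_eq (P : Pr V 0 x y a b e e' c) (h1 : Col V x p) (h2 : Col V p y) : c = p := by
  have k1 := mem_Ce.1 (h.ncp P h1.near h2)
  have k2 := mem_Ce.1 (h.ncp P.symm h2.symm.near h1.symm)
  rw [eq_inv_of_mul_eq_one_left (h.sol0 P k2.1 k1.1 k1.2 k2.2), inv_eq_of_mul_eq_one_right (h.pp h2)]

omit h in
theorem cr0 (c1 : Cm V 1) (h1 : Col V x p) (h2 : Col V p y) (k : ¬ Up V x ≤ 𝐂 (Up V y)) : Cr V 0 x y :=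
  ⟨c1, h1.near.trans h2.near, k⟩

theorem pr0 (P : Cr V 0 x y) (h1 : Col V x p) (h2 : Col V p y) : ∃ a b e e', Pr V 0 x y a b e e' p := by
  obtain ⟨a, b, e, e', c, Q⟩ := h.pure P
  exact ⟨a, b, e, e', h.c_eq Q h1 h2 ▸ Q⟩

theorem comm_le (c1 : Cm V 1) (h1 : Col V x p) (h2 : Col V p y) (hs : s ∈ Up V x) (hu : u ∈ Up V y) :
    ⁅s, u⁆ ∈ zpowers p := by
  by_cases k : Up V x ≤ 𝐂 (Up V y)
  · rw [comm_iff.1 (k hs) u hu]; exact one_mem _
  obtain ⟨a, b, e, e', P⟩ := h.pr0 (cr0 c1 h1 h2 k) h1 h2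
  exact h.comm_c P hs hu

theorem same_eq (r : Tv V p e0 t0 x) (r' : Tv V p e1 t1 q) (hp : Col V p p) (hq : q ∈ Wy V p e0) :
    Wy V p e1 = Wy V p e0 := ((h.mo hp).eq_of_mem r r' hq (mem_sup_left r'.cW) ((h.mo hp).c_nZ r'.toQd)).1

theorem pc1 (P : Cr V 0 x y) (h1 : Col V x p) (h2 : Col V p y) (r0 : Tv V p e0 t0 x) : y ∉ Wy V p e0 := fun hy => by
  have E : Ed V p x := P.symm.ed h2.symm.near h1.symm
  have c1 := P.cm
  obtain ⟨a, b, e, e', P'⟩ := h.pr0 P h1 h2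
  have r := P'.f'.tr
  have M := h.mo h1
  have eH := Mo.eH r.toIn
  have Q : Cr V 0 p (e' * p * e'⁻¹) := by
    obtain ⟨g, g1, g2⟩ := h.trans3 E E.symm
    have r1 := r0.conj g
    have m := conj_mem_cj g hy
    rw [cj_Wy, g1] at m
    rw [g1, g2] at r1
    obtain ⟨k, -, k1, k2⟩ := M.mv r ((h.same_eq r r1 h1.left (mem_sup_left r.cW)).le m) (fun j => by
      rw [show Lp p x = cj g (Lp x p) by rw [cj_Lp, g1, g2], conj_mem_cj_iff] at j
      exact P.nc (c1 _ _ (Col.near ⟨h1.1, h2.2.1, _, h.ln_Lp E.symm, Lp_left, j⟩))) (mem_sup_left (M.dW r.toQd))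
      (M.d_nL r.toQd)
    have := (P.conj g).conj k
    rwa [g2, k1, k2] at this
  have cw : Col V x (e' * p * e'⁻¹) := by have := h1.cj e'; rwa [conj_eq_of_mem_c eH] at this
  have Q2 := Q.conj e'
  rw [M.cyc eH r.od r.cW r.c1 (M.four r.toQd)] at Q2
  have bw : b * (e' * p * e'⁻¹) * b⁻¹ = p * (e' * p * e'⁻¹) := by rw [conj_eq_comm, M.t_d r.toQd]
  generalize e' * p * e'⁻¹ = w at Q cw Q2 bw
  have bx := conj_eq_of_mem_c r.tH
  have cw2 := cw.cj b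
  rw [bx, bw] at cw2
  obtain ⟨v, t, e1, e1', P1⟩ := h.pr0 Q.symm cw.symm h1
  obtain ⟨a2, b2, e2, e2', P2⟩ := h.pr0 Q2 cw.symm cw2
  have vU := P1.f.aA
  have vU' := conj_mem_Up vU b
  have r2 := P1.f'.tr.conj b
  rw [bw] at vU' r2
  rw [bx] at r2
  have k := h.comm_eq P2 vU (h.off_axis P2.symm P1.f'.tr vU (P1.f'.ab.symm ▸ (h.mo cw.symm).c_nZ P1.f'.tr.toQd)) vU'
    (h.off_axis P2 r2 vU' (by rw [← conj_comm, P1.f'.ab, bx]; exact (h.mo cw2.symm).c_nZ r2.toQd))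
  have cy := h2.cj v
  rw [conj_eq_of_mem_c (P1.fix vU)] at cy
  have k2 := h.comm_le c1 cy.symm h2 (conj_mem_Up P'.f'.aA v) P'.f'.aA
  have vv := inv_eq_of_mul_eq_one_right (h.Up_sq cw.symm vU)
  have bb := inv_eq_of_mul_eq_one_right r.tt
  rw [show ⁅v * b * v⁻¹, b⁆ = ⁅v, b * v * b⁻¹⁆ by simp only [commutatorElement_def, mul_inv_rev, vv, bb, mul_assoc], k] at k2
  exact h.nz E k2

theorem cmm (c1 : Cm V 1) (E : Ed V p x) (r0 : Tv V p e0 t0 x) (hy : y ∈ Wy V p e0) (hy' : y ∉ zpowers p) :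
    Up V x ≤ 𝐂 (Up V y) := by
  by_contra k
  have E' := h.pts r0 E hy hy'
  exact h.pc1 (cr0 c1 E.col.symm E'.col k) E.col.symm E'.col r0 hy

section two
variable (P : Cr V 0 x y)
include P

theorem exC (E : Ed V x0 p) : ∃ w, Cr V 0 w p ∧ Col V w x0 := by
  obtain ⟨q, a1, a2⟩ := P.nr.last
  obtain ⟨g, rfl, rfl⟩ := h.trans3 (P.ed a1 a2) E
  exact ⟨_, P.conj g, a1.one.cj g⟩

theorem exT (E : Ed V q s) : ∃ e t, Tv V q e t s := by
  obtain ⟨w, Q, c⟩ := h.exC P E.symm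
  obtain ⟨a, b, e, e', P'⟩ := h.pr0 Q c E.col.symm
  exact ⟨e, a, P'.f.tr⟩

omit P in
theorem kl1 (E : Ed V p x0) (r0 : Tv V p e0 t0 x0) (h1 : x' ∈ Wy V p e0) (h2 : x' ∉ Lp x0 p) (r1 : Tv V x' e1 t1 p)
    (r2 : Tv V (x0 * x') e2 t2 p) (Q : Cr V 0 w p) (c : Col V w x0) :
    ∃ ρ ∈ Wy V (x0 * x') e2, ⁅t2, ρ⁆ ∉ zpowers (x0 * x') ∧ e1 * p * e1⁻¹ * ρ ∈ Lp x0 w := by
  obtain ⟨v, t, e, e', P⟩ := h.pr0 Q c E.col.symm
  have M := h.mo E.col
  have n1 : x' ∉ zpowers p := fun k => h2 (mem_sup_right k)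
  have E' := h.pts r0 E h1 n1
  have M1 := h.mo E'.col.symm
  have vU := P.f.aA
  have vp := conj_eq_of_mem_c (P.fix vU)
  have vx : v * x' * v⁻¹ = x0 * x' := by
    rw [conj_eq_comm, (mem_two (h.pp c.symm) (h.comm_c P vU E'.col.mem)).resolve_left fun k => h2 (M.fixWZ r0.toQd h1
      ((M.axis_iff P.f.tr r0 (h.pp c.symm ▸ one_mem _) E'.col.mem).1 (k ▸ one_mem _)))]
  have rU := M1.We_le (Mo.eH r1.toIn) (M1.dW r1.toQd)
  have k := (h.mo c).cab P.f'.tr (centralizer_anti (zpowers_le.2 c.symm.mem)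
    (le_centralizer_iff.1 (h.cmm Q.cm E r0 h1 n1) rU))
    (mem_centralizer_iff'.1 (Q.cm _ _ E'.col.symm.near rU) _ P.f'.aA) P.f'.bW
  have R := r1.conj v
  rw [vx, vp] at R
  have c2 := E'.col.cj v
  rw [vx] at c2
  have M2 := h.mo c2.symm
  have e3 : v * (e1 * p * e1⁻¹) * v⁻¹ = v * e1 * v⁻¹ * p * (v * e1 * v⁻¹)⁻¹ := by
    conv_rhs => rw [← vp]
    group
  have dW := M2.dW R.toQd
  have dU := M2.We_le (Mo.eH R.toIn) dW
  refine ⟨v * (e1 * p * e1⁻¹) * v⁻¹, ?_, fun j => ?_, ?_⟩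
  · rw [e3, ← h.same_eq r2 R c2.right (mem_sup_left r2.cW)]; exact mem_sup_left dW
  · rw [e3, M2.axis_iff r2 R (h.pp E.col ▸ one_mem _) dU, M2.t_d R.toQd] at j
    exact M2.c_nZ R.toQd j
  · rwa [show ⁅e1 * p * e1⁻¹, v⁆ = e1 * p * e1⁻¹ * (v * (e1 * p * e1⁻¹)⁻¹ * v⁻¹) by group, M1.inv rU] at k

theorem kl (E : Ed V p x0) (r0 : Tv V p e0 t0 x0) (h1 : x' ∈ Wy V p e0) (h2 : x' ∉ Lp x0 p) (r1 : Tv V x' e1 t1 p)
    (r2 : Tv V (x0 * x') e2 t2 p) (hc : Col V (x0 * x') (x0 * x')) :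
    We (Up V (x0 * x')) e2 ≤ We (Up V x') e1 ⊔ Wy V p e0 := by
  obtain ⟨w, Q, c⟩ := h.exC P E.symm
  have Ew : Ed V x0 w := Q.symm.ed E.col.near c.symm
  obtain ⟨ej, tj, rj⟩ := h.exT P Ew
  obtain ⟨ei, ti, ri⟩ := h.exT P E.symm
  have M := h.mo E.col
  have M0 := h.mo c.symm
  have M2 := h.mo hc
  have eH := Mo.eH rj.toIn
  have pC : p ∈ Ce (Up V x0) ej := ((M0.dich ri rj).resolve_left fun k => Q.symm.nc (h.cmm P.cm E.symm ri
    (k.1.le (mem_sup_left rj.cW)) (h.nz Ew))).1 ri.cW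
  have Q2 := Q.conj ej
  have c2 := c.cj ej
  rw [(mem_Ce.1 pC).2] at Q2
  rw [conj_eq_of_mem_c eH] at c2
  obtain ⟨ρ, a1, a2, a3⟩ := h.kl1 E r0 h1 h2 r1 r2 Q c
  obtain ⟨ρ', b1, b2, b3⟩ := h.kl1 E r0 h1 h2 r1 r2 Q2 c2
  have W := M2.WZ_le (Mo.eH r2.toIn)
  have xU : x0 ∈ Wy V p e0 := mem_sup_left r0.cW
  have L : Lp p (x0 * x') ≤ Wy V p e0 := Lp_le (mem_sup_right (mem_zpowers p)) (mul_mem xU h1)
  have two : ∀ u ∈ Wy V (x0 * x') e2, ⁅t2, u⁆ ∉ zpowers (x0 * x') → ρ * u ∈ Wy V p e0 := fun u hu k =>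
    L (M2.fixWZ r2.toQd (mul_mem a1 hu) (M2.off r2 (W a1) (W hu) a2 k))
  have m := two ρ' b1 b2
  have rW : e1 * p * e1⁻¹ ∈ We (Up V x') e1 := conj_mem_of_mem_normalizer Mo.e_nW r1.cW
  generalize e1 * p * e1⁻¹ = r at a3 b3 rW
  have key : r * ρ ∈ Wy V p e0 := by
    by_contra k
    have f : ∀ {w u}, Ed V x0 w → u ∈ Lp x0 w → u ∉ Wy V p e0 → w * u ∈ Wy V p e0 := fun {w u} E hu hu' => by
      rcases h.Lp_cases E hu with j | j | j | j <;> rw [j] at hu' ⊢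
      · exact absurd (one_mem _) hu'
      · exact absurd xU hu'
      · rw [h.pp E.col.symm]; exact one_mem _
      · rwa [h.ed_cm E, ← mul_assoc, h.pp E.col.symm, one_mul]
    have E2 := Ew.conj ej
    rw [conj_eq_of_mem_c eH] at E2
    have rr : r * ρ' = r * ρ * (ρ * ρ') := by rw [mul_assoc, ← mul_assoc ρ, M2.sq (W a1), one_mul]
    have g1 := f Ew a3 k
    have g2 := f E2 b3 fun j => k (by rwa [rr, mul_mem_cancel_right m] at j)
    rw [rr, ← mul_assoc, mul_mem_cancel_right m] at g2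
    have g3 := mul_mem g1 (inv_mem g2)
    rw [mul_inv_rev, ← mul_assoc, mul_inv_cancel_right] at g3
    have wW := mul_mem rj.cW (inv_mem (M0.dW rj.toQd))
    obtain ⟨_, _, _, _, _, P'⟩ := h.pure P
    have g4 := h.sol4 P' E.symm (M0.We_le eH wW) (M.WZ_le (Mo.eH r0.toIn) g3)
    exact M0.ne_conj eH rj.od rj.cW rj.c1 (mul_inv_eq_one.1 (M0.disj eH rj.od wW
      (Lp_le (M0.Z_le_Ce eH (mem_zpowers _)) pC g4)))
  intro u hu
  by_cases k : ⁅t2, u⁆ ∈ zpowers (x0 * x')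
  · exact mem_sup_right (L (M2.fixWZ r2.toQd (mem_sup_left hu) k))
  exact (mul_mem_cancel_left ((mul_mem_cancel_left (mem_sup_left rW)).1 (mem_sup_right key))).1
    (mem_sup_right (two u (mem_sup_left hu) k))

theorem pc2 : False := by
  obtain ⟨p, -, a2⟩ := P.nr.last
  obtain ⟨p1, -, l, hl, hp, -⟩ := a2
  obtain ⟨x, hx, hx'⟩ := h.exists_other hl hp
  have E : Ed V p x := ⟨⟨p1, fun k => hx' (k ▸ one_mem _), l, hl, hp, hx⟩, fun k => hx' (k ▸ mem_zpowers _)⟩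
  obtain ⟨e0, t0, r0⟩ := h.exT P E
  obtain ⟨e1, t1, r1⟩ := h.exT P E.symm
  have M := h.mo E.col
  have eH := Mo.eH r0.toIn
  have U1 := le_Om Lp_right Lp_left E.col.2.1 r1
  have Ui : Wy V p e0 ≤ Om V (Lp p x) := sup_le (le_Om Lp_left Lp_right p1 r0) (zpowers_le.2 (U1 r1.cW))
  have E' := E.conj e0
  rw [conj_eq_of_mem_c eH] at E'
  have L : Lp p (e0 * x * e0⁻¹) ≤ Wy V p e0 := Lp_le (mem_sup_right (mem_zpowers p)) (mem_sup_left (M.dW r0.toQd))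
  have nL := M.d_nL r0.toQd
  have le : Om V (Lp p (e0 * x * e0⁻¹)) ≤ Om V (Lp p x) := sSup_le fun _ ⟨q, hq, s, hs, e, t, q1, r, k⟩ => by
    rw [k]
    by_cases j : q = p
    · subst j
      exact le_sup_left.trans ((h.same_eq r0 r E.col.left (L hs)).le.trans Ui)
    have qp : q ∉ zpowers p := fun i => (mem_two (h.pp E.col) i).elim q1 j
    have Eq := h.ed_of E' hq qp
    have xU : x ∈ Wy V p e0 := mem_sup_left r0.cW
    have le2 := h.ln_le (h.ln_Lp E') Lp_left p1 hq qp (K := Lp p q) Lp_left Lp_right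
    have E0 := h.pts r0 E (mul_mem (L hq) xU) fun i => nL (Lp_le Lp_right
      ((mul_mem_cancel_right Lp_left).1 (mem_sup_right i)) (le2 Lp_right))
    obtain ⟨e3, t3, r3⟩ := h.exT P E0
    obtain ⟨e2, t2, r2⟩ := h.exT P Eq.symm
    have w3 := h.same_eq r0 r3 E.col.left (mul_mem (L hq) xU)
    have qx : q * x * x = q := by rw [mul_assoc, h.pp E.col.symm, mul_one]
    have := h.kl P E0 r3 (w3.ge xU) (fun i => by
      rcases h.Lp_cases E0.symm i with i | i | i | i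
      · exact E.col.2.1 i
      · exact q1 (by simpa using i)
      · exact E.ne i.symm
      · rw [mul_assoc, ← h.ed_cm E, ← mul_assoc, right_eq_mul, mul_eq_one_iff_eq_inv] at i
        exact qp (i ▸ inv_mem (mem_zpowers p))) r1 (by rw [qx]; exact r2) (by rw [qx]; exact Eq.col.right)
    rw [qx, w3] at this
    exact le_sup_left.trans ((h.same_eq r2 r Eq.col.right (Lp_le (mem_sup_right (mem_zpowers q)) (mem_sup_left r2.cW) (Lp_le Lp_right Lp_left (le2 hs)))).le.trans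
      (sup_le (this.trans (sup_le U1 Ui)) (zpowers_le.2 (Ui (L hq)))))
  have hl' := h.ln_Lp E
  have := h.uniq hl' (Y := Om V (Lp p x)) ((elemAb_isPGroup (h.Wl_ea P.cm hl')).to_le (sSup_le fun _ ⟨q, hq, s, hs, e, t, q1, r, k⟩ =>
      k.le.trans (((h.mo (q := q) ⟨q1, q1, _, hl', hq, hq⟩).We_le (Mo.eH r.toIn)).trans (Up_le_Wl hq q1))))
    (fun k => p1 (mem_bot.1 (k.le (U1 r1.cW))))
    (fun g hg => mem_normalizer_of_cj_le ((cj_Om_le V _ g).trans (by rw [cj_eq_of_mem_normalizer hg])))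
    (mem_normalizer_of_cj_le ((cj_Om_le V _ e0).trans (by rw [cj_Lp, conj_eq_of_mem_c eH]; exact le)))
  exact nL (Lp_le Lp_right Lp_left (conj_mem_of_mem_normalizer this Lp_right))

end two

end Ge

end H118

end H226
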