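import Cfsg.Agent.H26.T2.H26NFr
/-! Interface for `H26.N4`, second part: `FL`, `FA'`, `FD2'` (notes/helper26_N4d.md). -/
set_option autoImplicit false
namespace H226 end H226 namespace H26 end H26 namespace H4 end H4
open H226
namespace H226
namespace H26
open _root_.H26
open Cfsg Subgroup H4 _root_.H4
open scoped Pointwise commutatorElement
universe u

local notation "𝐉" => thompsonSubgroupOf 2
local notation "O₂" => pCoreOf 2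

/-- the case `V = 2⁴`, `I = C_V(b) = [V, b]` -/
def FL : Prop := ∀ (G : Type u) [Group G] [Finite G] (S V I : Subgroup G) (b : G), Fr S V →
  fU S V ≤ 𝐂 (fU S V) → Nat.card V = 16 → oz (S ⊓ 𝐂 V) = V → b ∈ S → V ⊓ 𝐂 (zpowers b) = I → ⁅V, zpowers b⁆ = I →
  Nat.card I = 4 → IsSyl 2 (S ⊓ 𝐂 V ⊔ zpowers b) (𝐂 I) → 𝐉 (S ⊓ 𝐂 V ⊔ zpowers b) = 𝐉 (S ⊓ 𝐂 V) →
  (∀ g : G, I ⊓ cj g I ≠ ⊥ → cj g V ≤ 𝐂 V) → 𝐂 I ≤ 𝐍 V

/-- (A) the frame exists, with `N(B(S)) ≤ M` -/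
def FA' : Prop := ∀ (G : Type u) [Group G] [Finite G], NG2 G → ¬ PRankLE 2 2 G → IsCharacteristicTwoType G →
  ∀ S : Sylow 2 G, (∀ M : Subgroup G, IsTwoLocal M → ∃ L : Subgroup G, IsTwoLocal L ∧ (S : Subgroup G) ≤ L ∧ ¬ L ≤ M) →
  ∃ V, Fr (S : Subgroup G) V ∧ 𝐍 (bm (S : Subgroup G)) ≤ 𝐍 V

/-- (D), `J(S) ≰ R` -/
def FD2' : Prop := ∀ (G : Type u) [Group G] [Finite G] (S V : Subgroup G), Fr S V → 𝐍 (bm S) ≤ 𝐍 V → V ≤ O₂ (fH S) →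
  fU S V ≤ 𝐂 (fU S V) → ¬ 𝐉 S ≤ 𝐂 V → Nat.card V = 4

theorem n4_of' (a : FA'.{u}) (b : FB.{u}) (c : FC.{u}) (d1 : FD1.{u}) (d2 : FD2'.{u}) (e : FE.{u}) (f : FF.{u})
    (m : FM.{u}) {P : ∀ (G : Type u) [Group G], Prop}
    (g : ∀ (G : Type u) [Group G] [Finite G] (S V : Subgroup G), Ti S V → P G)
    (G : Type u) [Group G] [Finite G] (h1 : NG2 G) (h2 : ¬ PRankLE 2 2 G) (h3 : IsCharacteristicTwoType G)
    (S : Sylow 2 G) (h4 : ∀ M : Subgroup G, IsTwoLocal M →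
      ∃ L : Subgroup G, IsTwoLocal L ∧ (S : Subgroup G) ≤ L ∧ ¬ L ≤ M) : P G := by
  obtain ⟨V, h, hb⟩ := a G h1 h2 h3 S h4
  have k1 := b G _ V h
  have k2 := c G _ V h k1
  have k : F4 (S : Subgroup G) V := ⟨h, (em _).elim (d1 G _ V h k1 k2) (d2 G _ V h hb k1 k2), k1, k2⟩
  obtain ⟨x, hx, hx'⟩ := e G _ V k
  exact g G _ V ((f G _ V k x hx hx').resolve_left (m G _ V k x hx hx'))

end H26

end H226
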