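import Cfsg.Agent.H26.T2.H18PUDef
import Cfsg.Agent.H18.PU1
import Cfsg.Agent.H1.BGCop
/-! Pushing up, part 2: two non-commuting normal four-groups of a `2`-group `B`, each with an element of order three
(`Hf`), give `B = D₈ × D` with `|D| ≤ 2` if the `2`-local subgroups are solvable (`fin`). -/
set_option autoImplicit false
namespace H118 end H118 namespace H118.Hf end H118.Hf namespace H118.Th end H118.Th namespace H18.PU end H18.PU namespace H226 end H226 namespace H26 end H26 namespace H4 end H4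
open H226
namespace H226
namespace H118
open _root_.H118
open Subgroup Cfsg H26 _root_.H26 H4 _root_.H4 H18.PU _root_.H18.PU
open scoped commutatorElement

variable {G : Type*} [Group G] {B W W' U X : Subgroup G} {k g s t w x y ρ ρ' : G}

/-- `k` induces an automorphism of order three on `W` -/
structure Th (W : Subgroup G) (k : G) : Prop where
  n : k ∈ 𝐍 W
  cube : k ^ 3 ∈ 𝐂 W
  nc : k ∉ 𝐂 W

theorem Th.conj (h : Th W k) (g : G) : Th (cj g W) (g * k * g⁻¹) :=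
  ⟨cj_normalizer g W ▸ conj_mem_cj g h.n, by rw [conj_pow, ← cj_centralizer]; exact conj_mem_cj g h.cube,
    by rw [← cj_centralizer, conj_mem_cj_iff]; exact h.nc⟩

theorem Th.mul (h : Th W k) (hc : x ∈ 𝐂 W) : Th W (x * k) := by
  have n := normalizer_le_normalizer_centralizer W h.n
  refine ⟨mul_mem (centralizer_le_normalizer _ hc) h.n, ?_, fun e => h.nc ((mul_mem_cancel_left hc).1 e)⟩
  simpa using mul_mem (mul_pow_mul_inv_mem n hc 3) h.cube

namespace Th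
open _root_.H118.Th
variable (f : Four W) (h : Th W k)
include f h

theorem fix (hw : w ∈ W) (e : k * w = w * k) : w = 1 := by
  by_contra w1
  have z : zpowers k ≤ 𝐍 W := zpowers_le.2 h.n
  have m : w ∈ W ⊓ 𝐂 (zpowers k) := ⟨hw, by rw [centralizer_zpowers]; exact mem_centralizer_singleton_iff.2 e.symm⟩
  have c : k ∈ 𝐂 (W ⊓ 𝐂 (zpowers k)) := le_centralizer_iff.1 inf_le_right (mem_zpowers k)
  rcases f.card_cases (inf_le_left : W ⊓ 𝐂 (zpowers k) ≤ W) with e | e | e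
  · exact w1 (mem_bot.1 (e ▸ m))
  · have l := f.commutator_le_of_card inf_le_left e z (zpowers_le.2 (centralizer_le_normalizer _ c))
    refine h.nc (mem_of_pow_mem_coprime (by norm_num : Nat.Coprime 2 3) (mem_centralizer_iff'.2 fun x hx => ?_) h.cube)
    have u := l (commutator_mem_commutator (inv_mem hx) (mem_zpowers k))
    have e1 : k * x * k⁻¹ = x * ⁅x⁻¹, k⁆ := by simp [commutatorElement_def, mul_assoc]
    calc k ^ 2 * x * (k ^ 2)⁻¹ = k * (k * x * k⁻¹) * k⁻¹ := by rw [pow_two]; group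
      _ = k * x * k⁻¹ * (k * ⁅x⁻¹, k⁆ * k⁻¹) := by nth_rewrite 1 [e1]; group
      _ = x := by rw [mem_centralizer_iff'.1 c _ u, e1, mul_assoc, f.sq _ u.1, mul_one]
  · exact h.nc (e ▸ c)

theorem tr (hx : x ∈ W) (hy : y ∈ W) (x1 : x ≠ 1) (y1 : y ≠ 1) : ∃ e ∈ zpowers k, e * x * e⁻¹ = y := by
  have n1 := conj_mem_of_mem_normalizer h.n hx
  have a : ∀ x ∈ W, x ≠ 1 → x ≠ k * x * k⁻¹ := fun x hx x1 e => x1 (h.fix f hx (mul_inv_eq_iff_eq_mul.1 e.symm))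
  have c1 : k * x * k⁻¹ ≠ 1 := by simpa using x1
  rcases f.mem_three hx n1 (conj_mem_of_mem_normalizer h.n n1) hy x1 c1 (by simpa using x1) y1 (a x hx x1) (fun e => by
    refine a x hx x1 ?_
    calc x = k ^ 3 * x * (k ^ 3)⁻¹ := (mem_centralizer_iff'.1 h.cube x hx).symm
      _ = k * (k * (k * x * k⁻¹) * k⁻¹) * k⁻¹ := by rw [pow_succ, pow_two]; group
      _ = _ := by rw [← e]) (a _ n1 c1) with e | e | e
  · exact ⟨1, one_mem _, by simp [e]⟩
  · exact ⟨k, mem_zpowers k, e.symm⟩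
  · exact ⟨k * k, mul_mem (mem_zpowers k) (mem_zpowers k), by rw [e]; group⟩

theorem le_comm : W ≤ ⁅W, zpowers k⁆ := fun y hy => by
  obtain ⟨x, hx, x1⟩ := exists_ne_one_of_card (U := W) (by rw [f.card]; norm_num)
  have m := commutator_mem_commutator hx (mem_zpowers k)
  by_cases y1 : y = 1
  · exact y1 ▸ one_mem _
  obtain ⟨e, he, rfl⟩ := h.tr f (commutator_le_of_le_normalizer (zpowers_le.2 h.n) m) hy
    (fun e => x1 (h.fix f hx (commutatorElement_eq_one_iff_mul_comm.1 e).symm)) y1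
  exact conj_mem_of_mem_normalizer (le_normalizer_commutator_right _ _ he) m

theorem odd [Finite G] (ht : t ∈ 𝐍 W) (t2 : t * t = 1) (tc : t ∉ 𝐂 W) :
    ∃ ρ ∈ zpowers ⁅k, t⁆, Th W ρ ∧ (orderOf ρ).Coprime 2 ∧ t * ρ * t⁻¹ = ρ⁻¹ := by
  obtain ⟨j, hj⟩ := exists_pow_coprime (p := 2) (isOfFinOrder_of_finite ⁅k, t⁆)
  obtain ⟨c1, c2⟩ := f.comm_three h.n ht h.cube h.nc (t2 ▸ one_mem _) tc
  refine ⟨_, pow_mem (mem_zpowers _) _, ⟨pow_mem (mul_mem (mul_mem (mul_mem h.n ht) (inv_mem h.n)) (inv_mem ht)) _,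
    by rw [← pow_mul, mul_comm, pow_mul]; exact pow_mem c1 _,
    fun e => c2 (mem_of_pow_mem_coprime (Nat.Coprime.pow_left j (by norm_num)) e c1)⟩, hj, ?_⟩
  rw [← conj_pow, ← inv_pow]
  congr 1
  have : t⁻¹ = t := inv_eq_of_mul_eq_one_right t2
  simp only [commutatorElement_def, mul_inv_rev, inv_inv, this, mul_assoc, t2, mul_one]

end Th

/-- the four-group `W ⊴ B` with an element `ρ` of odd order acting on `C_B(W)` -/
structure Hf (B W : Subgroup G) (ρ : G) : Prop where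
  isP : IsPGroup 2 B
  four : Four W
  le : W ≤ B
  nW : B ≤ 𝐍 W
  th : Th W ρ
  odd : (orderOf ρ).Coprime 2
  nQ : ρ ∈ 𝐍 (B ⊓ 𝐂 W)
  cm : ⁅B ⊓ 𝐂 W, zpowers ρ⁆ ≤ W
  inv : ∃ b ∈ B, b ∉ 𝐂 W ∧ b * ρ * b⁻¹ = ρ⁻¹

abbrev dd (B W : Subgroup G) (ρ : G) : Subgroup G := B ⊓ 𝐂 W ⊓ 𝐂 (zpowers ρ)

theorem Hf.conj (h : Hf B W ρ) (hs : s ∈ 𝐍 B) : Hf B (cj s W) (s * ρ * s⁻¹) := by
  have e := cj_eq_iff.2 hs
  have e2 : B ⊓ 𝐂 (cj s W) = cj s (B ⊓ 𝐂 W) := by rw [cj_inf, e, cj_centralizer]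
  obtain ⟨b, hb, b1, b2⟩ := h.inv
  refine ⟨h.isP, h.four.conj s, cj_le_of_mem_normalizer h.le hs, e ▸ cj_le_n s h.nW, h.th.conj s,
    by rw [orderOf_cj]; exact h.odd, by rw [e2, ← cj_normalizer]; exact conj_mem_cj s h.nQ,
    by rw [e2, ← cj_zpowers, ← cj_commutator]; exact cj_mono s h.cm, s * b * s⁻¹, conj_mem_of_mem_normalizer hs hb,
    by rwa [← cj_centralizer, conj_mem_cj_iff], ?_⟩
  rw [show s * b * s⁻¹ * (s * ρ * s⁻¹) * (s * b * s⁻¹)⁻¹ = s * (b * ρ * b⁻¹) * s⁻¹ by group, b2]; group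

variable [Finite G]

theorem four_inf (f : Four W) (f' : Four W') (n : W ≤ 𝐍 W') (n' : W' ≤ 𝐍 W) (nc : ¬ W' ≤ 𝐂 W) :
    W' ⊓ 𝐂 W = W ⊓ W' ∧ Nat.card ↥(W ⊓ W') = 2 := by
  have c := f'.card_inf_c f.isP n (fun e => nc (le_centralizer_iff.1 e))
  have := (eq_bot_or_eq_of_card c (le_inf inf_le_right (inf_le_left.trans f.le_c) : W ⊓ W' ≤ _)).resolve_left
    fun e => nc (commutator_eq_bot_iff'.1 (le_bot_iff.1 (e ▸ commutator_le_inf_of_le_normalizer n n')))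
  exact ⟨this.symm, this ▸ c⟩

namespace Hf
open _root_.H118.Hf
variable (h : Hf B W ρ)
include h

theorem q_le : B ⊓ 𝐂 W ≤ W ⊔ dd B W ρ := by
  obtain ⟨n, hn⟩ := (h.isP.to_inf_left (K := 𝐂 W)).exists_card_eq
  exact H1.Cop.le_sup_of_comm_le ⟨zpowers_le.2 h.nQ, by rw [hn, Nat.card_zpowers]; exact h.odd.pow_right n,
    Or.inl H18.abel_zpowers.solv⟩ h.cm

omit [Finite G] in
theorem inf_dd : W ⊓ dd B W ρ = ⊥ :=
  eq_bot_iff.2 fun _ hx => h.th.fix h.four hx.1 (hx.2.2 ρ (mem_zpowers ρ))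

theorem two (hx : x ∈ B) (hy : y ∈ B) (y1 : y ∉ 𝐂 W) : x ∈ 𝐂 W ∨ x * y ∈ 𝐂 W :=
  or_iff_not_imp_left.2 fun x1 => h.four.two_of_isP h.isP h.nW x hx y hy x1 y1

theorem n_dd : B ≤ 𝐍 (dd B W ρ) := fun x hx => by
  obtain ⟨b, hb, b1, b2⟩ := h.inv
  have q : B ⊓ 𝐂 W ≤ 𝐍 (dd B W ρ) := h.q_le.trans (sup_le (le_normalizer_of_le_centralizer
    (le_centralizer_iff.1 (inf_le_left.trans inf_le_right))) le_normalizer)
  have bz : b ∈ 𝐍 (zpowers ρ) := cj_eq_iff.1 (by rw [cj_zpowers, b2, zpowers_inv])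
  have bn : b ∈ 𝐍 (dd B W ρ) := zpowers_le.1 (le_normalizer_inf (le_normalizer_inf
    (zpowers_le.2 (le_normalizer hb)) (le_normalizer_centralizer (zpowers_le.2 (h.nW hb))))
    (le_normalizer_centralizer (zpowers_le.2 bz)))
  rcases h.two hx hb b1 with e | e
  · exact q ⟨hx, e⟩
  · exact (mul_mem_cancel_right bn).1 (q ⟨mul_mem hx hb, e⟩)

variable (h' : Hf B W' ρ') (nc : ¬ W' ≤ 𝐂 W)
include h' nc

theorem inf : W' ⊓ 𝐂 W = W ⊓ W' ∧ Nat.card ↥(W ⊓ W') = 2 :=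
  four_inf h.four h'.four (h.le.trans h'.nW) (h'.le.trans h.nW) nc

theorem dd_c : dd B W ρ ≤ 𝐂 W' := by
  refine commutator_eq_bot_iff'.1 (le_bot_iff.1 ((commutator_le_inf_of_le_normalizer (h'.le.trans h.n_dd)
    ((inf_le_left.trans inf_le_left).trans h'.nW)).trans (le_trans (le_inf ?_ inf_le_right) h.inf_dd.le)))
  exact (inf_le_inf_left _ (inf_le_left.trans inf_le_right)).trans ((h.inf h' nc).1.le.trans inf_le_left)

theorem sup_eq : W ⊔ W' ⊔ dd B W ρ = B := by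
  refine le_antisymm (sup_le (sup_le h.le h'.le) (inf_le_left.trans inf_le_left)) fun x hx => ?_
  obtain ⟨y, hy, y1⟩ := SetLike.not_le_iff_exists.1 nc
  have q := h.q_le.trans (sup_le_sup_right (le_sup_left : W ≤ W ⊔ W') _)
  rcases h.two hx (h'.le hy) y1 with e | e
  · exact q ⟨hx, e⟩
  · exact (mul_mem_cancel_right (mem_sup_left (mem_sup_right hy))).1 (q ⟨mul_mem hx (h'.le hy), e⟩)

theorem perf (h1 : W ≤ X) (h2 : W' ≤ X) (h3 : ρ ∈ X) : W ⊔ zpowers ρ ≤ ⁅X, X⁆ := by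
  have l : W ≤ ⁅X, X⁆ := (h.th.le_comm h.four).trans (commutator_mono h1 (zpowers_le.2 h3))
  obtain ⟨y, hy, y1⟩ := SetLike.not_le_iff_exists.1 nc
  obtain ⟨b, hb, b1, b2⟩ := h.inv
  obtain ⟨w, hw, d, hd, e⟩ := (mem_sup_of_le_normalizer (h.le.trans h.n_dd)).1 (h.q_le (mem_inf.2 ⟨mul_mem (h'.le hy)
    (inv_mem hb), (h.two (h'.le hy) (inv_mem hb) (by rwa [inv_mem_iff])).resolve_left y1⟩))
  obtain rfl : y = w * d * b := by rw [e]; group
  refine sup_le l (zpowers_le.2 (mem_of_pow_mem_coprime_orderOf h.odd ?_))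
  have c := mem_centralizer_iff'.1 hd.2 ρ⁻¹ (inv_mem (mem_zpowers ρ))
  have : ρ ^ 2 = ⁅ρ, w * d * b⁆ * (w * (ρ⁻¹ * w⁻¹ * ρ)) := by
    calc ρ ^ 2 = ⁅ρ, w * d * b⁆ * (w * (d * (b * ρ * b⁻¹) * d⁻¹) * w⁻¹ * ρ) := by rw [commutatorElement_def, pow_two]; group
      _ = _ := by rw [b2, c]; group
  rw [this]
  exact mul_mem (commutator_mem_commutator h3 (h2 hy))
    (l (mul_mem hw (conj_mem_of_mem_normalizer' h.th.n (inv_mem hw))))

theorem card_dd (sol : ∀ L : Subgroup G, IsTwoLocal L → Group.IsSolvable L) : Nat.card (dd B W ρ) ≤ 2 := by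
  have nc' : ¬ W ≤ 𝐂 W' := fun e => nc (le_centralizer_iff.1 e)
  have lD : dd B W ρ ≤ B := inf_le_left.trans inf_le_left
  have e0 : dd B W ρ ⊓ dd B W' ρ' = ⊥ := by
    by_contra hn
    have l : W ⊔ zpowers ρ ⊔ (W' ⊔ zpowers ρ') ≤ 𝐂 (dd B W ρ ⊓ dd B W' ρ') := le_centralizer_iff.1 (le_centralizer_sup
      (inf_le_left.trans (le_centralizer_sup (inf_le_left.trans inf_le_right) inf_le_right))
      (inf_le_right.trans (le_centralizer_sup (inf_le_left.trans inf_le_right) inf_le_right)))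
    have := H17.eq_bot_of_perfect_of_solvable (H17.solvable_of_le (l.trans (centralizer_le_normalizer _))
      (sol _ ⟨_, h.isP.to_le (inf_le_left.trans lD), hn, rfl⟩)) (le_antisymm (commutator_le_self _) (sup_le
      (h.perf h' nc (le_sup_of_le_left le_sup_left) (le_sup_of_le_right le_sup_left)
        (mem_sup_left (mem_sup_right (mem_zpowers _))))
      (h'.perf h nc' (le_sup_of_le_right le_sup_left) (le_sup_of_le_left le_sup_left)
        (mem_sup_right (mem_sup_right (mem_zpowers _))))))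
    exact h.four.ne_bot (le_bot_iff.1 (this ▸ le_sup_of_le_left le_sup_left))
  have l : dd B W ρ ≤ W ⊓ W' ⊔ dd B W' ρ' := by
    rw [← (h.inf h' nc).1, sup_comm, ← dedekind_left' (h'.dd_c h nc') (h'.le.trans h'.n_dd), sup_comm]
    exact le_inf ((le_inf lD (h.dd_c h' nc)).trans h'.q_le) (inf_le_left.trans inf_le_right)
  have c1 := card_sup_mul_card_inf (lD.trans h'.n_dd)
  have c2 := card_sup_mul_card_inf ((inf_le_left.trans h.le : W ⊓ W' ≤ B).trans h'.n_dd)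
  have c3 := card_le_of_le (sup_le l le_sup_right)
  rw [e0, card_bot, mul_one] at c1
  rw [(h.inf h' nc).2] at c2
  have p1 : 0 < Nat.card ↥(W ⊓ W' ⊓ dd B W' ρ') := Nat.card_pos
  have p2 : 0 < Nat.card (dd B W' ρ') := Nat.card_pos
  nlinarith

end Hf

/-- the final configuration -/
theorem fin {T P M : Subgroup G} (hT : IsPGroup 2 T) (f : Four W) (le : W ≤ T) (nW : T ≤ 𝐍 W) (hs : s ∈ 𝐍 T)
    (nc : ¬ cj s W ≤ 𝐂 W) (th : Th W g) (gQ : g ∈ 𝐍 (T ⊓ 𝐂 W))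
    (sol : ∀ L : Subgroup G, IsTwoLocal L → Group.IsSolvable L) (hP : T ≤ P) (gP : g ∈ P)
    (nM : ∀ k ∈ P, Th W k → k ∉ M) :
    ∃ D E, H18.PUOut T P M W (cj s W) D E ∧ T ⊓ 𝐂 W ≤ W ⊔ D := by
  have f' := f.conj s
  have le' := cj_le_of_mem_normalizer le hs
  have nW' : T ≤ 𝐍 (cj s W) := cj_eq_iff.2 hs ▸ cj_le_n s nW
  obtain ⟨b, hb, b1⟩ := SetLike.not_le_iff_exists.1 nc
  obtain ⟨ρ, hρ, t1, t2, t3⟩ := th.odd f (nW (le' hb)) (f'.sq b hb) b1
  have m : ∀ X : Subgroup G, g ∈ 𝐍 X → b ∈ X → ρ ∈ X := fun X h1 h2 =>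
    zpowers_le.2 (mul_mem (conj_mem_of_mem_normalizer h1 h2) (inv_mem h2)) hρ
  have nQ : T ≤ 𝐍 (T ⊓ 𝐂 W) := le_normalizer_inf_centralizer nW
  have lQ : W ≤ T ⊓ 𝐂 W := le_inf le f.le_c
  have h : Hf T W ρ := ⟨hT, f, le, nW, t1, t2, m _ (le_normalizer gQ) (nQ (le' hb)), (le_commStab_iff' lQ).1
    (zpowers_le.2 (m _ (zpowers_le.1 (le_normalizer_commStab (zpowers_le.2 gQ) (zpowers_le.2 th.n)))
      ((le_commStab_iff' lQ).2 ((commutator_le_inf_of_le_normalizer (inf_le_left.trans nW') (le'.trans nQ)).trans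
        ((le_inf inf_le_right (inf_le_left.trans inf_le_right)).trans
          ((four_inf f f' (le.trans nW') (le'.trans nW) nc).1.le.trans inf_le_left))) hb))), b, le' hb, b1, t3⟩
  have h' := h.conj hs
  have c := h.card_dd h' nc sol
  have ρP := m P (le_normalizer gP) (hP (le' hb))
  refine ⟨dd T W ρ, zpowers ρ, ⟨f, f', h.sup_eq h' nc, c, le_centralizer_iff.1 (h.n_dd.trans ?_), eq_bot_iff.2
    (le_trans (le_inf ?_ inf_le_right) h.inf_dd.le), (h.inf h' nc).2, fun e => nc (le_centralizer_iff.1 e), nW, nW',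
    ⟨s, hs, rfl⟩, zpowers_le.2 ρP, fun e => nM ρ ρP t1 (e (mem_zpowers ρ)), zpowers_le.2 t1.n,
    le_centralizer_iff.1 inf_le_right, fun x hx y hy => t1.tr f hx hy⟩, h.q_le⟩
  · rcases (show Nat.card (dd T W ρ) = 1 ∨ Nat.card (dd T W ρ) = 2 by
      have : 0 < Nat.card (dd T W ρ) := Nat.card_pos
      omega) with e | e
    · rw [card_eq_one.1 e, centralizer_bot']; exact le_top
    · exact normalizer_le_c_of_card_two e
  · refine (inf_le_inf_left _ (inf_le_left.trans inf_le_right)).trans ?_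
    rw [dedekind_left f.le_c (le.trans nW'), (h.inf h' nc).1]
    exact sup_le le_rfl inf_le_left

end H118

end H226
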