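import Cfsg.Agent.H26.T2.H18PU2
/-! Pushing up, part 3: the Baumann argument and `H118.pul : H18.PUL`. -/
set_option autoImplicit false
set_option linter.unusedSectionVars false
namespace H118 end H118 namespace H118.St end H118.St namespace H18.PU end H18.PU namespace H226 end H226 namespace H26 end H26 namespace H4 end H4
open H226
namespace H226
namespace H118
open _root_.H118
open Subgroup Cfsg H26 _root_.H26 H4 _root_.H4 H18.PU _root_.H18.PU
open scoped commutatorElement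

local notation "𝐉" => thompsonSubgroupOf 2

variable {G : Type*} [Group G] [Finite G] {A T P M W : Subgroup G} {b g k s t w x y : G}

/-- a plane `W` of the failure of factorization module -/
structure St (T P M W : Subgroup G) : Prop where
  isP : IsPGroup 2 T
  tp : T ≤ P
  four : Four W
  le : W ≤ T
  jn : 𝐉 T ≤ 𝐍 W
  jc : ¬ 𝐉 T ≤ 𝐂 W
  ti : ∀ t ∈ T, W ⊓ cj t W ≠ ⊥ → t ∈ 𝐍 W
  cm : ∀ t ∈ T, cj t W ≤ 𝐂 W
  ex : ∃ x ∈ P, Th W x ∧ x ∈ 𝐍 (T ⊓ 𝐂 W)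
  nM : ∀ k ∈ P, Th W k → k ∉ M
  free : ∀ X ≤ T, X ≠ ⊥ → 𝐍 T ≤ 𝐍 X → P ⊓ 𝐍 X ≤ M

/-- the Baumann subgroup -/
abbrev bm (T : Subgroup G) : Subgroup G := T ⊓ 𝐂 (oz (𝐉 T))

theorem j_le_bm : 𝐉 T ≤ bm T := le_inf (thompsonOf_le 2 T) (le_c_oz _)
theorem n_oz : 𝐍 T ≤ 𝐍 (oz (𝐉 T)) := le_n_oz (normalizer_le_normalizer_thompsonOf 2 T)
theorem n_bm : 𝐍 T ≤ 𝐍 (bm T) := le_normalizer_inf le_rfl (le_normalizer_centralizer n_oz)

namespace St
open _root_.H118.St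
variable (h : St T P M W)
include h

theorem rep (hA : A ∈ MaxEA 2 T) : W ⊔ A ⊓ 𝐂 W ∈ MaxEA 2 T := by
  have n := (MaxEA.le_thompsonOf hA).trans h.jn
  refine (MaxEA.of_card_ge hA) (sup_le h.le (inf_le_left.trans (MaxEA.le hA))) (elemAb_sup h.four.ea (elemAb_mono (MaxEA.elemAb hA) inf_le_left)
    (le_centralizer_iff.1 inf_le_right)) ?_
  by_cases c : A ≤ 𝐂 W
  · exact card_le_of_le (le_sup_of_le_right (le_inf le_rfl c))
  have p := elemAb_isPGroup (MaxEA.elemAb hA)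
  have c1 := h.four.card_inf_c p n c
  have c2 := card_mul_relIndex (𝐂 W) A
  have c3 := card_sup_mul_card_inf (H := A ⊓ 𝐂 W) (inf_le_left.trans n)
  rw [(MaxEA.inf_centralizer_eq hA) h.le h.four.ea] at c1
  rw [h.four.relIndex_two p n c, inf_comm] at c2
  rw [inf_assoc, inf_eq_right.2 h.four.le_c, inf_comm A W, c1, h.four.card, sup_comm] at c3
  omega

theorem repQ (hA : A ∈ MaxEA 2 T) : W ⊔ A ⊓ 𝐂 W ∈ MaxEA 2 (T ⊓ 𝐂 W) :=
  (MaxEA.of_le (h.rep hA)) (sup_le (le_inf h.le h.four.le_c) (inf_le_inf_right _ (MaxEA.le hA))) inf_le_left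

theorem jQ : 𝐉 (T ⊓ 𝐂 W) ≤ 𝐉 T :=
  let ⟨_, hA⟩ := exists_maxEA 2 T
  thompsonOf_mono_of_exists (h.rep hA) (MaxEA.le (h.repQ hA)) inf_le_left

theorem wJ : W ≤ 𝐉 (T ⊓ 𝐂 W) :=
  let ⟨_, hA⟩ := exists_maxEA 2 T
  le_sup_left.trans (MaxEA.le_thompsonOf (h.repQ hA))

theorem u_le : W ⊔ oz (𝐉 T) ≤ oz (𝐉 (T ⊓ 𝐂 W)) := by
  obtain ⟨A, hA⟩ := exists_maxEA 2 T
  refine sup_le (le_oz h.four.ea h.wJ (le_centralizer_iff.1 ((thompsonOf_le 2 _).trans inf_le_right)))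
    (le_oz (elemAb_oz _) (le_trans ?_ (MaxEA.le_thompsonOf (h.repQ hA))) ((oz_le_c _).trans (centralizer_anti h.jQ)))
  exact (MaxEA.le_of_centralizes (h.rep hA)) ((oz_le _).trans (thompsonOf_le 2 T)) (elemAb_oz _)
    ((oz_le_c _).trans (centralizer_anti (MaxEA.le_thompsonOf (h.rep hA))))

theorem z_comm (hA : A ∈ MaxEA 2 T) : ⁅oz (𝐉 (T ⊓ 𝐂 W)), A⁆ ≤ W :=
  commutator_le_of_le_sup_centralizer' ((MaxEA.le_of_centralizes (h.repQ hA)) ((oz_le _).trans (thompsonOf_le 2 _))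
    (elemAb_oz _) ((oz_le_c _).trans (centralizer_anti (MaxEA.le_thompsonOf (h.repQ hA)))))
    (inf_le_left.trans (elemAb_le_centralizer (MaxEA.elemAb hA))) (le_normalizer_of_le_centralizer inf_le_right)
    ((MaxEA.le_thompsonOf hA).trans h.jn)

theorem wB : W ≤ bm T := h.wJ.trans (h.jQ.trans j_le_bm)

theorem card_r : Nat.card ↥(W ⊓ 𝐂 (𝐉 T)) = 2 := h.four.card_inf_c (h.isP.to_le (thompsonOf_le 2 T)) h.jn h.jc

theorem r_le : W ⊓ 𝐂 (𝐉 T) ≤ oz (𝐉 T) :=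
  le_oz (elemAb_mono h.four.ea inf_le_left) (inf_le_left.trans (h.wJ.trans h.jQ)) inf_le_right

theorem r_ne : W ⊓ 𝐂 (𝐉 T) ≠ ⊥ := fun e => by have := h.card_r; rw [e, card_bot] at this; omega

theorem bc : bm T ≤ 𝐂 (W ⊓ 𝐂 (𝐉 T)) := inf_le_right.trans (centralizer_anti h.r_le)

theorem bn : bm T ≤ 𝐍 W := fun t ht => h.ti t ht.1 fun e => h.r_ne (le_bot_iff.1 (e ▸ le_inf inf_le_left (by
  rw [← cj_eq_of_mem_centralizer (h.bc ht)]; exact cj_mono t inf_le_left)))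

theorem exists_g : ∃ b ∈ bm T, b ∉ 𝐂 W ∧ ∃ g ∈ P, Th W g ∧ (orderOf g).Coprime 2 ∧ b * g * b⁻¹ = g⁻¹ ∧
    g ∈ 𝐍 (W ⊔ oz (𝐉 T)) ∧ g ∈ 𝐍 (bm T ⊓ 𝐂 W) := by
  obtain ⟨A, hA, c⟩ : ∃ A ∈ MaxEA 2 T, ¬ A ≤ 𝐂 W := by
    by_contra e; push Not at e; exact h.jc (thompsonOf_le_iff.2 e)
  obtain ⟨b, hb, b1⟩ := SetLike.not_le_iff_exists.1 c
  obtain ⟨x, xP, th, xn⟩ := h.ex
  have bB := j_le_bm ((MaxEA.le_thompsonOf hA) hb)
  obtain ⟨g, hg, t1, t2, t3⟩ := th.odd h.four (h.bn bB) (by rw [← pow_two]; exact (MaxEA.pow_eq hA) hb) b1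
  have m : ∀ X : Subgroup G, x ∈ 𝐍 X → b ∈ X → g ∈ X := fun X h1 h2 =>
    zpowers_le.2 (mul_mem (conj_mem_of_mem_normalizer h1 h2) (inv_mem h2)) hg
  have lW := le_sup_left.trans h.u_le
  have g1 : g ∈ 𝐍 (W ⊔ oz (𝐉 T)) := zpowers_le.1 (le_normalizer_of_commutator_le ((commutator_mono h.u_le le_rfl).trans
    (le_sup_of_le_left ((le_commStab_iff' lW).1 (zpowers_le.2 (m _ (zpowers_le.1 (le_normalizer_commStab
      (le_n_oz (zpowers_le.2 (normalizer_le_normalizer_thompsonOf 2 _ xn))) (zpowers_le.2 th.n)))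
      ((le_commStab_iff' lW).2 (h.z_comm hA) hb)))))))
  have g2 : g ∈ 𝐍 (T ⊓ 𝐂 W) := m _ (le_normalizer xn) (zpowers_le.1 (le_normalizer_inf
    (zpowers_le.2 (le_normalizer bB.1)) (le_normalizer_centralizer (zpowers_le.2 (h.bn bB)))))
  refine ⟨b, bB, b1, g, m P (le_normalizer xP) (h.tp bB.1), t1, t2, t3, g1, ?_⟩
  have : bm T ⊓ 𝐂 W = T ⊓ 𝐂 W ⊓ 𝐂 (W ⊔ oz (𝐉 T)) := by
    rw [centralizer_sup', ← inf_assoc, inf_assoc T (𝐂 W), inf_idem, inf_right_comm]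
  rw [this]
  exact zpowers_le.1 (le_normalizer_inf (zpowers_le.2 g2) (le_normalizer_centralizer (zpowers_le.2 g1)))

theorem ax (hb : b ∈ bm T) (b1 : b ∉ 𝐂 W) (gP : g ∈ P) (th : Th W g) (o : (orderOf g).Coprime 2)
    (e : b * g * b⁻¹ = g⁻¹) (g1 : g ∈ 𝐍 (W ⊔ oz (𝐉 T))) (g2 : g ∈ 𝐍 (bm T ⊓ 𝐂 W)) :
    Ax (bm T ⊔ zpowers g) (bm T) (bm T ⊓ 𝐂 W) (W ⊔ oz (𝐉 T)) (oz (𝐉 T)) (𝐍 T) := by
  have pB : IsPGroup 2 (bm T) := h.isP.to_inf_left
  have nY : bm T ≤ 𝐍 (oz (𝐉 T)) := le_normalizer_of_le_centralizer inf_le_right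
  have yW : oz (𝐉 T) ≤ 𝐂 W := (oz_le_c _).trans (centralizer_anti (h.wJ.trans h.jQ))
  have wB : ⁅W, bm T⁆ ≤ W ⊓ 𝐂 (𝐉 T) :=
    h.four.commutator_le_of_card inf_le_left h.card_r h.bn (le_normalizer_of_le_centralizer h.bc)
  have gm : ∀ X : Subgroup G, b ∈ X → g * b * g⁻¹ ∈ X → g ∈ X := fun X h1 h2 =>
    mem_of_pow_mem_coprime_orderOf o (by
      have := mul_mem h2 (inv_mem h1)
      rwa [show g * b * g⁻¹ * b⁻¹ = g * (b * g * b⁻¹)⁻¹ by group, e, inv_inv, ← pow_two] at this)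
  have eQ : cj g (bm T) ⊓ 𝐂 W = bm T ⊓ 𝐂 W := by
    rw [← cj_eq_iff.2 g2, cj_inf g _ (𝐂 W), cj_centralizer, cj_eq_iff.2 th.n]
  refine ⟨inf_le_left, le_sup_left, sup_le (le_normalizer_inf_centralizer h.bn) (zpowers_le.2 g2),
    sup_le (le_normalizer_sup h.bn nY) (zpowers_le.2 g1), n_bm, n_oz,
    sup_le (le_inf h.wB h.four.le_c) (le_inf ((oz_le _).trans j_le_bm) yW),
    le_centralizer_sup inf_le_right (inf_le_left.trans inf_le_right), le_sup_right, inf_le_right,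
    commutator_sup_le (wB.trans h.r_le) (commutator_le_of_le_normalizer nY) (h.wB.trans nY) le_normalizer,
    fun w hw w1 c hc c1 k => ?_, ?_, ⟨g, mem_sup_right (mem_zpowers g), fun c hc c1 => ?_, fun c hc c1 => ?_⟩,
    fun U h1 h2 h3 => by_contra fun hn => h.nM g gP th (h.free U (h1.trans inf_le_left) hn h3
      ⟨gP, h2 (mem_sup_right (mem_zpowers g))⟩), fun e => h.r_ne (le_bot_iff.1 (e ▸ h.r_le))⟩
  · obtain ⟨u, hu, y, hy, rfl⟩ := (mem_sup_of_le_normalizer (h.wB.trans nY)).1 hw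
    have e1 : ⁅u * y, c⁆ = ⁅u, c⁆ := by
      rw [commutatorElement_mul_left_eq_conj_mul, commutatorElement_eq_one_iff_mul_comm.2 (hc.2 y hy)]; simp
    rw [e1] at k
    have e2 := commutatorElement_eq_one_iff_mul_comm.1 (th.fix h.four (wB (commutator_mem_commutator hu hc)).1
      (mem_centralizer_singleton_iff.1 (k (mem_sup_right (mem_zpowers g)))))
    have l : W ⊓ 𝐂 (𝐉 T) ≤ W ⊓ 𝐂 (zpowers c) := le_inf inf_le_left (le_centralizer_iff.1 (zpowers_le.2 (h.bc hc)))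
    rcases h.four.card_cases (inf_le_left : W ⊓ 𝐂 (zpowers c) ≤ W) with e3 | e3 | e3
    · exact h.r_ne (le_bot_iff.1 (e3 ▸ l))
    · refine w1 (mul_mem (h.r_le ((eq_of_le_of_card_ge l (e3.trans h.card_r.symm).le).ge ⟨hu, ?_⟩)) hy)
      rw [centralizer_zpowers]; exact mem_centralizer_singleton_iff.2 e2
    · exact c1 ⟨hc, zpowers_le.1 (le_centralizer_iff.1 (inf_eq_left.1 e3))⟩
  · rw [relIndex_sup_of_le_normalizer (h.wB.trans nY), inf_comm, inf_relIndex_right,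
      h.four.relIndex_two pB h.bn fun e => b1 (e hb), ← inf_relIndex_right,
      le_antisymm (le_inf inf_le_right (inf_le_left.trans (oz_le_c _))) (le_inf h.r_le inf_le_left),
      h.four.relIndex_of_card inf_le_left h.card_r]
  · have m := conj_mem_cj g hb
    have n : cj g (bm T) ≤ 𝐍 W := cj_eq_iff.2 th.n ▸ cj_le_n g h.bn
    have k := eQ.le ⟨mul_mem hc m, h.four.two_of_isP (isPGroup_cj g pB) n c hc _ m (fun k => c1 (eQ.le ⟨hc, k⟩))
      fun k => b1 (by rwa [← cj_eq_iff.2 th.n, ← cj_centralizer, conj_mem_cj_iff] at k)⟩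
    exact sup_le le_sup_left (zpowers_le.2 (gm _ (mem_sup_left hb)
      ((mul_mem_cancel_left (mem_sup_right (mem_zpowers c))).1 (mem_sup_left k.1))))
  · have k := eQ.ge ⟨mul_mem hc hb, h.four.two_of_isP pB h.bn c hc _ hb (fun k => c1 ⟨hc, k⟩) b1⟩
    have m := gm (cj g (bm T) ⊔ zpowers c) ((mul_mem_cancel_left (mem_sup_right (mem_zpowers c))).1 (mem_sup_left k.1))
      (mem_sup_left (conj_mem_cj g hb))
    exact sup_le ((cj_inv_cj g (bm T)).ge.trans (cj_le_of_mem le_sup_left (inv_mem m))) (zpowers_le.2 m)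

theorem out (sol : ∀ L : Subgroup G, IsTwoLocal L → Group.IsSolvable L) : ∃ W' D E, H18.PUOut T P M W W' D E := by
  obtain ⟨b, hb, b1, g, gP, th, o, e, g1, g2⟩ := h.exists_g
  obtain ⟨s, hs, k⟩ := (h.ax hb b1 gP th o e g1 g2).crit_two fun z hz => by
    rw [← pow_two]; exact (elemAb_oz _).2 z (h.u_le hz)
  have nc : ¬ cj s W ≤ 𝐂 W := fun c => k (by
    rw [cj_inf s _ (𝐂 W), cj_eq_iff.2 (n_bm hs), cj_centralizer]
    refine sup_le (le_inf h.wB (le_centralizer_iff.1 c)) (le_inf ((oz_le _).trans j_le_bm) ?_)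
    rw [← cj_eq_iff.2 (n_oz hs)]
    exact cj_le_c s ((oz_le_c _).trans (centralizer_anti (h.wJ.trans h.jQ))))
  obtain ⟨D, E, d, l⟩ := fin h.isP.to_inf_left h.four h.wB h.bn (n_bm hs) nc th g2 sol (inf_le_left.trans h.tp) gP h.nM
  have nW : T ≤ 𝐍 W := fun t ht => h.ti t ht fun e => by
    have l2 := (le_inf (cj_le_of_mem_normalizer h.wB (n_bm (le_normalizer ht))) (h.cm t ht)).trans l
    have c1 := card_sup_mul_card_inf (H := cj t W) (le_normalizer_of_le_centralizer (h.cm t ht))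
    have c2 := card_sup_mul_card_inf (H := D) (K := W)
      (le_normalizer_of_le_centralizer (d.cen.trans (centralizer_anti h.wB)))
    have c3 := card_le_of_le (sup_le (l2.trans (sup_comm W D).le) le_sup_right)
    rw [inf_comm, e, card_bot, card_cj, h.four.card] at c1
    rw [h.four.card] at c2
    have p : 0 < Nat.card ↥(D ⊓ W) := Nat.card_pos
    have := d.card
    nlinarith
  obtain ⟨x, xP, tx, xn⟩ := h.ex
  obtain ⟨D, E, d, -⟩ := fin h.isP h.four h.le nW hs nc tx xn sol h.tp xP h.nM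
  exact ⟨_, D, E, d⟩

end St

theorem exists_st (hT : IsSyl 2 T P) (hs : Group.IsSolvable P) (hc : CharPOf 2 P) (h1 : T ≤ M) (h2 : ¬ P ≤ M)
    (free : ∀ X ≤ T, X ≠ ⊥ → 𝐍 T ≤ 𝐍 X → P ⊓ 𝐍 X ≤ M) (h0 : T ≠ ⊥) : ∃ W, St T P M W := by
  have r := (pRed_omegaOne_center T).ncl hc hT le_rfl hT.le
  set V := ncl (oz T) P
  have f := FFD.of_mF r.elemAb (sup_le ((thompsonOf_le 2 P).trans r.norm) (inf_le_left.trans r.norm))
    (ffd_thompson r.elemAb r.le r.norm (pSol_of_solvable hs) r.red)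
  set E := 𝐉 P ⊔ P ⊓ 𝐂 V
  have eP : E ≤ P := sup_le (thompsonOf_le 2 P) inf_le_left
  have nE : P ≤ 𝐍 E := le_normalizer_sup (le_normalizer_thompsonOf 2 P) (le_normalizer_inf_centralizer r.norm)
  have cM : P ⊓ 𝐂 V ≤ M := (inf_le_inf_left _ ((centralizer_anti (le_ncl _ _)).trans (centralizer_le_normalizer _))).trans
    (free _ (oz_le T) (omegaOne_center_ne_bot hT.isP h0) (le_n_oz le_rfl))
  have jM := free _ (thompsonOf_le 2 T) (thompson_ne_bot hT.isP h0) (normalizer_le_normalizer_thompsonOf 2 T)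
  have jE : 𝐉 T ≤ E := (thompsonOf_le_of_isSyl hT).trans le_sup_left
  obtain ⟨W, hW, wM⟩ : ∃ W ∈ Pl 2 V E, ¬ plE V E W ≤ M := by
    by_contra k
    push Not at k
    have l : sSup (plE V E '' Pl 2 V E) ≤ P := sSup_le (by rintro _ ⟨W, -, rfl⟩; exact plE_le.trans eP)
    have : E ≤ M := (le_inf f.gen eP).trans ((dedekind_left l (le_normalizer_centralizer (l.trans r.norm))).le.trans
      (sup_le (sSup_le (by rintro _ ⟨W, hW, rfl⟩; exact k W hW)) ((inf_comm _ _).le.trans cM)))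
    refine h2 fun g hg => ?_
    obtain ⟨c, hc, e⟩ := exists_mul_mem_normalizer_thompsonOf hT nE jE hg
    exact (mul_mem_cancel_left (this hc.2)).1 (jM ⟨mul_mem hc.1 hg, e⟩)
  have four := four_of_natSL hW.2
  have nW := f.le_normalizer hW
  have sE := hT.inf_of_normal nE eP
  have sW := sE.inf_of_normal (f.le_normalizer_plE hW) plE_le
  have nS := inf_le_right.trans hW.2.le_normalizer (a := T ⊓ E ⊓ plE V E W)
  have tc : ¬ T ⊓ E ⊓ plE V E W ≤ 𝐂 W := fun k => hW.2.not_le_centralizer (hW.2.le_pElementClosure_sup.trans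
    (sup_le (pElementClosure_le_iff.2 fun x hx n hn => by
      obtain ⟨g, hg, e⟩ := sW.exists_conj_mem hx hn
      have := k e
      rwa [← cj_eq_iff.2 (hW.2.le_normalizer hg), ← cj_centralizer, conj_mem_cj_iff] at this) le_rfl))
  have lT : V ≤ T := r.le_pCoreOf.trans hT.pCoreOf_le
  have pl : ∀ g ∈ P, cj g W ∈ Pl 2 V E := fun g hg => Pl.conj hW (r.norm hg) (nE hg)
  refine ⟨W, hT.isP, hT.le, four, hW.1.trans lT, jE.trans nW, fun k => hW.2.not_le_centralizer (plE_le.trans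
    (sup_le (thompsonOf_le_iff.2 fun A hA => ?_) (inf_le_right.trans (centralizer_anti hW.1)))), fun t ht k => ?_,
    fun t ht => (pl t (hT.le ht)).1.trans ((elemAb_le_centralizer r.elemAb).trans (centralizer_anti hW.1)), ?_,
    fun k hk th kM => wM ?_, free⟩
  · obtain ⟨g, hg, l⟩ := hT.exists_cj_le (elemAb_isPGroup (MaxEA.elemAb hA)) (MaxEA.le hA)
    obtain ⟨c, hc, e⟩ := exists_mul_mem_normalizer_thompsonOf hT nE jE (inv_mem hg)
    have l2 := MaxEA.le_thompsonOf (MaxEA.of_le (MaxEA.cj_of_mem_normalizer hA (le_normalizer hg)) l hT.le)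
    have l3 := cj_mono (c * g⁻¹) l2
    rw [cj_eq_iff.2 e, ← cj_mul, inv_mul_cancel_right] at l3
    have := cj_le_iff.1 (l3.trans k)
    rwa [cj_centralizer, cj_eq_iff.2 (inv_mem (nW hc.2))] at this
  · by_contra n
    have p := pl t (hT.le ht)
    exact k (le_bot_iff.1 (p.2.inf_centralizer ▸ le_inf inf_le_right (inf_le_left.trans (le_centralizer_iff.1
      (f.cent W hW _ p fun e => n (cj_eq_iff.1 e.symm))))))
  · obtain ⟨e, he, e1, e2⟩ := four.exists_three hW.2.le_normalizer fun k => by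
      have c := four.card_inf_c sW.isP nS tc
      rcases hW.2.eq_bot_or_eq inf_le_left (sW.le_of_pResidualOf_le (K := 𝐍 (W ⊓ 𝐂 (T ⊓ E ⊓ plE V E W)))
        (le_normalizer_of_le_centralizer (k.trans (centralizer_anti inf_le_left)))
        (le_normalizer_of_le_centralizer (le_centralizer_iff.1 inf_le_right))) with e | e
      · rw [e, card_bot] at c; omega
      · rw [e, four.card] at c; omega
    have s1 := isSyl_sup_of_inf (T := T ⊓ 𝐍 W) hT.isP.to_inf_left ((inf_le_left.trans hT.le).trans nE)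
      (by rwa [inf_assoc, inf_eq_right.2 nW])
    have n1 : T ⊓ 𝐍 W ⊔ E ≤ 𝐍 W := sup_le inf_le_right nW
    have s2 := s1.inf_of_le_normalizer (le_normalizer_centralizer n1)
    rw [inf_assoc, inf_eq_right.2 (centralizer_le_normalizer _)] at s2
    obtain ⟨n, hn, k⟩ := s2.frattini_mem (le_normalizer_inf_centralizer n1 (mem_sup_right (plE_le he)))
    exact ⟨n * e, mul_mem (sup_le (inf_le_left.trans hT.le) eP hn.1) (eP (plE_le he)),
      Th.mul ⟨hW.2.le_normalizer he, e1, e2⟩ hn.2, k⟩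
  · obtain ⟨t, ht, t1⟩ := SetLike.not_le_iff_exists.1 tc
    have t2 := four.sq_mem_of_isP sW.isP nS ht
    obtain ⟨c1, c2⟩ := four.comm_three th.n (nS ht) th.cube th.nc t2 t1
    have kn : k ∈ 𝐍 (plE V E W) := cj_eq_iff.1 (by rw [cj_plE hW.1 (r.norm hk) (nE hk), cj_eq_iff.2 th.n])
    have tM := h1 ht.1.1
    have m : ⁅k, t⁆ ∈ M ⊓ plE V E W := mem_inf.2 ⟨mul_mem (mul_mem (mul_mem kM tM) (inv_mem kM)) (inv_mem tM),
      mul_mem (conj_mem_of_mem_normalizer kn ht.2) (inv_mem (mem_inf.1 ht).2)⟩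
    have l := four.le_sup_six (hW.2.le_normalizer m.2) (nS ht) c1 c2 t2 t1 m ⟨h1 ht.1.1, ht.2⟩
    refine (le_inf (hW.2.le_normalizer.trans l) le_rfl).trans ((dedekind_left inf_le_right
      (le_normalizer_centralizer (inf_le_right.trans hW.2.le_normalizer))).le.trans (sup_le inf_le_left ?_))
    exact (le_inf (inf_le_right.trans (plE_le.trans eP)) ((inf_comm _ _).le.trans (f.inf W hW))).trans cM

universe u in
theorem pul : H18.PUL.{u} := fun _ _ _ _ _ _ hT hs hc hM free sol h0 =>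
  let ⟨W, h⟩ := exists_st hT hs hc hM.le hM.lt.not_ge free h0
  ⟨W, h.out sol⟩

end H118

end H226
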