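import Cfsg.Agent.H26.JC5
import Cfsg.Agent.H26.T2.Def
/-! Interface for `H26.N3t`: the local pushing-up statement `PUL`. -/
set_option autoImplicit false
namespace H18 end H18 namespace H226 end H226 namespace H26 end H26
open H226
namespace H226
namespace H18
open _root_.H18
open Subgroup Cfsg H26 _root_.H26
universe u

/-- The outcome of pushing up a solvable minimal parabolic `P` over `T`: `T = D₈ × D` with `|D| ≤ 2`, `D₈ = W W'`. -/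
structure PUOut {G : Type*} [Group G] (T P M W W' D E : Subgroup G) : Prop where
  four : Four W
  four' : Four W'
  sup : W ⊔ W' ⊔ D = T
  card : Nat.card D ≤ 2
  cen : D ≤ 𝐂 T
  disj : (W ⊔ W') ⊓ D = ⊥
  inf : Nat.card ↥(W ⊓ W') = 2
  nc : ¬ W ≤ 𝐂 W'
  nw : T ≤ 𝐍 W
  nw' : T ≤ 𝐍 W'
  conj : ∃ g ∈ 𝐍 T, cj g W = W'
  eP : E ≤ P
  eM : ¬ E ≤ M
  eW : E ≤ 𝐍 W
  eD : E ≤ 𝐂 D
  tr : ∀ x ∈ W, ∀ y ∈ W, x ≠ 1 → y ≠ 1 → ∃ e ∈ E, e * x * e⁻¹ = y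

/-- Local pushing up in a group with solvable 2-local subgroups. -/
def PUL : Prop := ∀ (G : Type u) [Group G] [Finite G] (T P M : Subgroup G), IsSyl 2 T P → Group.IsSolvable P →
  P ⊓ 𝐂 (pCoreOf 2 P) ≤ pCoreOf 2 P → UMax T M P →
  (∀ X ≤ T, X ≠ ⊥ → 𝐍 T ≤ 𝐍 X → P ⊓ 𝐍 X ≤ M) →
  (∀ L : Subgroup G, IsTwoLocal L → Group.IsSolvable L) → T ≠ ⊥ → ∃ W W' D E, PUOut T P M W W' D E

end H18

end H226
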