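import Cfsg.Agent.H26.T2.H13FF2
import Cfsg.Agent.H9.FB1
/-! `H26.FC`, part 1 (linear algebra): the module `U/Z` with its quadratic form (`Mo`), the element `η` of the
dihedral lemma (`Et`, `exists_et`), and the cases `k0`, `c4`, `c6`, `c7` of notes/helper26_N4c.md. -/
set_option autoImplicit false
set_option linter.unusedSectionVars false
namespace H120 end H120 namespace H120.FC end H120.FC namespace H120.FC.Et end H120.FC.Et namespace H120.FC.Mo end H120.FC.Mo namespace H13.FFa end H13.FFa namespace H18 end H18 namespace H226 end H226 namespace H26 end H26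
open H226
namespace H226
namespace H120.FC
open _root_.H120 _root_.H120.FC
open Cfsg Subgroup H26 _root_.H26 H13.FFa _root_.H13.FFa
open scoped Pointwise

variable {Γ W : Type*} [Group Γ] [AddCommGroup W] [DistribMulAction Γ W]

theorem z2 {x : ZMod 2} (h : x ≠ 0) : x = 1 := by revert x; decide
theorem z2' {x : ZMod 2} (h : x ≠ 1) : x = 0 := by revert x; decide
theorem z11 : (1 + 1 : ZMod 2) = 0 := by decide
theorem zxx (x : ZMod 2) : x + x = 0 := by revert x; decide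

theorem eq2 (h2 : ∀ w : W, w + w = 0) {x y : W} (w : W) (h : x = y + (w + w)) : x = y := by rw [h, h2, add_zero]

theorem key {a η : Γ} (ho : Odd (orderOf η)) (hi : a * η * a = η⁻¹) {x : W} (h1 : a • x = x)
    (h2 : a • η • x = η • x) : η • x = x := fix_of_sq ho (by
  rw [← h2, ← h1, smul_smul, smul_smul, smul_smul, mul_assoc η, mul_assoc η, hi, mul_inv_cancel, one_smul, h1])

theorem four (h2 : ∀ w : W, w + w = 0) {a η : Γ} (ho : Odd (orderOf η)) (hi : a * η * a = η⁻¹) {X : AddSubgroup W}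
    (hη : ∀ x ∈ X, η • x ∈ X) (h0 : ∀ x ∈ X, η • x = x → x = 0)
    (two : ∀ x ∈ X, ∀ x' ∈ X, a • x ≠ x → a • x' ≠ x' → a • (x + x') = x + x') {w : W} (hw : w ∈ X) (w0 : w ≠ 0)
    (aw : a • w = w) {x : W} (hx : x ∈ X) : x = 0 ∨ x = w ∨ x = η • w ∨ x = w + η • w := by
  have k : ∀ x ∈ X, a • x = x → a • η • x = η • x → x = 0 := fun x hx e e' => h0 x hx (key ho hi e e')
  have n : a • η • w ≠ η • w := fun e => w0 (k w hw aw e)
  have k2 : ∀ x ∈ X, a • x = x → x = 0 ∨ x = w := fun x hx e => or_iff_not_imp_left.2 fun x0 =>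
    eq_of_add h2 (k _ (X.add_mem hx hw) (by rw [smul_add, e, aw]) (by
      rw [smul_add η]; exact two _ (hη _ hx) _ (hη _ hw) (fun e' => x0 (k x hx e e')) n))
  by_cases e : a • x = x
  · rcases k2 x hx e with j | j <;> simp [j]
  rcases k2 _ (X.add_mem hx (hη _ hw)) (two _ hx _ (hη _ hw) e n) with j | j
  · exact .inr (.inr (.inl (eq_of_add h2 j)))
  · exact .inr (.inr (.inr (by have := h2 (η • w); grind)))

/-- the element of the dihedral lemma -/
structure Et (A A₁ : Subgroup Γ) (a η : Γ) : Prop where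
  aA : a ∈ A
  sq : ∀ b ∈ A, b * b = 1
  ne : η ≠ 1
  odd : Odd (orderOf η)
  inv : a * η * a = η⁻¹
  le : A₁ ≤ A
  two : ∀ b ∈ A, b ∈ A₁ ∨ a * b ∈ A₁
  cen : ∀ b ∈ A₁, b * η = η * b

theorem odd_of_piElt {p : ℕ} {x : Γ} [Finite Γ] (h : H18.PiElt {p} x) (h2 : p ≠ 2) : Odd (orderOf x) :=
  Nat.not_even_iff_odd.1 fun e => h2 (h.eq_of_dvd Nat.prime_two e.two_dvd).symm

theorem comm_of_sq {A : Subgroup Γ} (h : ∀ b ∈ A, b * b = 1) {a b : Γ} (ha : a ∈ A) (hb : b ∈ A) : a * b = b * a := by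
  have := h _ (mul_mem ha hb)
  rw [← inv_eq_of_mul_eq_one_right this, mul_inv_rev, inv_eq_of_mul_eq_one_right (h a ha),
    inv_eq_of_mul_eq_one_right (h b hb)]

open H18 _root_.H18 in
theorem exists_et [Finite Γ] [Group.IsSolvable Γ] (hO : pCoreOf 2 (⊤ : Subgroup Γ) = ⊥) {A : Subgroup Γ}
    (h : ∀ b ∈ A, b * b = 1) {a : Γ} (ha : a ∈ A) (a1 : a ≠ 1) :
    ∃ η A₁, Et A A₁ a η ∧ ∃ p, p.Prime ∧ η ∈ pCoreOf p (⊤ : Subgroup Γ) := by
  have e : ∀ x : Γ, mfun (⊤ : Subgroup Γ).subtype x = x := fun x => mfun_of_mem (mem_top x)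
  have e2 : mim (⊤ : Subgroup Γ).subtype ⊤ = ⊤ := top_unique fun x _ => e x ▸ mfun_mem_mim (mem_top x)
  have e3 : ∀ p : ℕ, O[{p}]((⊤ : Subgroup Γ)) ≤ pCoreOf p ⊤ := fun p =>
    le_pCoreOf pcore_pi.isPGroup le_top pcore_nml.norm
  obtain ⟨p, η, A₁, hp, h2, -, pη, i, n, m, l, ix, na, -, c⟩ := H9.FB.dl (f := (⊤ : Subgroup Γ).subtype) le_rfl
    solv_of_solv (by rw [e2]; exact le_bot_iff.1 (hO ▸ e3 2)) (le_top : A ≤ ⊤)
    ⟨fun x hx y hy => comm_of_sq h hy hx, fun x hx => by rw [pow_two, h x hx]⟩ ha (by rwa [e])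
  simp only [e, e2] at n m c
  exact ⟨η, A₁, ⟨ha, h, n, odd_of_piElt pη h2, i, l,
    fun b hb => or_iff_not_imp_left.2 fun nb => H9.FB.mul_two ix ha hb na nb, c⟩, p, hp, e3 p m⟩

namespace Et
open _root_.H120.FC.Et
variable {A A₁ : Subgroup Γ} {a η b θ : Γ} (e : Et A A₁ a η) {x : W}
include e

theorem aa : a * a = 1 := e.sq a e.aA
theorem a1 : a ≠ 1 := fun k => e.ne (one_of_sq e.odd (by
  have := e.inv
  rw [k, one_mul, mul_one] at this
  nth_rewrite 2 [this]; rw [mul_inv_cancel]))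

theorem nrm (hb : b ∈ A) : b * η * b⁻¹ ∈ zpowers η := by
  rcases e.two b hb with k | k
  · rw [e.cen b k, mul_inv_cancel_right]; exact mem_zpowers η
  · have : b * η * b⁻¹ = a * (a * b * η * (a * b)⁻¹) * a := by
      rw [mul_inv_rev, inv_eq_of_mul_eq_one_right e.aa]
      simp only [← mul_assoc, e.aa, one_mul]
      rw [mul_assoc _ a a, e.aa, mul_one]
    rw [this, e.cen _ k, mul_inv_cancel_right, e.inv]; exact inv_mem (mem_zpowers η)

theorem nrm' (hb : b ∈ A) (h : θ ∈ zpowers η) : b * θ * b⁻¹ ∈ zpowers η := by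
  obtain ⟨n, rfl⟩ := mem_zpowers_iff.1 h
  rw [← conj_zpow]; exact zpow_mem (e.nrm hb) n

theorem cen' (hb : b ∈ A₁) (h : θ ∈ zpowers η) : θ * b = b * θ := by
  obtain ⟨n, rfl⟩ := mem_zpowers_iff.1 h
  exact (Commute.zpow_right (e.cen b hb) n).eq.symm

theorem rgA (hb : b ∈ A) (h : x ∈ rg W η) : b • x ∈ rg W η := smul_mem_rg' (e.nrm hb) h

theorem fxA (hb : b ∈ A) (h : η • x = x) : η • b • x = b • x := by
  have : zpowers η ≤ MulAction.stabilizer Γ x := zpowers_le.2 h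
  have k : (b⁻¹ * η * b⁻¹⁻¹) • x = x := this (e.nrm (inv_mem hb))
  rwa [inv_inv, mul_smul, mul_smul, inv_smul_eq_iff] at k

/-- `η` may be replaced by a nontrivial power -/
theorem pow (h : θ ∈ zpowers η) (h1 : θ ≠ 1) : Et A A₁ a θ := by
  refine ⟨e.aA, e.sq, h1, e.odd.of_dvd_nat (orderOf_dvd_of_mem_zpowers h), ?_, e.le, e.two,
    fun b hb => (e.cen' hb h).symm⟩
  obtain ⟨n, rfl⟩ := mem_zpowers_iff.1 h
  have := e.inv
  nth_rewrite 2 [← inv_eq_of_mul_eq_one_right e.aa] at this ⊢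
  rw [← conj_zpow, this, inv_zpow]
end Et

/-- the module `U/Z` with the commutator form `β`, the squaring map `q`, and the images `A`, `D`, `v` -/
structure Mo (A : Subgroup Γ) (D : AddSubgroup W) (v : W) (β : W → W → ZMod 2) (q : W → ZMod 2) : Prop where
  two : ∀ w : W, w + w = 0
  faith : ∀ γ : Γ, (∀ w : W, γ • w = w) → γ = 1
  sy : ∀ a b, β a b = β b a
  ad : ∀ a b c, β (a + b) c = β a c + β b c
  sm : ∀ (γ : Γ) a b, β (γ • a) (γ • b) = β a b
  qa : ∀ a b, q (a + b) = q a + q b + β a b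
  qs : ∀ (γ : Γ) a, q (γ • a) = q a
  v0 : v ≠ 0
  vD : v ∈ D
  qD : ∀ d ∈ D, q d = 0
  sq : ∀ a ∈ A, a * a = 1
  av : ∀ a ∈ A, a • v = v
  a2 : ∀ a ∈ A, ∀ w, β w v = 0 → a • w + w ∈ D
  a3 : ∀ a ∈ A, ∀ d ∈ D, a • d = d ∨ a • d = d + v
  inj : ∀ a ∈ A, ∀ u, β u v = 1 → a • u + u ∈ D → a = 1
  sur : ∀ u w, β u v = 1 → β w v = 0 → ∃ a ∈ A, w + (a • u + u) ∈ D
  cA : ∀ d ∈ D, (∀ a ∈ A, a • d = d) → d = 0 ∨ d = v
  c0 : ∀ d ∈ D, (∀ w, β w v = 0 → β d w = 0) → d = 0 ∨ d = v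
  ex : ∃ u, β u v = 1
  span : ∀ Y : AddSubgroup W, (∀ γ : Γ, γ • v ∈ Y) → ∀ w, w ∈ Y
  nD : ∀ γ : Γ, (∀ d ∈ D, γ • d ∈ D) ↔ γ • v = v
  nA : ∀ γ : Γ, γ • v = v → ∀ a ∈ A, γ * a * γ⁻¹ ∈ A
  syl : ∃ P : Subgroup Γ, IsSyl 2 P ⊤ ∧ ∀ γ ∈ P, γ • v = v

namespace Mo
open _root_.H120.FC.Mo
variable [Finite Γ] [Finite W] {A A₁ : Subgroup Γ} {D : AddSubgroup W} {v : W} {β : W → W → ZMod 2} {q : W → ZMod 2}
  (m : Mo A D v β q) {a b γ η s : Γ} {c d u w x : W}
include m

theorem ad' (a b c : W) : β c (a + b) = β c a + β c b := by rw [m.sy, m.ad, m.sy a, m.sy b]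
theorem β0 (c : W) : β 0 c = 0 := by
  have := m.ad 0 0 c
  rw [add_zero, zxx] at this; exact this
theorem β0' (c : W) : β c 0 = 0 := by rw [m.sy, m.β0]
theorem q0 : q 0 = 0 := m.qD 0 D.zero_mem
theorem βs (c : W) : β c c = 0 := by
  have := m.qa c c
  rwa [m.two, m.q0, zxx, zero_add, eq_comm] at this
theorem βD (hc : c ∈ D) (hd : d ∈ D) : β c d = 0 := by
  have := m.qa c d
  rwa [m.qD _ (D.add_mem hc hd), m.qD _ hc, m.qD _ hd, zero_add, zero_add, eq_comm] at this
theorem qv : q v = 0 := m.qD v m.vD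
theorem qO (γ : Γ) : q (γ • v) = 0 := by rw [m.qs, m.qv]
theorem βv (h : γ • v = v) (w : W) : β (γ • w) v = β w v := by
  conv_lhs => rw [← h]
  rw [m.sm]
theorem a1 (ha : a ∈ A) (w : W) : β (a • w + w) v = 0 := by rw [m.ad, m.βv (m.av a ha), zxx]
theorem aD (ha : a ∈ A) (hd : d ∈ D) : a • d ∈ D := (m.nD a).2 (m.av a ha) d hd
theorem aaw (ha : a ∈ A) (w : W) : a • a • w = w := by rw [smul_smul, m.sq a ha, one_smul]
theorem addl (a b : W) : a + (a + b) = b := by rw [← add_assoc, m.two, zero_add]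
theorem addr (a b : W) : a + b + b = a := by rw [add_assoc, m.two, add_zero]

/-- the orthogonal complement of `c` -/
def pp (c : W) : AddSubgroup W where
  carrier := {w | β w c = 0}
  zero_mem' := m.β0 c
  add_mem' := fun {a b} ha hb => by change β _ c = 0 at *; rw [m.ad, ha, hb, add_zero]
  neg_mem' := fun {a} ha => by rwa [neg_eq_of_add_eq_zero_left (m.two a)]

theorem exO : ∃ γ : Γ, β (γ • v) v = 1 := by
  by_contra! k
  obtain ⟨u, hu⟩ := m.ex
  have : β u v = 0 := m.span (m.pp v) (fun γ => z2' (k γ)) u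
  rw [hu] at this; exact one_ne_zero this

theorem odd {L : Subgroup Γ} (hL : ∀ γ : Γ, γ • v = v → γ ∈ L) (h : ∀ x ∈ L, Odd (orderOf x) → x • v = v) (hγ : γ ∈ L) :
    γ • v = v := by
  obtain ⟨P, hP, k⟩ := m.syl
  exact (hP.mono (fun x hx => hL x (k x hx)) le_top).le_of_pResidualOf_le (K := MulAction.stabilizer Γ v)
    (pResidualOf_le_iff.2 fun x hx o => h x hx (Nat.coprime_two_right.1 o)) k hγ

theorem core : pCoreOf 2 (⊤ : Subgroup Γ) = ⊥ := by
  obtain ⟨P, hP, k⟩ := m.syl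
  refine eq_bot_iff.2 fun x hx => mem_bot.2 (m.faith x (m.span (fx W x) fun γ => ?_))
  have := k _ (hP.pCoreOf_le (conj_mem_of_mem_normalizer' (le_normalizer_pCoreOf 2 ⊤ (mem_top γ)) hx))
  rwa [mul_smul, mul_smul, inv_smul_eq_iff] at this

theorem k0 (hA : ∀ a ∈ A, a = 1) : False := by
  obtain ⟨u, hu⟩ := m.ex
  have k : ∀ w, β w v = 0 → w ∈ D := fun w hw => by
    obtain ⟨a, ha, e⟩ := m.sur u w hu hw
    rwa [hA a ha, one_smul, m.two, add_zero] at e
  have k2 : ∀ w, β w v = 0 → w = 0 ∨ w = v := fun w hw => m.c0 w (k w hw) fun x hx => m.βD (k w hw) (k x hx)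
  have k3 : ∀ γ : Γ, γ • v ≠ v → β (γ • v) v = 1 := fun γ n => z2 fun e =>
    (k2 _ e).elim (fun j => m.v0 (smul_eq_zero_iff_eq γ |>.1 j)) n
  obtain ⟨γ, e⟩ := m.exO
  rw [m.odd (L := ⊤) (fun _ _ => mem_top _) (fun x _ o => by_contra fun n => ?_) (mem_top γ), m.βs] at e
  · exact zero_ne_one e
  have n2 : (x * x) • v ≠ v := fun j => n (fix_of_sq o (by rwa [smul_smul]))
  rcases k2 ((x * x) • v + x • v) (by rw [m.ad, k3 _ n, k3 _ n2, z11]) with j | j
  · have := eq_of_add m.two j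
    rw [mul_smul, smul_left_cancel_iff] at this; exact n this
  · have := m.qa ((x * x) • v) (x • v)
    rw [j, m.qv, m.qO, m.qO, mul_smul, m.sm, k3 _ n] at this
    exact absurd this (by decide)

theorem perp (hx : x ∈ rg W η) (hc : η • c = c) : β x c = 0 := by
  obtain ⟨w, rfl⟩ := hx
  rw [sub_eq m.two, m.ad]
  nth_rewrite 1 [← hc]
  rw [m.sm, zxx]

section
variable (e : Et A A₁ a η)
include e

theorem can : η • v ≠ v := fun k => by
  have k1 : η⁻¹ * η⁻¹ ∈ A := by
    have := mul_mem e.aA (m.nA η k a e.aA)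
    rwa [← mul_assoc, ← mul_assoc, e.inv] at this
  have o : Odd (orderOf η⁻¹) := orderOf_inv η ▸ e.odd
  exact e.ne (inv_eq_one.1 (one_of_sq o (one_of_sq (o.of_dvd_nat (pow_two η⁻¹ ▸ orderOf_pow_dvd 2)) (m.sq _ k1))))

theorem beta : ∃ u ∈ rg W η, β u v = 1 := by
  by_contra! k
  have k : ∀ y ∈ rg W η, β y v = 0 := fun y hy => z2' (k y hy)
  obtain ⟨c, y₀, hy₀, hc, ev⟩ := decomp m.two e.odd v
  have rad : ∀ w, β y₀ w = 0 := fun w => by
    obtain ⟨c', y, hy, hc', rfl⟩ := decomp m.two e.odd w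
    have := k y hy
    rw [ev, m.ad', m.perp hy hc, zero_add] at this
    rw [m.ad', m.perp hy₀ hc', zero_add, m.sy, this]
  obtain ⟨u₀, hu₀⟩ := m.ex
  obtain ⟨u, y₁, hy₁, hu, rfl⟩ := decomp m.two e.odd u₀
  rw [m.ad, k _ hy₁, add_zero] at hu₀
  have n : y₀ ≠ 0 := fun j => m.can e (by rw [ev, j, add_zero, hc])
  have fa : ∀ y ∈ rg W η, a • y = y := fun y hy => by
    obtain ⟨b, hb, hd⟩ := m.sur u y hu₀ (k y hy)
    have h1 : η • (b • u + u) = b • u + u := by rw [smul_add, e.fxA hb hu, hu]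
    set c₂ := b • u + u
    have h2 : η • (a • c₂ + c₂) = a • c₂ + c₂ := by rw [smul_add, e.fxA e.aA h1, h1]
    have h3 := add_mem (e.rgA e.aA hy) hy
    rcases m.a3 a e.aA _ hd with j | j <;> rw [smul_add] at j
    · have : a • y + y = a • c₂ + c₂ := by have := m.two y; have := m.two (a • c₂); grind
      exact eq_of_add m.two (rg_fix m.two e.odd h3 (by rw [this, h2]))
    · have h4 : a • y + y + y₀ = a • c₂ + c₂ + c := by
        have := m.two y; have := m.two (a • c₂); have := m.two y₀; grind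
      have h5 := eq_of_add m.two (rg_fix m.two e.odd (add_mem h3 hy₀) (by rw [h4, smul_add, h2, hc]))
      rcases m.c0 y₀ (h5 ▸ m.a2 a e.aA y (k y hy)) (fun w _ => rad w) with i | i
      · exact absurd i n
      · rw [← i, m.sy, rad] at hu₀; exact absurd hu₀ zero_ne_one
  exact n (rg_fix m.two e.odd hy₀ (key e.odd e.inv (fa _ hy₀) (fa _ (smul_mem_rg_comm rfl hy₀))))

theorem c4 (hsol : ¬ ∀ θ ∈ zpowers η, θ • v ∈ D) (hs : s ∈ A₁) (s1 : s ≠ 1) :
    β (η • v) v = 0 ∧ (∀ b ∈ A, b • η • v = η • v ∨ b • η • v = η • v + v) ∧ η • η • v = v + η • v ∧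
    ∃ u, β u v = 1 ∧ ∀ t ∈ A, t • u + u + η • v ∈ D → t * η = η * t ∧ (t • u + u = η • v ∨ t • u + u = v + η • v) ∧
      ∀ x ∈ rg W η, t • x = x → x = 0 ∨ x = v ∨ x = η • v ∨ x = v + η • v := by
  have x0 : ∀ x ∈ rg W η, (∀ θ ∈ zpowers η, θ • x ∈ D) → x = 0 := fun x hx P => by
    have k : ∀ x, (∀ θ ∈ zpowers η, θ • x ∈ D) → a • x = x := fun x P =>
      (m.a3 a e.aA x (by simpa using P 1 (one_mem _))).resolve_right fun j => hsol fun θ hθ => by
        have := m.aD e.aA (P _ (e.nrm' (inv_mem e.aA) hθ))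
        rw [smul_smul, inv_inv, ← mul_assoc, mul_inv_cancel_left, mul_smul, j, smul_add] at this
        exact (D.add_mem_cancel_left (P θ hθ)).1 this
    exact rg_fix m.two e.odd hx (key e.odd e.inv (k x P) (k _ fun θ hθ => by
      rw [smul_smul]; exact P _ (mul_mem hθ (mem_zpowers η))))
  have quad : ∀ b ∈ A₁, ∀ c ∈ A₁, ∀ w ∈ rg W η, c • (b • w + w) = b • w + w := fun b hb c hc w hw => by
    have k := add_mem (e.rgA (e.le hb) hw) hw
    refine eq_of_add m.two (x0 _ (add_mem (e.rgA (e.le hc) k) k) fun θ hθ => ?_)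
    have := m.a2 c (e.le hc) _ (m.a1 (e.le hb) (θ • w))
    simp only [smul_add, smul_smul, ← mul_assoc, e.cen' hb hθ, e.cen' hc hθ] at this ⊢
    rwa [mul_assoc c θ b, e.cen' hb hθ, ← mul_assoc]
  let Y : AddSubgroup W := rg W η ⊓ ⨅ b ∈ A₁, fx W b
  have mY : ∀ x, x ∈ Y ↔ x ∈ rg W η ∧ ∀ b ∈ A₁, b • x = x := fun x => by
    simp only [Y, AddSubgroup.mem_inf, AddSubgroup.mem_iInf]; rfl
  have ηY : ∀ x ∈ Y, η • x ∈ Y := fun x hx => (mY _).2 ⟨smul_mem_rg_comm rfl hx.1, fun b hb => by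
    rw [smul_smul, e.cen b hb, mul_smul, ((mY x).1 hx).2 b hb]⟩
  have aY : ∀ x ∈ Y, a • x ∈ Y := fun x hx => (mY _).2 ⟨e.rgA e.aA hx.1, fun b hb => by
    rw [smul_smul, comm_of_sq m.sq (e.le hb) e.aA, mul_smul, ((mY x).1 hx).2 b hb]⟩
  have Y0 : ∀ x ∈ Y, β x v = 0 := fun x hx => z2' fun k => s1 (m.inj s (e.le hs) x k (by
    rw [((mY x).1 hx).2 s hs, m.two]; exact D.zero_mem))
  have spl : ∀ b ∈ A, ∀ x ∈ Y, b • x = x ∨ b • x = a • x := fun b hb x hx => (e.two b hb).imp (((mY x).1 hx).2 b)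
    fun k => by rw [← m.aaw e.aA (b • x), smul_smul a b, ((mY x).1 hx).2 _ k]
  have aV : ∀ x ∈ Y, a • x + x = 0 ∨ a • x + x = v := fun x hx => m.cA _ (m.a2 a e.aA x (Y0 x hx)) fun b hb => by
    rcases spl b hb _ (add_mem (aY x hx) hx) with k | k
    · exact k
    · rw [k, smul_add, m.aaw e.aA, add_comm]
  obtain ⟨u, hu, bu⟩ := m.beta e
  have nY : ∀ b ∈ A₁, b • u + u ∈ Y := fun b hb => (mY _).2 ⟨add_mem (e.rgA (e.le hb) hu) hu, fun c hc => quad b hb c hc u hu⟩
  have vY : v ∈ Y := by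
    by_contra k
    have fa : ∀ x ∈ Y, a • x = x := fun x hx =>
      eq_of_add m.two ((aV x hx).resolve_right fun j => k (j ▸ add_mem (aY x hx) hx))
    exact s1 (m.inj s (e.le hs) u bu (rg_fix m.two e.odd (nY s hs).1
      (key e.odd e.inv (fa _ (nY s hs)) (fa _ (ηY _ (nY s hs)))) ▸ D.zero_mem))
  have fo : ∀ x ∈ Y, x = 0 ∨ x = v ∨ x = η • v ∨ x = v + η • v := fun x hx =>
    four m.two e.odd e.inv ηY (fun x hx => rg_fix m.two e.odd hx.1) (fun x hx y hy n n' => by
      have h1 := (aV x hx).resolve_left fun j => n (eq_of_add m.two j)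
      have h2 := (aV y hy).resolve_left fun j => n' (eq_of_add m.two j)
      rw [smul_add]; have := m.two v; have := m.two x; have := m.two y; grind) vY m.v0 (m.av a e.aA) hx
  have nb : ∀ b ∈ A₁, b ≠ 1 → b • u + u = η • v ∨ b • u + u = v + η • v := fun b hb b1 => by
    rcases fo _ (nY b hb) with k | k | k
    · exact absurd (m.inj b (e.le hb) u bu (k ▸ D.zero_mem)) b1
    · exact absurd (m.inj b (e.le hb) u bu (k ▸ m.vD)) b1
    · exact k
  refine ⟨Y0 _ (ηY _ vY), fun b hb => ?_, ?_, u, bu, fun t ht hD => ?_⟩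
  · rcases spl b hb _ (ηY _ vY) with k | k
    · exact .inl k
    · exact (aV _ (ηY _ vY)).imp (fun j => k ▸ eq_of_add m.two j) fun j => by have := m.two (η • v); grind
  · rcases fo _ (ηY _ (ηY _ vY)) with k | k | k | k
    · exact absurd ((smul_eq_zero_iff_eq η).1 ((smul_eq_zero_iff_eq η).1 k)) m.v0
    · exact absurd (fix_of_sq e.odd k) (m.can e)
    · exact absurd (smul_left_cancel η k) (m.can e)
    · exact k
  have tb : ∀ b ∈ A₁, b ≠ 1 → t = b := fun b hb b1 => by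
    have h1 : b • u + u + η • v ∈ D := by
      rcases nb b hb b1 with k | k <;> rw [k]
      exacts [m.two _ ▸ D.zero_mem, (m.addr _ _).symm ▸ m.vD]
    have h2 := m.inj _ (mul_mem ht (e.le hb)) u bu (by
      convert add_mem (m.a2 t ht _ (m.a1 (e.le hb) u)) (add_mem h1 hD) using 1
      rw [smul_add, mul_smul]
      have := m.two (t • u); have := m.two (b • u); have := m.two u; have := m.two (η • v); grind)
    rw [eq_inv_of_mul_eq_one_left h2, inv_eq_of_mul_eq_one_right (m.sq b (e.le hb))]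
  refine ⟨tb s hs s1 ▸ e.cen s hs, tb s hs s1 ▸ nb s hs s1, fun x hx k => fo x ((mY x).2 ⟨hx, fun b hb => ?_⟩)⟩
  by_cases b1 : b = 1
  · rw [b1, one_smul]
  · rwa [← tb b hb b1]
end

variable (ha : a ∈ A) (a1 : a ≠ 1) (hA : ∀ b ∈ A, b = 1 ∨ b = a)
include ha a1 hA

theorem fD (hu : β u v = 1) (hw : β w v = 0) (n : w ∉ D) : w + (a • u + u) ∈ D := by
  obtain ⟨b, hb, k⟩ := m.sur u w hu hw
  rcases hA b hb with rfl | rfl
  · rw [one_smul, m.two, add_zero] at k; exact absurd k n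
  · exact k

theorem twoW (hw : β w v = 0) (n : w ∉ D) (hx : β x v = 0) (n' : x ∉ D) : w + x ∈ D := by
  obtain ⟨u, hu⟩ := m.ex
  convert add_mem (m.fD ha a1 hA hu hw n) (m.fD ha a1 hA hu hx n') using 1
  have := m.two (a • u + u); grind

theorem inF (hw : β w v = 0) (n : w ∉ D) (hx : β x v = 0) (n' : x ∉ D) (q1 : q w = 0) (q2 : q x = 0) :
    w + x = 0 ∨ w + x = v := by
  have k := m.twoW ha a1 hA hw n hx n'
  have k2 := m.qa w x
  rw [m.qD _ k, q1, q2, zero_add, zero_add, m.sy] at k2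
  have k3 : β (w + x) w = 0 := by rw [m.ad, m.βs, ← k2, add_zero]
  refine m.c0 _ k fun y hy => ?_
  by_cases j : y ∈ D
  · exact m.βD k j
  · rw [← m.addl w y, m.ad', k3, m.βD k (m.twoW ha a1 hA hw n hy j), add_zero]

theorem mov (hd : d ∈ D) (d0 : d ≠ 0) (dv : d ≠ v) : a • d = d + v :=
  (m.a3 a ha d hd).resolve_left fun k => (m.cA d hd fun b hb => by
    rcases hA b hb with rfl | rfl
    exacts [one_smul _ _, k]).elim d0 dv

theorem stab (h : γ • v = v) (hw : β w v = 0) (q1 : q w = 0) : γ • w = w ∨ γ • w = w + v := by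
  have k : γ • w + w = 0 ∨ γ • w + w = v := by
    by_cases j : w ∈ D
    · by_cases w0 : w = 0
      · simp [w0]
      by_cases wv : w = v
      · rw [wv, h, m.two]; simp
      have j2 := (m.nD γ).2 h w j
      refine m.cA _ (add_mem j2 j) fun b hb => ?_
      rcases hA b hb with rfl | rfl
      · exact one_smul _ _
      rw [smul_add, m.mov ha a1 hA j w0 wv, m.mov ha a1 hA j2 (fun i => w0 ((smul_eq_zero_iff_eq γ).1 i))
        fun i => wv (smul_left_cancel γ (i.trans h.symm))]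
      have := m.two v; grind
    · exact m.inF ha a1 hA (by rw [m.βv h, hw]) (fun i => j (by
        simpa using (m.nD γ⁻¹).2 (inv_smul_eq_iff.2 h.symm) _ i)) hw j (by rw [m.qs, q1]) q1
  exact k.imp (eq_of_add m.two) fun j => by have := m.two w; grind

theorem cl2 (h : γ • v ∈ D) : γ • v = v := by
  have n : γ ∈ 𝐍 (MulAction.stabilizer Γ v) := mem_normalizer_of_conj_mem fun g hg => (m.nD _).1 fun d hd => by
    rw [mul_smul, mul_smul]
    rcases m.stab ha a1 hA (w := γ⁻¹ • d) hg (by rw [← m.sm γ, smul_inv_smul, m.βD hd h]) (by rw [m.qs, m.qD d hd])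
      with k | k <;> rw [k]
    · rwa [smul_inv_smul]
    · rw [smul_add, smul_inv_smul]; exact add_mem hd h
  have k : (γ⁻¹ * a * γ) • v = v := conj_mem_of_mem_normalizer' n (m.av a ha)
  rw [mul_smul, mul_smul, inv_smul_eq_iff] at k
  by_contra j
  have := m.mov ha a1 hA h (fun i => m.v0 ((smul_eq_zero_iff_eq γ).1 i)) j
  rw [k, left_eq_add] at this; exact m.v0 this

theorem c6 (hd : d ∈ D) (d0 : d ≠ 0) (dv : d ≠ v) : False := by
  classical
  obtain ⟨γ₀, b0, n0⟩ : ∃ γ : Γ, β (γ • v) v = 0 ∧ γ • v ≠ v := by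
    by_contra! k
    have k2 : ∀ g h : Γ, g • v ≠ h • v → β (g • v) (h • v) = 1 := fun g h n => z2 fun j => n (by
      rw [← m.sm h⁻¹, inv_smul_smul, smul_smul] at j
      have := k _ j
      rwa [mul_smul, inv_smul_eq_iff] at this)
    obtain ⟨g, hg⟩ := m.exO
    have fn : a • g • v + g • v ∉ D := fun j => a1 (m.inj a ha _ hg j)
    have an : a • g • v ≠ g • v := fun j => fn (by rw [j, m.two]; exact D.zero_mem)
    have b1 : β (a • g • v) (g • v) = 1 := by rw [smul_smul] at an ⊢; exact k2 _ _ an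
    have b2 : β (a • g • v) v = 1 := by rw [m.βv (m.av a ha), hg]
    have rad := m.span (m.pp (a • g • v + g • v + v)) (fun h => by
      change β _ _ = 0
      rw [m.ad', m.ad']
      by_cases j1 : h • v = v
      · rw [j1, m.βs, m.sy, b2, m.sy, hg]; decide
      by_cases j2 : h • v = g • v
      · rw [j2, m.βs, m.sy, b1, hg]; decide
      by_cases j3 : h • v = a • g • v
      · rw [j3, m.βs, b1, b2]; decide
      exfalso
      have c1 : β (h • v) v = 1 := z2 fun j => j1 (k h j)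
      have c2 := m.twoW ha a1 hA (w := h • v + g • v) (by rw [m.ad, c1, hg, z11]) (fun j => by
        have := m.qD _ j
        rw [m.qa, m.qO, m.qO, k2 _ _ j2] at this; exact absurd this (by decide)) (m.a1 ha (g • v)) fn
      have := m.qD _ c2
      rw [show h • v + g • v + (a • g • v + g • v) = h • v + a • g • v by have := m.two (g • v); grind, m.qa, m.qO,
        smul_smul, m.qO, k2 _ _ (smul_smul a g v ▸ j3)] at this
      exact absurd this (by decide)) d
    change β _ _ = 0 at rad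
    rw [m.ad', m.βD hd m.vD, add_zero] at rad
    refine (m.c0 d hd fun w hw => ?_).elim d0 dv
    by_cases j : w ∈ D
    · exact m.βD hd j
    · rw [← m.addr w (a • g • v + g • v), m.ad', rad, m.βD hd (m.fD ha a1 hA hg hw j), add_zero]
  have p0 : γ₀ • v ∉ D := fun j => n0 (m.cl2 ha a1 hA j)
  let F : Set W := {0, v, γ₀ • v, γ₀ • v + v}
  have mF : ∀ w, w ∈ F ↔ w = 0 ∨ w = v ∨ w = γ₀ • v ∨ w = γ₀ • v + v := fun w => Iff.rfl
  have inF : ∀ g : Γ, β (g • v) v = 0 → g • v ∈ F := fun g hg => by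
    by_cases j : g • v = v
    · exact .inr (.inl j)
    rcases m.inF ha a1 hA hg (fun i => j (m.cl2 ha a1 hA i)) b0 p0 (m.qO g) (m.qO γ₀) with i | i
    · exact .inr (.inr (.inl (eq_of_add m.two i)))
    · exact .inr (.inr (.inr (by have := m.two (γ₀ • v); grind)))
  have aF : ∀ x ∈ F, ∀ y ∈ F, x + y ∈ F := fun x hx y hy => by
    have := m.two v; have := m.two (γ₀ • v)
    rw [mF] at hx hy ⊢; grind
  have mL : ∀ g : Γ, g • v ∈ F → g • γ₀ • v ∈ F → g ∈ MulAction.stabilizer Γ F := fun g h1 h2 =>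
    (MulAction.mem_stabilizer_set_iff_smul_set_subset (Set.toFinite F)).2 (by
      rintro _ ⟨w, hw, rfl⟩
      rcases (mF w).1 hw with rfl | rfl | rfl | rfl
      exacts [.inl (smul_zero g), h1, h2, by simpa only [smul_add] using aF _ h2 _ h1])
  have sF : ∀ g ∈ MulAction.stabilizer Γ F, ∀ w, g • w ∈ F ↔ w ∈ F := fun g hg w => by
    conv_lhs => rw [← show g • F = F from hg]
    exact Set.smul_mem_smul_set_iff
  have hL : ∀ g : Γ, g • v = v → g ∈ MulAction.stabilizer Γ F := fun g hg => mL g (.inr (.inl hg)) (by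
    rcases m.stab ha a1 hA hg b0 (m.qO _) with k | k
    exacts [.inr (.inr (.inl k)), .inr (.inr (.inr k))])
  have h0 : γ₀ ∈ MulAction.stabilizer Γ F := mL _ (.inr (.inr (.inl rfl))) (by
    rcases (mF _).1 (inF γ₀⁻¹ (by rw [← m.sm γ₀, smul_inv_smul, m.sy, b0])) with k | k | k | k <;>
      rw [inv_smul_eq_iff] at k
    · exact absurd (k.trans (smul_zero _)) m.v0
    · exact absurd k.symm n0
    · exact .inr (.inl k.symm)
    · rw [smul_add] at k
      exact .inr (.inr (.inr (by have := m.two (γ₀ • v); grind))))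
  obtain ⟨x, hx, o, nx⟩ : ∃ x ∈ MulAction.stabilizer Γ F, Odd (orderOf x) ∧ x • v ≠ v := by
    by_contra! k
    exact n0 (m.odd hL k h0)
  have sum : x • x • v + x • v = v := by
    have h1 := (mF _).1 ((sF x hx v).2 (.inr (.inl rfl)))
    have h2 := (mF _).1 ((sF x hx _).2 ((sF x hx v).2 (.inr (.inl rfl))))
    have h3 : x • x • v ≠ v := fun j => nx (fix_of_sq o j)
    have h4 : x • x • v ≠ x • v := fun j => nx (smul_left_cancel x j)
    have h5 : x • v ≠ 0 := fun i => m.v0 ((smul_eq_zero_iff_eq x).1 i)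
    have h6 : x • x • v ≠ 0 := fun i => h5 ((smul_eq_zero_iff_eq x).1 i)
    have := m.two (γ₀ • v)
    grind
  let Y : AddSubgroup W :=
    { carrier := F, zero_mem' := .inl rfl, add_mem' := fun {a b} h h' => aF a h b h'
      neg_mem' := fun {a} h => by rwa [neg_eq_of_add_eq_zero_left (m.two a)] }
  obtain ⟨u, hu⟩ := m.ex
  have : u ∈ F := m.span Y (fun g => by
    change g • v ∈ F
    have k : ∀ y ∈ MulAction.stabilizer Γ F, β (g • v) (y • v) = 0 → g • v ∈ F := fun y hy j => by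
      rw [← sF _ (inv_mem hy), smul_smul]
      exact inF _ (by rwa [← m.sm y, ← mul_smul, mul_inv_cancel_left])
    by_contra n
    have k1 := z2 (mt (k 1 (one_mem _)) n)
    have k2 := z2 (mt (k x hx) n)
    have k3 := z2 (mt (k _ (mul_mem hx hx)) n)
    have k4 := m.ad' (x • x • v) (x • v) (g • v)
    rw [sum, k2, smul_smul, k3, ← one_smul Γ v, smul_smul, mul_one, one_smul] at k4
    rw [one_smul, k4] at k1
    exact absurd k1 (by decide)) u
  rcases (mF u).1 this with rfl | rfl | rfl | rfl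
  · rw [m.β0] at hu; exact zero_ne_one hu
  · rw [m.βs] at hu; exact zero_ne_one hu
  · rw [b0] at hu; exact zero_ne_one hu
  · rw [m.ad, b0, m.βs, add_zero] at hu; exact zero_ne_one hu

variable (hD : ∀ d ∈ D, d = 0 ∨ d = v) (hu : β u v = 1)
include hD hu

theorem w0 (hw : β w v = 0) : w = 0 ∨ w = v ∨ w = a • u + u ∨ w = a • u + u + v := by
  by_cases j : w ∈ D
  · rcases hD w j with k | k <;> simp [k]
  have := m.two (a • u + u)
  rcases hD _ (m.fD ha a1 hA hu hw j) with k | k <;> grind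

theorem f0 : a • u + u ≠ 0 ∧ a • u + u ≠ v :=
  ⟨fun j => a1 (m.inj a ha u hu (j ▸ D.zero_mem)), fun j => a1 (m.inj a ha u hu (j ▸ m.vD))⟩

theorem rad_of (h1 : β c v = 0) (h2 : β c u = 0) (h3 : β c (a • u + u) = 0) (w : W) : β c w = 0 := by
  have k : ∀ w, β w v = 0 → β c w = 0 := fun w hw => by
    rcases m.w0 ha a1 hA hD hu hw with rfl | rfl | rfl | rfl
    exacts [m.β0' c, h1, h3, by rw [m.ad', h1, h3, add_zero]]
  by_cases j : β w v = 0
  · exact k w j
  · rw [← m.addr w u, m.ad', h2, k _ (by rw [m.ad, z2 j, hu, z11]), add_zero]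

theorem rad_eq (h : ∀ w, β c w = 0) (h' : ∀ w, β d w = 0) (c0 : c ≠ 0) (d0 : d ≠ 0) : c = d := by
  have k : ∀ c, (∀ w, β c w = 0) → c ≠ v := fun c h j => by
    have := h u
    rw [j, m.sy, hu] at this; exact one_ne_zero this
  have h1 := k _ fun w => show β (c + d) w = 0 by rw [m.ad, h, h', add_zero]
  have h2 := m.w0 ha a1 hA hD hu (h v)
  have h3 := m.w0 ha a1 hA hD hu (h' v)
  have := k c h; have := k d h'; have := m.two (a • u + u)
  grind

theorem bfu (e : Et A A₁ a η) : β (a • u + u) u = 1 := z2 fun k => by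
  have rad := m.rad_of ha a1 hA hD hu (m.a1 ha u) k (m.βs _)
  obtain ⟨u₁, h1, h2⟩ := m.beta e
  have h3 : a • (u₁ + u) = u₁ + u := by
    have : a • (a • u + u) = a • u + u := by rw [smul_add, m.aaw ha, add_comm]
    rcases m.w0 ha a1 hA hD hu (w := u₁ + u) (by rw [m.ad, h2, hu, z11]) with j | j | j | j <;> rw [j]
    exacts [smul_zero _, m.av a ha, this, by rw [smul_add, this, m.av a ha]]
  have h4 : a • u + u ∈ rg W η := by
    convert add_mem (e.rgA ha h1) h1 using 1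
    rw [smul_add] at h3
    have := m.two u; have := m.two (a • u₁); grind
  have f0 := (m.f0 ha a1 hA hD hu).1
  exact f0 (rg_fix m.two e.odd h4 (m.rad_eq ha a1 hA hD hu (fun w => by
    rw [← smul_inv_smul η w, m.sm, rad]) rad (fun i => f0 ((smul_eq_zero_iff_eq η).1 i)) f0))

variable (e : Et A A₁ a η)
include e

theorem rad (w : W) : β (a • u + u + v) w = 0 :=
  m.rad_of ha a1 hA hD hu (by rw [m.ad, m.a1 ha, m.βs, add_zero])
    (by rw [m.ad, m.bfu ha a1 hA hD hu e, m.sy, hu, z11]) (by rw [m.ad, m.βs, m.sy, m.a1 ha, add_zero]) w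

theorem fixc (γ : Γ) : γ • (a • u + u + v) = a • u + u + v := by
  have n : a • u + u + v ≠ 0 := fun j => (m.f0 ha a1 hA hD hu).2 (eq_of_add m.two j)
  exact m.rad_eq ha a1 hA hD hu (fun w => by rw [← smul_inv_smul γ w, m.sm, m.rad ha a1 hA hD hu e])
    (m.rad ha a1 hA hD hu e) (fun i => n ((smul_eq_zero_iff_eq γ).1 i)) n

variable (qu : q u = 0)
include qu

theorem qf : q (a • u + u) = 1 := by
  have := m.bfu ha a1 hA hD hu e
  rw [m.ad, m.βs, add_zero] at this
  rw [m.qa, m.qs, qu, this]; decide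

theorem qc : q (a • u + u + v) = 1 := by rw [m.qa, m.qf ha a1 hA hD hu e qu, m.qv, m.a1 ha]; decide

theorem sing (h : q w = 0) : w = 0 ∨ w = v ∨ w = u ∨ w = a • u := by
  by_cases j : β w v = 0
  · rcases m.w0 ha a1 hA hD hu j with k | k | k | k
    · exact .inl k
    · exact .inr (.inl k)
    · rw [k, m.qf ha a1 hA hD hu e qu] at h; exact absurd h one_ne_zero
    · rw [k, m.qc ha a1 hA hD hu e qu] at h; exact absurd h one_ne_zero
  have := m.two u
  rcases m.w0 ha a1 hA hD hu (w := w + u) (by rw [m.ad, z2 j, hu, z11]) with k | k | k | k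
  · grind
  · rw [show w = u + v by grind, m.qa, qu, m.qv, hu] at h; exact absurd h (by decide)
  · grind
  · rw [show w = a • u + v by grind, m.qa, m.qs, qu, m.qv, m.βv (m.av a ha), hu] at h; exact absurd h (by decide)

/-- no three nonzero singular vectors add up to zero -/
theorem nosum (h1 : q w = 0) (h2 : q x = 0) (h3 : q (w + x) = 0) : w = 0 ∨ x = 0 ∨ w + x = 0 := by
  have k1 := m.sing ha a1 hA hD hu e qu h1
  have k2 := m.sing ha a1 hA hD hu e qu h2
  have k3 := m.sing ha a1 hA hD hu e qu h3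
  have k4 : a • u + u + v ≠ 0 := fun j => (m.f0 ha a1 hA hD hu).2 (eq_of_add m.two j)
  have := m.two u; have := m.two v; have := m.two (a • u)
  grind

theorem twoS (h : γ • v = v) (h' : s • v = v) (n : γ ≠ 1) (n' : s ≠ 1) : γ * s = 1 := by
  have ff : ∀ g : Γ, g • v = v → g • (a • u + u) = a • u + u := fun g hg => by
    have := m.fixc ha a1 hA hD hu e g
    rwa [smul_add, hg, add_left_inj] at this
  have k : ∀ g : Γ, g • v = v → g • u = u → g = 1 := fun g hg j => m.faith g fun w => by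
    have k : ∀ w, β w v = 0 → g • w = w := fun w hw => by
      rcases m.w0 ha a1 hA hD hu hw with rfl | rfl | rfl | rfl
      exacts [smul_zero _, hg, ff g hg, by rw [smul_add, hg, ff g hg]]
    by_cases i : β w v = 0
    · exact k w i
    · rw [← m.addr w u, smul_add, j, k _ (by rw [m.ad, z2 i, hu, z11])]
  have k2 : ∀ g : Γ, g • v = v → g ≠ 1 → g • u = a • u := fun g hg g1 => by
    have b := m.βv hg u
    rcases m.sing ha a1 hA hD hu e qu (w := g • u) (by rw [m.qs, qu]) with i | i | i | i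
    · rw [i, m.β0, hu] at b; exact absurd b zero_ne_one
    · rw [i, m.βs, hu] at b; exact absurd b zero_ne_one
    · exact absurd (k g hg i) g1
    · exact i
  refine k _ (by rw [mul_smul, h', h]) ?_
  have := ff γ h
  rw [smul_add, k2 γ h n] at this
  rw [mul_smul, k2 s h' n']
  grind
end Mo
end H120.FC

end H226
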