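import Cfsg.Agent.H26.T2.H20FC1
/-! `H26.FC`, part 2: the frame with `|V| = 4` and `U` not abelian (`Cc`), step C2 of notes/helper26_N4c.md,
the module `U/Z` (`exists_md'`, `Fm`, `Cc.mo`). -/
set_option autoImplicit false
set_option linter.unusedSectionVars false
namespace H118 end H118 namespace H120 end H120 namespace H120.FC end H120.FC namespace H120.FC.Cc end H120.FC.Cc namespace H13.FFa end H13.FFa namespace H226 end H226 namespace H26 end H26 namespace H4 end H4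
open H226
namespace H226
namespace H120.FC
open _root_.H120 _root_.H120.FC
open Cfsg Subgroup H26 _root_.H26 H4 _root_.H4 H118 _root_.H118 H13.FFa _root_.H13.FFa
open scoped Pointwise commutatorElement
universe u

variable {G : Type*} [Group G]

theorem exists_md' {G : Type u} [Group G] [Finite G] {H U : Subgroup G} {z : G} (c0 : U ≤ 𝐂 (zpowers z))
    (cm : ∀ u ∈ U, ∀ v ∈ U, ⁅u, v⁆ ∈ zpowers z) (sq : ∀ u ∈ U, u * u ∈ zpowers z)
    (nU : H ≤ 𝐍 U) (nz : H ≤ 𝐂 (zpowers z)) :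
    ∃ (Γ W : Type u) (_ : Group Γ) (_ : Finite Γ) (_ : AddCommGroup W) (_ : Finite W) (_ : DistribMulAction Γ W)
      (mk : G → W) (ac : G → Γ), Md H U z mk ac := by
  classical
  let Z := (zpowers z).subgroupOf U
  haveI : Z.Normal := ⟨fun n hn g =>
    conj_mem_of_mem_normalizer (H := zpowers z) (centralizer_le_normalizer _ (c0 g.2)) hn⟩
  letI : CommGroup (U ⧸ Z) := { (inferInstance : Group (U ⧸ Z)) with
    mul_comm := fun a b => by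
      induction a using QuotientGroup.induction_on with
      | H a =>
      induction b using QuotientGroup.induction_on with
      | H b =>
        refine QuotientGroup.eq.2 ?_
        have := cm _ (inv_mem b.2) _ (inv_mem a.2)
        rw [commutatorElement_def, inv_inv, inv_inv, mul_assoc, ← mul_inv_rev] at this
        exact this }
  let c : H →* MulAut U := U.normalizerMonoidHom.comp (inclusion nU)
  have hc : ∀ (h : H) (u : U), (c h u : G) = h * u * h⁻¹ := fun h u => rfl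
  have hZ : ∀ h : H, Z ≤ Z.comap (c h).toMonoidHom := fun h u hu => by
    change (c h u : G) ∈ zpowers z
    rw [hc]; exact conj_mem_of_mem_normalizer (centralizer_le_normalizer _ (nz h.2)) hu
  let f : H → (U ⧸ Z →* U ⧸ Z) := fun h => QuotientGroup.map Z Z (c h).toMonoidHom (hZ h)
  have f1 : ∀ w, f 1 w = w := fun w => by
    induction w using QuotientGroup.induction_on with
    | H u => change ((c 1 u : U) : U ⧸ Z) = u; rw [map_one]; rfl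
  have f2 : ∀ g h w, f (g * h) w = f g (f h w) := fun g h w => by
    induction w using QuotientGroup.induction_on with
    | H u => change ((c (g * h) u : U) : U ⧸ Z) = (c g (c h u) : U); rw [map_mul]; rfl
  let ρ : H →* MulAut (U ⧸ Z) := MonoidHom.mk' (fun h =>
    { toFun := f h, invFun := f h⁻¹, map_mul' := map_mul (f h)
      left_inv := fun w => by rw [← f2, inv_mul_cancel, f1]
      right_inv := fun w => by rw [← f2, mul_inv_cancel, f1] }) fun g h => MulEquiv.ext (f2 g h)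
  letI : DistribMulAction ρ.range (Additive (U ⧸ Z)) :=
    { smul := fun γ w => Additive.ofMul (γ.1 w.toMul)
      one_smul := fun _ => rfl
      mul_smul := fun _ _ _ => rfl
      smul_zero := fun γ => map_one γ.1
      smul_add := fun γ v w => map_mul γ.1 v.toMul w.toMul }
  refine ⟨ρ.range, Additive (U ⧸ Z), inferInstance, inferInstance, inferInstance, inferInstance, inferInstance,
    fun u => if hu : u ∈ U then Additive.ofMul ((⟨u, hu⟩ : U) : U ⧸ Z) else 0,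
    fun h => if hh : h ∈ H then ρ.rangeRestrict ⟨h, hh⟩ else 1, fun w => ?_, fun γ e => ?_, fun u hu v hv => ?_,
    fun u hu => ?_, fun w => ?_, fun g hg h hh => ?_, fun γ => ?_, fun h hh u hu => ?_, nU⟩
  · induction w using QuotientGroup.induction_on with
    | H u => exact (QuotientGroup.eq_one_iff (N := Z) (u * u)).2 (sq u u.2)
  · exact Subtype.ext (MulEquiv.ext e)
  · simp only [dif_pos hu, dif_pos hv, dif_pos (U.mul_mem hu hv)]; rfl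
  · simp only [dif_pos hu]; exact QuotientGroup.eq_one_iff (N := Z) _
  · induction w using QuotientGroup.induction_on with
    | H u => exact ⟨u, u.2, by simp only [dif_pos u.2]; rfl⟩
  · simp only [dif_pos hg, dif_pos hh, dif_pos (H.mul_mem hg hh)]
    rw [← map_mul]; congr 1
  · obtain ⟨h, e⟩ := ρ.rangeRestrict_surjective γ
    exact ⟨h, h.2, by simp only [dif_pos h.2]; exact e⟩
  · simp only [dif_pos hh, dif_pos hu, dif_pos (conj_mem_of_mem_normalizer (nU hh) hu)]; rfl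

open Classical in
/-- the sign of an element of a group of order two -/
noncomputable def sg (x : G) : ZMod 2 := if x = 1 then 0 else 1

theorem sg_zero {x : G} : sg x = 0 ↔ x = 1 := by rw [sg]; split_ifs with e <;> simp [e]

/-- the commutator form and the squaring map on `U/Z` -/
structure Fm {W : Type*} (U : Subgroup G) (mk : G → W) (β : W → W → ZMod 2) (q : W → ZMod 2) : Prop where
  b : ∀ u ∈ U, ∀ v ∈ U, β (mk u) (mk v) = χ u v
  q : ∀ u ∈ U, q (mk u) = sg (u * u)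

theorem exists_fm {Γ W : Type*} [Group Γ] [AddCommGroup W] [DistribMulAction Γ W] {H U : Subgroup G} {z : G}
    {mk : G → W} {ac : G → Γ} (m : Md H U z mk ac) (zz : z * z = 1) (c0 : U ≤ 𝐂 (zpowers z)) :
    ∃ β q, Fm U mk β q := by
  choose l hl el using m.mk_surj
  have k : ∀ u ∈ U, ∃ c ∈ zpowers z, l (mk u) = c * u := fun u hu =>
    ⟨_, (m.mk_eq (hl _) hu).1 (el _), by rw [inv_mul_cancel_right]⟩
  refine ⟨fun a b => χ (l a) (l b), fun a => sg (l a * l a), fun u hu v hv => ?_, fun u hu => ?_⟩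
  · obtain ⟨c, hc, e⟩ := k u hu
    obtain ⟨d, hd, e'⟩ := k v hv
    have cd : c * d = d * c := by rcases mem_two zz hc with rfl | rfl <;> rcases mem_two zz hd with rfl | rfl <;> simp
    refine χ_congr ?_
    rw [e, e', mul_assoc, ← mul_assoc u, ← c0 hu d hd, mul_assoc d v, ← mul_assoc v, ← c0 hv c hc]
    simp only [← mul_assoc, cd]
    rw [mul_assoc (d * c), mul_assoc (d * c), mul_right_inj]
  · obtain ⟨c, hc, e⟩ := k u hu
    have cc : c * c = 1 := by rcases mem_two zz hc with rfl | rfl <;> simp [zz]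
    change sg _ = _
    rw [e, mul_assoc, ← mul_assoc u, ← c0 hu c hc, mul_assoc, ← mul_assoc c, cc, one_mul]

/-- two distinct involutions of `V` -/
structure Pr (V : Subgroup G) (p q : G) : Prop where
  pV : p ∈ V
  qV : q ∈ V
  p1 : p ≠ 1
  q1 : q ≠ 1
  ne : p ≠ q

theorem Pr.symm {V : Subgroup G} {p q : G} (r : Pr V p q) : Pr V q p := ⟨r.qV, r.pV, r.q1, r.p1, r.ne.symm⟩

/-- case 2 with `V` a four-group -/
structure Cc (S V : Subgroup G) (z y : G) : Prop extends Fr S V, Pr V z y where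
  four : Four V
  core : V ≤ pCoreOf 2 (fH S)
  zeq : oz S = zpowers z
  nab : ¬ fU S V ≤ 𝐂 (fU S V)

theorem VU {V : Subgroup G} {p : G} (hp : p ∈ V) : V ≤ Up V p := (Ln.self V).le_Up hp
theorem CV {V : Subgroup G} {p : G} (hp : p ∈ V) : 𝐂 V ≤ 𝐂 (zpowers p) := centralizer_anti (zpowers_le.2 hp)
theorem CVn {V : Subgroup G} {p : G} (hp : p ∈ V) : 𝐂 V ≤ 𝐍 (Up V p) := (CV hp).trans (c_le_n_Up V p)
theorem cjU {V : Subgroup G} {p q x u : G} (e : x * p * x⁻¹ = q) (hu : u ∈ Up V p) : x * u * x⁻¹ ∈ Up V q := by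
  rw [← e, ← cj_Up]; exact conj_mem_cj x hu
theorem cjU' {V : Subgroup G} {p q x u : G} (e : x * p * x⁻¹ = q) (hu : u ∈ Up V q) : x⁻¹ * u * x ∈ Up V p := by
  rw [← e, ← cj_Up] at hu; exact mem_cj.1 hu
theorem nC {V : Subgroup G} {x c : G} (hx : x ∈ 𝐍 V) (hc : c ∈ 𝐂 V) : x * c * x⁻¹ ∈ 𝐂 V :=
  conj_mem_of_mem_normalizer (normalizer_le_normalizer_centralizer V hx) hc
theorem nC' {V : Subgroup G} {x c : G} (hx : x ∈ 𝐍 V) (hc : c ∈ 𝐂 V) : x⁻¹ * c * x ∈ 𝐂 V :=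
  conj_mem_of_mem_normalizer' (normalizer_le_normalizer_centralizer V hx) hc
theorem cmL {K : Subgroup G} {x a : G} (hx : x ∈ 𝐍 K) (ha : a ∈ K) : ⁅x, a⁆ ∈ K :=
  mul_mem (conj_mem_of_mem_normalizer hx ha) (inv_mem ha)
theorem cmR {K : Subgroup G} {x a : G} (hx : x ∈ 𝐍 K) (ha : a ∈ K) : ⁅a, x⁆ ∈ K := by
  rw [← commutatorElement_inv]; exact inv_mem (cmL hx ha)
theorem cm_symm {K : Subgroup G} {x a : G} (h : ⁅x, a⁆ ∈ K) : ⁅a, x⁆ ∈ K := by
  rw [← commutatorElement_inv]; exact inv_mem h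

namespace Cc
open _root_.H120.FC.Cc
variable [Finite G] {S V : Subgroup G} {z y : G} (h : Cc S V z y) {p q g x a b d t u w : G} {l K : Subgroup G}
include h

theorem pr : Pr V z y := h.toPr
theorem sqV (hp : p ∈ V) : p * p = 1 := h.four.sq p hp
theorem zz : z * z = 1 := h.sqV h.pV
theorem cV (hp : p ∈ V) (hq : q ∈ V) : p * q = q * p := h.four.le_c hq p hp
theorem fH_eq : fH S = 𝐂 (zpowers z) := by rw [fH, h.zeq]
theorem S_le : S ≤ 𝐂 (zpowers z) := h.zeq ▸ le_c_oz S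
theorem ln_four (hl : Ln V l) : Four l := let ⟨g, e⟩ := hl; e ▸ h.four.conj g
theorem thr (r : Pr V p q) : Pr V p (p * q) :=
  ⟨r.pV, mul_mem r.pV r.qV, r.p1, fun e => r.ne (mul_left_cancel ((h.sqV r.pV).trans e.symm)),
    fun e => r.q1 (by simpa using e)⟩
theorem thr' (r : Pr V p q) : Pr V q (p * q) := h.cV r.qV r.pV ▸ h.thr r.symm
theorem cases (r : Pr V p q) (hx : x ∈ V) : x = 1 ∨ x = p ∨ x = q ∨ x = p * q :=
  four_cases h.four r.pV r.qV r.p1 r.q1 r.ne hx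
theorem memC (r : Pr V p q) (h1 : x ∈ 𝐂 (zpowers p)) (h2 : x * q * x⁻¹ = q) : x ∈ 𝐂 V :=
  four_c h.four r.pV r.qV r.p1 r.q1 r.ne (conj_eq_of_mem_c h1) h2
theorem mov (r : Pr V p q) (h1 : x ∈ 𝐂 (zpowers p)) (h2 : x ∈ 𝐍 V) (h3 : x ∉ 𝐂 V) : x * q * x⁻¹ = p * q :=
  (four_fix h.four r.pV r.qV r.p1 r.q1 r.ne h2 (conj_eq_of_mem_c h1)).resolve_left fun e => h3 (h.memC r h1 e)
theorem two (r : Pr V p q) (h1 : x ∈ 𝐂 (zpowers p)) (h2 : x ∈ 𝐍 V) (h3 : x ∉ 𝐂 V) (k1 : g ∈ 𝐂 (zpowers p))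
    (k2 : g ∈ 𝐍 V) (k3 : g ∉ 𝐂 V) : x * g ∈ 𝐂 V := h.memC r (mul_mem h1 k1) (by
  rw [show x * g * q * (x * g)⁻¹ = x * (g * q * g⁻¹) * x⁻¹ by group, h.mov r k1 k2 k3, ← conj_mul, h.mov r h1 h2 h3,
    conj_eq_of_mem_c h1, ← mul_assoc, h.sqV r.pV, one_mul])
theorem zp (r : Pr V p q) (h1 : x ∈ zpowers p) (h2 : x ∈ zpowers q) : x = 1 := by
  rcases mem_two (h.sqV r.pV) h1 with k | k
  · exact k
  · exact (mem_two (h.sqV r.qV) h2).resolve_right (k ▸ r.ne)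

theorem not_S_le : ¬ S ≤ 𝐂 V := fun e => fr_oz_ne h.toFr (le_antisymm (fr_oz_le h.toFr)
  (le_oz h.four.ea (h.syl.le_of_le_normalizer h.four.isP le_top h.le) (le_centralizer_iff.1 e)))

theorem trans_V (hp : p ∈ V) (p1 : p ≠ 1) : ∃ g ∈ 𝐍 V, g * z * g⁻¹ = p := by
  have e : ¬ 𝐍 V ≤ 𝐂 (zpowers z) := fun e => fr_oz_ne h.toFr (by
    have := fr_ncl h.toFr
    rwa [ncl_eq_self (h.zeq ▸ le_normalizer_of_le_centralizer e)] at this)
  obtain ⟨g, hg, hg'⟩ := SetLike.not_le_iff_exists.1 e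
  have r : Pr V z (g * z * g⁻¹) := ⟨h.pV, conj_mem_of_mem_normalizer hg h.pV, h.p1, conj_ne_one g h.p1,
    fun k => hg' (mem_c_of_conj_eq k.symm)⟩
  rcases h.cases r hp with k | k | k | k
  · exact absurd k p1
  · exact ⟨1, one_mem _, by simp [k]⟩
  · exact ⟨g, hg, k.symm⟩
  obtain ⟨s, hs, hs'⟩ := SetLike.not_le_iff_exists.1 h.not_S_le
  exact ⟨s * g, mul_mem (h.le hs) hg, by rw [k, ← h.mov r (h.S_le hs) (h.le hs) hs']; group⟩

theorem trans (hl : Ln V l) (hp : p ∈ l) (p1 : p ≠ 1) : ∃ g, cj g V = l ∧ g * z * g⁻¹ = p := by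
  obtain ⟨x, rfl⟩ := hl
  obtain ⟨g, hg, e⟩ := h.trans_V (mem_cj.1 hp) (fun k => p1 (by simpa using conj_ne_one_aux k))
  exact ⟨x * g, by rw [cj_mul, cj_eq_of_mem_normalizer hg], by
    rw [show x * g * z * (x * g)⁻¹ = x * (g * z * g⁻¹) * x⁻¹ by group, e]; group⟩

theorem Up_z : Up V z = fU S V := by
  refine le_antisymm (Up_le fun l hl hz => ?_) (ncl_le_iff.2 fun g hg => ((Ln.self V).cj g).le_Up ?_)
  · obtain ⟨g, rfl, e⟩ := h.trans hl hz h.p1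
    exact cj_le_ncl (h.zeq ▸ mem_c_of_conj_eq e)
  · rw [← conj_eq_of_mem_c (h.zeq ▸ hg : g ∈ 𝐂 (zpowers z))]
    exact conj_mem_cj g h.pV

theorem QS : pCoreOf 2 (𝐂 (zpowers z)) ≤ S := (h.syl.mono h.S_le le_top).pCoreOf_le
theorem UQ : Up V z ≤ pCoreOf 2 (𝐂 (zpowers z)) := Up_le fun l hl hz => by
  obtain ⟨g, rfl, e⟩ := h.trans hl hz h.p1
  exact cj_le_of_mem_normalizer (h.fH_eq ▸ h.core) (le_normalizer_pCoreOf 2 _ (mem_c_of_conj_eq e))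
theorem US : Up V z ≤ S := h.UQ.trans h.QS

theorem QT : pCoreOf 2 (𝐂 (zpowers z)) ≤ Tp V z := by
  refine le_Tp.2 ⟨pCoreOf_le _ _, ?_⟩
  rw [commutator_comm, Up]
  refine commutator_sSup_le (fun l hl => ?_) fun l hl =>
    le_normalizer_of_le_centralizer ((h.ln_four hl.1).le_c.trans (centralizer_anti (zpowers_le.2 hl.2)))
  refine (h.ln_four hl.1).commutator_le_of_card (zpowers_le.2 hl.2) (card_two h.zz h.p1) ?_
    (le_normalizer_of_le_centralizer (pCoreOf_le _ _))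
  obtain ⟨g, rfl, e⟩ := h.trans hl.1 hl.2 h.p1
  rw [← cj_normalizer, ← cj_eq_of_mem_normalizer (le_normalizer_pCoreOf 2 _ (mem_c_of_conj_eq e))]
  exact cj_mono g (h.QS.trans h.le)

theorem UT (hp : p ∈ V) (p1 : p ≠ 1) : Up V p ≤ Tp V p := by
  obtain ⟨g, -, rfl⟩ := h.trans_V hp p1
  rw [← cj_Up, ← cj_Tp]; exact cj_mono g (h.UQ.trans h.QT)

theorem UP (hp : p ∈ V) (p1 : p ≠ 1) : IsPGroup 2 (Up V p) := by
  obtain ⟨g, -, rfl⟩ := h.trans_V hp p1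
  rw [← cj_Up]; exact isPGroup_cj g (h.syl.isP.to_le h.US)

theorem ex (hp : p ∈ V) (p1 : p ≠ 1) : ∃ u ∈ Up V p, u ∉ 𝐂 V := by
  refine SetLike.not_le_iff_exists.1 fun k => h.nab ?_
  obtain ⟨g, hg, rfl⟩ := h.trans_V hp p1
  rw [← cj_Up, ← cj_eq_of_mem_normalizer (normalizer_le_normalizer_centralizer V hg), cj_le_cj_iff] at k
  rw [← h.Up_z]
  refine le_centralizer_iff.1 (Up_le fun l hl hz => le_centralizer_iff.1 ?_)
  obtain ⟨g, rfl, e⟩ := h.trans hl hz h.p1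
  rw [← cj_centralizer, ← cj_eq_of_mem_normalizer (c_le_n_Up V z (mem_c_of_conj_eq e))]
  exact cj_mono g k

theorem TN (hp : p ∈ V) : Tp V p ≤ 𝐍 V := Ge.Tp_le_n (Ln.self V) hp

section
variable (r : Pr V p q)
include r

theorem Uc (hu : u ∈ Up V p) : u ∈ 𝐂 (zpowers p) := Tp_le_c (h.UT r.pV r.p1 hu)
theorem Un (hu : u ∈ Up V p) : u ∈ 𝐍 V := h.TN r.pV (h.UT r.pV r.p1 hu)
theorem Ucm (hu : u ∈ Up V p) (hw : w ∈ Up V p) : ⁅u, w⁆ ∈ zpowers p := (mem_Tp.1 (h.UT r.pV r.p1 hu)).2 w hw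
theorem Umov (hu : u ∈ Up V p) (n : u ∉ 𝐂 V) : u * q * u⁻¹ = p * q := h.mov r (h.Uc r hu) (h.Un r hu) n
theorem Utwo (hu : u ∈ Up V p) (n : u ∉ 𝐂 V) (hw : w ∈ Up V p) (n' : w ∉ 𝐂 V) : u * w ∈ 𝐂 V :=
  h.two r (h.Uc r hu) (h.Un r hu) n (h.Uc r hw) (h.Un r hw) n'

theorem Usq (hu : u ∈ Up V p) : u * u ∈ zpowers p := by
  let K : Subgroup G :=
    { carrier := {u | u ∈ Up V p ∧ u * u ∈ zpowers p}, one_mem' := ⟨one_mem _, by simp⟩
      inv_mem' := fun ⟨a, b⟩ => ⟨inv_mem a, by rw [← mul_inv_rev]; exact inv_mem b⟩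
      mul_mem' := fun {u w} ⟨a, b⟩ ⟨c, d⟩ => ⟨mul_mem a c, by
        rw [show u * w * (u * w) = u * ⁅w, u⁆ * u⁻¹ * (u * u) * (w * w) by simp only [commutatorElement_def]; group]
        exact mul_mem (mul_mem (conj_mem_of_mem_normalizer (centralizer_le_normalizer _ (h.Uc r a)) (h.Ucm r c a)) b) d⟩ }
  exact (Up_le (K := K) (fun l hl hp x hx => ⟨hl.le_Up hp hx, by rw [(h.ln_four hl).sq x hx]; exact one_mem _⟩) hu).2

theorem Dc (h1 : x ∈ Up V p) (h2 : x ∈ Up V q) : x ∈ 𝐂 V := h.memC r (h.Uc r h1) (conj_eq_of_mem_c (h.Uc r.symm h2))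
theorem Dsq (h1 : x ∈ Up V p) (h2 : x ∈ Up V q) : x * x = 1 := h.zp r (h.Usq r h1) (h.Usq r.symm h2)

theorem D3 (h1 : x ∈ Up V p) (h2 : x ∈ Up V q) : x ∈ Up V (p * q) := by
  obtain ⟨u, hu, n⟩ := h.ex r.pV r.p1
  have := cjU (h.Umov r hu n) (mul_mem (VU r.qV (zpowers_le.2 r.pV (h.Ucm r (inv_mem hu) h1))) h2)
  simpa [commutatorElement_def, mul_assoc] using this

theorem Dall (h1 : x ∈ Up V p) (h2 : x ∈ Up V q) (hg : g ∈ V) (g1 : g ≠ 1) : x ∈ Up V g := by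
  rcases h.cases r hg with rfl | rfl | rfl | rfl
  exacts [absurd rfl g1, h1, h2, h.D3 r h1 h2]

theorem inj (ha : a ∈ Up V q) (hu : u ∈ Up V p) (n : u ∉ 𝐂 V) (k : ⁅u, a⁆ ∈ Up V q) : a ∈ Up V p := by
  have k1 : u * a * u⁻¹ ∈ Up V q := by simpa [commutatorElement_def] using mul_mem k ha
  simpa [mul_assoc] using conj_mem_of_mem_normalizer' (le_normalizer hu)
    (h.Dall (h.thr' r) k1 (cjU (h.Umov r hu n) ha) r.pV r.p1)

theorem sur (hu : u ∈ Up V p) (n : u ∉ 𝐂 V) (hw : w ∈ Up V p) (cw : w ∈ 𝐂 V) :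
    ∃ a ∈ Up V q, a ∈ 𝐂 V ∧ w * ⁅a, u⁆ ∈ Up V q := by
  obtain ⟨t, ht, nt⟩ := h.ex r.qV r.q1
  have e : t * (p * q) * t⁻¹ = p := by
    rw [h.Umov (h.thr' r) ht nt, h.cV r.pV r.qV, ← mul_assoc, h.sqV r.qV, one_mul]
  have k1 := cjU' e hw
  have k2 := nC' (h.Un r.symm ht) cw
  have k3 := cjU' (h.Umov r hu n) k1
  have k4 := nC' (h.Un r hu) k2
  refine ⟨_, k3, k4, ?_⟩
  convert mul_mem (cmR (CVn r.qV k2) ht) (conj_mem_of_mem_normalizer (CVn r.qV k2) k3) using 1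
  simp only [commutatorElement_def]; group

theorem cen (h1 : d ∈ Up V p) (h2 : d ∈ Up V q) (k : ∀ u ∈ Up V p, u ∈ 𝐂 V → u * d = d * u) (ha : a ∈ Up V q)
    (ca : a ∈ 𝐂 V) : a * d = d * a := by
  have r' := (h.thr r).symm
  obtain ⟨t, ht, nt⟩ := h.ex r'.pV r'.p1
  have e : t * p * t⁻¹ = q := by
    rw [h.Umov r' ht nt, mul_assoc, h.cV r.qV r.pV, ← mul_assoc, h.sqV r.pV, one_mul]
  have k1 := k _ (cjU' e ha) (nC' (h.Un r' ht) ca)
  have k2 := ca _ (zpowers_le.2 r'.pV (h.Ucm r' ht (h.D3 r h1 h2)))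
  have k3 : a * (⁅t, d⁆ * d) = ⁅t, d⁆ * d * a := by
    calc _ = t * (t⁻¹ * a * t * d) * t⁻¹ := by simp only [commutatorElement_def]; group
      _ = _ := by rw [k1]; simp only [commutatorElement_def]; group
  rwa [← mul_assoc, ← k2, mul_assoc, mul_assoc, mul_right_inj] at k3

theorem adj (hu : u ∈ Up V p) (n : u ∉ 𝐂 V) (cx : x ∈ 𝐂 V) (k : ⁅u, x⁆ ∈ zpowers p) :
    ∃ w ∈ zpowers q, u * (x * w) = x * w * u := by
  rcases mem_two (h.sqV r.pV) k with k | k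
  · exact ⟨1, one_mem _, by simpa using commutatorElement_eq_one_iff_mul_comm.1 k⟩
  refine ⟨q, mem_zpowers q, ?_⟩
  calc _ = ⁅u, x⁆ * x * (u * q * u⁻¹) * u := by simp only [commutatorElement_def]; group
    _ = _ := by rw [k, h.Umov r hu n, cx p r.pV, ← mul_assoc, mul_assoc x, h.sqV r.pV, mul_one]

theorem Ugen (hu : u ∈ Up V p) (n : u ∉ 𝐂 V) (k1 : u ∈ K) (k2 : ∀ w ∈ Up V p, w ∈ 𝐂 V → w ∈ K) : Up V p ≤ K :=
  fun w hw => (em _).elim (k2 w hw) fun j => by simpa using mul_mem (k2 _ (mul_mem hw hu) (h.Utwo r hw j hu n)) (inv_mem k1)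

theorem TA (ht : t ∈ Tp V p) (ha : a ∈ Up V q) (ca : a ∈ 𝐂 V) : ⁅t, a⁆ ∈ Up V p := by
  obtain ⟨u, hu, n⟩ := h.ex r.pV r.p1
  have k : ∀ t ∈ Tp V p, t ∈ 𝐂 V → ⁅t, a⁆ ∈ Up V p := fun t ht ct =>
    h.inj r (cmL (CVn r.qV ct) ha) hu n (VU r.qV (zpowers_le.2 r.pV (cm_symm
      ((mem_Tp.1 (cmR (c_le_n_Tp V p (CV r.pV ca)) ht)).2 u hu))))
  by_cases j : t ∈ 𝐂 V
  · exact k t ht j
  have k1 := h.two r (Tp_le_c ht) (h.TN r.pV ht) j (h.Uc r hu) (h.Un r hu) n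
  have := mul_mem (conj_mem_of_mem_normalizer (CVn r.pV k1) (cmR (CVn r.pV ca) (inv_mem hu)))
    (k _ (mul_mem ht (h.UT r.pV r.p1 hu)) k1)
  rwa [← commutatorElement_mul_left_eq_conj_mul, mul_inv_cancel_right] at this

theorem nD : 𝐍 V ≤ 𝐍 (Up V p ⊓ Up V q) := fun g hg => mem_normalizer_of_conj_mem fun x hx => by
  have r' : Pr V (g * p * g⁻¹) (g * q * g⁻¹) := ⟨conj_mem_of_mem_normalizer hg r.pV, conj_mem_of_mem_normalizer hg r.qV,
    conj_ne_one g r.p1, conj_ne_one g r.q1, fun e => r.ne (by simpa using e)⟩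
  exact ⟨h.Dall r' (cjU rfl hx.1) (cjU rfl hx.2) r.pV r.p1, h.Dall r' (cjU rfl hx.1) (cjU rfl hx.2) r.qV r.q1⟩

theorem ND : 𝐍 (Up V p ⊓ Up V q) ≤ 𝐍 V := fr_uniq h.toFr ((h.UP r.pV r.p1).to_le inf_le_left)
  (fun e => r.p1 (mem_bot.1 (e ▸ (⟨VU r.pV r.pV, VU r.qV r.pV⟩ : p ∈ Up V p ⊓ Up V q)))) (h.nD r)
end

theorem z_mem (h1 : K ≤ S) (h2 : S ≤ 𝐍 K) (h3 : K ≠ ⊥) : z ∈ K := by
  obtain ⟨x, ⟨a, b⟩, x1⟩ := (bot_or_exists_ne_one _).resolve_left (inf_omegaOne_center_ne_bot h.syl.isP h1 h2 h3)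
  exact (mem_two h.zz (h.zeq ▸ b)).resolve_left x1 ▸ a

theorem triv (hx : x ∈ S) (h1 : x ∈ 𝐂 (Up V z)) (h2 : x ∈ 𝐂 (Up V y)) : x = 1 := by
  obtain ⟨u, hu, n⟩ := h.ex h.pV h.p1
  have k : x ∈ 𝐂 (Wl V V) := zpowers_le.1 (le_centralizer_iff.1 (Wl_le fun p hp p1 => le_centralizer_iff.1
    (zpowers_le.2 (by
      rcases h.cases h.pr hp with rfl | rfl | rfl | rfl
      · exact absurd rfl p1
      · exact h1
      · exact h2
      · rw [← h.Umov h.pr hu n, ← cj_Up, ← cj_centralizer, mem_cj, mul_assoc, ← h1 u hu, inv_mul_cancel_left]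
        exact h2))))
  by_contra x1
  have := h.z_mem (K := S ⊓ 𝐂 (Wl V V)) inf_le_left (le_normalizer_inf le_normalizer
    (le_normalizer_centralizer (h.le.trans (n_le_n_Wl V V)))) fun e => x1 (mem_bot.1 (e ▸ (⟨hx, k⟩ : x ∈ S ⊓ _)))
  obtain ⟨t, ht, nt⟩ := h.ex h.qV h.q1
  exact nt (h.memC h.pr.symm (h.Uc h.pr.symm ht) (by rw [this.2 t (Up_le_Wl h.qV h.q1 ht), mul_inv_cancel_right]))

theorem triv' (hu : u ∈ Up V z) (n : u ∉ 𝐂 V) (ht : t ∈ Up V y) (n' : t ∉ 𝐂 V) (hx : x ∈ S) (e1 : u * x = x * u)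
    (e2 : t * x = x * t) (k1 : ∀ w ∈ Up V z, w ∈ 𝐂 V → w * x = x * w) (k2 : ∀ w ∈ Up V y, w ∈ 𝐂 V → w * x = x * w) :
    x = 1 :=
  h.triv hx (fun w hw => mem_centralizer_singleton_iff.1 (h.Ugen h.pr (K := centralizer {x}) hu n
    (mem_centralizer_singleton_iff.2 e1) (fun w a b => mem_centralizer_singleton_iff.2 (k1 w a b)) hw))
    fun w hw => mem_centralizer_singleton_iff.1 (h.Ugen h.pr.symm (K := centralizer {x}) ht n'
    (mem_centralizer_singleton_iff.2 e2) (fun w a b => mem_centralizer_singleton_iff.2 (k2 w a b)) hw)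

theorem cW (h1 : d ∈ Up V z) (h2 : d ∈ Up V y) (k : ∀ u ∈ Up V z, u ∈ 𝐂 V → u * d = d * u) : d ∈ V := by
  obtain ⟨u, hu, n⟩ := h.ex h.pV h.p1
  obtain ⟨t, ht, nt⟩ := h.ex h.qV h.q1
  obtain ⟨a, ha, e1⟩ := h.adj h.pr hu n (h.Dc h.pr h1 h2) (h.Ucm h.pr hu h1)
  obtain ⟨b, hb, e2⟩ := h.adj h.pr.symm ht nt (h.Dc h.pr h1 h2) (h.Ucm h.pr.symm ht h2)
  have aV := zpowers_le.2 h.qV ha
  have bV := zpowers_le.2 h.pV hb
  have c : ∀ w ∈ 𝐂 V, w * d = d * w → w * (d * a * b) = d * a * b * w := fun w cw e =>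
    (Commute.mul_right (Commute.mul_right e (cw a aV).symm) (cw b bV).symm).eq
  have := h.triv' hu n ht nt (h.US (mul_mem (mul_mem h1 (VU h.pV aV)) (VU h.pV bV)))
    (Commute.mul_right e1 (h.Uc h.pr hu b hb).symm).eq
    (by rw [mul_assoc d, h.cV aV bV, ← mul_assoc d]; exact (Commute.mul_right e2 (h.Uc h.pr.symm ht a ha).symm).eq)
    (fun w a b => c w b (k w a b)) fun w a b => c w b (h.cen h.pr h1 h2 k a b)
  rw [mul_assoc] at this
  exact eq_inv_of_mul_eq_one_left this ▸ inv_mem (mul_mem aV bV)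


theorem solH : Group.IsSolvable (𝐂 (zpowers z)) := H18.Solv.of_le (fr_sol h.toFr
  (h.four.isP.to_le (zpowers_le.2 h.pV)) (by simpa using h.p1)) (centralizer_le_normalizer _)

variable {Γ W : Type*} [Group Γ] [Finite Γ] [AddCommGroup W] [Finite W] [DistribMulAction Γ W] {mk : G → W}
  {ac : G → Γ} (m : Md (𝐂 (zpowers z)) (Up V z) z mk ac)
include m

omit h in
theorem ac_T (hx : x ∈ 𝐂 (zpowers z)) : ac x = 1 ↔ x ∈ Tp V z := by rw [m.ac_eq_one hx, mem_Tp, and_iff_right hx]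

theorem acU (hu : u ∈ Up V z) : ac u = 1 := (ac_T m (h.Uc h.pr hu)).2 (h.UT h.pV h.p1 hu)
theorem mkz : mk z = 0 := (m.mk_zero z (VU h.pV h.pV)).2 (mem_zpowers z)

theorem mkV (hx : x ∈ V) : mk x = 0 ∨ mk x = mk y := by
  rcases h.cases h.pr hx with rfl | rfl | rfl | rfl
  · exact .inl m.mk_one
  · exact .inl (h.mkz m)
  · exact .inr rfl
  · exact .inr (by rw [m.mk_mul _ (VU h.pV h.pV) _ (VU h.pV h.qV), h.mkz m, zero_add])

theorem memV (hu : u ∈ Up V z) (e : mk u = 0 ∨ mk u = mk y) : u ∈ V := by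
  rcases e with e | e
  · exact zpowers_le.2 h.pV ((m.mk_zero u hu).1 e)
  · simpa using mul_mem (zpowers_le.2 h.pV ((m.mk_eq hu (VU h.pV h.qV)).1 e)) h.qV

theorem fix_M (h1 : x ∈ 𝐂 (zpowers z)) : ac x • mk y = mk y ↔ x ∈ 𝐍 V := by
  rw [m.smul _ h1 _ (VU h.pV h.qV)]
  refine ⟨fun e => mem_normalizer_of_conj_mem fun v hv => ?_, fun e => (h.mkV m (conj_mem_of_mem_normalizer e h.qV)).resolve_left
    fun k => h.zp h.pr ?_ (mem_zpowers y) |> h.q1⟩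
  · have k := h.memV m (m.cU h1 (VU h.pV h.qV)) (.inr e)
    have k1 := conj_eq_of_mem_c h1
    rcases h.cases h.pr hv with rfl | rfl | rfl | rfl
    exacts [by simp, k1.symm ▸ hv, k, by rw [← conj_mul, k1]; exact mul_mem h.pV k]
  · simpa [mul_assoc] using conj_mem_of_mem_normalizer' (centralizer_le_normalizer _ h1)
      ((m.mk_zero _ (m.cU h1 (VU h.pV h.qV))).1 k)

theorem cmk (hx : x ∈ 𝐂 (zpowers z)) (hu : u ∈ Up V z) : mk ⁅x, u⁆ = ac x • mk u + mk u := by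
  rw [m.comm hx hu, sub_eq m.two]

omit h in
/-- the image of `A = C_{U(y)}(V)` -/
def As (y : G) : Subgroup Γ := ((Up V y ⊓ 𝐂 V).subgroupOf (𝐂 (zpowers z))).map m.hom

theorem mem_As {γ : Γ} : γ ∈ As m y ↔ ∃ a ∈ Up V y, a ∈ 𝐂 V ∧ ac a = γ :=
  ⟨fun ⟨a, b, c⟩ => ⟨a, b.1, b.2, c⟩, fun ⟨a, b, c, d⟩ => ⟨⟨a, CV h.pV c⟩, ⟨b, c⟩, d⟩⟩

theorem mD (hu : u ∈ Up V z) : mk u ∈ m.im (Up V y) ↔ u ∈ Up V y := m.mem_im (VU h.qV h.pV) hu

variable {β : W → W → ZMod 2} {Q : W → ZMod 2} (f : Fm (Up V z) mk β Q)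
include f

theorem β0 (hu : u ∈ Up V z) : β (mk u) (mk y) = 0 ↔ u ∈ 𝐂 V := by
  rw [f.b u hu y (VU h.pV h.qV), χ_zero]
  exact ⟨fun e => h.memC h.pr (h.Uc h.pr hu) (by rw [e, mul_inv_cancel_right]), fun e => (e y h.qV).symm⟩

theorem β1 (hu : u ∈ Up V z) : β (mk u) (mk y) = 1 ↔ u ∉ 𝐂 V := by
  rw [← h.β0 m f hu]; exact ⟨fun e k => zero_ne_one (k.symm.trans e), z2⟩

theorem mo : Mo (As m y) (m.im (Up V y)) (mk y) β Q := by
  have yU := VU h.pV h.qV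
  have r := h.pr
  have fx : ∀ a ∈ Up V y, a ∈ 𝐂 V → ac a • mk y = mk y := fun a _ c =>
    (h.fix_M m (CV h.pV c)).2 (centralizer_le_normalizer _ c)
  refine ⟨m.two, m.faith, fun a b => ?_, fun a b c => ?_, fun γ a b => ?_, fun a b => ?_, fun γ a => ?_, fun e => ?_,
    (h.mD m yU).2 (VU h.qV h.qV), ?_, fun γ hγ => ?_, fun γ hγ => ?_, fun γ hγ w hw => ?_, fun γ hγ => ?_,
    fun γ hγ w hw e => ?_, fun u w hu hw => ?_, ?_, ?_, ?_, fun Y hY w => ?_, fun γ => ?_, fun γ e δ hδ => ?_, ?_⟩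
  · obtain ⟨a, ha, rfl⟩ := m.mk_surj a
    obtain ⟨b, hb, rfl⟩ := m.mk_surj b
    rw [f.b a ha b hb, f.b b hb a ha]; exact χ_congr eq_comm
  · obtain ⟨a, ha, rfl⟩ := m.mk_surj a
    obtain ⟨b, hb, rfl⟩ := m.mk_surj b
    obtain ⟨c, hc, rfl⟩ := m.mk_surj c
    rw [← m.mk_mul a ha b hb, f.b _ (mul_mem ha hb) c hc, f.b a ha c hc, f.b b hb c hc,
      χ_mul_left h.zz (h.Uc r ha) (h.Ucm r ha hc) (h.Ucm r hb hc)]
  · obtain ⟨a, ha, rfl⟩ := m.mk_surj a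
    obtain ⟨b, hb, rfl⟩ := m.mk_surj b
    obtain ⟨g, hg, rfl⟩ := m.ac_surj γ
    rw [m.smul g hg a ha, m.smul g hg b hb, f.b _ (m.cU hg ha) _ (m.cU hg hb), f.b a ha b hb, χ_conj]
  · obtain ⟨a, ha, rfl⟩ := m.mk_surj a
    obtain ⟨b, hb, rfl⟩ := m.mk_surj b
    rw [← m.mk_mul a ha b hb, f.q _ (mul_mem ha hb), f.q a ha, f.q b hb, f.b a ha b hb, χ_congr (t' := b) (u' := a) eq_comm,
      show a * b * (a * b) = a * ⁅b, a⁆ * a⁻¹ * (a * a * (b * b)) by simp only [commutatorElement_def]; group,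
      mem_centralizer_iff'.1 (h.Uc r ha) _ (h.Ucm r hb ha), add_comm]
    exact (sg_mul h.zz (h.Ucm r hb ha) (mul_mem (h.Usq r ha) (h.Usq r hb))).trans
      (congrArg _ (sg_mul h.zz (h.Usq r ha) (h.Usq r hb)))
  · obtain ⟨a, ha, rfl⟩ := m.mk_surj a
    obtain ⟨g, hg, rfl⟩ := m.ac_surj γ
    rw [m.smul g hg a ha, f.q _ (m.cU hg ha), f.q a ha, conj_mul, mem_centralizer_iff'.1 hg _ (h.Usq r ha)]
  · exact h.q1 (h.zp r ((m.mk_zero y yU).1 e) (mem_zpowers y))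
  · rintro _ ⟨d, h1, h2, rfl⟩
    rw [f.q d h1, sg_zero, h.Dsq r h1 h2]
  · obtain ⟨a, h1, h2, rfl⟩ := (h.mem_As m).1 hγ
    rw [← m.ac_mul a (CV h.pV h2) a (CV h.pV h2), h.acU m (VU h.pV (zpowers_le.2 h.qV (h.Usq r.symm h1)))]
  · obtain ⟨a, h1, h2, rfl⟩ := (h.mem_As m).1 hγ
    exact fx a h1 h2
  · obtain ⟨a, h1, h2, rfl⟩ := (h.mem_As m).1 hγ
    obtain ⟨w, k, rfl⟩ := m.mk_surj w
    rw [← h.cmk m (CV h.pV h2) k, h.mD m (cmL (CVn h.pV h2) k)]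
    exact cmR (CVn h.qV ((h.β0 m f k).1 hw)) h1
  · obtain ⟨a, h1, h2, rfl⟩ := (h.mem_As m).1 hγ
    rintro _ ⟨d, k1, k2, rfl⟩
    have := h.cmk m (CV h.pV h2) k1
    have t := m.two (mk d)
    rcases h.mkV m (zpowers_le.2 h.qV (h.Ucm r.symm h1 k2)) with j | j <;> grind
  · obtain ⟨a, h1, h2, rfl⟩ := (h.mem_As m).1 hγ
    obtain ⟨w, k, rfl⟩ := m.mk_surj w
    rw [← h.cmk m (CV h.pV h2) k, h.mD m (cmL (CVn h.pV h2) k)] at e
    exact h.acU m (h.inj r h1 k ((h.β1 m f k).1 hw) (cm_symm e))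
  · obtain ⟨u, k, rfl⟩ := m.mk_surj u
    obtain ⟨w, k', rfl⟩ := m.mk_surj w
    obtain ⟨a, h1, h2, e⟩ := h.sur r k ((h.β1 m f k).1 hu) k' ((h.β0 m f k').1 hw)
    refine ⟨ac a, (h.mem_As m).2 ⟨a, h1, h2, rfl⟩, ?_⟩
    rwa [← h.cmk m (CV h.pV h2) k, ← m.mk_mul _ k' _ (cmL (CVn h.pV h2) k), h.mD m (mul_mem k' (cmL (CVn h.pV h2) k))]
  · rintro _ ⟨d, k1, k2, rfl⟩ e
    refine h.mkV m (h.cW k1 k2 fun u a b => h.cen r.symm k2 k1 (fun a h1 h2 => ?_) a b)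
    exact commutatorElement_eq_one_iff_mul_comm.1 (h.zp r ((m.fix (CV h.pV h2) k1).1
      (e _ ((h.mem_As m).2 ⟨a, h1, h2, rfl⟩))) (h.Ucm r.symm h1 k2))
  · rintro _ ⟨d, k1, k2, rfl⟩ e
    refine h.mkV m (h.cW k1 k2 fun u a b => ?_)
    have := e _ ((h.β0 m f a).2 b)
    rw [f.b d k1 u a, χ_zero] at this; exact this.symm
  · obtain ⟨u, hu, n⟩ := h.ex h.pV h.p1
    exact ⟨mk u, (h.β1 m f hu).2 n⟩
  · obtain ⟨u, hu, rfl⟩ := m.mk_surj w
    have : Up V z ≤ m.pre Y := Up_le fun l hl hz => by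
      obtain ⟨g, rfl, e⟩ := h.trans hl hz h.p1
      rintro _ ⟨v, hv, rfl⟩
      refine ⟨m.cU (mem_c_of_conj_eq e) (VU h.pV hv), ?_⟩
      change mk (g * v * g⁻¹) ∈ Y
      rw [← m.smul _ (mem_c_of_conj_eq e) _ (VU h.pV hv)]
      rcases h.mkV m hv with k | k <;> rw [k]
      exacts [(smul_zero (ac g) : ac g • (0 : W) = 0).symm ▸ Y.zero_mem, hY _]
    exact (this hu).2
  · obtain ⟨g, hg, rfl⟩ := m.ac_surj γ
    rw [h.fix_M m hg]
    refine ⟨fun e => h.ND r (mem_normalizer_of_conj_mem fun d hd => ⟨m.cU hg hd.1, ?_⟩), fun e => ?_⟩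
    · exact (h.mD m (m.cU hg hd.1)).1 (m.smul g hg d hd.1 ▸ e _ ((h.mD m hd.1).2 hd.2))
    · rintro _ ⟨d, k1, k2, rfl⟩
      rw [m.smul g hg d k1, h.mD m (m.cU hg k1)]
      exact (conj_mem_of_mem_normalizer (h.nD r e) (⟨k1, k2⟩ : d ∈ Up V z ⊓ Up V y)).2
  · obtain ⟨g, hg, rfl⟩ := m.ac_surj γ
    obtain ⟨a, h1, h2, rfl⟩ := (h.mem_As m).1 hδ
    obtain ⟨g', hg', e'⟩ : ∃ g' ∈ 𝐂 V, ac g' = ac g := by
      by_cases j : g ∈ 𝐂 V
      · exact ⟨g, j, rfl⟩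
      obtain ⟨u, hu, n⟩ := h.ex h.pV h.p1
      exact ⟨_, h.two r hg ((h.fix_M m hg).1 e) j (h.Uc r hu) (h.Un r hu) n, by
        rw [m.ac_mul g hg u (h.Uc r hu), h.acU m hu, mul_one]⟩
    rw [← e', ← m.ac_conj (CV h.pV hg') (CV h.pV h2)]
    exact (h.mem_As m).2 ⟨_, conj_mem_of_mem_normalizer (CVn h.qV hg') h1, nC (centralizer_le_normalizer _ hg') h2, rfl⟩
  · have s := ((h.syl.mono h.S_le le_top).subgroupOf le_rfl).map m.hom
    rw [subgroupOf_self, ← MonoidHom.range_eq_map, MonoidHom.range_eq_top.2 m.hom_surj] at s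
    refine ⟨_, s, ?_⟩
    rintro _ ⟨s, hs, rfl⟩
    exact (h.fix_M m s.2).2 (h.le hs)
end Cc
end H120.FC

end H226
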