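import Cfsg.Agent.H26.T2.H20FC2
/-! `H26.FC`, part 3: steps C3 - C5 of notes/helper26_N4c.md (`lift`, `sol2`, `c5`). -/
set_option autoImplicit false
set_option linter.unusedSectionVars false
namespace H118 end H118 namespace H120 end H120 namespace H120.FC end H120.FC namespace H120.FC.Cc end H120.FC.Cc namespace H13.FFa end H13.FFa namespace H226 end H226 namespace H26 end H26 namespace H4 end H4
open H226
namespace H226
namespace H120.FC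
open _root_.H120 _root_.H120.FC
open Cfsg Subgroup H26 _root_.H26 H4 _root_.H4 H118 _root_.H118 H13.FFa _root_.H13.FFa
open scoped Pointwise commutatorElement

variable {G : Type*} [Group G]

theorem ac_cm {Γ W : Type*} [Group Γ] [AddCommGroup W] [DistribMulAction Γ W] {H U : Subgroup G} {z : G}
    {mk : G → W} {ac : G → Γ} (m : Md H U z mk ac) {g x : G} (hg : g ∈ H) (hx : x ∈ H) :
    ac ⁅g, x⁆ = ac g * ac x * (ac g)⁻¹ * (ac x)⁻¹ := by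
  rw [commutatorElement_def, m.ac_mul _ (mul_mem (mul_mem hg hx) (inv_mem hg)) _ (inv_mem hx), m.ac_conj hg hx,
    m.ac_inv hx]

theorem cmm {K : Subgroup G} {x a : G} (hx : x ∈ K) (ha : a ∈ K) : ⁅x, a⁆ ∈ K := cmL (le_normalizer hx) ha

theorem ac_zp {Γ W : Type*} [Group Γ] [AddCommGroup W] [DistribMulAction Γ W] {H U : Subgroup G} {z : G}
    {mk : G → W} {ac : G → Γ} (m : Md H U z mk ac) {g e : G} (he : e ∈ H) (hg : g ∈ zpowers e) :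
    ac g ∈ zpowers (ac e) := ((zpowers_le (H := m.pg (zpowers (ac e)))).2 ⟨he, mem_zpowers _⟩ hg).2

theorem Et.sqi {Γ : Type*} [Group Γ] {A A₁ : Subgroup Γ} {a η : Γ} (e : Et A A₁ a η) :
    a * η * a⁻¹ * η⁻¹ = η⁻¹ * η⁻¹ ∧ Et A A₁ a (η⁻¹ * η⁻¹) :=
  ⟨by rw [inv_eq_of_mul_eq_one_right e.aa, e.inv], e.pow (mul_mem (inv_mem (mem_zpowers η)) (inv_mem (mem_zpowers η)))
    fun k => e.ne (inv_eq_one.1 (one_of_sq (orderOf_inv η ▸ e.odd) k))⟩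

theorem n3 [Finite G] {V : Subgroup G} {g a b : G} (h1 : ∀ x ∈ V, g * x * g⁻¹ ∈ V ⊔ zpowers a ⊔ zpowers b)
    (h2 : g * a * g⁻¹ ∈ V ⊔ zpowers a ⊔ zpowers b) (h3 : g * b * g⁻¹ ∈ V ⊔ zpowers a ⊔ zpowers b) :
    g ∈ 𝐍 (V ⊔ zpowers a ⊔ zpowers b) := mem_normalizer_of_cj_le (by
  rw [cj_sup, cj_sup, cj_zpowers, cj_zpowers]
  exact sup_le (sup_le (by rintro _ ⟨x, hx, rfl⟩; exact h1 x hx) (zpowers_le.2 h2)) (zpowers_le.2 h3))

namespace Cc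
open _root_.H120.FC.Cc
variable [Finite G] {S V : Subgroup G} {z y : G} (h : Cc S V z y) {a e : G} {X Y : Subgroup G}
  {Γ W : Type*} [Group Γ] [Finite Γ] [AddCommGroup W] [Finite W] [DistribMulAction Γ W] {mk : G → W}
  {ac : G → Γ} (m : Md (𝐂 (zpowers z)) (Up V z) z mk ac) {β : W → W → ZMod 2} {Q : W → ZMod 2}
  (f : Fm (Up V z) mk β Q) {A₁ : Subgroup Γ} {α s : Γ}
include h m f

theorem lift (ha : α ∈ As m y) (n : α ≠ 1) : ∃ e ∈ 𝐂 (zpowers z), Odd (orderOf e) ∧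
    (∀ t ∈ Tp V z, ⁅e, t⁆ ∈ Up V z) ∧ ∃ A₁, Et (As m y) A₁ α (ac e) := by
  haveI := h.solH
  haveI : Group.IsSolvable Γ := Group.isSolvable_of_surjective m.hom_surj
  obtain ⟨η, A₁, et, -⟩ := exists_et (h.mo m f).core (h.mo m f).sq ha n
  obtain ⟨a, ha', ca, rfl⟩ := (h.mem_As m).1 ha
  obtain ⟨g, hg, rfl⟩ := m.ac_surj η
  have k1 : ⁅a, g⁆ ∈ commStab (Tp V z : Set G) (Up V z) :=
    cmR (le_normalizer_commStab (c_le_n_Tp V z) (c_le_n_Up V z) hg)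
      ⟨CVn h.pV ca, fun t ht => cm_symm (h.TA h.pr ht ha' ca)⟩
  have k2 := cmm (CV h.pV ca) hg
  refine ⟨H18.piPart {2}ᶜ ⁅a, g⁆, H18.piPart_mem k2, Nat.coprime_two_right.1
    ((H18.piNat_compl_iff_coprime Nat.prime_two).1 H18.piElt_piPart), (H18.piPart_mem k1).2, A₁, ?_⟩
  have e : ∀ x ∈ 𝐂 (zpowers z), H18.mfun m.hom x = ac x := fun x hx => H18.mfun_of_mem hx
  rw [← e _ (H18.piPart_mem k2), H18.mfun_piPart k2, e _ k2, ac_cm m (CV h.pV ca) hg, et.sqi.1, H18.piPart_eq_self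
    ((H18.piNat_compl_iff_coprime Nat.prime_two).2 (Nat.coprime_two_right.2 et.sqi.2.odd))]
  exact et.sqi.2

variable (he : e ∈ 𝐂 (zpowers z)) (et : Et (As m y) A₁ α (ac e))
include he et

theorem sol2 (hs : Group.IsSolvable Y) (h1 : Up V z ≤ Y) (h2 : Up V y ≤ Y) (h3 : e ∈ Y) : False := by
  have r := h.pr
  obtain ⟨u, hu, n⟩ := h.ex h.pV h.p1
  refine (sol_ind (P := fun N => ∃ u ∈ N, u ∈ Up V z ∧ u ∉ 𝐂 V) hs ⟨u, h1 hu, hu, n⟩ ?_).elim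
    fun u ⟨a, _, c⟩ => c (mem_bot.1 a ▸ one_mem _)
  rintro N - nN ⟨u, uN, hu, n⟩
  obtain ⟨t, ht, nt⟩ := h.ex h.qV h.q1
  obtain ⟨a, ha, ca, rfl⟩ := (h.mem_As m).1 et.aA
  have e1 : u * t * z * (u * t)⁻¹ = y := by
    rw [show u * t * z * (u * t)⁻¹ = u * (t * z * t⁻¹) * u⁻¹ by group, h.Umov r.symm ht nt, ← conj_mul, h.Umov r hu n,
      conj_eq_of_mem_c (h.Uc r hu), mul_assoc, h.cV h.qV h.pV, ← mul_assoc, h.zz, one_mul]
  have m1 := mul_mem (h.Un r hu) (h.Un r.symm ht)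
  obtain ⟨w, hw, cw, k⟩ := h.sur r.symm (cjU e1 hu) (fun j => n (by simpa [mul_assoc] using nC' m1 j)) ha ca
  have bN := cmL (nN (h1 hw)) (conj_mem_of_mem_normalizer (nN (mul_mem (h1 hu) (h2 ht))) uN)
  have bC := cmR (normalizer_le_normalizer_centralizer V (h.Un r.symm (cjU e1 hu))) cw
  set b := ⁅w, u * t * u * (u * t)⁻¹⁆
  have e2 : ac b = ac a := by
    have := h.acU m k
    rw [m.ac_mul a (CV h.pV ca) b (CV h.pV bC)] at this
    rw [eq_inv_of_mul_eq_one_right this, inv_eq_of_mul_eq_one_right et.aa]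
  have gN := cmR (nN h3) bN
  have gH := cmm (CV h.pV bC) he
  have e3 := ac_cm m (CV h.pV bC) he
  rw [e2, et.sqi.1] at e3
  obtain ⟨_, hw₀, k0⟩ := (h.mo m f).beta et.sqi.2
  obtain ⟨_, ⟨w₂, rfl⟩, rfl⟩ := rg_surj m.two et.sqi.2.odd hw₀
  obtain ⟨u₂, hu₂, rfl⟩ := m.mk_surj w₂
  have k1 := cmL (m.nU gH) hu₂
  rw [← e3, ← m.comm gH hu₂, ← m.comm gH k1] at k0
  exact ⟨_, commutator_mem_commutator gN (cmR (nN (h1 hu₂)) gN), cmL (m.nU gH) k1,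
    (h.β1 m f (cmL (m.nU gH) k1)).1 k0⟩

theorem sol2' (hX : IsPGroup 2 X) (hV : V ≤ X) (h1 : Up V z ≤ 𝐍 X) (h2 : Up V y ≤ 𝐍 X) (h3 : e ∈ 𝐍 X) : False :=
  h.sol2 m f he et (fr_sol h.toFr hX fun k => h.p1 (mem_bot.1 (k ▸ hV h.pV))) h1 h2 h3

theorem hsol : ¬ ∀ θ ∈ zpowers (ac e), θ • mk y ∈ m.im (Up V y) := fun k => by
  have l : ncl V (zpowers e) ≤ Up V z ⊓ Up V y := ncl_le_iff.2 fun g hg => by
    rintro _ ⟨x, hx, rfl⟩
    have gH := zpowers_le.2 he hg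
    have xU := VU h.pV hx
    refine ⟨m.cU gH xU, (h.mD m (m.cU gH xU)).1 ?_⟩
    rw [← m.smul g gH x xU]
    rcases h.mkV m hx with j | j <;> rw [j]
    exacts [(smul_zero (ac g) : ac g • (0 : W) = 0).symm ▸ zero_mem _, k _ (ac_zp m he hg)]
  have n : ∀ p q, Pr V p q → ncl V (zpowers e) ≤ Up V p → Up V p ≤ 𝐍 (ncl V (zpowers e)) := fun p q r l =>
    le_normalizer_of_commutator_le (commutator_le.2 fun a ha b hb =>
      le_ncl _ _ (zpowers_le.2 r.pV (h.Ucm r (l ha) hb)))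
  exact h.sol2' m f he et ((h.UP h.pV h.p1).to_le (l.trans inf_le_left)) (le_ncl _ _) (n _ _ h.pr (l.trans inf_le_left))
    (n _ _ h.pr.symm (l.trans inf_le_right)) (le_normalizer_ncl _ _ (mem_zpowers e))

theorem c5 (o : Odd (orderOf e)) (hJ : ∀ t ∈ Tp V z, ⁅e, t⁆ ∈ Up V z) (hs : s ∈ A₁) (s1 : s ≠ 1) : False := by
  have r := h.pr
  have r' := (h.thr r).symm
  have yU := VU h.pV h.qV
  obtain ⟨b0, b1, b2, w, b3, b4⟩ := (h.mo m f).c4 et (h.hsol m f he et) hs s1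
  obtain ⟨u, hu, rfl⟩ := m.mk_surj w
  have n := (h.β1 m f hu).1 b3
  obtain ⟨g, eg⟩ : ∃ g, g = e * y * e⁻¹ := ⟨_, rfl⟩
  have gU : g ∈ Up V z := eg ▸ m.cU he yU
  have mg : ac e • mk y = mk g := eg ▸ m.smul e he y yU
  rw [mg] at b0 b1 b2 b4
  have gC := (h.β0 m f gU).1 b0
  have gg : g * g = 1 := by rw [eg, conj_mul, h.sqV h.qV]; simp
  obtain ⟨t, ht, nt⟩ := h.ex r'.pV r'.p1
  have tz : t * z * t⁻¹ = y := by
    rw [h.Umov r' ht nt, mul_assoc, h.cV h.qV h.pV, ← mul_assoc, h.zz, one_mul]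
  have ty : t * y * t⁻¹ = z := by rw [h.Umov (h.thr' r).symm ht nt, mul_assoc, h.sqV h.qV, mul_one]
  have tM := h.Un r' ht
  obtain ⟨k, ek⟩ : ∃ k, k = t * g * t⁻¹ := ⟨_, rfl⟩
  have kU : k ∈ Up V y := ek ▸ cjU tz gU
  have kC : k ∈ 𝐂 V := ek ▸ nC tM gC
  have kH := CV h.pV kC
  have kk : k * k = 1 := by rw [ek, conj_mul, gg]; simp
  have tk : t * k * t⁻¹ = g := by
    calc _ = t * t * g * (t * t)⁻¹ := by rw [ek]; group
      _ = _ := by rw [gC _ (zpowers_le.2 r'.pV (h.Usq r' ht)), mul_inv_cancel_right]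
  have c1 : ∀ a ∈ Up V y, a ∈ 𝐂 V → ⁅a, g⁆ ∈ V := fun a ha ca => h.memV m (cmL (CVn h.pV ca) gU) (by
    rw [h.cmk m (CV h.pV ca) gU]
    have := m.two (mk g)
    rcases b1 _ ((h.mem_As m).2 ⟨a, ha, ca, rfl⟩) with j | j <;> grind)
  have c2 : ∀ a ∈ Up V z, a ∈ 𝐂 V → ⁅a, k⁆ ∈ V := fun a ha ca => by
    convert conj_mem_of_mem_normalizer tM (c1 _ (cjU' ty ha) (nC' tM ca)) using 1
    simp only [ek, commutatorElement_def]; group
  obtain ⟨b5, b6, b7⟩ := b4 _ ((h.mem_As m).2 ⟨k, kU, kC, rfl⟩) (by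
    have x1 := cmL (m.nU kH) hu
    rw [← h.cmk m kH hu, ← m.mk_mul _ x1 _ gU, h.mD m (mul_mem x1 gU)]
    refine h.Dall (h.thr r) (mul_mem x1 gU) ?_ h.qV h.q1
    convert mul_mem (conj_mem_of_mem_normalizer (CVn r'.pV kC) (cjU (h.Umov r hu n) (inv_mem kU)))
      (mul_mem (cmR (CVn r'.pV gC) ht) (gg ▸ one_mem (Up V (z * y)) : g * g ∈ _)) using 1
    simp only [ek, commutatorElement_def]; group)
  have lV : V ≤ V ⊔ zpowers g ⊔ zpowers k := le_sup_left.trans le_sup_left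
  have lg : g ∈ V ⊔ zpowers g ⊔ zpowers k := mem_sup_left (mem_sup_right (mem_zpowers g))
  have lk : k ∈ V ⊔ zpowers g ⊔ zpowers k := mem_sup_right (mem_zpowers k)
  have mF : ∀ x ∈ Up V z, (mk x = 0 ∨ mk x = mk y ∨ mk x = mk g ∨ mk x = mk y + mk g) →
      x ∈ V ⊔ zpowers g ⊔ zpowers k := fun x hx j => by
    by_cases i : mk x = 0 ∨ mk x = mk y
    · exact lV (h.memV m hx i)
    simpa using mul_mem (lV (h.memV m (mul_mem hx gU) (by
      rw [m.mk_mul _ hx _ gU]; have := m.two (mk g); grind))) (inv_mem lg)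
  have cj1 : ∀ x a : G, ∀ K : Subgroup G, ⁅x, a⁆ ∈ K → a ∈ K → x * a * x⁻¹ ∈ K := fun x a K h1 h2 => by
    simpa [commutatorElement_def] using mul_mem h1 h2
  have nU : Up V z ≤ 𝐍 (V ⊔ zpowers g ⊔ zpowers k) := by
    have : ∀ x ∈ Up V z, ⁅x, k⁆ ∈ V ⊔ zpowers g ⊔ zpowers k → x ∈ 𝐍 (V ⊔ zpowers g ⊔ zpowers k) := fun x hx j =>
      n3 (fun v hv => lV (conj_mem_of_mem_normalizer (h.Un r hx) hv))
        (cj1 _ _ _ (lV (zpowers_le.2 h.pV (h.Ucm r hx gU))) lg) (cj1 _ _ _ j lk)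
    exact h.Ugen r hu n (this u hu (cm_symm (mF _ (cmL (m.nU kH) hu) (by rw [h.cmk m kH hu]; exact .inr (.inr b6)))))
      fun x hx cx => this x hx (lV (c2 x hx cx))
  have nt : t ∈ 𝐍 (V ⊔ zpowers g ⊔ zpowers k) :=
    n3 (fun v hv => lV (conj_mem_of_mem_normalizer tM hv)) (ek ▸ lk) (tk ▸ lg)
  refine h.sol2' m f he et ((isPGroup_sup' (h.UP h.pV h.p1) (isPGroup_zpowers (k := 1) (by simpa [pow_two] using kk))
    (zpowers_le.2 (m.nU kH))).to_le (sup_le_sup_right (sup_le (VU h.pV) (zpowers_le.2 gU)) _)) lV nU (fun x hx => by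
      simpa [mul_assoc] using mul_mem (mul_mem nt (nU (cjU' tz hx))) (inv_mem nt)) (n3 (fun v hv => ?_) ?_ ?_)
  · refine mF _ (m.cU he (VU h.pV hv)) ?_
    rw [← m.smul e he v (VU h.pV hv)]
    rcases h.mkV m hv with j | j <;> simp [j, mg]
  · exact mF _ (m.cU he gU) (by rw [← m.smul e he g gU, b2]; simp)
  refine cj1 _ _ _ ?_ lk
  have d1 : ⁅e, k⁆ ∈ Tp V z := (ac_T m (cmm he kH)).1 (by rw [ac_cm m he kH, ← b5]; simp)
  have d2 : k * ⁅e, k⁆ * k⁻¹ = ⁅e, k⁆⁻¹ := by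
    calc _ = k * e * k * e⁻¹ * (k * k)⁻¹ := by simp only [commutatorElement_def]; group
      _ = _ := by rw [kk, commutatorElement_inv, commutatorElement_def, inv_eq_of_mul_eq_one_right kk]; simp
  have d3 : ⁅e, k⁆ ∈ Up V z := commutatorElement_mem_of_stab (p := 2) (N := zpowers ⁅e, k⁆)
    (Nat.coprime_two_right.2 o) (m.nU he) (zpowers_le.2 (m.nU (Tp_le_c d1))) (fun x hx => ⟨1, by
      obtain ⟨i, rfl⟩ := mem_zpowers_iff.1 hx
      have := h.TA r d1 kU kC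
      rw [← commutatorElement_inv k, commutatorElement_def k, d2, ← mul_inv_rev, inv_inv] at this
      rw [pow_one, pow_two, ← (Commute.refl _).mul_zpow]
      exact zpow_mem this i⟩) (mem_zpowers _) fun x hx => hJ x (zpowers_le.2 d1 hx)
  have z0 : zpowers z ≤ m.pre (rg W (ac e)) := zpowers_le.2 ⟨VU h.pV h.pV, h.mkz m ▸ zero_mem _⟩
  have d4 : ⁅e, k⁆ ∈ m.pre (rg W (ac e)) := commutatorElement_mem_of_stab (p := 2) (N := Up V z)
    (Nat.coprime_two_right.2 o) (mem_normalizer_of_conj_mem fun x hx =>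
      ⟨m.cU he hx.1, m.smul e he x hx.1 ▸ smul_mem_rg_comm rfl hx.2⟩)
    (le_normalizer_of_commutator_le (commutator_le.2 fun a ha b hb => z0 (h.Ucm r ha.1 hb)))
    (fun x hx => ⟨1, z0 (by simpa [pow_two] using h.Usq r hx)⟩) d3
    fun x hx => ⟨cmL (m.nU he) hx, _, (m.comm he hx).symm⟩
  exact mF _ d3 (b7 _ d4.2 (by rw [m.smul k kH _ d3, d2, m.mk_inv d3, neg_eq_of_add_eq_zero_left (m.two _)]))

end Cc
end H120.FC

end H226
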