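import Cfsg.Agent.H26.T2.H20FC3
/-! `H26.FC`, part 4: step C7 of notes/helper26_N4c.md (`E7.main`) and the case `|V| = 4` (`Cc.main`). -/
set_option autoImplicit false
set_option linter.unusedSectionVars false
namespace H118 end H118 namespace H120 end H120 namespace H120.FC end H120.FC namespace H120.FC.Cc end H120.FC.Cc namespace H120.FC.E7 end H120.FC.E7 namespace H13.FFa end H13.FFa namespace H226 end H226 namespace H26 end H26 namespace H4 end H4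
open H226
namespace H226
namespace H120.FC
open _root_.H120 _root_.H120.FC
open Cfsg Subgroup H26 _root_.H26 H4 _root_.H4 H118 _root_.H118 H13.FFa _root_.H13.FFa
open scoped Pointwise commutatorElement

variable {G : Type*} [Group G]

/-- `c` generates the centre of `U(p)` -/
structure Pt (V : Subgroup G) (p c : G) : Prop where
  cU : c ∈ Up V p
  cc : c * c = p
  cen : ∀ w ∈ Up V p, w * c = c * w
  fx : ∀ x ∈ 𝐂 (zpowers p), x * c * x⁻¹ = c ∨ x * c * x⁻¹ = p * c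
  u0 : ∀ w ∈ Up V p, w ∈ 𝐂 V → w ∈ V ∨ w * c ∈ V

theorem Pt.conj {V : Subgroup G} {p q c t : G} (h : Pt V p c) (ht : t ∈ 𝐍 V) (e : t * p * t⁻¹ = q) :
    Pt V q (t * c * t⁻¹) := by
  refine ⟨cjU e h.cU, by rw [conj_mul, h.cc, e], fun w hw => ?_, fun x hx => ?_, fun w hw cw => ?_⟩
  · calc _ = t * (t⁻¹ * w * t * c) * t⁻¹ := by group
      _ = _ := by rw [h.cen _ (cjU' e hw)]; group
  · have k : x * (t * c * t⁻¹) * x⁻¹ = t * (t⁻¹ * x * t * c * (t⁻¹ * x * t)⁻¹) * t⁻¹ := by group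
    rw [← e, ← cj_zpowers, ← cj_centralizer, mem_cj] at hx
    rw [k, ← e, conj_mul]
    exact (h.fx _ hx).imp (fun j => by rw [j]) fun j => by rw [j]
  · refine (h.u0 _ (cjU' e hw) (nC' ht cw)).imp (fun j => ?_) fun j => ?_
    · simpa [mul_assoc] using conj_mem_of_mem_normalizer ht j
    · simpa [mul_assoc] using conj_mem_of_mem_normalizer ht j

theorem Pt.cV {V : Subgroup G} {p c : G} (h : Pt V p c) (hp : p ∈ V) : c ∈ 𝐂 V := fun w hw => h.cen w (VU hp hw)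

theorem Pt.sqV {V : Subgroup G} {p c w : G} (h : Pt V p c) (f : Four V) (p1 : p ≠ 1) (hw : w ∈ Up V p) (cw : w ∈ 𝐂 V)
    (e : w * w = 1) : w ∈ V := (h.u0 w hw cw).resolve_right fun j => p1 (by
  have := f.sq _ j
  rwa [mul_assoc, ← mul_assoc c, ← h.cen w hw, mul_assoc, h.cc, ← mul_assoc, e, one_mul] at this)

/-- the situation `U(z) ∩ U(y) = V`, `|U(z)| = 16` -/
structure E7 (S V : Subgroup G) (z y u u' c c' : G) : Prop extends Cc S V z y where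
  uU : u ∈ Up V z
  uu : u * u = 1
  un : u ∉ 𝐂 V
  uz : ∃ g, g * u * g⁻¹ = z
  uU' : u' ∈ Up V y
  uu' : u' * u' = 1
  un' : u' ∉ 𝐂 V
  P : Pt V z c
  P' : Pt V y c'
  rel : u * c' * u⁻¹ = c * c'⁻¹
  cu : ∀ x ∈ Up V z, x * x = 1 → x ∉ 𝐂 V → ∃ w ∈ zpowers c', x = w * u * w⁻¹
  cu' : ∀ x ∈ Up V y, x * x = 1 → x ∉ 𝐂 V → ∃ w ∈ zpowers c, x = w * u' * w⁻¹
  nosum : ∀ a ∈ Up V z, ∀ b ∈ Up V z, a * a = 1 → b * b = 1 → a * b * (a * b) = 1 →
    a ∈ zpowers z ∨ b ∈ zpowers z ∨ a * b ∈ zpowers z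
  twoS : ∀ a ∈ S, ∀ b ∈ S, a ∉ Tp V z → b ∉ Tp V z → a * b ∈ Tp V z

namespace E7
open _root_.H120.FC.E7
variable [Finite G] {S V : Subgroup G} {z y u u' c c' : G} (h : E7 S V z y u u' c c') {r s x : G}
include h

theorem cC : c ∈ 𝐂 V := h.P.cV h.pV
theorem cC' : c' ∈ 𝐂 V := h.P'.cV h.qV
theorem nz : z * c ≠ c := fun e => h.p1 (by simpa using e)

theorem com : c * c' = c' * c := by
  have k : ∀ {p a b : G}, (b * a * b⁻¹ = a ∨ b * a * b⁻¹ = p * a) → ⁅b, a⁆ ∈ zpowers p := fun e => by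
    rcases e with e | e <;> simp [commutatorElement_def, e]
  exact commutatorElement_eq_one_iff_mul_comm.1 (h.toCc.zp h.pr (cm_symm (k (h.P.fx _ (CV h.pV h.cC'))))
    (k (h.P'.fx _ (CV h.qV h.cC))))

theorem dich (hr : r ∈ 𝐂 V) : (r * c * r⁻¹ = c ∧ r * c' * r⁻¹ = c') ∨ (r * c * r⁻¹ = z * c ∧ r * c' * r⁻¹ = y * c') := by
  have k : r * c * r⁻¹ * (r * c' * r⁻¹)⁻¹ = u * (u⁻¹ * r * u * c' * (u⁻¹ * r * u)⁻¹) * u⁻¹ := by
    calc _ = r * (c * c'⁻¹) * r⁻¹ := by group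
      _ = _ := by rw [← h.rel]; group
  have k1 : u * (y * c') * u⁻¹ = z * y * (c * c'⁻¹) := by rw [← conj_mul, h.rel, h.toCc.Umov h.pr h.uU h.un]
  have k2 : c * (y * c')⁻¹ = y * (c * c'⁻¹) := by
    rw [mul_inv_rev, inv_eq_of_mul_eq_one_right (h.toCc.sqV h.qV), ← mul_assoc,
      mul_mem h.cC (inv_mem h.cC') y h.qV]
  rcases h.P.fx _ (CV h.pV hr) with a | a <;> rcases h.P'.fx _ (CV h.qV hr) with b | b
  · exact .inl ⟨a, b⟩
  · rw [a, b, k2] at k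
    rcases h.P'.fx _ (CV h.qV (nC' (h.toCc.Un h.pr h.uU) hr)) with j | j <;> rw [j] at k
    · exact absurd (by simpa [h.rel] using k) h.q1
    · exact absurd (by simpa [k1] using k) h.p1
  · rw [a, b, mul_assoc] at k
    rcases h.P'.fx _ (CV h.qV (nC' (h.toCc.Un h.pr h.uU) hr)) with j | j <;> rw [j] at k
    · exact absurd (by simpa [h.rel] using k) h.p1
    · exact absurd (by simpa [k1] using k) h.q1
  · exact .inr ⟨a, b⟩

theorem cB : c ∈ zpowers c ⊔ zpowers c' := mem_sup_left (mem_zpowers c)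
theorem cB' : c' ∈ zpowers c ⊔ zpowers c' := mem_sup_right (mem_zpowers c')
theorem zc : zpowers c ≤ 𝐂 (zpowers c') := zpowers_le.2 (mem_c_of_conj_eq (by rw [h.com, mul_inv_cancel_right]))
theorem memB (hx : x ∈ zpowers c ⊔ zpowers c') : ∃ a ∈ zpowers c, ∃ b ∈ zpowers c', a * b = x :=
  (mem_sup_of_le_normalizer (le_normalizer_of_le_centralizer h.zc)).1 hx
theorem BC : zpowers c ⊔ zpowers c' ≤ 𝐂 V := sup_le (zpowers_le.2 h.cC) (zpowers_le.2 h.cC')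
theorem Bc : zpowers c ⊔ zpowers c' ≤ 𝐂 (zpowers c) :=
  sup_le (zpowers_le.2 (mem_c_of_conj_eq (by simp))) (le_centralizer_iff.1 h.zc)

theorem VB : V ≤ zpowers c ⊔ zpowers c' := fun v hv => by
  have a : z ∈ zpowers c ⊔ zpowers c' := h.P.cc ▸ mul_mem h.cB h.cB
  have b : y ∈ zpowers c ⊔ zpowers c' := h.P'.cc ▸ mul_mem h.cB' h.cB'
  rcases h.toCc.cases h.pr hv with rfl | rfl | rfl | rfl
  exacts [one_mem _, a, b, mul_mem a b]

theorem UB (hx : x ∈ Up V z) (cx : x ∈ 𝐂 V) : x ∈ zpowers c ⊔ zpowers c' :=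
  (h.P.u0 x hx cx).elim (fun j => h.VB j) fun j => by simpa using mul_mem (h.VB j) (inv_mem h.cB)
theorem UB' (hx : x ∈ Up V y) (cx : x ∈ 𝐂 V) : x ∈ zpowers c ⊔ zpowers c' :=
  (h.P'.u0 x hx cx).elim (fun j => h.VB j) fun j => by simpa using mul_mem (h.VB j) (inv_mem h.cB')

theorem su (hs : s ∈ S) (n : s ∉ 𝐂 V) : s * u ∈ 𝐂 V :=
  h.toCc.two h.pr (h.toCc.S_le hs) (h.le hs) n (h.toCc.Uc h.pr h.uU) (h.toCc.Un h.pr h.uU) h.un
theorem uc : u * c * u⁻¹ = c := by rw [h.P.cen u h.uU, mul_inv_cancel_right]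
theorem suc (e : s * c * s⁻¹ = c) : s * u * c * (s * u)⁻¹ = c := by
  rw [show s * u * c * (s * u)⁻¹ = s * (u * c * u⁻¹) * s⁻¹ by group, h.uc, e]

theorem BS : zpowers c ⊔ zpowers c' ≤ S := by
  have n : ∀ g, g * c * g⁻¹ ∈ zpowers c ⊔ zpowers c' → g * c' * g⁻¹ ∈ zpowers c ⊔ zpowers c' →
      g ∈ 𝐍 (zpowers c ⊔ zpowers c') := fun g a b => mem_normalizer_of_cj_le (by
    rw [cj_sup, cj_zpowers, cj_zpowers]; exact sup_le (zpowers_le.2 a) (zpowers_le.2 b))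
  have n1 : 𝐂 V ≤ 𝐍 (zpowers c ⊔ zpowers c') := fun g hg => by
    rcases h.dich hg with ⟨a, b⟩ | ⟨a, b⟩
    · exact n g (a.symm ▸ h.cB) (b.symm ▸ h.cB')
    · exact n g (a ▸ mul_mem (h.VB h.pV) h.cB) (b ▸ mul_mem (h.VB h.qV) h.cB')
  refine h.syl.le_of_le_normalizer (isPGroup_sup ((h.toCc.UP h.pV h.p1).to_le (zpowers_le.2 h.P.cU))
    ((h.toCc.UP h.qV h.q1).to_le (zpowers_le.2 h.P'.cU)) (le_normalizer_of_le_centralizer h.zc)) le_top fun s hs => ?_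
  by_cases j : s ∈ 𝐂 V
  · exact n1 j
  · simpa using mul_mem (n1 (h.su hs j)) (inv_mem (n u (h.uc.symm ▸ h.cB) (h.rel ▸ mul_mem h.cB (inv_mem h.cB'))))

theorem adjB (hr : r ∈ 𝐂 V) : ∃ w ∈ zpowers c ⊔ zpowers c', u * (w * r) = w * r * u ∧ u' * (w * r) = w * r * u' := by
  have k : ∀ p ∈ V, ∀ r ∈ 𝐂 V, ∀ x ∈ Up V p, x * x = 1 → x ∉ 𝐂 V →
      r * x * r⁻¹ ∈ Up V p ∧ r * x * r⁻¹ * (r * x * r⁻¹) = 1 ∧ r * x * r⁻¹ ∉ 𝐂 V := fun p hp r hr x hx xx n =>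
    ⟨conj_mem_of_mem_normalizer (CVn hp hr) hx, by rw [conj_mul, xx]; simp,
      fun j => n (by simpa [mul_assoc] using mul_mem (mul_mem (inv_mem hr) j) hr)⟩
  have k2 : ∀ r x w : G, r * x * r⁻¹ = w * x * w⁻¹ → x * (w⁻¹ * r) = w⁻¹ * r * x := fun r x w e => by
    calc _ = w⁻¹ * (w * x * w⁻¹) * r := by group
      _ = _ := by rw [← e]; group
  obtain ⟨a1, a2, a3⟩ := k z h.pV r hr u h.uU h.uu h.un
  obtain ⟨w, hw, e⟩ := h.cu _ a1 a2 a3
  obtain ⟨b1, b2, b3⟩ := k y h.qV _ (mul_mem (inv_mem (zpowers_le.2 h.cC' hw)) hr) u' h.uU' h.uu' h.un'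
  obtain ⟨w', hw', e'⟩ := h.cu' _ b1 b2 b3
  refine ⟨w'⁻¹ * w⁻¹, mul_mem (inv_mem (mem_sup_left hw')) (inv_mem (mem_sup_right hw)), ?_, ?_⟩
  · rw [mul_assoc w'⁻¹]
    exact (Commute.mul_right (mem_c_of_conj_eq h.uc _ (inv_mem hw')).symm (k2 _ _ _ e)).eq
  · rw [mul_assoc w'⁻¹]; exact k2 _ _ _ e'

theorem trivB (hx : x ∈ S) (cx : x ∈ 𝐂 V) (e : x * c * x⁻¹ = c) (e1 : u * x = x * u) (e2 : u' * x = x * u') : x = 1 := by
  have k : x ∈ 𝐂 (zpowers c ⊔ zpowers c') := by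
    rw [centralizer_sup']
    exact ⟨mem_c_of_conj_eq e, mem_c_of_conj_eq ((h.dich cx).resolve_right fun j => h.nz (j.1.symm.trans e)).2⟩
  exact h.toCc.triv' h.uU h.un h.uU' h.un' hx e1 e2 (fun w a b => k w (h.UB a b)) fun w a b => k w (h.UB' a b)

theorem cenB (hx : x ∈ S) (cx : x ∈ 𝐂 V) (e : x * c * x⁻¹ = c) : x ∈ zpowers c ⊔ zpowers c' := by
  obtain ⟨w, hw, e1, e2⟩ := h.adjB cx
  exact eq_inv_of_mul_eq_one_right (h.trivB (mul_mem (h.BS hw) hx) (mul_mem (h.BC hw) cx)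
    (conj_eq_of_mem_c (mul_mem (h.Bc hw) (mem_c_of_conj_eq e))) e1 e2) ▸ inv_mem hw

theorem sqB (hx : x ∈ zpowers c ⊔ zpowers c') (e : x * x = 1) : x ∈ V := by
  obtain ⟨a, ha, b, hb, rfl⟩ := h.memB hx
  have aU := zpowers_le.2 h.P.cU ha
  have bU := zpowers_le.2 h.P'.cU hb
  rw [mul_assoc, ← mul_assoc b, h.zc ha b hb, mul_assoc, ← mul_assoc] at e
  have k := h.toCc.zp h.pr (h.toCc.Usq h.pr aU) (eq_inv_of_mul_eq_one_left e ▸ inv_mem (h.toCc.Usq h.pr.symm bU))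
  exact mul_mem (h.P.sqV h.four h.p1 aU (zpowers_le.2 h.cC ha) k)
    (h.P'.sqV h.four h.q1 bU (zpowers_le.2 h.cC' hb) (by rwa [k, one_mul] at e))

theorem memU (hs : s ∈ S) (ht : s ∈ Tp V z) (e : s * c * s⁻¹ = c) : s ∈ Up V z := by
  have k : ∀ s ∈ S, s ∈ Tp V z → s * c * s⁻¹ = c → s ∈ 𝐂 V → s ∈ Up V z := fun s hs ht e j => by
    obtain ⟨a, ha, b, hb, rfl⟩ := h.memB (h.cenB hs j e)
    have aU := zpowers_le.2 h.P.cU ha
    have bT : b ∈ Tp V z := by simpa using mul_mem (inv_mem (h.toCc.UT h.pV h.p1 aU)) ht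
    exact mul_mem aU (h.toCc.inj h.pr (zpowers_le.2 h.P'.cU hb) h.uU h.un
      (VU h.qV (zpowers_le.2 h.pV (cm_symm ((mem_Tp.1 bT).2 u h.uU)))))
  by_cases j : s ∈ 𝐂 V
  · exact k s hs ht e j
  · simpa using mul_mem (k _ (mul_mem hs (h.toCc.US h.uU)) (mul_mem ht (h.toCc.UT h.pV h.p1 h.uU)) (h.suc e) (h.su hs j))
      (inv_mem h.uU)

theorem exists_r : ∃ r ∈ S, r ∈ 𝐂 V ∧ r ∉ zpowers c ⊔ zpowers c' := by
  by_contra! k
  refine h.rk fun A hA e => le_of_not_gt fun c4 => ?_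
  have ea : IsElementaryAbelian 2 A := ⟨hA, e⟩
  obtain ⟨g, -, l⟩ := h.syl.exists_cj_le (elemAb_isPGroup ea) le_top
  rw [← card_cj g] at c4
  replace ea := elemAb_cj ea g
  generalize cj g A = E at *
  have l2 : 𝐂 V ⊓ E ≤ V := fun x hx => h.sqB (k x (l hx.2) hx.1) (by simpa [pow_two] using ea.2 x hx.2)
  have n : ¬ E ≤ 𝐂 V := fun j => by
    have := card_le_of_le ((le_inf j le_rfl).trans l2)
    rw [h.four.card] at this; omega
  have k1 := card_mul_relIndex (𝐂 V) E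
  rw [h.four.relIndex_two (elemAb_isPGroup ea) (l.trans h.le) n] at k1
  rcases h.four.card_cases l2 with j | j | j
  · rw [j, card_bot] at k1; omega
  · omega
  · exact n ((elemAb_le_centralizer ea).trans (centralizer_anti (j.ge.trans inf_le_right)))

theorem fus (hx : x ∈ S) (e : x * c * x⁻¹ = c) (xx : x * x = 1) (x1 : x ≠ 1) : ∃ g, g * x * g⁻¹ = z := by
  by_cases j : x ∈ 𝐂 V
  · obtain ⟨g, -, e⟩ := h.toCc.trans_V (h.sqB (h.cenB hx j e) xx) x1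
    exact ⟨g⁻¹, by rw [← e]; group⟩
  obtain ⟨a, ha, b, hb, k⟩ := h.memB (h.cenB (mul_mem hx (h.toCc.US h.uU)) (h.su hx j) (h.suc e))
  have aU := zpowers_le.2 h.P.cU ha
  have bU := zpowers_le.2 h.P'.cU hb
  obtain rfl : x = a * b * u⁻¹ := by rw [k, mul_inv_cancel_right]
  have c1 : Commute u a := (mem_c_of_conj_eq h.uc a ha).symm
  have c2 : Commute b a := h.zc ha b hb
  have k2 : a * a * b * (u⁻¹ * b * u) = 1 := by
    calc _ = a * ((a * b * u⁻¹) * b) * u := by group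
      _ = a * ((b * u⁻¹ * a) * b) * u := by rw [(c2.mul_left c1.inv_left).eq, mul_assoc a b]
      _ = a * b * u⁻¹ * (a * b * u⁻¹) * (u * u) := by group
      _ = 1 := by rw [xx, h.uu, one_mul]
  have k3 : b ∈ Up V z := h.toCc.inj h.pr bU (inv_mem h.uU) (fun i => h.un (inv_mem_iff.1 i)) (by
    rw [commutatorElement_def, inv_inv, eq_inv_of_mul_eq_one_right k2]
    exact mul_mem (inv_mem (mul_mem (VU h.qV (zpowers_le.2 h.pV (h.toCc.Usq h.pr aU))) bU)) (inv_mem bU))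
  obtain ⟨w, -, e⟩ := h.cu _ (mul_mem (mul_mem aU k3) (inv_mem h.uU)) xx j
  obtain ⟨g, e'⟩ := h.uz
  exact ⟨g * w⁻¹, by rw [e, ← e']; group⟩

theorem inv_c (hs : s ∈ 𝐂 (zpowers z)) (hr : r ∈ 𝐂 (zpowers z)) (e : s * c * s⁻¹ ≠ c) (e' : r * c * r⁻¹ ≠ c) :
    s * r * c * (s * r)⁻¹ = c := by
  rw [show s * r * c * (s * r)⁻¹ = s * (r * c * r⁻¹) * s⁻¹ by group, (h.P.fx r hr).resolve_left e', ← conj_mul,
    (h.P.fx s hs).resolve_left e, conj_eq_of_mem_c hs, ← mul_assoc, h.toCc.zz, one_mul]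

theorem a4 {a b k : G} (ha : a ∈ S) (hb : b ∈ S) (hk : k ∈ 𝐂 (zpowers z)) (aa : a * a = 1) (e1 : k * a * k⁻¹ = b)
    (e2 : k * b * k⁻¹ = a * b) (e3 : k * (a * b) * k⁻¹ = a) : a ∈ zpowers z := by
  have key : ∀ K : Subgroup G, k ∈ 𝐍 K → (a ∉ K → b ∉ K → a * b ∈ K) → a ∈ K ∧ b ∈ K := fun K n t => by
    have : a ∈ K := by_contra fun j => j (e3 ▸ conj_mem_of_mem_normalizer n (t j fun i => j (by
      simpa [← e1, mul_assoc] using conj_mem_of_mem_normalizer' n i)))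
    exact ⟨this, e1 ▸ conj_mem_of_mem_normalizer n this⟩
  obtain ⟨t1, t2⟩ := key _ (c_le_n_Tp V z hk) (h.twoS a ha b hb)
  obtain ⟨u1, u2⟩ := key _ (c_le_n_Up V z hk) fun i j => h.memU (mul_mem ha hb) (mul_mem t1 t2)
    (h.inv_c (Tp_le_c t1) (Tp_le_c t2) (mt (h.memU ha t1) i) (mt (h.memU hb t2) j))
  have bb : b * b = 1 := by rw [← e1, conj_mul, aa]; simp
  have n := centralizer_le_normalizer _ hk
  rcases h.nosum a u1 b u2 aa bb (by rw [← e2, conj_mul, bb]; simp) with j | j | j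
  · exact j
  · simpa [← e1, mul_assoc] using conj_mem_of_mem_normalizer' n j
  · exact e3 ▸ conj_mem_of_mem_normalizer n j

theorem main : False := by
  obtain ⟨r₀, h1, h2, h3⟩ := h.exists_r
  obtain ⟨w, hw, e1, e2⟩ := h.adjB h2
  have rS := mul_mem (h.BS hw) h1
  have rC := mul_mem (h.BC hw) h2
  have rB : w * r₀ ∉ zpowers c ⊔ zpowers c' := fun j => h3 (by simpa using mul_mem (inv_mem hw) j)
  generalize w * r₀ = r at *
  have rc : r * c * r⁻¹ ≠ c := mt (h.cenB rS rC) rB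
  have rH := CV h.pV rC
  have rr : r * r = 1 := h.trivB (mul_mem rS rS) (mul_mem rC rC) (h.inv_c rH rH rc rc)
    (Commute.mul_right e1 e1).eq (Commute.mul_right e2 e2).eq
  have r1 : r ≠ 1 := fun j => rB (j ▸ one_mem _)
  have O : r ∈ pResidualOf 2 (⊤ : Subgroup G) := by
    haveI := h.ng.simple
    rcases (normal_of_top_le_normalizer (le_normalizer_pResidualOf 2 (⊤ : Subgroup G))).eq_bot_or_eq_top with j | j
    · exact absurd (le_top.trans (h.syl.le_of_pResidualOf_le (j ▸ bot_le) h.le)) h.nH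
    · exact j.ge (mem_top r)
  obtain ⟨t, t1, t2⟩ := thompson_two (S := S) (M := 𝐂 (zpowers c)) (T := zpowers r)
    (relIndex_top_right S ▸ h.syl.not_dvd_relIndex) (relIndex_eq_two_iff.2 ⟨r, rS, fun b hb => by
      by_cases j : b ∈ 𝐂 (zpowers c)
      · exact .inr ⟨j, fun i => rc (conj_eq_of_mem_c (by simpa using mul_mem (inv_mem j) i))⟩
      · exact .inl ⟨mem_c_of_conj_eq (h.inv_c (h.toCc.S_le hb) rH (mt mem_c_of_conj_eq j) rc), j⟩⟩)
    (by rw [pow_two, rr]) O (isPGroup_zpowers (k := 1) (by simpa [pow_two] using rr)) (mem_zpowers r)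
    (mem_c_of_conj_eq (by simp))
  obtain ⟨g₀, e⟩ := h.fus (t2 (conj_mem_cj t (mem_zpowers r))) (conj_eq_of_mem_c t1) (by rw [conj_mul, rr]; simp)
    (conj_ne_one t r1)
  have e' : g₀ * t * r * (g₀ * t)⁻¹ = z := by rw [← e]; group
  generalize g₀ * t = g at e'
  have hH : ∀ x, x * r = r * x → g * x * g⁻¹ ∈ 𝐂 (zpowers z) := fun x j => by
    rw [← e', ← cj_zpowers, ← cj_centralizer, conj_mem_cj_iff]
    exact mem_c_of_conj_eq (by rw [j, mul_inv_cancel_right])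
  obtain ⟨x, hx, l⟩ := (h.syl.mono h.toCc.S_le le_top).exists_cj_le (isPGroup_cj g h.four.isP) (by
    rintro _ ⟨v, hv, rfl⟩; exact hH v (rC v hv))
  rw [← cj_mul] at l
  have cv : ∀ a b : G, x * g * a * (x * g)⁻¹ * (x * g * b * (x * g)⁻¹) * (x * g * a * (x * g)⁻¹)⁻¹ =
      x * g * (a * b * a⁻¹) * (x * g)⁻¹ := fun a b => by group
  have uz := conj_eq_of_mem_c (h.toCc.Uc h.pr h.uU)
  have uy := h.toCc.Umov h.pr h.uU h.un
  have k1 : u * u' * z * (u * u')⁻¹ = y := by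
    rw [show u * u' * z * (u * u')⁻¹ = u * (u' * z * u'⁻¹) * u⁻¹ by group, h.toCc.Umov h.pr.symm h.uU' h.un', ← conj_mul,
      uz, uy, mul_assoc, h.toCc.cV h.qV h.pV, ← mul_assoc, h.toCc.zz, one_mul]
  have k2 : u * u' * y * (u * u')⁻¹ = z * y := by
    rw [show u * u' * y * (u * u')⁻¹ = u * (u' * y * u'⁻¹) * u⁻¹ by group,
      conj_eq_of_mem_c (h.toCc.Uc h.pr.symm h.uU'), uy]
  have k3 : u * u' * (z * y) * (u * u')⁻¹ = z := by
    rw [← conj_mul, k1, k2, h.toCc.cV h.pV h.qV, ← mul_assoc, h.toCc.sqV h.qV, one_mul]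
  have := h.a4 (k := x * g * (u * u') * (x * g)⁻¹) (l (conj_mem_cj _ h.pV)) (l (conj_mem_cj _ h.qV))
    (by simpa [mul_assoc] using mul_mem (mul_mem hx (hH _ (Commute.mul_left e1 e2).eq)) (inv_mem hx))
    (by rw [conj_mul, h.toCc.zz]; simp) (by rw [cv, k1]) (by rw [cv, k2, conj_mul]) (by rw [conj_mul, cv, k3])
  rcases mem_two h.toCc.zz this with j | j
  · exact conj_ne_one _ h.p1 j
  · have j2 : x * g * r * (x * g)⁻¹ = z := by
      rw [show x * g * r * (x * g)⁻¹ = x * (g * r * g⁻¹) * x⁻¹ by group, e', conj_eq_of_mem_c hx]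
    have : z = r := by simpa using j.trans j2.symm
    exact rB (this ▸ h.VB h.pV)

end E7

namespace Cc
open _root_.H120.FC.Cc
variable [Finite G] {S V : Subgroup G} {z y : G} (h : Cc S V z y)
include h

section
variable {Γ W : Type*} [Group Γ] [Finite Γ] [AddCommGroup W] [Finite W] [DistribMulAction Γ W] {mk : G → W}
  {ac : G → Γ} (m : Md (𝐂 (zpowers z)) (Up V z) z mk ac) {β : W → W → ZMod 2} {Q : W → ZMod 2}
  (f : Fm (Up V z) mk β Q) {A₁ : Subgroup Γ} {α η : Γ}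
include m f

theorem c7 (et : Et (As m y) A₁ α η) (hA : ∀ b ∈ As m y, b = 1 ∨ b = α)
    (hD : ∀ d ∈ m.im (Up V y), d = 0 ∨ d = mk y) : False := by
  have r := h.pr
  have r' := (h.thr r).symm
  have o := h.mo m f
  have yU := VU h.pV h.qV
  obtain ⟨γ, hu⟩ := o.exO
  obtain ⟨g, hg, rfl⟩ := m.ac_surj γ
  rw [m.smul g hg y yU] at hu
  have uU := m.cU hg yU
  have uu : g * y * g⁻¹ * (g * y * g⁻¹) = 1 := by rw [conj_mul, h.sqV h.qV]; simp
  have uz : ∃ k, k * (g * y * g⁻¹) * k⁻¹ = z := by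
    obtain ⟨k, -, e⟩ := h.trans_V h.qV h.q1
    exact ⟨k⁻¹ * g⁻¹, by rw [← e]; group⟩
  generalize g * y * g⁻¹ = u at *
  have un := (h.β1 m f uU).1 hu
  have q0 : ∀ x ∈ Up V z, x * x = 1 → Q (mk x) = 0 := fun x hx e => by rw [f.q x hx, sg_zero, e]
  have qu := q0 u uU uu
  have pt : ∀ c ∈ Up V z, mk c = α • mk u + mk u + mk y → Pt V z c := fun c hc e => by
    refine ⟨hc, (mem_two h.zz (h.Usq r hc)).resolve_left fun j => ?_, fun w hw => ?_, fun x hx => ?_, fun w hw cw => ?_⟩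
    · have := o.qc et.aA et.a1 hA hD hu et qu
      rw [← e, q0 c hc j] at this; exact zero_ne_one this
    · have := o.rad et.aA et.a1 hA hD hu et (mk w)
      rw [← e, f.b c hc w hw, χ_zero] at this; exact this.symm
    · have := (m.fix hx hc).1 (e ▸ o.fixc et.aA et.a1 hA hD hu et (ac x))
      refine (mem_two h.zz this).imp (fun j => ?_) fun j => ?_
      · rwa [commutatorElement_def, mul_inv_eq_one] at j
      · rwa [commutatorElement_def, mul_inv_eq_iff_eq_mul] at j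
    · have := o.w0 et.aA et.a1 hA hD hu ((h.β0 m f hw).2 cw)
      by_cases j : mk w = 0 ∨ mk w = mk y
      · exact .inl (h.memV m hw j)
      refine .inr (h.memV m (mul_mem hw hc) ?_)
      rw [m.mk_mul w hw c hc, e]
      have := m.two (α • mk u + mk u); have := m.two (mk y)
      grind
  obtain ⟨c₀, hc₀, e₀⟩ := m.mk_surj (α • mk u + mk u + mk y)
  obtain ⟨t, ht, nt⟩ := h.ex r'.pV r'.p1
  have tz : t * z * t⁻¹ = y := by
    rw [h.Umov r' ht nt, mul_assoc, h.cV h.qV h.pV, ← mul_assoc, h.zz, one_mul]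
  have tM := h.Un r' ht
  have P' := (pt c₀ hc₀ e₀).conj tM tz
  have tc : t * (t * c₀ * t⁻¹) * t⁻¹ = c₀ := by
    calc _ = t * t * c₀ * (t * t)⁻¹ := by group
      _ = _ := by rw [(pt c₀ hc₀ e₀).cV h.pV _ (zpowers_le.2 r'.pV (h.Usq r' ht)), mul_inv_cancel_right]
  generalize t * c₀ * t⁻¹ = c' at *
  have cC := P'.cV h.qV
  have cH := CV h.pV cC
  have e1 : ac c' = α := (hA _ ((h.mem_As m).2 ⟨c', P'.cU, cC, rfl⟩)).resolve_left fun j => by
    have k := h.inj r P'.cU uU un (VU h.qV (zpowers_le.2 h.pV (cm_symm ((m.ac_eq_one cH).1 j u uU))))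
    exact h.q1 (P'.cc.symm.trans (h.Dsq r k P'.cU))
  have x1 := cmR (m.nU cH) uU
  have e2 : mk (⁅u, c'⁆ * y) = α • mk u + mk u + mk y := by
    rw [m.mk_mul _ x1 _ yU, ← commutatorElement_inv, m.mk_inv (cmL (m.nU cH) uU), neg_eq_of_add_eq_zero_left (m.two _),
      h.cmk m cH uU, e1]
  have P := pt _ (mul_mem x1 yU) e2
  have cu : ∀ x ∈ Up V z, x * x = 1 → x ∉ 𝐂 V → ∃ w ∈ zpowers c', x = w * u * w⁻¹ := fun x hx xx n => by
    have k : ∀ a ∈ Up V z, a ∉ 𝐂 V → mk x = mk a → x = a ∨ x = y * a * y⁻¹ := fun a ha na e =>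
      (mem_two h.zz ((m.mk_eq hx ha).1 e)).imp mul_inv_eq_one.1 fun j => by
        have := h.Umov r ha na
        rw [mul_inv_eq_iff_eq_mul] at this j
        rw [j, inv_eq_of_mul_eq_one_right (h.sqV h.qV), mul_assoc, this, ← mul_assoc, ← mul_assoc, h.cV h.qV h.pV,
          mul_assoc z, h.sqV h.qV, mul_one]
    have yc : y ∈ zpowers c' := P'.cc ▸ mul_mem (mem_zpowers _) (mem_zpowers _)
    have b := (h.β1 m f hx).2 n
    rcases o.sing et.aA et.a1 hA hD hu et qu (q0 x hx xx) with j | j | j | j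
    · rw [j, o.β0] at b; exact absurd b zero_ne_one
    · rw [j, o.βs] at b; exact absurd b zero_ne_one
    · rcases k u uU un j with i | i
      exacts [⟨1, one_mem _, by simp [i]⟩, ⟨y, yc, i⟩]
    · rw [← e1, m.smul c' cH u uU] at j
      rcases k _ (m.cU cH uU) (fun i => un (by simpa [mul_assoc] using mul_mem (mul_mem (inv_mem cC) i) cC)) j with i | i
      exacts [⟨c', mem_zpowers _, i⟩, ⟨y * c', mul_mem yc (mem_zpowers _), by rw [i]; group⟩]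
  refine E7.main (u := u) (u' := t * u * t⁻¹) ⟨h, uU, uu, un, uz, cjU tz uU, by rw [conj_mul, uu]; simp,
    fun j => un (by simpa [mul_assoc] using nC' tM j), P, P', ?_, cu, fun x hx xx n => ?_, fun a ha b hb aa bb ab => ?_,
    fun a ha b hb na nb => ?_⟩
  · calc _ = ⁅u, c'⁆ * (y * c'⁻¹) * (c' * (y⁻¹ * c')) := by simp only [commutatorElement_def]; group
      _ = _ := by
        rw [inv_eq_of_mul_eq_one_right (h.sqV h.qV), cC y h.qV, ← mul_assoc c', P'.cc, h.sqV h.qV, mul_one, mul_assoc]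
  · obtain ⟨w, hw, e⟩ := cu _ (cjU' tz hx) (by
      rw [show t⁻¹ * x * t * (t⁻¹ * x * t) = t⁻¹ * (x * x) * t by group, xx]; simp)
      fun j => n (by simpa [mul_assoc] using nC tM j)
    refine ⟨t * w * t⁻¹, ?_, by
      calc x = t * (t⁻¹ * x * t) * t⁻¹ := by group
        _ = _ := by rw [e]; group⟩
    have k := conj_mem_cj t hw
    rw [cj_zpowers, tc] at k
    refine zpowers_le.2 ?_ k
    have := (m.mk_eq hc₀ P.cU).1 (e₀.trans e2.symm)
    have := mul_mem (zpowers_le.2 (P.cc ▸ mul_mem (mem_zpowers _) (mem_zpowers _)) this) (mem_zpowers (⁅u, c'⁆ * y))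
    rwa [inv_mul_cancel_right] at this
  · have := o.nosum et.aA et.a1 hA hD hu et qu (q0 a ha aa) (q0 b hb bb)
      (m.mk_mul a ha b hb ▸ q0 _ (mul_mem ha hb) ab)
    rwa [← m.mk_mul a ha b hb, m.mk_zero a ha, m.mk_zero b hb, m.mk_zero _ (mul_mem ha hb)] at this
  · have a1 := h.S_le ha
    have b1 := h.S_le hb
    rw [← ac_T m (mul_mem a1 b1), m.ac_mul a a1 b b1]
    exact o.twoS et.aA et.a1 hA hD hu et qu ((h.fix_M m a1).2 (h.le ha)) ((h.fix_M m b1).2 (h.le hb))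
      (mt (ac_T m a1).1 na) (mt (ac_T m b1).1 nb)
end

theorem main : False := by
  obtain ⟨Γ, W, _, _, _, _, _, mk, ac, m⟩ := exists_md' (fun _ => h.Uc h.pr) (fun _ a _ b => h.Ucm h.pr a b)
    (fun _ => h.Usq h.pr) (c_le_n_Up V z) le_rfl
  obtain ⟨β, Q, f⟩ := exists_fm m h.zz fun _ => h.Uc h.pr
  have o := h.mo m f
  obtain ⟨α, ha, a1⟩ : ∃ α ∈ As m y, α ≠ 1 := by
    by_contra! k
    exact o.k0 k
  obtain ⟨e, he, oe, hJ, A₁, et⟩ := h.lift m f ha a1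
  have k : ∀ s ∈ A₁, s = 1 := fun s hs => by_contra (h.c5 m f he et oe hJ hs)
  have hA : ∀ b ∈ As m y, b = 1 ∨ b = α := fun b hb => (et.two b hb).imp (k b) fun j => by
    rw [eq_inv_of_mul_eq_one_right (k _ j), inv_eq_of_mul_eq_one_right et.aa]
  exact h.c7 m f et hA fun d hd => by_contra fun j => o.c6 ha a1 hA hd (fun i => j (.inl i)) fun i => j (.inr i)

end Cc
end H120.FC

end H226
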