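import Cfsg.Agent.H26.T2.H26NFr2
import Cfsg.Agent.H26.T2.H18N3
/-! Interface for `H26.FA2`: blocks `Bk B W g` over a `2`-group `B` and the pieces `ANF`, `AFP`, `ASM`
(notes/helper26_N4a.md). -/
set_option autoImplicit false
namespace H118 end H118 namespace H226 end H226 namespace H26 end H26 namespace H4 end H4
open H226
namespace H226
namespace H26
open _root_.H26
open Cfsg Subgroup H4 _root_.H4 H118 _root_.H118
open scoped Pointwise commutatorElement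
universe u

local notation "𝐉" => thompsonSubgroupOf 2
local notation "O₂" => pCoreOf 2

variable {G : Type*} [Group G]

/-- a block over `B`: `B⟨g⟩` acts as `SL₂(2)` on the four-group `W` and normalizes `Q = C_B(W)` -/
structure Bk (B W : Subgroup G) (g : G) : Prop where
  isP : IsPGroup 2 B
  four : Four W
  le : W ≤ B
  nW : B ≤ 𝐍 W
  th : Th W g
  three : ∃ k, g ^ 3 ^ k = 1
  inv : ∃ A ∈ MaxEA 2 B, ∃ b ∈ A, b ∉ 𝐂 W ∧ b * g * b⁻¹ = g⁻¹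
  nQ : g ∈ 𝐍 (B ⊓ 𝐂 W)

/-- `B` is the Baumann subgroup of every `2`-group above it -/
def Bau (B : Subgroup G) : Prop := ∀ T : Subgroup G, IsPGroup 2 T → B ≤ T → 𝐉 T = 𝐉 B ∧ bm T = B

/-- a pair of blocks normalizing a common `2`-group -/
def ANF : Prop := ∀ (G : Type u) [Group G] [Finite G] (B W₁ W₂ N : Subgroup G) (g₁ g₂ : G),
  LocCharOf 2 (⊤ : Subgroup G) → (∀ L : Subgroup G, IsTwoLocal L → Group.IsSolvable L) → Bau B →
  Bk B W₁ g₁ → Bk B W₂ g₂ → IsPGroup 2 N → N ≠ ⊥ → B ≤ 𝐍 N → g₁ ∈ 𝐍 N → g₂ ∈ 𝐍 N → g₂ ∈ 𝐍 W₁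

/-- a free pair of blocks -/
def AFP : Prop := ∀ (G : Type u) [Group G] [Finite G] (B W₁ W₂ : Subgroup G) (g₁ g₂ : G),
  (∀ L : Subgroup G, IsTwoLocal L → Group.IsSolvable L) → Bk B W₁ g₁ → Bk B W₂ g₂ →
  (∀ N ≤ B, B ≤ 𝐍 N → g₁ ∈ 𝐍 N → g₂ ∈ 𝐍 N → N = ⊥) → ∃ D, H9.DD B W₁ W₂ D ∧ B ⊓ 𝐂 W₁ = W₁ ⊔ D

/-- the small case `B(S) = D₈ × D` -/
def ASM : Prop := ∀ (G : Type u) [Group G] [Finite G] (S W₁ W₂ D : Subgroup G) (g : G), NG2 G → ¬ PRankLE 2 2 G →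
  LocCharOf 2 (⊤ : Subgroup G) → IsSyl 2 S ⊤ → Bk (bm S) W₁ g → H9.DD (bm S) W₁ W₂ D →
  bm S ⊓ 𝐂 W₁ = W₁ ⊔ D → False

variable {B W A K S : Subgroup G} {g s : G}

theorem Bk.conj (h : Bk B W g) (hs : s ∈ 𝐍 B) : Bk B (cj s W) (s * g * s⁻¹) := by
  have e := cj_eq_iff.2 hs
  obtain ⟨k, hk⟩ := h.three
  obtain ⟨A, hA, b, hb, b1, b2⟩ := h.inv
  refine ⟨h.isP, h.four.conj s, cj_le_of_mem_normalizer h.le hs, e ▸ H18.PU.cj_le_n s h.nW, h.th.conj s,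
    ⟨k, by rw [conj_pow, hk]; group⟩, ⟨cj s A, MaxEA.cj_of_mem_normalizer hA hs, s * b * s⁻¹, conj_mem_cj s hb,
    by rwa [← cj_centralizer, conj_mem_cj_iff], ?_⟩, ?_⟩
  · rw [show s * b * s⁻¹ * (s * g * s⁻¹) * (s * b * s⁻¹)⁻¹ = s * (b * g * b⁻¹) * s⁻¹ by group, b2]; group
  · rw [show B ⊓ 𝐂 (cj s W) = cj s (B ⊓ 𝐂 W) by rw [cj_inf, e, cj_centralizer], ← cj_normalizer]
    exact conj_mem_cj s h.nQ

theorem Bk.odd (h : Bk B W g) : (orderOf g).Coprime 2 := by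
  obtain ⟨k, hk⟩ := h.three
  exact Nat.Coprime.coprime_dvd_left (orderOf_dvd_of_pow_eq_one hk) (Nat.Coprime.pow_left k (by norm_num))

theorem Bk.jc (h : Bk B W g) : ¬ 𝐉 B ≤ 𝐂 W := fun e =>
  let ⟨_, hA, _, hb, b1, _⟩ := h.inv; b1 (e (MaxEA.le_thompsonOf hA hb))

/-- `g` lies in every subgroup normalized by `g` that contains `J(B)` -/
theorem Bk.mem (h : Bk B W g) (h1 : 𝐉 B ≤ K) (h2 : g ∈ 𝐍 K) : g ∈ K := by
  obtain ⟨A, hA, b, hb, -, b2⟩ := h.inv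
  have m := h1 (MaxEA.le_thompsonOf hA hb)
  refine mem_of_pow_mem_coprime_orderOf h.odd ?_
  have := mul_mem (conj_mem_of_mem_normalizer h2 m) (inv_mem m)
  rwa [show g * b * g⁻¹ * b⁻¹ = g * (b * g * b⁻¹)⁻¹ by group, b2, inv_inv, ← pow_two] at this

theorem bau_bm [Finite G] (hS : IsSyl 2 S ⊤) : Bau (bm S) := fun T hT h => by
  have e : 𝐉 T = 𝐉 S := hS.thompson_eq hT ((j_le_bm S).trans h) le_top
  have s := (hS.mono (le_normalizer.trans (n_ozj S)) le_top).inf_of_normal (normalizer_le_normalizer_centralizer _)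
    (centralizer_le_normalizer _)
  refine ⟨e.trans (thompsonOf_eq_of_le (j_le_bm S) inf_le_left).symm, ?_⟩
  rw [bm, e]
  exact s.eq_of_le hT.to_inf_left (le_inf h inf_le_right) inf_le_right

end H26

end H226
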