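import Cfsg.Agent.H26.T2.H26NA3
/-! `FA2` from `AFP` and `ASM`. -/
set_option autoImplicit false
namespace H118 end H118 namespace H226 end H226 namespace H26 end H26 namespace H4 end H4
open H226
namespace H226
namespace H26
open _root_.H26
open Cfsg Subgroup H4 _root_.H4 H118 _root_.H118
open scoped Pointwise commutatorElement
universe u

local notation "𝐉" => thompsonSubgroupOf 2
local notation "O₂" => pCoreOf 2
local notation "O²" => pResidualOf 2

variable {G : Type*} [Group G] [Finite G] {B W A K T X Y M S V : Subgroup G} {g s k x : G}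

omit [Finite G] in
theorem Bk.dec (h : Bk B W g) (hx : x ∈ B ⊔ zpowers g) : ∃ b ∈ B, ∃ j : ℤ, b * g ^ j = x := by
  obtain ⟨A, hA, b, hb, b1, b2⟩ := h.inv
  have bB := MaxEA.le hA hb
  have l : B ⊔ zpowers g ≤ B ⊓ 𝐂 W ⊔ (zpowers b ⊔ zpowers g) := sup_le (fun y hy => (em (y ∈ 𝐂 W)).elim
    (fun e => mem_sup_left ⟨hy, e⟩) fun e => (mul_mem_cancel_right (mem_sup_right (mem_sup_left (mem_zpowers b)))).1
      (mem_sup_left ⟨mul_mem hy bB, h.four.two_of_isP h.isP h.nW y hy b bB e b1⟩)) (le_sup_of_le_right le_sup_right)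
  obtain ⟨q, hq, d, hd, rfl⟩ := (mem_sup_of_le_normalizer' (sup_le (zpowers_le.2
    (le_normalizer_inf_centralizer h.nW bB)) (zpowers_le.2 h.nQ))).1 (l hx)
  obtain ⟨c, hc, _, ⟨j, rfl⟩, rfl⟩ := (mem_sup_of_le_normalizer (zpowers_le.2 (cj_eq_iff.1
    (by rw [cj_zpowers, b2, zpowers_inv])))).1 hd
  exact ⟨q * c, mul_mem hq.1 (zpowers_le.2 bB hc), j, mul_assoc _ _ _⟩

theorem Bk.mem_of_th (h : Bk B W g) (h1 : B ≤ K) (hk : k ∈ B ⊔ zpowers g) (h2 : k ∈ K) (th : Th W k) : g ∈ K := by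
  obtain ⟨b, hb, j, rfl⟩ := h.dec hk
  obtain ⟨n, hn⟩ := (mem_powers_iff_mem_zpowers.2 (zpow_mem (mem_zpowers g) j) : g ^ j ∈ Submonoid.powers g)
  replace hn : g ^ n = g ^ j := hn
  rw [← hn] at h2 th
  obtain ⟨i, hi⟩ := h.three
  by_cases d : 3 ∣ n
  · obtain ⟨m, rfl⟩ := d
    have c : g ^ (3 * m) ∈ 𝐂 W := by rw [pow_mul]; exact pow_mem h.th.cube m
    refine (th.nc (mem_of_pow_mem_coprime (by norm_num : Nat.Coprime 2 3) ?_ th.cube)).elim
    have := mul_mem (mul_mem (h.four.sq_mem_of_isP h.isP h.nW hb) (conj_mem_of_mem_normalizer'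
      (normalizer_le_normalizer_centralizer W (h.nW hb)) c)) c
    rwa [show b * b * (b⁻¹ * g ^ (3 * m) * b) * g ^ (3 * m) = (b * g ^ (3 * m)) ^ 2 by rw [pow_two]; group] at this
  · exact mem_of_pow_mem_coprime (Nat.Coprime.pow_right i ((Nat.prime_three.coprime_iff_not_dvd.2 d).symm))
      ((mul_mem_cancel_left (h1 hb)).1 h2) (hi ▸ one_mem K)

theorem exists_inv (afp : AFP.{u}) (asm : ASM.{u}) {G : Type u} [Group G] [Finite G] {S : Subgroup G} (ng : NG2 G)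
    (rk : ¬ PRankLE 2 2 G) (ch : LocCharOf 2 (⊤ : Subgroup G)) (hS : IsSyl 2 S ⊤) (h1 : S ≠ ⊥) :
    ∃ Y : Subgroup G, IsPGroup 2 Y ∧ Y ≠ ⊥ ∧ 𝐍 (bm S) ≤ 𝐍 Y ∧ ∀ W g, Bk (bm S) W g → g ∈ 𝐍 Y := by
  by_cases ex : ∃ W g, Bk (bm S) W g
  · have key : ∀ W₁ g₁ W₂ g₂, Bk (bm S) W₁ g₁ → Bk (bm S) W₂ g₂ → g₂ ∈ 𝐍 W₁ := fun W₁ g₁ W₂ g₂ a b => by_contra fun n =>
      let ⟨D, d, e⟩ := afp G _ W₁ W₂ g₁ g₂ (fun _ => ng.two) a b fun N l n0 n1 n2 => by_contra fun N1 =>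
        n (anf G _ W₁ W₂ N g₁ g₂ ch (fun _ => ng.two) (bau_bm hS) a b (a.isP.to_le l) N1 n0 n1 n2)
      asm G S W₁ W₂ D g₁ ng rk ch hS a d e
    obtain ⟨W, g, h⟩ := ex
    refine ⟨⨆ W : {W // ∃ g, Bk (bm S) W g}, W.1, h.isP.to_le (iSup_le fun ⟨_, _, a⟩ => a.le), fun e =>
      h.four.ne_bot (le_bot_iff.1 (e ▸ le_iSup_of_le ⟨W, g, h⟩ le_rfl)), fun s hs => mem_normalizer_of_cj_le ?_,
      fun W₂ g₂ b => zpowers_le.1 (le_normalizer_iSup fun ⟨W₁, g₁, a⟩ => zpowers_le.2 (key _ _ _ _ a b))⟩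
    rw [cj_iSup]
    exact iSup_le fun ⟨W₁, g₁, a⟩ => le_iSup_of_le ⟨_, _, a.conj hs⟩ le_rfl
  · exact ⟨bm S, hS.isP.to_inf_left, fun e => thompson_ne_bot hS.isP h1 (le_bot_iff.1 (e ▸ j_le_bm S)), le_rfl,
      fun W g h => (ex ⟨W, g, h⟩).elim⟩

theorem sol_of_charP (ng : NG2 G) (hX : CharPOf 2 X) (h1 : X ≠ ⊥) : Group.IsSolvable X :=
  H17.solvable_of_le (le_normalizer_pCoreOf 2 X) (ng.two (twoLocal_n (isPGroup_pCoreOf 2 X) (hX.pCoreOf_ne_bot h1)))

/-- the property `f2` follows from the other properties of the frame -/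
theorem fr_of (ng : NG2 G) (ch : LocCharOf 2 (⊤ : Subgroup G)) (rk : ¬ PRankLE 2 2 G) (syl : IsSyl 2 S ⊤)
    (le : S ≤ 𝐍 V) (zv : zc (𝐍 V) = V) (hV : IsElementaryAbelian 2 V) (V1 : V ≠ ⊥)
    (f1 : ∀ X T : Subgroup G, CharPOf 2 X → IsSyl 2 T X → bm S ≤ T → X ≤ (X ⊓ 𝐍 V) ⊔ (X ⊓ 𝐂 (zc X)))
    (nH : ¬ fH S ≤ 𝐍 V) : Fr S V := by
  have sM : IsSyl 2 S (𝐍 V) := syl.mono le le_top
  have ne : ncl (oz S) (𝐍 V) = V := sM.sylowCenterClosure_eq.symm.trans zv
  have zV : oz S ≤ V := (le_ncl _ _).trans ne.le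
  have sR : IsSyl 2 (fR S V) (𝐂 V) :=
    sM.inf_of_normal (normalizer_le_normalizer_centralizer V) (centralizer_le_normalizer _)
  have SL : S ≤ fL S V := le_normalizer_inf_centralizer le
  have nL : V ≤ ncl (oz S) (𝐍 V ⊓ fL S V) := ne.ge.trans (ncl_le_iff.2 fun g hg => by
    obtain ⟨c, hc, e⟩ := sR.frattini_mem (normalizer_le_normalizer_centralizer V (inv_mem hg))
    have := cj_le_ncl (Y := oz S) (inv_mem (show c * g⁻¹ ∈ 𝐍 V ⊓ fL S V from
      mem_inf.2 ⟨mul_mem (centralizer_le_normalizer _ hc) (inv_mem hg), e⟩))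
    rwa [mul_inv_rev, inv_inv, cj_mul, cj_eq_of_mem_centralizer (inv_mem (centralizer_anti zV hc))] at this)
  have uq : ∀ Y : Subgroup G, IsPGroup 2 Y → Y ≠ ⊥ → fL S V ≤ 𝐍 Y → 𝐍 Y ≤ 𝐍 V := fun Y a b c => by
    have s : IsSyl 2 S (𝐍 Y) := syl.mono (SL.trans c) le_top
    refine (f1 _ S (by simpa using ch Y le_top a b) s inf_le_left).trans (sup_le inf_le_right (inf_le_right.trans ?_))
    refine (centralizer_anti ?_).trans (centralizer_le_normalizer _)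
    rw [zc, s.sylowCenterClosure_eq]
    exact nL.trans (ncl_mono le_rfl (inf_le_right.trans c))
  have VR : V ≤ oz (fR S V) := le_oz hV (le_inf (syl.le_of_le_normalizer (elemAb_isPGroup hV) le_top le)
    (elemAb_le_centralizer hV)) (le_centralizer_iff.1 inf_le_right)
  have VD := VR.trans (oz_le_oz_thompson _)
  have VB : V ≤ bm (fR S V) := VD.trans ((oz_le _).trans (j_le_bm _))
  have pB : IsPGroup 2 (bm (fR S V)) := sR.isP.to_inf_left
  refine ⟨ng, ch, rk, syl, le, zv, f1, fun X T hX hT h1 h2 => ?_, nH⟩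
  have s := (syl.mono (SL.trans (n_ozj _)) le_top).inf_of_normal (normalizer_le_normalizer_centralizer _)
    (centralizer_le_normalizer _)
  rw [show S ⊓ 𝐂 (oz (𝐉 (fR S V))) = bm (fR S V) from le_antisymm (le_inf (inf_le_inf_left _ (centralizer_anti VD))
    inf_le_right) (inf_le_inf_right _ inf_le_left)] at s
  have e : bm T = bm (fR S V) := by
    rw [bm, h2]; exact s.eq_of_le hT.isP.to_inf_left (le_inf h1 inf_le_right) inf_le_right
  have B1 : bm (fR S V) ≠ ⊥ := fun e => V1 (le_bot_iff.1 (e ▸ VB))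
  refine bau hT (sol_of_charP ng hX fun e => B1 (le_bot_iff.1 (e ▸ h1.trans hT.le))) hX
    (e ▸ inf_le_right.trans (uq _ pB B1 (n_bm _))) fun W g h _ => by_contra fun n => ?_
  rw [e] at h
  have BM : bm (fR S V) ≤ 𝐍 V := (inf_le_left.trans inf_le_left).trans le
  obtain ⟨W', D, E, o⟩ := St.out (P := bm (fR S V) ⊔ zpowers g) (M := 𝐍 V) ⟨pB, le_sup_left, h.four, h.le,
    (thompsonOf_le 2 _).trans h.nW, h.jc, fun t ht _ => h.nW ht, fun t ht => (cj_eq_iff.2 (h.nW ht)).le.trans h.four.le_c,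
    ⟨g, mem_sup_right (mem_zpowers g), h.th, h.nQ⟩, fun k hk th m => n (h.mem_of_th BM hk m th),
    fun Y a b c => inf_le_right.trans (uq Y (pB.to_le a) b ((n_bm _).trans c))⟩ fun _ => ng.two
  have d : H9.DD _ W W' D := ⟨o.four, o.four', o.sup, o.card, o.cen, o.disj, o.inf, o.nc, o.nw, o.nw'⟩
  have nz : fL S V ≤ 𝐍 (W ⊓ W') := (n_bm _).trans d.nZ
  have z1 : W ⊓ W' ≤ oz S := le_oz (elemAb_mono h.four.ea inf_le_left)
    (inf_le_left.trans (h.le.trans (inf_le_left.trans inf_le_left)))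
    (le_centralizer_iff.1 (SL.trans (nz.trans (normalizer_le_c_of_card_two o.inf))))
  have l : V ≤ W ⊓ W' ⊔ D := (le_inf VB (le_centralizer_iff.1 (inf_le_right.trans (centralizer_anti VD)))).trans d.Z_le
  have c1 := card_le_of_le l
  have c2 := card_sup_mul_card_inf (H := W ⊓ W') (K := D) (le_normalizer_of_le_centralizer
    ((inf_le_left.trans h.le).trans (le_centralizer_iff.1 o.cen)))
  have c3 : 0 < Nat.card ↥(W ⊓ W' ⊓ D) := Nat.card_pos
  have c4 := o.card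
  rw [o.inf] at c2
  have cm : ⁅V, 𝐍 V ⊓ fL S V⁆ ≤ W ⊓ W' := by
    rcases (z1.trans zV).eq_or_lt with k | k
    · exact (commutator_le_of_le_normalizer inf_le_left).trans k.ge
    · have := mul_card_le_of_lt (elemAb_isPGroup hV) k
      rw [o.inf] at this
      exact Four.commutator_le_of_card ⟨by nlinarith, fun w hw => by rw [← pow_two]; exact hV.2 w hw⟩ k.le o.inf
        inf_le_left (inf_le_right.trans nz)
  have := nL.trans (ncl_eq_self (le_normalizer_of_commutator_le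
    ((commutator_mono zV le_rfl).trans (cm.trans z1)))).le
  exact nH ((centralizer_anti this).trans (centralizer_le_normalizer _))

theorem fa2_of (afp : AFP.{u}) (asm : ASM.{u}) : FA2.{u} := by
  intro G _ _ ng rk hc S h4
  have ch : LocCharOf 2 (⊤ : Subgroup G) := locCharOf_top.2 hc.2
  have hS := isSyl_top S
  have S1 : (S : Subgroup G) ≠ ⊥ := hS.ne_bot (by rw [card_top]; exact hc.1.two_dvd)
  obtain ⟨Y, pY, Y1, n1, n2⟩ := exists_inv afp asm ng rk ch hS S1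
  obtain ⟨M, l, hM⟩ := exists_max_twoLocal (twoLocal_n pY Y1)
  have SM : (S : Subgroup G) ≤ M := (le_normalizer.trans (n_bm _)).trans (n1.trans l)
  have sM := hS.mono SM le_top
  have r := (inL_of_twoLocal ch hM.1).charP.pRed_sylowCenterClosure
  have V1 : zc M ≠ ⊥ := fun e => omegaOne_center_ne_bot hS.isP S1 (le_bot_iff.1 (e ▸ (le_ncl _ _).trans
    sM.sylowCenterClosure_eq.ge))
  have e : 𝐍 (zc M) = M := hM.2 _ (twoLocal_n r.isP V1) r.norm
  have f1 : ∀ X T : Subgroup G, CharPOf 2 X → IsSyl 2 T X → bm (S : Subgroup G) ≤ T →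
      X ≤ (X ⊓ 𝐍 (zc M)) ⊔ (X ⊓ 𝐂 (zc X)) := fun X T hX hT h => by
    have b := (bau_bm hS T hT.isP h).2
    rw [e]
    exact bau hT (sol_of_charP ng hX fun e => thompson_ne_bot hS.isP S1
      (le_bot_iff.1 (e ▸ (j_le_bm _).trans (h.trans hT.le)))) hX (b ▸ inf_le_right.trans (n1.trans l))
      fun W g k _ => l (n2 W g (b ▸ k))
  refine ⟨zc M, fr_of ng ch rk hS (e.symm ▸ SM) (by rw [e]) r.elemAb V1 f1 fun k => ?_, r.isP, e.symm ▸ n1.trans l⟩
  obtain ⟨L, hL, h1, h2⟩ := h4 M hM.1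
  have s := hS.mono h1 le_top
  refine h2 (((f1 L S (inL_of_twoLocal ch hL).charP s inf_le_left).trans (sup_le inf_le_right
    (inf_le_right.trans (le_trans (centralizer_anti ?_) k)))).trans e.le)
  rw [zc, s.sylowCenterClosure_eq]
  exact le_ncl _ _

end H26

end H226
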