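import Cfsg.Agent.H26.JC5
import Cfsg.Agent.H26.T2.Def
/-! Interface for `H26.N4`: the frame `Fr S V` and the pieces `FA … FG2` (proofs on paper: `notes/helper26_N4.md`).
Notation of the notes: `Z = oz S`, `H = 𝐂 Z`, `M = 𝐍 V`, `R = S ⊓ 𝐂 V`, `L₀ = 𝐍 R`, `U = ncl V H`, `Q = O₂ H`. -/
set_option autoImplicit false
namespace H226 end H226 namespace H26 end H26 namespace H4 end H4
open H226
namespace H226
namespace H26
open _root_.H26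
open Cfsg Subgroup H4 _root_.H4
open scoped Pointwise commutatorElement
universe u

local notation "𝐉" => thompsonSubgroupOf 2
local notation "O₂" => pCoreOf 2

variable {G : Type*} [Group G]

/-- the Baumann subgroup -/
abbrev bm (T : Subgroup G) : Subgroup G := T ⊓ 𝐂 (oz (𝐉 T))

/-- `Z_X`, generated by the `Ω₁Z(T)` for the Sylow 2-subgroups `T` of `X` -/
abbrev zc (X : Subgroup G) : Subgroup G := sylowCenterClosure 2 X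

/-- `H = C(Ω₁Z(S))` -/
abbrev fH (S : Subgroup G) : Subgroup G := 𝐂 (oz S)

/-- `U = ⟨V^H⟩` -/
abbrev fU (S V : Subgroup G) : Subgroup G := ncl V (𝐂 (oz S))

/-- `T = C_H(U/Z)` -/
abbrev fT (S V : Subgroup G) : Subgroup G := fH S ⊓ commStab (fU S V : Set G) (oz S)

/-- The frame: `M = N(V)` with `V = Z_M` covers every 2-local `X` above `B(S)` or `B(R)` modulo `C_X(Z_X)`. -/
structure Fr (S V : Subgroup G) : Prop where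
  ng : NG2 G
  ch : LocCharOf 2 (⊤ : Subgroup G)
  rk : ¬ PRankLE 2 2 G
  syl : IsSyl 2 S ⊤
  le : S ≤ 𝐍 V
  zv : zc (𝐍 V) = V
  f1 : ∀ X T : Subgroup G, CharPOf 2 X → IsSyl 2 T X → bm S ≤ T → X ≤ (X ⊓ 𝐍 V) ⊔ (X ⊓ 𝐂 (zc X))
  f2 : ∀ X T : Subgroup G, CharPOf 2 X → IsSyl 2 T X → bm (S ⊓ 𝐂 V) ≤ T → 𝐉 T = 𝐉 (S ⊓ 𝐂 V) →
    X ≤ (X ⊓ 𝐍 V) ⊔ (X ⊓ 𝐂 (zc X))
  nH : ¬ fH S ≤ 𝐍 V

/-- Case 3 with `V` a four-group. -/
structure F4 (S V : Subgroup G) : Prop extends Fr S V where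
  card : Nat.card V = 4
  core : V ≤ O₂ (fH S)
  ab : fU S V ≤ 𝐂 (fU S V)

/-- The local structure of the Tits group (and of `²F₄(2)`): `U = 2⁵`, `H/Q = 5:4`, `Q/C(U) = 2⁴`, `|C(U)/U| ≤ 2`. -/
structure Ti (S V : Subgroup G) : Prop extends F4 S V where
  cardU : Nat.card (fU S V) = 32
  eqQ : O₂ (fH S) = fT S V
  idx : (O₂ (fH S)).relIndex (fH S) = 20
  gen : ∃ e ∈ fH S, ∃ s ∈ S, e ^ 5 = 1 ∧ e ∉ O₂ (fH S) ∧ (e ^ 2)⁻¹ * (s * e * s⁻¹) ∈ O₂ (fH S) ∧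
    S ≤ O₂ (fH S) ⊔ zpowers s ∧ fH S ≤ S ⊔ zpowers e
  idxC : (𝐂 (fU S V)).relIndex (O₂ (fH S)) = 16
  leC : 𝐂 (fU S V) ≤ O₂ (fH S)
  idxU : (fU S V).relIndex (𝐂 (fU S V)) ≤ 2
  nb : ∀ g ∈ 𝐍 V, g ∉ fH S → ¬ cj g (fU S V) ≤ O₂ (fH S) ∧ Nat.card ↥(fU S V ⊓ cj g (fU S V)) = 8

/-- (A) the frame exists -/
def FA : Prop := ∀ (G : Type u) [Group G] [Finite G], NG2 G → ¬ PRankLE 2 2 G → IsCharacteristicTwoType G →
  ∀ S : Sylow 2 G, (∀ M : Subgroup G, IsTwoLocal M → ∃ L : Subgroup G, IsTwoLocal L ∧ (S : Subgroup G) ≤ L ∧ ¬ L ≤ M) →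
  ∃ V, Fr (S : Subgroup G) V

/-- (B) case 1 -/
def FB : Prop := ∀ (G : Type u) [Group G] [Finite G] (S V : Subgroup G), Fr S V → V ≤ O₂ (fH S)

/-- (C) case 2 -/
def FC : Prop := ∀ (G : Type u) [Group G] [Finite G] (S V : Subgroup G), Fr S V → V ≤ O₂ (fH S) →
  fU S V ≤ 𝐂 (fU S V)

/-- (D), `J(S) ≤ R` -/
def FD1 : Prop := ∀ (G : Type u) [Group G] [Finite G] (S V : Subgroup G), Fr S V → V ≤ O₂ (fH S) →
  fU S V ≤ 𝐂 (fU S V) → 𝐉 S ≤ 𝐂 V → Nat.card V = 4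

/-- (D), `J(S) ≰ R` -/
def FD2 : Prop := ∀ (G : Type u) [Group G] [Finite G] (S V : Subgroup G), Fr S V → V ≤ O₂ (fH S) →
  fU S V ≤ 𝐂 (fU S V) → ¬ 𝐉 S ≤ 𝐂 V → Nat.card V = 4

/-- (E) `b = 3` -/
def FE : Prop := ∀ (G : Type u) [Group G] [Finite G] (S V : Subgroup G), F4 S V →
  ∃ g ∈ 𝐍 V, ¬ cj g (fU S V) ≤ 𝐂 (fU S V)

/-- (F) type `M₁₂` or type Tits -/
def FF : Prop := ∀ (G : Type u) [Group G] [Finite G] (S V : Subgroup G), F4 S V → ∀ g ∈ 𝐍 V,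
  ¬ cj g (fU S V) ≤ 𝐂 (fU S V) → fU S V ⊓ cj g (fU S V) = V ∨ Ti S V

/-- (M) type `M₁₂` does not occur -/
def FM : Prop := ∀ (G : Type u) [Group G] [Finite G] (S V : Subgroup G), F4 S V → ∀ g ∈ 𝐍 V,
  ¬ cj g (fU S V) ≤ 𝐂 (fU S V) → fU S V ⊓ cj g (fU S V) ≠ V

/-- (G1) type Tits: not minimal simple -/
def FG1 : Prop := ∀ (G : Type u) [Group G] [Finite G] (S V : Subgroup G), Ti S V → ¬ IsMinimalSimple G

/-- (G2) type Tits: the order -/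
def FG2 : Prop := ∀ (G : Type u) [Group G] [Finite G] (S V : Subgroup G), Ti S V → Nat.card G = 17971200

theorem n4_of (a : FA.{u}) (b : FB.{u}) (c : FC.{u}) (d1 : FD1.{u}) (d2 : FD2.{u}) (e : FE.{u}) (f : FF.{u})
    (m : FM.{u}) {P : ∀ (G : Type u) [Group G], Prop}
    (g : ∀ (G : Type u) [Group G] [Finite G] (S V : Subgroup G), Ti S V → P G)
    (G : Type u) [Group G] [Finite G] (h1 : NG2 G) (h2 : ¬ PRankLE 2 2 G) (h3 : IsCharacteristicTwoType G)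
    (S : Sylow 2 G) (h4 : ∀ M : Subgroup G, IsTwoLocal M →
      ∃ L : Subgroup G, IsTwoLocal L ∧ (S : Subgroup G) ≤ L ∧ ¬ L ≤ M) : P G := by
  obtain ⟨V, h⟩ := a G h1 h2 h3 S h4
  have k1 := b G _ V h
  have k2 := c G _ V h k1
  have k : F4 (S : Subgroup G) V := ⟨h, (em _).elim (d1 G _ V h k1 k2) (d2 G _ V h k1 k2), k1, k2⟩
  obtain ⟨x, hx, hx'⟩ := e G _ V k
  exact g G _ V ((f G _ V k x hx hx').resolve_left (m G _ V k x hx hx'))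

end H26

end H226
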