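import Cfsg.Agent.H26.T2.H27FM2
/-! Towards `H26.FM`, part 3: structure of `C(l)` under `Mb`: commutators `g2`, lines `g3`, the involutions `Tt l t`,
`C(W(l)) ≤ l`, and the abelian subgroup `Aa l t = C(l) ⊓ C(t)`. -/
set_option autoImplicit false
set_option linter.unusedSectionVars false
namespace H118 end H118 namespace H226 end H226 namespace H26 end H26 namespace H27 end H27 namespace H27.FM end H27.FM namespace H27.FM.Mb end H27.FM.Mb namespace H4 end H4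
open H226
namespace H226
namespace H27.FM
open _root_.H27 _root_.H27.FM
open Cfsg Subgroup H26 _root_.H26 H4 _root_.H4 H118 _root_.H118
open scoped Pointwise commutatorElement

variable {G : Type*} [Group G] [Finite G] {S V l m : Subgroup G} {z p q r c d g t u v w : G}

structure Tt (V l : Subgroup G) (t : G) : Prop where
  c : t ∈ 𝐂 l
  o : ∀ c ∈ 𝐂 l, ⁅c, t⁆ ∈ l
  cm : ∀ p ∈ l, p ≠ 1 → ∀ u ∈ Up V p, u ∉ l → ⁅t, u⁆ = p
  sq : t * t = 1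

theorem Tt.cj (h : Tt V l t) (g : G) : Tt V (cj g l) (g * t * g⁻¹) := by
  refine ⟨cj_centralizer g l ▸ conj_mem_cj g h.c, fun c hc => ?_, fun p hp p1 u hu hu' => ?_, by
    rw [conj_mul, h.sq, mul_one, mul_inv_cancel]⟩
  · rw [← cj_centralizer, mem_cj'] at hc
    obtain ⟨c, hc, rfl⟩ := hc
    rw [← conjugate_commutatorElement]; exact conj_mem_cj g (h.o c hc)
  · obtain ⟨p, hp', rfl⟩ := mem_cj'.1 hp
    rw [← cj_Up, mem_cj'] at hu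
    obtain ⟨u, hu, rfl⟩ := hu
    rw [← conjugate_commutatorElement, h.cm p hp' (fun e => p1 (by simp [e])) u hu (mt (conj_mem_cj g) hu')]

theorem cm_one {a b : G} (h : ⁅a, b⁆ = 1) : ⁅b, a⁆ = 1 := by rw [← commutatorElement_inv, h, inv_one]
theorem mem_cz {a b : G} : a ∈ 𝐂 (zpowers b) ↔ ⁅a, b⁆ = 1 := by
  rw [mem_centralizer_zpowers, commutatorElement_eq_one_iff_mul_comm, eq_comm]
theorem cz_symm {a b : G} (h : a ∈ 𝐂 (zpowers b)) : b ∈ 𝐂 (zpowers a) := mem_cz.2 (cm_one (mem_cz.1 h))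

theorem zs (h : Ge S V z) {P : Subgroup G} (h1 : P ≤ S) (h2 : S ≤ 𝐍 P) (h3 : P ≠ ⊥) : z ∈ P := by
  obtain ⟨x, ⟨a, b⟩, c⟩ := (bot_or_exists_ne_one _).resolve_left (inf_omegaOne_center_ne_bot h.syl.isP h1 h2 h3)
  exact (mem_two h.zz (h.zeq ▸ b)).resolve_left c ▸ a

theorem Fl.genc (k : Ge S V z) (f : Fl V l p q) (hu : u ∈ l) (h1 : u ∉ zpowers p) (h2 : c ∈ 𝐂 (zpowers p))
    (h3 : ⁅c, u⁆ = 1) : c ∈ 𝐂 l :=
  le_centralizer_iff.1 (f.gen k hu h1 (cz_symm h2) (cz_symm (mem_cz.2 h3))) (mem_zpowers c)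

theorem Fl.rot' (k : Ge S V z) (f : Fl V l p q) : Fl V l q (p * q) := f.comm k ▸ f.symm.rot k

theorem Fl.fixp (k : Ge S V z) (f : Fl V l p q) (h1 : t ∈ 𝐂 (zpowers p)) (h2 : t ∈ 𝐍 l) (h3 : t ∉ 𝐂 l) (hc : c ∈ 𝐂 l)
    (h4 : ⁅c, t⁆ ∈ zpowers p) : ∃ a ∈ zpowers q, ⁅c * a, t⁆ = 1 := by
  rcases (f.memZ k).1 h4 with e | e
  · exact ⟨1, one_mem _, by simpa using e⟩
  · have e2 : ⁅q, t⁆ = p⁻¹ := by rw [← commutatorElement_inv, f.swap k h1 h2 h3]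
    exact ⟨q, mem_zpowers q, by rw [cmul hc (e2 ▸ inv_mem f.pl), e, e2, inv_mul_cancel]⟩

namespace Mb
open _root_.H27.FM.Mb
variable (h : Mb S V z) (f : Fl V l p q)
include h f

theorem exU : ∃ u ∈ Up V p, u ∉ l :=
  SetLike.not_le_iff_exists.1 fun e => (h.int l p q f).2 (e.trans (f.symm.lT h.toGe))

theorem oe (h1 : g ∈ 𝐂 (zpowers p)) (h2 : g ∈ 𝐍 l) (hu : u ∈ Up V p) : ⁅g, u⁆ ∈ l := by
  by_cases e : u ∈ l
  · exact cm_n h2 e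
  · exact h.g1 f (conj_mem_of_mem_normalizer (c_le_n_Up V p h1) hu) (inv_mem hu)
      (mt (mem_normalizer_iff.1 h2 u).2 e) (mt inv_mem_iff.1 e)

theorem oc (hc : c ∈ 𝐂 l) (hu : u ∈ Up V p) : ⁅c, u⁆ ∈ l := h.oe f (f.cc h.toGe hc) (centralizer_le_normalizer _ hc) hu

theorem bf (h1 : g ∈ 𝐂 (zpowers p)) (h2 : g ∈ 𝐍 l) : g ∈ Bf V p l := ⟨h1, h2, fun _ => h.oe f h1 h2⟩

theorem memT (h1 : g ∈ 𝐂 (zpowers p)) (h2 : g ∈ 𝐍 l) (hu : u ∈ Up V p) (hu' : u ∉ l) (h3 : ⁅g, u⁆ ∈ zpowers p) :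
    g ∈ Tp V p := mem_Tp.2 ⟨h1, fun v hv => by
  by_cases e : v ∈ l
  · exact f.fx h.toGe h1 h2 e
  · have e1 := h.g1 f hv hu e hu'
    rw [show v = v * u * u by rw [mul_assoc, h.Up_sq f.col hu, mul_one]]
    exact cm_right (f.fx h.toGe h1 h2 e1) h3 (c_n (f.cc h.toGe ((f.four h.toGe).le_c e1)))⟩

theorem g2 (hu : u ∈ Up V p) (hu' : u ∉ l) (hv : v ∈ Up V q) (hv' : v ∉ l) : ⁅u, v⁆ = p * q := by
  have a := f.Uc h.toGe hu
  have b := f.symm.Uc h.toGe hv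
  exact f.third h.toGe (h.oc f.symm a hv)
    (fun e => hv' (h.inT f hv (h.memT f (f.cc h.toGe b) (centralizer_le_normalizer _ b) hu hu' (cm_inv e))))
    fun e => hu' (h.inT f.symm hu (h.memT f.symm (f.symm.cc h.toGe a) (centralizer_le_normalizer _ a) hv hv' e))

theorem sig (hc : c ∈ 𝐂 l) (hu : u ∈ Up V p) (hu' : u ∉ l) (hv : v ∈ Up V p) (hv' : v ∉ l) : ⁅c, u⁆ = ⁅c, v⁆ := by
  have e1 := h.g1 f hu hv hu' hv'
  rw [show u = u * v * v by rw [mul_assoc, h.Up_sq f.col hv, mul_one],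
    cmul' ((f.four h.toGe).le_c e1) (h.oc f hc hv), cm_c hc e1, one_mul]

theorem g3 (hu : u ∈ Up V p) (hu' : u ∉ zpowers p) : ∃ m, Fl V m p u := by
  have k := h.toGe
  suffices ∃ m, Ln V m ∧ p ∈ m ∧ u ∈ m from let ⟨m, a, b, c⟩ := this
    ⟨m, a, b, c, f.p1, fun e => hu' (e ▸ one_mem _), fun e => hu' (e ▸ mem_zpowers _)⟩
  by_cases e : u ∈ l
  · exact ⟨l, f.ln, f.pl, e⟩
  obtain ⟨m, hm, hp, e1⟩ : ∃ m, Ln V m ∧ p ∈ m ∧ ¬ m ≤ l := by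
    by_contra j
    push Not at j
    exact e (Up_le j hu)
  obtain ⟨y, f'⟩ := exFl k hm hp f.p1
  have y1 : y ∉ l := fun j => e1 (f'.gen k f'.ql (f'.qZ k) f.pl j)
  have y2 := f'.lU k f'.ql
  have v1 := h.g1 f hu y2 e y1
  by_cases e2 : u * y ∈ zpowers p
  · exact ⟨m, hm, hp, (mul_mem_cancel_right f'.ql).1 (zpowers_le.2 hp e2)⟩
  obtain ⟨a, ha, ha'⟩ := h.exU f.symm
  have f2 := f'.cjc (f.cc k (f.symm.Uc k ha))
  refine ⟨_, f2.ln, f2.pl, (mul_mem_cancel_right f2.ql).1 (zpowers_le.2 f2.pl ?_)⟩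
  rw [conj_eq, h.g2 f.symm ha ha' y2 y1, f.comm k, mem_centralizer_iff.1 (f.Uc k y2) _ (f.rot k).ql, ← mul_assoc]
  exact f.two k v1 (f.rot k).ql e2 ((f.rot k).qZ k)

variable {e1 e2 e3 : G} (a1 : e1 ∈ Up V p) (b1 : e1 ∉ l) (a2 : e2 ∈ Up V q) (b2 : e2 ∉ l) (a3 : e3 ∈ Up V (p * q))
  (b3 : e3 ∉ l)

include a1 b1 a2 b2 a3 b3 in
theorem tt : Tt V l (e1 * e2 * e3) := by
  have k := h.toGe
  have f1 := f.rot k
  have f2 := f.rot' k
  have c1 := f.Uc k a1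
  have c2 := f.symm.Uc k a2
  have c3 := f1.symm.Uc k a3
  have pp := f.pp k
  have qq := f.symm.pp k
  have qp := f.comm k
  have p3 : ∀ x, p * (p * x) = x := fun x => by rw [← mul_assoc, pp, one_mul]
  have q3 : ∀ x, q * (q * x) = x := fun x => by rw [← mul_assoc, qq, one_mul]
  have q4 : ∀ x, q * (p * x) = p * (q * x) := fun x => by rw [← mul_assoc, qp, mul_assoc]
  have cm : ∀ r ∈ l, r ≠ 1 → ∀ u ∈ Up V r, u ∉ l → ⁅e1 * e2 * e3, u⁆ = r := fun r hr r1 u hu hu' => by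
    obtain ⟨r', fr⟩ := exFl k f.ln hr r1
    rw [cmul (mul_mem c1 c2) (h.oc fr c3 hu), cmul c1 (h.oc fr c2 hu)]
    rcases f.cases k hr with rfl | rfl | rfl | rfl
    · exact absurd rfl r1
    · rw [h.g2 f1.symm a3 b3 hu hu', h.g2 f.symm a2 b2 hu hu', cm_c (k.Up_ab f.col a1) hu]
      simp [mul_assoc, *]
    · rw [h.g2 f2.symm a3 b3 hu hu', h.g2 f a1 b1 hu hu', cm_c (k.Up_ab f.symm.col a2) hu]
      simp [mul_assoc, *]
    · rw [h.g2 f2 a2 b2 hu hu', h.g2 f1 a1 b1 hu hu', cm_c (k.Up_ab f1.symm.col a3) hu]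
      simp [*]
  refine ⟨mul_mem (mul_mem c1 c2) c3, fun c hc => ?_, cm, ?_⟩
  · exact cm_right (cm_right (h.oc f hc a1) (h.oc f.symm hc a2) (centralizer_le_normalizer _ c1))
      (h.oc f1.symm hc a3) (centralizer_le_normalizer _ (mul_mem c1 c2))
  · have s2 := inv_eq_of_mul_eq_one_right (k.Up_sq f.symm.col a2)
    have s3 := inv_eq_of_mul_eq_one_right (k.Up_sq f1.symm.col a3)
    have e : e1 * e2 * e3 * (e1 * e2 * e3) = ⁅e1 * e2 * e3, e1⁆ * (e1 * e1) * ⁅e2, e3⁆ := by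
      rw [commutatorElement_def e2, s2, s3, commutatorElement_def]; group
    rw [e, cm p f.pl f.p1 e1 a1 b1, h.g2 f2 a2 b2 a3 b3, k.Up_sq f.col a1]
    simp [*]

theorem exT : ∃ t, Tt V l t :=
  let ⟨_, a1, b1⟩ := h.exU f
  let ⟨_, a2, b2⟩ := h.exU f.symm
  let ⟨_, a3, b3⟩ := h.exU (f.rot h.toGe).symm
  ⟨_, h.tt f a1 b1 a2 b2 a3 b3⟩

theorem tT (ht : Tt V l t) : t ∈ Tp V p :=
  let ⟨u, a, b⟩ := h.exU f
  h.memT f (f.cc h.toGe ht.c) (centralizer_le_normalizer _ ht.c) a b ((ht.cm p f.pl f.p1 u a b).symm ▸ mem_zpowers p)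

theorem tl (ht : Tt V l t) : t ∉ l := fun e =>
  let ⟨u, a, b⟩ := h.exU f
  f.p1 ((ht.cm p f.pl f.p1 u a b).symm.trans (cm_one (cm_c (f.Uc h.toGe a) e)))

theorem Wc : Wl V l ≤ 𝐂 l := Wl_le fun _ a b => let ⟨_, f'⟩ := exFl h.toGe f.ln a b; f'.Uc h.toGe

theorem adj (hu : u ∈ Up V p) (hu' : u ∉ l) (hc : c ∈ 𝐂 l) : ∃ w ∈ Wl V l, ⁅c * w, u⁆ = 1 := by
  have k := h.toGe
  obtain ⟨a, a1, a2⟩ := h.exU f.symm
  obtain ⟨b, b1, b2⟩ := h.exU (f.rot k).symm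
  have a3 := h.g2 f.symm a1 a2 hu hu'
  have b3 := h.g2 (f.rot k).symm b1 b2 hu hu'
  have a4 := Up_le_Wl f.ql f.q1 a1
  have b4 := Up_le_Wl (f.rot k).ql (f.rot k).q1 b1
  rw [f.comm k] at a3
  rw [mul_assoc, f.comm k, f.ppq k] at b3
  suffices ∃ w ∈ Wl V l, ⁅w, u⁆ = ⁅c, u⁆ from let ⟨w, c1, c2⟩ := this
    ⟨w, c1, by rw [cmul hc (h.oc f (h.Wc f c1) hu), c2, (f.four k).sq _ (h.oc f hc hu)]⟩
  rcases f.cases k (h.oc f hc hu) with e | e | e | e <;> rw [e]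
  · exact ⟨1, one_mem _, by simp⟩
  · exact ⟨b * a, mul_mem b4 a4, by rw [cmul (h.Wc f b4) (a3 ▸ (f.rot k).ql), a3, b3, mul_assoc, f.symm.pp k, mul_one]⟩
  exacts [⟨b, b4, b3⟩, ⟨a, a4, a3⟩]

/-- a second line through `p` with its involution -/
theorem exm : ∃ m u s, Fl V m p u ∧ u ∈ Up V p ∧ u ∉ l ∧ l ≠ m ∧ Tt V m s ∧ s ∈ Tp V p ∧ s ∈ 𝐍 l ∧ s ∉ 𝐂 l ∧
    ∀ c ∈ 𝐂 l, ⁅c, u⁆ = 1 → ⁅c, s⁆ ∈ m := by
  have k := h.toGe
  obtain ⟨u, a, b⟩ := h.exU f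
  obtain ⟨m, f'⟩ := h.g3 f a fun e => b (zpowers_le.2 f.pl e)
  obtain ⟨s, hs⟩ := h.exT f'
  have ne : l ≠ m := fun e => b (e ▸ f'.ql)
  refine ⟨m, u, s, f', a, b, ne, hs, h.tT f' hs, Ge.Tp_le_n f.ln f.pl (h.tT f' hs), fun e => f.p1 ?_,
    fun c c1 c2 => hs.o c (f'.genc k f'.ql (f'.qZ k) (f.cc k c1) c2)⟩
  rw [← hs.cm p f'.pl f.p1 q (f.lU k f.ql) fun j => f.qZ k (f.inf_le k f' ne f.ql j), cm_c e f.ql]

theorem exs : ∃ s ∈ 𝐂 (zpowers p), s ∈ 𝐍 l ∧ s ∉ 𝐂 l ∧ (∀ c ∈ 𝐂 (Wl V l), ⁅c, s⁆ ∈ zpowers p) ∧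
    ∀ c ∈ 𝐂 l, ⁅c, s⁆ ∈ Wl V l := by
  have k := h.toGe
  obtain ⟨m, u, s, f', a, b, ne, hs, s1, s2, s3, s4⟩ := h.exm f
  have uW := Up_le_Wl (V := V) f.pl f.p1
  have sW := n_le_n_Wl V l s2
  refine ⟨s, s1.1, s2, s3, fun c hc => ?_, fun c hc => ?_⟩
  · by_contra e
    obtain ⟨v, v1, v2⟩ := h.exU f.symm
    have := f'.gen k (s4 c (centralizer_anti (k.le_Wl f.ln) hc) (cm_c hc (uW a))) e
      (le_centralizer_iff.1 (h.Wc f) f.pl) (cm_inv (cm_n (normalizer_le_normalizer_centralizer _ sW) hc)) f'.ql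
    exact (f.rot k).q1 ((h.g2 f a b v1 v2).symm.trans (cm_c this (Up_le_Wl f.ql f.q1 v1)))
  · obtain ⟨w, w1, w2⟩ := h.adj f a b hc
    have := uW (f'.lU k (s4 _ (mul_mem hc (h.Wc f w1)) w2))
    rw [commutatorElement_mul_left_eq_conj_mul] at this
    exact (mul_mem_cancel_left (conj_mem_of_mem_normalizer (n_le_n_Wl V l (centralizer_le_normalizer _ hc))
      (cm_inv (cm_n sW w1)))).1 this

omit f in
theorem cW0 : 𝐂 (Wl V V) ≤ V := fun c hc => by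
  have k := h.toGe
  obtain ⟨y, f⟩ := exFl k (Ln.self V) h.zV h.z1
  obtain ⟨s, s1, s2, s3, s4, s5⟩ := h.exs f
  obtain ⟨r, r1, r2, r3, r4, r5⟩ := h.exs f.symm
  let N := Wl V V ⊔ zpowers s ⊔ zpowers r
  have n1 : Wl V V ≤ N := le_sup_left.trans le_sup_left
  have n2 : s ∈ N := mem_sup_left (mem_sup_right (mem_zpowers s))
  have n3 : r ∈ N := mem_sup_right (mem_zpowers r)
  have n4 : 𝐂 V ≤ 𝐍 N := le_normalizer_of_commutator_le (commutator_sup_le (commutator_sup_le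
    ((commutator_le_of_le_normalizer ((centralizer_le_normalizer _).trans (n_le_n_Wl V V))).trans n1)
    (commutator_zpowers_le (fun c hc => n1 (cm_inv (s5 c hc))) (le_normalizer n2)) (n1.trans le_normalizer)
    (zpowers_le.2 (le_normalizer n2))) (commutator_zpowers_le (fun c hc => n1 (cm_inv (r5 c hc))) (le_normalizer n3))
    (le_sup_left.trans le_normalizer) (zpowers_le.2 (le_normalizer n3)))
  have n5 : S ≤ 𝐍 (𝐂 N) := fun x hx => normalizer_le_normalizer_centralizer _ (by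
    by_cases e : x ∈ 𝐂 V
    · exact n4 e
    · exact (mul_mem_cancel_right (le_normalizer n2)).1 (n4 (f.mulc k (k.S_le hx) (h.le hx) e s1 s2 s3)))
  have n6 : 𝐂 N ≤ 𝐍 V := (centralizer_anti ((k.le_Wl f.ln).trans n1)).trans (centralizer_le_normalizer _)
  have o1 : pCoreOf 2 (𝐍 V) ≤ S := (h.syl.mono h.le le_top).pCoreOf_le
  have n7 : 𝐂 N ⊓ pCoreOf 2 (𝐍 V) = ⊥ := by
    by_contra e
    have := (zs k (inf_le_right.trans o1) (le_normalizer_inf n5 (h.le.trans (le_normalizer_pCoreOf 2 _))) e).1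
    exact f.q1 ((f.symm.swap k r1 r2 r3).symm.trans (cm_one (cm_c this n3)))
  have n8 : 𝐂 N ≤ ⊥ := n7 ▸ le_inf le_rfl ((le_inf n6 (commutator_eq_bot_iff'.1 (le_bot_iff.1
    ((commutator_le_inf_of_le_normalizer (o1.trans n5) (n6.trans (le_normalizer_pCoreOf 2 _))).trans
      ((inf_comm _ _).trans n7).le)))).trans
      (fr_charP h.toFr k.four.isP k.four.ne_bot))
  have lY := le_centralizer_iff.1 (h.Wc f)
  have cV := centralizer_anti (k.le_Wl f.ln)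
  obtain ⟨a, a1, a2⟩ := f.fixp k s1 s2 s3 (cV hc) (s4 c hc)
  have a3 := zpowers_le.2 f.ql a1
  have c2 := mul_mem hc (lY a3)
  obtain ⟨b, b1, b2⟩ := f.symm.fixp k r1 r2 r3 (cV c2) (r4 _ c2)
  have b3 := zpowers_le.2 f.pl b1
  have := n8 (x := c * a * b) (by
    rw [centralizer_sup', centralizer_sup']
    exact ⟨⟨mul_mem c2 (lY b3), mul_mem (mem_cz.2 a2) (mem_cz.2 (cm_one (cm_c s1 b1)))⟩, mem_cz.2 b2⟩)
  exact (mul_mem_cancel_right a3).1 ((mul_mem_cancel_right b3).1 (mem_bot.1 this ▸ one_mem _))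

theorem memY (hc : c ∈ 𝐂 l) (h1 : ∀ p ∈ l, p ≠ 1 → ∀ u ∈ Up V p, u ∉ l → ⁅c, u⁆ = 1) : c ∈ l := by
  have : 𝐂 (Wl V l) ≤ l := by
    obtain ⟨g, rfl⟩ := f.ln
    rw [← cj_Wl, ← cj_centralizer]; exact cj_mono g h.cW0
  refine this (le_centralizer_iff.1 (Wl_le fun p a b u hu => cz_symm (mem_cz.2 ?_)) (mem_zpowers c))
  by_cases e : u ∈ l
  exacts [cm_c hc e, h1 p a b u hu e]

theorem tu {t' : G} (ht : Tt V l t) (ht' : Tt V l t') : t * t' ∈ l :=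
  h.memY f (mul_mem ht.c ht'.c) fun r a b u c d => by
    rw [cmul ht.c ((ht'.cm r a b u c d).symm ▸ a), ht.cm r a b u c d, ht'.cm r a b u c d, (f.four h.toGe).sq r a]

theorem tn (ht : Tt V l t) (hg : g ∈ 𝐍 l) : ⁅g, t⁆ ∈ l := by
  have := ht.cj g
  rw [cj_eq_of_mem_normalizer hg] at this
  rw [commutatorElement_def, inv_eq_of_mul_eq_one_right ht.sq]
  exact h.tu f this ht

theorem tmul (ht : Tt V l t) (h1 : v * t ∈ l) : Tt V l v := by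
  have e : v = v * t * t := by rw [mul_assoc, ht.sq, mul_one]
  have c1 := (f.four h.toGe).le_c h1
  generalize v * t = w at *
  subst e
  refine ⟨mul_mem c1 ht.c, fun c hc => cm_right (cm_c hc h1 ▸ one_mem _) (ht.o c hc) (centralizer_le_normalizer _ c1),
    fun r a b u c d => ?_, ?_⟩
  · obtain ⟨_, f'⟩ := exFl h.toGe f.ln a b
    rw [cmul c1 ((ht.cm r a b u c d).symm ▸ a), ht.cm r a b u c d, cm_one (cm_c (f'.Uc h.toGe c) h1), mul_one]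
  · rw [mul_assoc, ← mul_assoc t, ← mem_centralizer_iff.1 ht.c w h1, mul_assoc, ht.sq, mul_one, (f.four h.toGe).sq w h1]

theorem adjg (ht : Tt V l t) (hg : g ∈ 𝐍 l) :
    ∃ w ∈ 𝐂 l, (w = 1 ∨ ∃ r r', Fl V l r r' ∧ w ∈ Up V r ∧ w ∉ l) ∧ ⁅g * w, t⁆ = 1 := by
  by_cases e : ⁅g, t⁆ = 1
  · exact ⟨1, one_mem _, Or.inl rfl, by simpa using e⟩
  obtain ⟨r', f'⟩ := exFl h.toGe f.ln (conj_mem_of_mem_normalizer' hg (h.tn f ht hg)) (mt conj_ne_one_aux e)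
  obtain ⟨w, a, b⟩ := h.exU f'
  refine ⟨w, f'.Uc h.toGe a, Or.inr ⟨_, _, f', a, b⟩, ?_⟩
  rw [commutatorElement_mul_left_eq_conj_mul, ← commutatorElement_inv t w, ht.cm _ f'.pl f'.p1 w a b]
  group

include a1 b1 a2 b2 a3 b3 in
theorem sigt (ht : Tt V l t) (hc : c ∈ 𝐂 l) : ⁅c, t⁆ = ⁅c, e1⁆ * ⁅c, e2⁆ * ⁅c, e3⁆ := by
  have k := h.toGe
  have t' := h.tt f a1 b1 a2 b2 a3 b3
  have e := h.tu f ht t'
  rw [show t = t * (e1 * e2 * e3) * (e1 * e2 * e3) by rw [mul_assoc, t'.sq, mul_one],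
    cmul' ((f.four k).le_c e) (t'.o c hc), cm_c hc e, one_mul,
    cmul' (mul_mem (f.Uc k a1) (f.symm.Uc k a2)) (h.oc (f.rot k).symm hc a3), cmul' (f.Uc k a1) (h.oc f.symm hc a2)]

include a2 b2 a3 b3 in
theorem cons (hc : c ∈ 𝐂 l) (hc' : c ∈ Tp V p) : ⁅c, e2⁆ ∈ zpowers (p * q) ↔ ⁅c, e3⁆ ∈ zpowers q := by
  have k := h.toGe
  obtain ⟨m, u, s, f', a, b, ne, hs, s1, s2, s3, s4⟩ := h.exm f
  obtain ⟨t, ht⟩ := h.exT f
  have d1 : ⁅s, c⁆ ∈ Up V p := cm_inv (by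
    rcases (f.memZ k).1 ((mem_Tp.1 hc').2 u a) with e | e
    · exact f'.lU k (s4 c hc e)
    · have e1 := ht.cm p f.pl f.p1 u a b
      have := f'.lU k (s4 _ (mul_mem hc ht.c) (by rw [cmul hc (e1.symm ▸ f.pl), e, e1, f.pp k]))
      rw [cmul hc (cm_inv (h.tn f ht s2))] at this
      exact (mul_mem_cancel_left (f.lU k (cm_inv (h.tn f ht s2)))).1 this)
  have d2 : ⁅⁅s, c⁆, e2⁆ ∈ zpowers (p * q) := by
    by_cases e : ⁅s, c⁆ ∈ l
    · exact cm_one (cm_c (f.symm.Uc k a2) e) ▸ one_mem _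
    · exact (h.g2 f d1 e a2 b2).symm ▸ mem_zpowers _
  have e4 := f.swap' k s1.1 s2 s3
  have d3 : s * ⁅c, e3⁆ * s⁻¹ = ⁅c, e2⁆ * ⁅⁅s, c⁆, e2⁆ := by
    have j : s * e3 * s⁻¹ ∈ Up V q := by
      rw [← f.ppq k, ← (f.rot k).swap' k s1.1 s2 s3, ← cj_Up]; exact conj_mem_cj s a3
    rw [conjugate_commutatorElement, h.sig f.symm (conj_mem_of_mem_normalizer
      (normalizer_le_normalizer_centralizer l s2) hc) j (mt (mem_normalizer_iff.1 s2 _).2 b3) a2 b2, conj_eq,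
      cmul (f.Uc k d1) (h.oc f.symm hc a2)]
  rw [← mul_mem_cancel_right d2, ← d3, ← e4, ← cj_zpowers, conj_mem_cj_iff]

theorem ka (ht : Tt V l t) (hc : c ∈ 𝐂 l) (h1 : ⁅c, t⁆ = 1) (hu : u ∈ Up V p) (hu' : u ∉ l) (h2 : ⁅c, u⁆ = 1) : c ∈ l := by
  have k := h.toGe
  have f1 := f.rot k
  have f2 := f.rot' k
  obtain ⟨e2, a2, b2⟩ := h.exU f.symm
  obtain ⟨e3, a3, b3⟩ := h.exU f1.symm
  have l2 := h.oc f.symm hc a2
  have e := h.sigt f hu hu' a2 b2 a3 b3 ht hc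
  rw [h1, h2, one_mul, eq_comm, mul_eq_one_iff_inv_eq, inv_eq_of_mul_eq_one_right ((f.four k).sq _ l2)] at e
  have c1 := h.cons f a2 b2 a3 b3 hc (h.memT f (f.cc k hc) (centralizer_le_normalizer _ hc) hu hu' (h2 ▸ one_mem _))
  rw [← e] at c1
  rcases f.cases k l2 with j | j | j | j
  · refine h.memY f hc fun r a b v c d => ?_
    rcases f.cases k a with rfl | rfl | rfl | rfl
    exacts [absurd rfl b, h.sig f hc c d hu hu' ▸ h2, h.sig f.symm hc c d a2 b2 ▸ j,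
      h.sig f1.symm hc c d a3 b3 ▸ e ▸ j]
  · have uc := f.Uc k hu
    have c2 := mul_mem hc uc
    have c3 := h.cons f.symm hu hu' (f.comm k ▸ a3) b3 c2 (h.memT f.symm (f.symm.cc k c2)
      (centralizer_le_normalizer _ c2) a2 b2 (by
        rw [cmul hc (h.oc f.symm uc a2), j, h.g2 f hu hu' a2 b2, mul_assoc, f.comm k, f.ppq k]; exact mem_zpowers q))
    rw [cmul hc (h.oc f uc hu), cmul hc (h.oc f1.symm uc a3), h2, ← e, j, h.g2 f1 hu hu' a3 b3, f.ppq k, f.comm k,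
      commutatorElement_self, mul_one] at c3
    exact absurd (c3.1 (one_mem _)) (f1.qZ k)
  · rw [j] at c1; exact absurd (c1.2 (mem_zpowers _)) (f2.symm.qZ k)
  · rw [j] at c1; exact absurd (c1.1 (mem_zpowers _)) (f2.qZ k)

end Mb

end H27.FM

end H226
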