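import Cfsg.Agent.H26.T2.H27PLDef
import Cfsg.Agent.H26.T2.H27FM3
/-! Towards `H26.FD2'`, part 1: components of vectors of `V`, good vectors, and `C(v) ≤ N(V)` for non-points `v`. -/
set_option autoImplicit false
set_option linter.unusedSectionVars false
namespace H118 end H118 namespace H226 end H226 namespace H26 end H26 namespace H27 end H27 namespace H27.FD end H27.FD namespace H27.FD.D2 end H27.FD.D2 namespace H27.FM end H27.FM namespace H4 end H4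
open H226
namespace H226
namespace H27.FD
open _root_.H27 _root_.H27.FD
open Cfsg Subgroup H26 _root_.H26 H4 _root_.H4 H118 _root_.H118 H27.FM _root_.H27.FM
open scoped Pointwise commutatorElement

local notation "𝐉" => thompsonSubgroupOf 2

variable {G : Type*} [Group G] [Finite G] {S V W W' T X : Subgroup G} {P : Set (Subgroup G)} {z a b g t v r : G}

theorem four_fix (h : Four W) (h1 : r ∈ 𝐍 W) (h2 : r ^ 3 ∈ 𝐂 W) (ha : a ∈ W) (a1 : a ≠ 1) (e : r * a * r⁻¹ = a) :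
    r ∈ 𝐂 W := by
  have c := mem_c_of_conj_eq e
  refine mem_of_pow_mem_coprime (a := 2) (b := 3) (by norm_num) (mem_centralizer_iff.2 fun u hu => ?_) h2
  have := sq_stab (W := ⊥) (fun u hu => cm_inv (h.commutator_le_of_card (zpowers_le.2 ha) (card_two (h.sq a ha) a1)
    (zpowers_le.2 h1) (zpowers_le.2 (c_n c)) (commutator_mem_commutator hu (mem_zpowers r))))
    (fun u hu => (cm_c c hu).symm ▸ one_mem _) (fun u hu => h.sq u (zpowers_le.2 ha hu)) u hu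
  rw [pow_two, ← commutatorElement_eq_one_iff_mul_comm.1 (mem_bot.1 this)]

theorem four_trans (h : Four W) (h1 : r ∈ 𝐍 W) (h2 : r ^ 3 ∈ 𝐂 W) (h3 : r ∉ 𝐂 W) (ha : a ∈ W) (a1 : a ≠ 1)
    (hb : b ∈ W) (b1 : b ≠ 1) : ∃ g ∈ zpowers r, g * a * g⁻¹ = b := by
  have a2 := conj_mem_of_mem_normalizer h1 ha
  have a3 : a ≠ r * a * r⁻¹ := fun e => h3 (four_fix h h1 h2 ha a1 e.symm)
  have e2 : r * r * a * (r * r)⁻¹ = r * (r * a * r⁻¹) * r⁻¹ := by group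
  rcases four_cases h ha a2 a1 (conj_ne_one r a1) a3 hb with e | e | e | e
  · exact absurd e b1
  · exact ⟨1, one_mem _, by simp [e]⟩
  · exact ⟨r, mem_zpowers r, e.symm⟩
  refine ⟨r * r, mul_mem (mem_zpowers r) (mem_zpowers r), ?_⟩
  rcases four_cases h ha a2 a1 (conj_ne_one r a1) a3 (conj_mem_of_mem_normalizer (mul_mem h1 h1) ha) with j | j | j | j
  · exact absurd j (conj_ne_one _ a1)
  · refine absurd (mem_of_pow_mem_coprime (a := 2) (b := 3) (by norm_num) ?_ h2) h3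
    rw [pow_two]
    exact four_fix h (mul_mem h1 h1) (by rw [← pow_two, ← pow_mul, mul_comm, pow_mul]; exact pow_mem h2 2) ha a1 j
  · exact absurd (four_fix h h1 h2 a2 (conj_ne_one r a1) (e2 ▸ j)) h3
  · exact j.trans e.symm

theorem four_inv (h : Four W) (h3 : t ∉ 𝐂 W) (ha : a ∈ W) (a1 : a ≠ 1) (hb : b ∈ W) (b1 : b ≠ 1)
    (e1 : t * a * t⁻¹ = a) (e2 : t * b * t⁻¹ = b) : a = b := by
  by_contra e
  refine h3 (mem_centralizer_iff'.2 fun u hu => ?_)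
  rcases four_cases h ha hb a1 b1 e hu with rfl | rfl | rfl | rfl
  exacts [by simp, e1, e2, by rw [← conj_mul, e1, e2]]

/-- the centralizer of the group of "transvections" of the plane `W` -/
abbrev pp (V W : Subgroup G) : Subgroup G := 𝐂 (plE V (𝐍 V) W)

structure D2 (S V : Subgroup G) (P : Set (Subgroup G)) (z : G) : Prop where
  fr : Fr S V
  pl : PL S V P
  hV : IsPGroup 2 V
  nB : 𝐍 (bm S) ≤ 𝐍 V
  ab : fU S V ≤ 𝐂 (fU S V)
  two : ∀ W ∈ P, ∃ W' ∈ P, W ≠ W'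
  zoz : z ∈ oz S
  z1 : z ≠ 1

def good (V : Subgroup G) (P : Set (Subgroup G)) (z v : G) : Prop := ∀ W ∈ P, v ∈ pp V W ∨ z * v ∈ pp V W

theorem cj_bm (g : G) (S : Subgroup G) : cj g (bm S) = bm (cj g S) := by
  rw [bm, bm, ← cj_thompsonOf, ← cj_oz, ← cj_centralizer, ← cj_inf]

theorem bm_eq {S' : Subgroup G} (h : IsSyl 2 S ⊤) (h' : IsSyl 2 S' ⊤) (e : bm S ≤ S') : bm S' = bm S := by
  obtain ⟨g, -, rfl⟩ := h.exists_cj_eq h'
  have j := h.thompson_eq h'.isP ((j_le_bm S).trans e) le_top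
  refine (eq_of_le_of_card_ge (le_inf e (j ▸ inf_le_right)) ?_).symm
  exact ((congrArg (fun X : Subgroup G => Nat.card X) (cj_bm g S)).symm.trans (card_cj g _)).le

namespace D2
open _root_.H27.FD.D2
variable (h : D2 S V P z)
include h

theorem Vc : V ≤ 𝐂 V := h.fr.le_c h.hV
theorem sq (hv : v ∈ V) : v * v = 1 := h.fr.sq h.hV hv
theorem zV : z ∈ V := h.fr.oz_le h.zoz
theorem Sz : S ≤ 𝐂 (zpowers z) := le_centralizer_iff.1 (zpowers_le.2 (oz_le_c S h.zoz))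
theorem le_pp (hW : W ∈ P) (hW' : W' ∈ P) (ne : W ≠ W') : W' ≤ pp V W := le_centralizer_iff.1 (h.pl.cent W hW W' hW' ne)

theorem dec (hW : W ∈ P) (hv : v ∈ V) : ∃ a ∈ W, ∃ c ∈ V ⊓ pp V W, a * c = v :=
  (mem_sup_of_le_normalizer (le_normalizer_of_le_centralizer
    ((h.pl.le W hW).trans (h.Vc.trans (centralizer_anti inf_le_left))))).1 (h.pl.span.trans (sSup_le fun W' hW' => by
      by_cases e : W = W'
      exacts [e ▸ le_sup_left, le_sup_of_le_right (le_inf (h.pl.le W' hW') (h.le_pp hW hW' e))]) hv)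

theorem notc (hW : W ∈ P) (h1 : t ∈ plE V (𝐍 V) W) (h2 : t ∉ 𝐂 V) : t ∉ 𝐂 W := fun e =>
  h2 (mem_centralizer_iff.2 fun v hv => by
    obtain ⟨a, ha, c, hc, rfl⟩ := h.dec hW hv
    rw [mul_assoc, ← mem_centralizer_iff.1 hc.2 t h1, ← mul_assoc, mem_centralizer_iff.1 e a ha, mul_assoc])

theorem disj (hW : W ∈ P) (ha : a ∈ W) (h1 : a ∈ pp V W) : a = 1 := by
  by_contra e
  obtain ⟨r, r1, r2, r3⟩ := h.pl.rho W hW
  exact h.notc hW r1 r3 (four_fix (h.pl.four W hW) r1.2.1 (centralizer_anti (h.pl.le W hW) r2) ha e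
    (by rw [mem_centralizer_iff.1 h1 r r1, mul_inv_cancel_right]))

theorem pp_conj (hW : W ∈ P) (hg : g ∈ 𝐍 V) : g * v * g⁻¹ ∈ pp V (cj g W) ↔ v ∈ pp V W := by
  rw [pp, ← cj_plE (h.pl.le W hW) hg (normalizer_le_normalizer_normalizer V hg), ← cj_centralizer, conj_mem_cj_iff]

theorem pp_n (hW : W ∈ P) (hg : g ∈ 𝐍 V) (hg' : g ∈ 𝐍 W) : g ∈ 𝐍 (pp V W) :=
  mem_normalizer_iff.2 fun v => by rw [← h.pp_conj hW hg, cj_eq_of_mem_normalizer hg']

theorem nW (hW : W ∈ P) (hg : g ∈ 𝐍 V) (ha : a ∈ W) (a1 : a ≠ 1) (e : g * a * g⁻¹ ∈ W) : g ∈ 𝐍 W := by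
  by_contra k
  exact conj_ne_one g a1 (h.disj hW e (h.le_pp hW (h.pl.conj W hW g hg) (fun j => k (cj_eq_iff.1 j.symm))
    (conj_mem_cj g ha)))

theorem sep (hv : v ∈ V) (h1 : ∀ W ∈ P, v ∈ pp V W) : v = 1 := by
  have : ∀ A : Set (Subgroup G), A ⊆ P → ∀ v ∈ sSup A, (∀ W ∈ A, v ∈ pp V W) → v = 1 := fun A => by
    induction A, A.toFinite using Set.Finite.induction_on with
    | empty => simp
    | @insert W A hW _ ih =>
      intro hA v hv h1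
      have hW' := hA (Set.mem_insert _ _)
      have hA' := (Set.subset_insert _ _).trans hA
      rw [sSup_insert] at hv
      obtain ⟨a, ha, c, hc, rfl⟩ := (mem_sup_of_le_normalizer (le_normalizer_of_le_centralizer ((h.pl.le W hW').trans
        (h.Vc.trans (centralizer_anti (sSup_le fun U hU => h.pl.le U (hA' hU))))))).1 hv
      obtain rfl := h.disj hW' ha ((mul_mem_cancel_right (sSup_le (fun U hU => h.le_pp hW' (hA' hU)
        fun e => hW (e ▸ hU)) hc)).1 (h1 W (Set.mem_insert _ _)))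
      rw [one_mul] at h1 ⊢
      exact ih hA' c hc fun U hU => h1 U (Set.mem_insert_of_mem _ hU)
  exact this P le_rfl v (h.pl.span hv) h1

theorem full' (hv : v ∈ oz S) (v1 : v ≠ 1) (hW : W ∈ P) : v ∉ pp V W := fun e =>
  v1 (h.sep (h.fr.oz_le hv) fun W' hW' => by
    obtain ⟨s, hs, rfl⟩ := h.pl.trans W hW W' hW'
    rw [← mem_centralizer_iff'.1 (le_c_oz S hs) v hv]
    exact (h.pp_conj hW (h.fr.le hs)).2 e)

theorem full (hW : W ∈ P) (hg : g ∈ 𝐍 V) : g * z * g⁻¹ ∉ pp V W := by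
  rw [← cj_cj_inv g W, h.pp_conj (h.pl.conj W hW _ (inv_mem hg)) hg]
  exact h.full' h.zoz h.z1 (h.pl.conj W hW _ (inv_mem hg))

theorem comp_fix (hW : W ∈ P) (h1 : t ∈ plE V (𝐍 V) W) {c : G} (hc : c ∈ pp V W) (e : t * (a * c) * t⁻¹ = a * c) :
    t * a * t⁻¹ = a := by
  rwa [← conj_mul, mem_centralizer_iff.1 hc t h1, mul_inv_cancel_right, mul_left_inj] at e

theorem good_of (hv : v ∈ V) (h1 : ∀ W ∈ P, ∀ t ∈ 𝐉 S, t ∈ plE V (𝐍 V) W → t * v * t⁻¹ = v) : good V P z v :=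
  fun W hW => by
  obtain ⟨t, t1, t2, t3⟩ := h.pl.tv W hW
  obtain ⟨a, ha, c, hc, rfl⟩ := h.dec hW hv
  obtain ⟨b, hb, d, hd, e⟩ := h.dec hW h.zV
  by_cases a1 : a = 1
  · exact Or.inl (by simpa [a1] using hc.2)
  have b1 : b ≠ 1 := fun k => h.full' h.zoz h.z1 hW (by simpa [← e, k] using hd.2)
  obtain rfl := four_inv (h.pl.four W hW) (h.notc hW t2 t3) ha a1 hb b1 (h.comp_fix hW t2 hc.2 (h1 W hW t t1 t2))
    (h.comp_fix hW t2 hd.2 (e.symm ▸ conj_eq_of_mem_c (h.Sz (thompsonOf_le 2 S t1))))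
  right
  rw [← e, mul_assoc, ← mul_assoc d, mem_centralizer_iff.1 (h.Vc (h.pl.le W hW ha)) d hd.1, mul_assoc, ← mul_assoc,
    h.sq (h.pl.le W hW ha), one_mul]
  exact mul_mem hd.2 hc.2

theorem eq_z (hv : v ∈ V) (h1 : good V P z v) (h2 : ∀ W ∈ P, v ∉ pp V W) : v = z := by
  have := h.sep (mul_mem h.zV hv) fun W hW => (h1 W hW).resolve_left (h2 W hW)
  rw [← mul_right_inj z, this, h.sq h.zV]

theorem zeq : oz S = zpowers z := le_antisymm (fun v hv => by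
  by_cases e : v = 1
  · exact e ▸ one_mem _
  · exact h.eq_z (h.fr.oz_le hv) (h.good_of (h.fr.oz_le hv) fun _ _ t ht _ =>
      mem_centralizer_iff'.1 (le_c_oz S (thompsonOf_le 2 S ht)) v hv) (fun W => h.full' hv e) ▸ mem_zpowers _)
  (zpowers_le.2 h.zoz)

theorem fH_eq : fH S = 𝐂 (zpowers z) := by rw [fH, h.zeq]

theorem fix_good (hg : g ∈ 𝐍 V) (g1 : g ∈ 𝐂 (zpowers z)) (g2 : ∀ W ∈ P, g ∈ 𝐍 W) (hv : v ∈ V) (h1 : good V P z v) :
    ⁅g, v⁆ = 1 := h.sep (cm_n hg hv) fun W hW => by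
  rcases h1 W hW with e | e
  · exact cm_n (h.pp_n hW hg (g2 W hW)) e
  · have := cm_n (h.pp_n hW hg (g2 W hW)) e
    rwa [cmul' (h.Vc h.zV) (cm_n hg hv), mem_cz.1 g1, one_mul] at this

theorem to_good (hv : v ∈ V) : ∃ m ∈ 𝐍 V, good V P z (m * v * m⁻¹) := by
  have : ∀ A : Set (Subgroup G), A ⊆ P → ∃ m ∈ 𝐍 V, good V A z (m * v * m⁻¹) := fun A => by
    induction A, A.toFinite using Set.Finite.induction_on with
    | empty => exact fun _ => ⟨1, one_mem _, by simp [good]⟩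
    | @insert W A hW _ ih =>
      intro hA
      have hW' := hA (Set.mem_insert _ _)
      have hA' := (Set.subset_insert _ _).trans hA
      obtain ⟨m, hm, k⟩ := ih hA'
      obtain ⟨a, ha, c, hc, e1⟩ := h.dec hW' (conj_mem_of_mem_normalizer hm hv)
      obtain ⟨b, hb, d, hd, e⟩ := h.dec hW' h.zV
      by_cases a1 : a = 1
      · exact ⟨m, hm, Set.forall_mem_insert.2 ⟨Or.inl (by simpa [← e1, a1] using hc.2), k⟩⟩
      obtain ⟨r, r1, r2, r3⟩ := h.pl.rho W hW'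
      obtain ⟨g, hg, e2⟩ := four_trans (h.pl.four W hW') r1.2.1 (centralizer_anti (h.pl.le W hW') r2)
        (h.notc hW' r1 r3) ha a1 hb fun k => h.full' h.zoz h.z1 hW' (by simpa [← e, k] using hd.2)
      replace hg := zpowers_le.2 r1 hg
      have e3 : g * m * v * (g * m)⁻¹ = g * (m * v * m⁻¹) * g⁻¹ := by group
      refine ⟨g * m, mul_mem hg.1 hm, e3 ▸ Set.forall_mem_insert.2 ⟨Or.inr ?_, fun U hU => ?_⟩⟩
      · rw [← e1, ← conj_mul, e2, mem_centralizer_iff.1 hc.2 g hg, mul_inv_cancel_right, ← e, mul_assoc, ← mul_assoc d,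
          mem_centralizer_iff.1 (h.Vc (h.pl.le W hW' hb)) d hd.1, mul_assoc, ← mul_assoc, h.sq (h.pl.le W hW' hb), one_mul]
        exact mul_mem hd.2 hc.2
      · have j := hg.2.2 _ (conj_mem_of_mem_normalizer hm hv)
        have j2 := h.le_pp (hA' hU) hW' (fun i => hW (i ▸ hU)) j
        rw [conj_eq g, ← mul_assoc z, mem_centralizer_iff.1 (h.Vc (h.pl.le W hW' j)) z h.zV, mul_assoc _ z]
        exact (k U hU).imp (mul_mem j2) (mul_mem j2)
  exact this P le_rfl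

theorem B_le (hv : v ∈ V) (h1 : good V P z v) : bm S ≤ 𝐂 (zpowers v) := by
  have c : v ∈ 𝐂 (𝐉 S) := mem_centralizer_iff.2 fun t ht => commutatorElement_eq_one_iff_mul_comm.1 (h.fix_good
    (h.fr.le (thompsonOf_le 2 S ht)) (h.Sz (thompsonOf_le 2 S ht)) (fun W hW => h.pl.jn W hW ht) hv h1)
  have s : v ^ 2 = 1 := by rw [pow_two, h.sq hv]
  exact inf_le_right.trans (centralizer_anti (zpowers_le.2
    (mem_omegaOne ⟨mem_thompsonOf_of_centralizes (h.fr.V_le_S h.hV hv) c s, c⟩ s)))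

theorem z_oz (hT : IsPGroup 2 T) (h1 : bm S ≤ T) : z ∈ oz T := by
  obtain ⟨S', s1, s2⟩ := exists_isSyl_ge hT le_top
  have n : S' ≤ 𝐍 V := (le_normalizer.trans (n_bm S')).trans (bm_eq h.fr.syl s1 (h1.trans s2) ▸ h.nB)
  obtain ⟨m, hm, rfl⟩ := h.fr.sylM.exists_cj_eq (s1.mono n le_top)
  have c : cj m S ≤ 𝐂 (zpowers (m * z * m⁻¹)) := by rw [← cj_zpowers, ← cj_centralizer]; exact cj_mono m h.Sz
  have zv := conj_mem_of_mem_normalizer hm h.zV
  rw [h.eq_z zv (h.good_of zv fun _ _ t ht _ => conj_eq_of_mem_c (c (s2 (h1 (j_le_bm S ht)))))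
    fun W hW => h.full hW hm] at c
  exact mem_omegaOne ⟨h1 (j_le_bm S ((oz_le _) (oz_le_oz_thompson S h.zoz))), le_centralizer_iff.1 (s2.trans c) (mem_zpowers z)⟩
    (by rw [pow_two, h.sq h.zV])

theorem charv (hv : v ∈ V) (v1 : v ≠ 1) : CharPOf 2 (𝐂 (zpowers v)) :=
  h.fr.charP_c (h.hV.to_le (zpowers_le.2 hv)) (by simpa using v1)

theorem a0 (hv : v ∈ V) (h1 : good V P z v) (v1 : v ≠ 1) : ncl (zpowers z) (𝐂 (zpowers v)) ≤ V ∧
    𝐂 (zpowers v) ≤ 𝐍 V ⊔ (𝐂 (zpowers v) ⊓ 𝐂 (ncl (zpowers z) (𝐂 (zpowers v)))) := by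
  obtain ⟨T, t1, t2⟩ := exists_isSyl_ge h.fr.isP.to_inf_left (h.B_le hv h1)
  have f := (h.fr.f1 _ T (h.charv hv v1) t1 t2).trans (sup_le_sup_left (inf_le_inf_left _ (centralizer_anti
    (show ncl (zpowers z) (𝐂 (zpowers v)) ≤ _ by
      rw [zc, t1.sylowCenterClosure_eq]; exact ncl_mono (zpowers_le.2 (h.z_oz t1.isP t2)) le_rfl))) _)
  refine ⟨ncl_le_iff.2 fun g hg => ?_, f.trans (sup_le_sup_right inf_le_right _)⟩
  obtain ⟨m, hm, c, hc, rfl⟩ := (mem_sup_of_le_normalizer (le_normalizer_inf (inf_le_left.trans le_normalizer)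
    (inf_le_left.trans (le_normalizer_centralizer (le_normalizer_ncl _ _))))).1 (f hg)
  rw [cj_mul, cj_eq_of_mem_centralizer (centralizer_anti (le_ncl _ _) hc.2)]
  exact cj_le_of_mem_normalizer (zpowers_le.2 h.zV) hm.2

theorem W_le (hW : W ∈ P) (h1 : v ∈ pp V W) : W ≤ ncl (zpowers z) (𝐂 (zpowers v)) := fun b hb => by
  obtain ⟨r, r1, r2, r3⟩ := h.pl.rho W hW
  have r4 : zpowers r ≤ 𝐍 (ncl (zpowers z) (𝐂 (zpowers v))) :=
    (zpowers_le.2 (le_centralizer_iff.1 (zpowers_le.2 h1) r1)).trans (le_normalizer_ncl _ _)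
  have r5 := centralizer_anti (h.pl.le W hW) r2
  by_cases b1 : b = 1
  · exact b1 ▸ one_mem _
  obtain ⟨g, hg, rfl⟩ := four_trans (h.pl.four W hW) r1.2.1 r5 (h.notc hW r1 r3) (r1.2.2 z h.zV) (fun e => by
    obtain ⟨a, ha, d, hd, k⟩ := h.dec hW h.zV
    exact h.notc hW r1 r3 (four_fix (h.pl.four W hW) r1.2.1 r5 ha (fun j => h.full' h.zoz h.z1 hW
      (by simpa [← k, j] using hd.2)) (h.comp_fix hW r1 hd.2 (by rw [k, conj_eq, e, one_mul])))) hb b1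
  exact conj_mem_of_mem_normalizer (r4 hg) (cm_n (r4 (mem_zpowers r)) (le_ncl _ _ (mem_zpowers z)))

theorem cM0 (hv : v ∈ V) (h1 : good V P z v) (v1 : v ≠ 1) (v2 : v ≠ z) : 𝐂 (zpowers v) ≤ 𝐍 V := by
  have zz : z * (z * v) = v := by rw [← mul_assoc, h.sq h.zV, one_mul]
  have a := h.a0 hv h1 v1
  have b := h.a0 (mul_mem h.zV hv) (fun W hW => (h1 W hW).symm.imp_right fun e => zz.symm ▸ e)
    fun e => v2 (by rw [← zz, e, mul_one])
  have e : ncl (zpowers z) (𝐂 (zpowers v)) ⊔ ncl (zpowers z) (𝐂 (zpowers (z * v))) = V :=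
    le_antisymm (sup_le a.1 b.1) (h.pl.span.trans (sSup_le fun W hW => (h1 W hW).elim
      (fun j => le_sup_of_le_left (h.W_le hW j)) fun j => le_sup_of_le_right (h.W_le hW j)))
  refine a.2.trans (sup_le le_rfl (e ▸ le_normalizer_sup (inf_le_left.trans (le_normalizer_ncl _ _))
    (le_trans (fun c hc => ?_) (le_normalizer_ncl _ _))))
  exact cz_symm (mul_mem (cz_symm (centralizer_anti (le_ncl _ _) hc.2)) (cz_symm hc.1))

theorem cM (hv : v ∈ V) (v1 : v ≠ 1) (v2 : ∀ m ∈ 𝐍 V, m * z * m⁻¹ ≠ v) : 𝐂 (zpowers v) ≤ 𝐍 V := by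
  obtain ⟨m, hm, k⟩ := h.to_good hv
  have := h.cM0 (conj_mem_of_mem_normalizer hm hv) k (conj_ne_one m v1) fun e => v2 _ (inv_mem hm) (by rw [← e]; group)
  rwa [← cj_zpowers, ← cj_centralizer, cj_le_iff, cj_eq_of_mem_normalizer (le_normalizer (inv_mem hm))] at this

theorem cM' (hW : W ∈ P) (hv : v ∈ V) (v1 : v ≠ 1) (v2 : v ∈ pp V W) : 𝐂 (zpowers v) ≤ 𝐍 V :=
  h.cM hv v1 fun _ hm e => h.full hW hm (e ▸ v2)

theorem pt (hv : g * z * g⁻¹ ∈ V) : ∃ m ∈ 𝐍 V, m * z * m⁻¹ = g * z * g⁻¹ := by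
  by_contra e
  push Not at e
  have c := h.cM hv (conj_ne_one g h.z1) e
  rw [← cj_zpowers, ← cj_centralizer] at c
  obtain ⟨m, hm, k⟩ := h.fr.sylM.exists_cj_eq ((cj_top g ▸ h.fr.syl.cj g).mono ((cj_mono g h.Sz).trans c) le_top)
  have n : g⁻¹ * m ∈ 𝐍 (zpowers z) := h.zeq ▸ n_oz S (cj_eq_iff.1 (by rw [cj_mul, k, cj_inv_cj]))
  have := (mem_two (h.sq h.zV) (conj_mem_of_mem_normalizer n (mem_zpowers z))).resolve_left (conj_ne_one _ h.z1)
  exact e m hm (by rw [show m * z * m⁻¹ = g * (g⁻¹ * m * z * (g⁻¹ * m)⁻¹) * g⁻¹ by group, this])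

theorem Up_z : Up V z = fU S V := by
  refine le_antisymm (Up_le fun l ⟨g, hl⟩ hz => ?_) (ncl_le_iff.2 fun g hg => ((Ln.self V).cj g).le_Up ?_)
  · subst hl
    obtain ⟨m, hm, e⟩ := h.pt (g := g⁻¹) (by simpa using mem_cj.1 hz)
    have e2 : cj g V = cj (g * m) V := by rw [cj_mul, cj_eq_of_mem_normalizer hm]
    have e3 : g * m ∈ fH S := h.fH_eq ▸ mem_c_of_conj_eq (by
      rw [show g * m * z * (g * m)⁻¹ = g * (m * z * m⁻¹) * g⁻¹ by group, e]; group)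
    exact e2 ▸ cj_le_ncl e3
  · rw [← conj_eq_of_mem_c (h.fH_eq ▸ hg : g ∈ 𝐂 (zpowers z))]
    exact conj_mem_cj g h.zV

theorem Up_ab (g : G) : Up V (g * z * g⁻¹) ≤ 𝐂 (Up V (g * z * g⁻¹)) := by
  rw [← cj_Up, ← cj_centralizer, h.Up_z]
  exact cj_mono g h.ab

theorem meet (hv : v ∈ V) (hv' : v ∈ cj g V) (v1 : v ≠ 1) : cj g V ≤ 𝐂 V := by
  by_cases e : ∀ m ∈ 𝐍 V, m * z * m⁻¹ ≠ v
  swap
  · push Not at e
    obtain ⟨m, -, rfl⟩ := e
    exact (((Ln.self V).cj g).le_Up hv').trans ((h.Up_ab m).trans (centralizer_anti ((Ln.self V).le_Up hv)))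
  have key : ∀ g, v ∈ cj g V → ∃ m ∈ 𝐍 V, cj (g * m) (bm S) ≤ 𝐂 (zpowers v) := fun g hg => by
    obtain ⟨m, hm, k⟩ := h.to_good (mem_cj.1 hg)
    refine ⟨m⁻¹, inv_mem hm, cj_le_iff.2 ?_⟩
    rw [cj_centralizer, cj_zpowers, show (g * m⁻¹)⁻¹ * v * (g * m⁻¹)⁻¹⁻¹ = m * (g⁻¹ * v * g) * m⁻¹ by group]
    exact h.B_le (conj_mem_of_mem_normalizer hm (mem_cj.1 hg)) k
  obtain ⟨a, ha, a1⟩ := key 1 (by rwa [cj_one])
  obtain ⟨b, hb, b1⟩ := key g hv'
  obtain ⟨T, t1, t2⟩ := exists_isSyl_ge (isPGroup_cj _ h.fr.isP.to_inf_left) a1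
  obtain ⟨x, hx, t3⟩ := t1.exists_cj_le (isPGroup_cj _ h.fr.isP.to_inf_left) b1
  obtain ⟨S', s1, s2⟩ := exists_isSyl_ge t1.isP le_top
  have k : ∀ c, cj c (bm S) ≤ T → bm S' = cj c (bm S) := fun c hc => by
    rw [cj_bm] at hc ⊢
    exact bm_eq (cj_top c ▸ h.fr.syl.cj c) s1 (hc.trans s2)
  rw [← cj_mul] at t3
  have n : (1 * a)⁻¹ * (x * (g * b)) ∈ 𝐍 V := h.nB (cj_eq_iff.1 (by rw [cj_mul, ← k _ t3, k _ t2, cj_inv_cj]))
  rw [mul_mem_cancel_left (inv_mem (mul_mem (one_mem _) ha)), mul_mem_cancel_left (h.cM hv v1 e hx),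
    mul_mem_cancel_right hb] at n
  exact (cj_eq_of_mem_normalizer n).le.trans h.Vc

end D2

end H27.FD

end H226
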