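import Cfsg.Agent.H26.T2.H27FD2a
import Cfsg.Agent.H26.T2.H6FD0
/-! Towards `H26.FD2'`, part 2: `Ω₁Z(R) = V`, and subgroups of index at most 4 of `V` have centralizer in `N(V)`. -/
set_option autoImplicit false
set_option linter.unusedSectionVars false
namespace H118 end H118 namespace H226 end H226 namespace H26 end H26 namespace H27 end H27 namespace H27.FD end H27.FD namespace H27.FD.D2 end H27.FD.D2 namespace H27.FM end H27.FM namespace H4 end H4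
open H226
namespace H226
namespace H27.FD
open _root_.H27 _root_.H27.FD
open Cfsg Subgroup H26 _root_.H26 H4 _root_.H4 H118 _root_.H118 H27.FM _root_.H27.FM
open scoped Pointwise commutatorElement
universe u

local notation "𝐉" => thompsonSubgroupOf 2

variable {G : Type u} [Group G] [Finite G] {S V W W' T X Y : Subgroup G} {P : Set (Subgroup G)} {z a b c g s t v r : G}

theorem four_swap (h : Four W) (h1 : t ∈ 𝐍 W) (h3 : t ∉ 𝐂 W) (ha : a ∈ W) (a1 : a ≠ 1) (hb : b ∈ W) (b1 : b ≠ 1)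
    (ab : a ≠ b) (e : t * a * t⁻¹ = a) : t * b * t⁻¹ = a * b := by
  rcases four_cases h ha hb a1 b1 ab (conj_mem_of_mem_normalizer h1 hb) with j | j | j | j
  · exact absurd j (conj_ne_one t b1)
  · exact absurd (by simpa using e.trans j.symm) ab
  · exact absurd (four_inv h h3 ha a1 hb b1 e j) ab
  · exact j

theorem card_disj (h1 : X ≤ 𝐂 Y) (h2 : X ⊓ Y = ⊥) : Nat.card ↥(X ⊔ Y) = Nat.card X * Nat.card Y := by
  simpa [h2] using card_sup_mul_card_inf (le_normalizer_of_le_centralizer h1)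

namespace D2
open _root_.H27.FD.D2
variable (h : D2 S V P z)
include h

theorem exP : ∃ W, W ∈ P := by
  by_contra e
  rw [not_exists] at e
  exact h.z1 (h.sep h.zV fun W hW => absurd hW (e W))

theorem ozR : oz (S ⊓ 𝐂 V) = V := by
  have c := h.fr.c_ozR h.hV
  have n := h.fr.M_le_n_ozR h.hV
  have l := h.fr.V_le_ozR h.hV
  have ea := elemAb_oz (S ⊓ 𝐂 V)
  have l2 : oz (S ⊓ 𝐂 V) ≤ S := (oz_le _).trans inf_le_left
  change 𝐂 (oz (S ⊓ 𝐂 V)) = _ at c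
  change _ ≤ 𝐍 (oz (S ⊓ 𝐂 V)) at n
  change _ ≤ oz (S ⊓ 𝐂 V) at l
  generalize oz (S ⊓ 𝐂 V) = U at *
  have k1 : 𝐉 S ≤ 𝐍 V ⊓ commStab (U : Set G) V := thompsonOf_le_iff.2 fun A hA => by
    have a1 := MaxEA.best hA l2 ea (A ⊓ 𝐂 V) inf_le_left
    rw [inf_eq_left.2 (le_centralizer_iff.1 (inf_le_right.trans c.ge))] at a1
    have a2 := no_over (h.fr.ea h.hV) le_rfl (pSol_of_solvable (h.fr.solM h.hV)) (h.fr.red h.hV) (hA.1.trans h.fr.le) hA.2.1
    have a3 := card_mul_relIndex (𝐂 V) A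
    have a4 := card_mul_relIndex (𝐂 A) V
    have a5 := card_sup_mul_card_inf (H := V) (K := U ⊓ 𝐂 A) (le_normalizer_of_le_centralizer
      (l.trans ((elemAb_le_centralizer ea).trans (centralizer_anti inf_le_left))))
    rw [← inf_assoc, inf_eq_left.2 l, inf_comm V, ← a4, mul_comm, mul_assoc, Nat.mul_right_inj (card_pos' _).ne'] at a5
    rw [← a3, inf_comm, mul_assoc, Nat.mul_le_mul_left_iff (card_pos' _)] at a1
    have a6 : V ⊔ U ⊓ 𝐂 A = U := eq_of_le_of_card_ge (sup_le l inf_le_left)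
      (a5 ▸ a1.trans (Nat.mul_le_mul_right _ a2))
    refine le_inf (hA.1.trans h.fr.le) ((le_commStab_iff' l).2 ?_)
    exact commutator_le_of_le_sup_centralizer' a6.ge inf_le_right (inf_le_left.trans
      ((elemAb_le_centralizer ea).trans ((centralizer_anti l).trans (centralizer_le_normalizer _)))) (hA.1.trans h.fr.le)
  obtain ⟨W, hW⟩ := h.exP
  obtain ⟨t, t1, -, t3⟩ := h.pl.tv W hW
  obtain ⟨E, e1, e2, -, e4, -, e6⟩ := odd_top (h.fr.solM h.hV) (h.fr.red h.hV) inf_le_left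
    (le_normalizer_inf le_normalizer (H4.le_normalizer_commStab n le_rfl)) fun e => t3 (e (k1 t1))
  obtain ⟨T, hT⟩ := exists_isSyl 2 E
  have g := gaschutz (elemAb_le_centralizer ea) (elemAb_isPGroup ea) (e1.trans (inf_le_left.trans n)) hT
  rw [inf_eq_left.2 (le_centralizer_iff.1 ((e6 T hT.le hT.isP).trans c.ge))] at g
  have d : U ⊓ 𝐂 E = ⊥ := by
    by_contra e
    obtain ⟨x, ⟨a, b⟩, x1⟩ := (bot_or_exists_ne_one _).resolve_left (inf_omegaOne_center_ne_bot h.fr.isP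
      (inf_le_left.trans l2) (h.fr.le.trans (le_normalizer_inf n (le_normalizer_centralizer e2))) e)
    obtain rfl := (mem_two (h.sq h.zV) (h.zeq ▸ b)).resolve_left x1
    exact e4 (le_centralizer_iff.1 (h.fr.ncl_eq ▸ ncl_le_centralizer (h.zeq ▸ zpowers_le.2 a.2) e2))
  rw [d, sup_bot_eq] at g
  exact le_antisymm (g.trans ((commutator_mono le_rfl ((pResidualOf_le _ _).trans (e1.trans inf_le_right))).trans
    ((le_commStab_iff' l).1 le_rfl))) l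

theorem comp (hW : W ∈ P) (g1 : g ∈ 𝐍 V) (g2 : g ∈ 𝐍 W) (ha : a ∈ W) (hc : c ∈ pp V W)
    (e : g * (a * c) * g⁻¹ = a * c) : g * a * g⁻¹ = a := by
  have : a⁻¹ * (g * a * g⁻¹) = c * (g * c * g⁻¹)⁻¹ := by
    rw [← conj_mul] at e
    rw [eq_mul_inv_iff_mul_eq, mul_assoc, e, inv_mul_cancel_left]
  exact (inv_mul_eq_one.1 (h.disj hW (mul_mem (inv_mem ha) (conj_mem_of_mem_normalizer g2 ha))
    (this ▸ mul_mem hc (inv_mem (conj_mem_of_mem_normalizer (h.pp_n hW g1 g2) hc))))).symm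

theorem card_pp (hW : W ∈ P) : 4 * Nat.card ↥(V ⊓ pp V W) = Nat.card V := by
  rw [← (h.pl.four W hW).card, ← card_disj ((h.pl.le W hW).trans (h.Vc.trans (centralizer_anti inf_le_left)))
    (eq_bot_iff.2 fun a ha => h.disj hW ha.1 ha.2.2), le_antisymm (sup_le (h.pl.le W hW) inf_le_left) fun v hv =>
      let ⟨_, ha, _, hc, e⟩ := h.dec hW hv; e ▸ mul_mem_sup ha hc]

theorem two_trans (hW : W ∈ P) (ha : a ∈ W) (a1 : a ≠ 1) (hb : b ∈ W) (b1 : b ≠ 1) (ab : a ≠ b) {a' b' : G}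
    (ha' : a' ∈ W) (a1' : a' ≠ 1) (hb' : b' ∈ W) (b1' : b' ≠ 1) (ab' : a' ≠ b') :
    ∃ g ∈ plE V (𝐍 V) W, g * a * g⁻¹ = a' ∧ g * b * g⁻¹ = b' := by
  have h4 := h.pl.four W hW
  obtain ⟨r, r1, r2, r3⟩ := h.pl.rho W hW
  have tr := fun {a b : G} => four_trans (a := a) (b := b) h4 r1.2.1 (centralizer_anti (h.pl.le W hW) r2) (h.notc hW r1 r3)
  obtain ⟨g, hg, rfl⟩ := tr ha a1 ha' a1'
  replace hg := zpowers_le.2 r1 hg
  have b2 := conj_mem_of_mem_normalizer hg.2.1 hb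
  rcases four_cases h4 ha' b2 a1' (conj_ne_one g b1) (by simpa using ab) hb' with j | j | j | j
  · exact absurd j b1'
  · exact absurd j.symm ab'
  · exact ⟨g, hg, rfl, j.symm⟩
  obtain ⟨t, t1, t2, t3⟩ := h.pl.tv W hW
  obtain ⟨w, hw, d, hd, e⟩ := h.dec hW h.zV
  obtain ⟨k, hk, e2⟩ := tr hw (fun k => h.full' h.zoz h.z1 hW (by simpa [← e, k] using hd.2)) ha' a1'
  replace hk := zpowers_le.2 r1 hk
  have t4 := mul_mem (mul_mem hk t2) (inv_mem hk)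
  have t5 : k * t * k⁻¹ * (g * a * g⁻¹) * (k * t * k⁻¹)⁻¹ = g * a * g⁻¹ := by
    rw [← e2, show k * t * k⁻¹ * (k * w * k⁻¹) * (k * t * k⁻¹)⁻¹ = k * (t * w * t⁻¹) * k⁻¹ by group,
      h.comp_fix hW t2 hd.2 (e.symm ▸ conj_eq_of_mem_c (h.Sz (thompsonOf_le 2 S t1)))]
  have t6 := four_swap h4 t4.2.1 (mt (mem_normalizer_iff.1 (normalizer_le_normalizer_centralizer W hk.2.1) t).2
    (h.notc hW t2 t3)) ha' a1' b2 (conj_ne_one g b1) (by simpa using ab) t5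
  exact ⟨k * t * k⁻¹ * g, mul_mem t4 hg, Eq.trans (by group) t5, by rw [j, ← t6]; group⟩

variable (hW : W ∈ P) (hW' : W' ∈ P) (ne : W ≠ W') (c16 : Nat.card V = 16)
include hW hW' ne c16

theorem pp_eq : V ⊓ pp V W = W' := (eq_of_le_of_card_ge (le_inf (h.pl.le W' hW') (h.le_pp hW hW' ne)) (by
  have := h.card_pp hW
  rw [(h.pl.four W' hW').card]; omega)).symm

theorem P_two (hY : Y ∈ P) (h1 : Y ≠ W) : Y = W' :=
  (h.pl.four W' hW').eq_of_le (h.pl.four Y hY) (h.pp_eq hW hW' ne c16 ▸ le_inf (h.pl.le Y hY) (h.le_pp hW hY h1.symm))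

theorem swap (g1 : g ∈ 𝐍 V) (g2 : cj g W = W') : cj g W' = W := by
  by_contra e
  exact ne (cj_inj.1 (g2.trans (h.P_two hW hW' ne c16 (h.pl.conj W' hW' g g1) e).symm))

theorem cV (h1 : g ∈ 𝐂 W) (h2 : g ∈ 𝐂 W') : g ∈ 𝐂 V := mem_centralizer_iff.2 fun v hv => by
  obtain ⟨a, ha, c, hc, rfl⟩ := h.dec hW hv
  rw [mul_assoc, mem_centralizer_iff.1 h2 c (h.pp_eq hW hW' ne c16 ▸ hc), ← mul_assoc, mem_centralizer_iff.1 h1 a ha,
    mul_assoc]

theorem exs : ∃ s ∈ S, cj s W = W' ∧ s * s ∈ 𝐂 V := by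
  suffices ∃ s ∈ S, cj s W = W' ∧ s * s ∈ 𝐂 W from let ⟨s, a, b, c⟩ := this
    ⟨s, a, b, h.cV hW hW' ne c16 c (by rwa [← b, ← cj_centralizer, mem_cj, show s⁻¹ * (s * s) * s = s * s by group])⟩
  obtain ⟨s, hs, e⟩ := h.pl.trans W hW W' hW'
  by_cases k : s * s ∈ 𝐂 W
  · exact ⟨s, hs, e, k⟩
  have e' := h.swap hW hW' ne c16 (h.fr.le hs) e
  obtain ⟨t, t1, t2, t3⟩ := h.pl.tv W hW
  have t4 := thompsonOf_le 2 S t1
  have t5 : s⁻¹ * t * s ∈ 𝐂 W := by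
    rw [← mem_cj, cj_centralizer, e]; exact h.pl.cent W hW W' hW' ne t2
  refine ⟨s * t, mul_mem hs t4, by rw [cj_mul, cj_eq_of_mem_normalizer t2.2.1, e], ?_⟩
  rw [show s * t * (s * t) = s * s * (s⁻¹ * t * s) * t by group]
  exact (h.pl.four W hW).two_of_isP (P := S ⊓ 𝐍 W) h.fr.isP.to_inf_left inf_le_right _
    (mem_inf.2 ⟨mul_mem (mul_mem hs hs) (mul_mem (mul_mem (inv_mem hs) t4) hs), mul_mem (cj_eq_iff.1
      (by rw [cj_mul, e, e'])) (centralizer_le_normalizer _ t5)⟩) t ⟨t4, t2.2.1⟩ (mt (mul_mem_cancel_right t5).1 k) (h.notc hW t2 t3)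

variable (hs : s ∈ S) (s1 : cj s W = W') (s2 : s * s ∈ 𝐂 V)
include hs s1 s2

theorem memI (ha : a ∈ W) : a * (s * a * s⁻¹) ∈ V ⊓ 𝐂 (zpowers s) := by
  have a1 := h.pl.le W hW ha
  have a2 := conj_mem_of_mem_normalizer (h.fr.le hs) a1
  refine ⟨mul_mem a1 a2, cz_symm (mem_c_of_conj_eq ?_)⟩
  rw [← conj_mul, show s * (s * a * s⁻¹) * s⁻¹ = s * s * a * (s * s)⁻¹ by group, mem_centralizer_iff'.1 s2 a a1,
    mem_centralizer_iff.1 (h.Vc a1) _ a2]

theorem cardI : Nat.card ↥(V ⊓ 𝐂 (zpowers s)) = 4 := by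
  have := card_disj (X := V ⊓ 𝐂 (zpowers s)) (Y := W') (inf_le_left.trans (h.Vc.trans (centralizer_anti (h.pl.le W' hW'))))
    (eq_bot_iff.2 fun a ha => h.disj hW (h.swap hW hW' ne c16 (h.fr.le hs) s1 ▸ conj_eq_of_mem_c (cz_symm ha.1.2) ▸
      conj_mem_cj s ha.2) (h.le_pp hW hW' ne ha.2))
  rw [le_antisymm (sup_le inf_le_left (h.pl.le W' hW')) fun v hv => ?_, c16, (h.pl.four W' hW').card] at this
  · omega
  obtain ⟨a, ha, c, hc, rfl⟩ := h.dec hW hv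
  refine mul_mem ((mul_mem_cancel_right (mem_sup_right (s1 ▸ conj_mem_cj s ha))).1
    (mem_sup_left (h.memI hW hW' ne c16 hs s1 s2 ha))) (mem_sup_right (h.pp_eq hW hW' ne c16 ▸ hc))

theorem commI : ⁅V, zpowers s⁆ = V ⊓ 𝐂 (zpowers s) := by
  refine le_antisymm (H6.FD.comm_le_c (h.fr.ea h.hV) (h.fr.le hs) s2) fun v hv => ?_
  obtain ⟨a, ha, c, hc, rfl⟩ := h.dec hW hv.1
  have a1 := h.pl.le W hW ha
  have c1 : c ∈ W' := h.pp_eq hW hW' ne c16 ▸ hc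
  have e := conj_eq_of_mem_c (cz_symm hv.2)
  have e2 : a⁻¹ * (s * c * s⁻¹) = c * (s * a * s⁻¹)⁻¹ := by
    rw [← conj_mul, mem_centralizer_iff.1 (h.Vc (conj_mem_of_mem_normalizer (h.fr.le hs) hc.1)) _
      (conj_mem_of_mem_normalizer (h.fr.le hs) a1)] at e
    rw [eq_mul_inv_iff_mul_eq, mul_assoc, e, inv_mul_cancel_left]
  have e3 := h.disj hW (mul_mem (inv_mem ha) (h.swap hW hW' ne c16 (h.fr.le hs) s1 ▸ conj_mem_cj s c1))
    (e2 ▸ h.le_pp hW hW' ne (mul_mem c1 (inv_mem (s1 ▸ conj_mem_cj s ha))))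
  rw [e2, mul_inv_eq_one] at e3
  have := commutator_mem_commutator a1 (mem_zpowers s)
  rwa [commutatorElement_def, inv_eq_of_mul_eq_one_right (h.sq a1), mul_assoc, mul_assoc, ← mul_assoc s, ← e3] at this

theorem cI (fl : FL.{u}) : 𝐂 (V ⊓ 𝐂 (zpowers s)) ≤ 𝐍 V := by
  have c4 := h.cardI hW hW' ne c16 hs s1 s2
  have l1 : S ⊓ 𝐂 V ⊔ zpowers s ≤ S := sup_le inf_le_left (zpowers_le.2 hs)
  have n := normalizer_le_normalizer_centralizer V (h.fr.le hs)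
  have or : ∀ t ∈ S ⊓ 𝐂 V ⊔ zpowers s, t ∈ 𝐂 V ∨ s⁻¹ * t ∈ 𝐂 V := fun t ht =>
    mem_or_of_sq n s2 ((sup_le (le_sup_of_le_right inf_le_right) le_sup_left : _ ≤ zpowers s ⊔ 𝐂 V) ht)
  have j : 𝐉 (S ⊓ 𝐂 V ⊔ zpowers s) = 𝐉 (S ⊓ 𝐂 V) := (thompsonOf_eq_of_le (thompsonOf_le_iff.2 fun A hA =>
    le_inf (hA.1.trans l1) (by
      by_contra e
      obtain ⟨a, a1, a2⟩ := SetLike.not_le_iff_exists.1 e
      have b1 := MaxEA.best hA (le_sup_of_le_left (h.fr.V_le_R h.hV)) (h.fr.ea h.hV) (A ⊓ 𝐂 V) inf_le_left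
      rw [inf_eq_left.2 (le_centralizer_iff.1 inf_le_right), c16] at b1
      have b2 := card_mul_relIndex (𝐂 V) A
      have b3 := H6.FD.Ix2.relIndex_le (B := 𝐂 V) (A := A) fun x hx y hy x1 y1 => by
        have := mul_mem (mul_mem s2 (conj_mem_of_mem_normalizer' n ((or x (hA.1 hx)).resolve_left x1)))
          ((or y (hA.1 hy)).resolve_left y1)
        rwa [show s * s * (s⁻¹ * (s⁻¹ * x) * s) * (s⁻¹ * y) = x * y by group] at this
      have b4 := Subgroup.card_le_of_le (show V ⊓ 𝐂 A ≤ V ⊓ 𝐂 (zpowers s) from fun v hv => ⟨hv.1, cz_symm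
        ((mul_mem_cancel_right (centralizer_anti (zpowers_le.2 hv.1) ((or a (hA.1 a1)).resolve_left a2))).1
          (by simpa using cz_symm (centralizer_anti (zpowers_le.2 a1) hv.2)))⟩)
      rw [inf_comm] at b2
      have := card_pos' (A ⊓ 𝐂 V)
      nlinarith)) le_sup_left).symm
  refine fl G S V _ s h.fr h.ab c16 h.ozR hs rfl (h.commI hW hW' ne c16 hs s1 s2) c4 (isSyl_of_normalizer
    ⟨le_inf (sup_le (inf_le_right.trans (centralizer_anti inf_le_left)) (le_centralizer_iff.1 inf_le_right))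
      le_normalizer, h.fr.isP.to_le l1, fun Q q1 q2 q3 q hq => ?_⟩) j fun g e => ?_
  · have m : Q ≤ 𝐍 V := q3.trans (inf_le_right.trans ((normalizer_le_normalizer_thompsonOf 2 _).trans
      (j ▸ h.fr.nJ_le h.hV)))
    have key : ∀ q ∈ Q, q ∈ 𝐍 W → q ∈ S ⊓ 𝐂 V ⊔ zpowers s := fun q hq k => by
      have i := fun a ha => mem_centralizer_iff'.1 (q3 hq).1 _ (h.memI (a := a) hW hW' ne c16 hs s1 s2 ha)
      have i2 := fun a ha => h.comp hW (m hq) k ha (h.le_pp hW hW' ne (s1 ▸ conj_mem_cj s ha)) (i a ha)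
      refine mem_sup_left (h.fr.sylR.max (Q ⊓ 𝐂 V) q1.to_inf_left (le_inf (le_sup_left.trans q2) inf_le_right)
        inf_le_right ⟨hq, h.cV hW hW' ne c16 (mem_centralizer_iff'.2 i2) (mem_centralizer_iff'.2 fun c hc => ?_)⟩)
      obtain ⟨a, ha, rfl⟩ := mem_cj'.1 (s1 ▸ hc)
      have := i a ha
      rwa [← conj_mul, i2 a ha, mul_right_inj] at this
    by_cases k : q ∈ 𝐍 W
    · exact key q hq k
    have s3 : s ∈ S ⊓ 𝐂 V ⊔ zpowers s := mem_sup_right (mem_zpowers s)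
    exact (mul_mem_cancel_left s3).1 (key _ (mul_mem (q2 s3) hq) (cj_eq_iff.1 (by
      rw [cj_mul, h.P_two hW hW' ne c16 (h.pl.conj W hW q (m hq)) (mt cj_eq_iff.1 k),
        h.swap hW hW' ne c16 (h.fr.le hs) s1])))
  · obtain ⟨v, ⟨a, b⟩, c⟩ := (bot_or_exists_ne_one _).resolve_left e
    exact h.meet a.1 (cj_mono g inf_le_left b) c

end D2

end H27.FD

end H226
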