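import Cfsg.Agent.H26.T2.H18FE2
/-! Towards `H26.FM`, part 1: flags `Fl`, the hypothesis `Mb` (`U(p) ⊓ U(q) = l`, `U(p) ≰ T(q)`), transvection groups
`Bf`, and the odd normal subgroup `Fd` of `C(p)/T(p)`. -/
set_option autoImplicit false
set_option linter.unusedSectionVars false
namespace H118 end H118 namespace H226 end H226 namespace H26 end H26 namespace H27 end H27 namespace H27.FM end H27.FM namespace H27.FM.Fl end H27.FM.Fl namespace H4 end H4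
open H226
namespace H226
namespace H27.FM
open _root_.H27 _root_.H27.FM
open Cfsg Subgroup H26 _root_.H26 H4 _root_.H4 H118 _root_.H118
open scoped Pointwise commutatorElement

variable {G : Type*} [Group G]

theorem exists_F [Finite G] {H T : Subgroup G} (hs : Group.IsSolvable H) (hn : H ≤ 𝐍 T)
    (h : ∀ K : Subgroup G, K ≤ H → H ≤ 𝐍 K → pResidualOf 2 K ≤ T → K ≤ T) :
    ∃ F : Subgroup G, F ≤ H ∧ H ≤ 𝐍 F ∧ (∀ x ∈ F, ∀ k, x ^ 2 ^ k ∈ T → x ∈ T) ∧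
      ∀ a ∈ H, (∀ x ∈ F, ⁅a, x⁆ ∈ T) → a ∈ F := by
  have := normal_subgroupOf_of_le_normalizer hn
  have h0 := (pCore_quotient_subgroupOf_eq_bot_iff (p := 2)).2 h
  let π := QuotientGroup.mk' (T.subgroupOf H)
  have e : ∀ x : H, π x = 1 ↔ (x : G) ∈ T := fun x => QuotientGroup.eq_one_iff x
  refine ⟨((fittingSubgroup _).comap π).map H.subtype, map_subtype_le _,
    normal_iff_le_normalizer_map_subtype.1 inferInstance, ?_, fun a ha h1 => ⟨⟨a, ha⟩, ?_, rfl⟩⟩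
  · rintro _ ⟨x, hx, rfl⟩ k hk
    have h2 : IsPGroup 2 (zpowers (π x)) := isPGroup_iff_mem.2 fun y ⟨n, hy⟩ => ⟨k, by
      rw [← hy, ← zpow_natCast, ← zpow_mul, mul_comm, zpow_mul, zpow_natCast, ← map_pow, (e _).2 hk, one_zpow]⟩
    have h3 := H1.le_pCore_of_le_nilpotent_normal (fittingSubgroup _) h2 (zpowers_le.2 hx) (mem_zpowers _)
    rw [h0, mem_bot] at h3
    exact (e x).1 h3
  · refine H1.centralizer_fitting_le _ fun y hy => ?_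
    obtain ⟨x, rfl⟩ := QuotientGroup.mk'_surjective _ y
    have h2 := (e ⁅(⟨a, ha⟩ : H), x⁆).2 (h1 x ⟨x, hy, rfl⟩)
    rw [map_commutatorElement, commutatorElement_eq_one_iff_mul_comm] at h2
    exact h2.symm

theorem sq_stab {d : G} {X Y W : Subgroup G} (h1 : ∀ u ∈ X, ⁅d, u⁆ ∈ Y) (h2 : ∀ u ∈ Y, ⁅d, u⁆ ∈ W)
    (h3 : ∀ u ∈ Y, u * u = 1) : ∀ u ∈ X, ⁅d * d, u⁆ ∈ W := fun u hu => by
  have e : ⁅d * d, u⁆ = ⁅d, ⁅d, u⁆⁆ * (⁅d, u⁆ * ⁅d, u⁆) := by simp only [commutatorElement_def]; group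
  rw [e, h3 _ (h1 u hu), mul_one]
  exact h2 _ (h1 u hu)

theorem cm_inv {N : Subgroup G} {a b : G} (h : ⁅a, b⁆ ∈ N) : ⁅b, a⁆ ∈ N := by
  rw [← commutatorElement_inv]; exact inv_mem h

theorem cm_right {N : Subgroup G} {c u v : G} (h1 : ⁅c, u⁆ ∈ N) (h2 : ⁅c, v⁆ ∈ N) (hu : u ∈ 𝐍 N) : ⁅c, u * v⁆ ∈ N := by
  rw [commutatorElement_mul_right_eq_mul_conj, mul_assoc, mul_assoc, ← mul_assoc u]
  exact mul_mem h1 (conj_mem_of_mem_normalizer hu h2)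

theorem cm_left {N : Subgroup G} {c d u : G} (h1 : ⁅c, u⁆ ∈ N) (h2 : ⁅d, u⁆ ∈ N) (hc : c ∈ 𝐍 N) : ⁅c * d, u⁆ ∈ N := by
  rw [commutatorElement_mul_left_eq_conj_mul]
  exact mul_mem (conj_mem_of_mem_normalizer hc h2) h1

theorem cm_n {N : Subgroup G} {c u : G} (hc : c ∈ 𝐍 N) (hu : u ∈ N) : ⁅c, u⁆ ∈ N :=
  mul_mem (conj_mem_of_mem_normalizer hc hu) (inv_mem hu)

theorem cm_c {N : Subgroup G} {c u : G} (hc : c ∈ 𝐂 N) (hu : u ∈ N) : ⁅c, u⁆ = 1 := by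
  rw [commutatorElement_def, mem_centralizer_iff'.1 hc u hu, mul_inv_cancel]

theorem conj_eq (c u : G) : c * u * c⁻¹ = ⁅c, u⁆ * u := by rw [commutatorElement_def, inv_mul_cancel_right]

theorem c_n {p g : G} (h : g ∈ 𝐂 (zpowers p)) : g ∈ 𝐍 (zpowers p) := centralizer_le_normalizer _ h

/-- a line with two of its points -/
structure Fl (V l : Subgroup G) (p q : G) : Prop where
  ln : Ln V l
  pl : p ∈ l
  ql : q ∈ l
  p1 : p ≠ 1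
  q1 : q ≠ 1
  ne : p ≠ q

/-- the elements of `C(p)` acting on `U(p)` as transvections with centre `l` -/
def Bf (V : Subgroup G) (p : G) (l : Subgroup G) : Subgroup G := 𝐂 (zpowers p) ⊓ commStab (Up V p : Set G) l

structure Fd (V : Subgroup G) (p : G) (F : Subgroup G) : Prop where
  le : F ≤ 𝐂 (zpowers p)
  nm : 𝐂 (zpowers p) ≤ 𝐍 F
  odd : ∀ x ∈ F, ∀ k, x ^ 2 ^ k ∈ Tp V p → x ∈ Tp V p
  cen : ∀ a ∈ 𝐂 (zpowers p), (∀ x ∈ F, ⁅a, x⁆ ∈ Tp V p) → a ∈ F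

variable {S V l m F : Subgroup G} {z p q c d g u v x : G}

theorem Fl.symm (h : Fl V l p q) : Fl V l q p := ⟨h.ln, h.ql, h.pl, h.q1, h.p1, h.ne.symm⟩
theorem Fl.col (h : Fl V l p q) : Col V p q := ⟨h.p1, h.q1, l, h.ln, h.pl, h.ql⟩
theorem Fl.cj (h : Fl V l p q) (g : G) : Fl V (cj g l) (g * p * g⁻¹) (g * q * g⁻¹) :=
  ⟨h.ln.cj g, conj_mem_cj g h.pl, conj_mem_cj g h.ql, conj_ne_one g h.p1, conj_ne_one g h.q1, by simpa using h.ne⟩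
theorem Fl.cjc (h : Fl V l p q) (hg : g ∈ 𝐂 (zpowers p)) : Fl V (cj g l) p (g * q * g⁻¹) := by
  simpa only [conj_eq_of_mem_c hg] using h.cj g

theorem mem_Bf : c ∈ Bf V p l ↔ c ∈ 𝐂 (zpowers p) ∧ c ∈ 𝐍 l ∧ ∀ u ∈ Up V p, ⁅c, u⁆ ∈ l := Iff.rfl

theorem Bf_cj (hc : c ∈ Bf V p l) (hg : g ∈ 𝐂 (zpowers p)) : g * c * g⁻¹ ∈ Bf V p (cj g l) := by
  refine mem_Bf.2 ⟨mul_mem (mul_mem hg hc.1) (inv_mem hg), cj_normalizer g l ▸ conj_mem_cj g hc.2.1, fun u hu => ?_⟩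
  have := conj_mem_cj g (hc.2.2 _ (conj_mem_of_mem_normalizer' (c_le_n_Up V p hg) hu))
  rwa [conjugate_commutatorElement, show g * (g⁻¹ * u * g) * g⁻¹ = u by group] at this

theorem Tp_conj (hg : g ∈ 𝐂 (zpowers p)) : g * c * g⁻¹ ∈ Tp V p ↔ c ∈ Tp V p :=
  (mem_normalizer_iff.1 (c_le_n_Tp V p hg) c).symm

variable [Finite G]

structure Mb (S V : Subgroup G) (z : G) : Prop extends Ge S V z where
  int : ∀ l p q, Fl V l p q → Up V p ⊓ Up V q = l ∧ ¬ Up V p ≤ Tp V q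

namespace Fl
open _root_.H27.FM.Fl
variable (h : Ge S V z) (f : Fl V l p q)
include h f

theorem four : Four l := h.ln_four f.ln
theorem pp : p * p = 1 := (f.four h).sq p f.pl
theorem cases (hu : u ∈ l) : u = 1 ∨ u = p ∨ u = q ∨ u = p * q := four_cases (f.four h) f.pl f.ql f.p1 f.q1 f.ne hu
theorem comm : q * p = p * q := mem_centralizer_iff.1 ((f.four h).le_c f.pl) q f.ql
theorem rot : Fl V l p (p * q) := ⟨f.ln, f.pl, mul_mem f.pl f.ql, f.p1,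
  fun e => f.ne (by rw [← mul_right_inj p, f.pp h, e]), fun e => f.q1 (by simpa using e)⟩
theorem ppq : p * (p * q) = q := by rw [← mul_assoc, f.pp h, one_mul]
theorem memZ : u ∈ zpowers p ↔ u = 1 ∨ u = p :=
  ⟨mem_two (f.pp h), by rintro (rfl | rfl); exacts [one_mem _, mem_zpowers _]⟩
theorem qZ : q ∉ zpowers p := fun e => ((f.memZ h).1 e).elim f.q1 f.ne.symm
theorem two {a b : G} (ha : a ∈ l) (hb : b ∈ l) (h1 : a ∉ zpowers p) (h2 : b ∉ zpowers p) : a * b ∈ zpowers p :=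
  two_of_relIndex ((f.four h).relIndex_of_card (zpowers_le.2 f.pl) (card_two (f.pp h) f.p1)) a ha b hb h1 h2
theorem lU : l ≤ Up V p := f.ln.le_Up f.pl
theorem Uc : Up V p ≤ 𝐂 l := (h.Up_ab f.col).trans (centralizer_anti (f.lU h))
theorem UT : Up V p ≤ Tp V p := (h.Up_ab f.col).trans (Ge.c_le_Tp f.col)
theorem cc : 𝐂 l ≤ 𝐂 (zpowers p) := centralizer_anti (zpowers_le.2 f.pl)
theorem lT : l ≤ Tp V p := (f.lU h).trans (f.UT h)
theorem third (hu : u ∈ l) (h1 : u ∉ zpowers p) (h2 : u ∉ zpowers q) : u = p * q := by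
  rcases f.cases h hu with rfl | rfl | rfl | rfl
  exacts [absurd (one_mem _) h1, absurd (mem_zpowers _) h1, absurd (mem_zpowers _) h2, rfl]

theorem fx (h1 : c ∈ 𝐂 (zpowers p)) (h2 : c ∈ 𝐍 l) (hu : u ∈ l) : ⁅c, u⁆ ∈ zpowers p :=
  cm_inv (h.comm_ln f.ln f.pl f.p1 (zpowers_le.2 h1) (zpowers_le.2 h2) (commutator_mem_commutator hu (mem_zpowers c)))

theorem gen {K : Subgroup G} (hu : u ∈ l) (h1 : u ∉ zpowers p) (h2 : p ∈ K) (h3 : u ∈ K) : l ≤ K := fun a ha => by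
  by_cases e : a ∈ zpowers p
  · exact zpowers_le.2 h2 e
  · exact (mul_mem_cancel_right h3).1 (zpowers_le.2 h2 (f.two h ha hu e h1))

theorem nfx (h1 : c ∈ 𝐂 (zpowers p)) (hu : u ∈ l) (h2 : u ∉ zpowers p) (h3 : ⁅c, u⁆ ∈ zpowers p) : c ∈ 𝐍 l :=
  mem_normalizer_of_cj_le (cj_le_iff.2 (f.gen h hu h2
    (mem_cj.2 (by rw [inv_inv, conj_eq_of_mem_c h1]; exact f.pl))
    (mem_cj.2 (by rw [inv_inv, conj_eq]; exact mul_mem (zpowers_le.2 f.pl h3) hu))))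

theorem inf_le {q' : G} (f' : Fl V m p q') (ne : l ≠ m) (h1 : u ∈ l) (h2 : u ∈ m) : u ∈ zpowers p := by
  by_contra e
  exact ne ((f'.four h).eq_of_le (f.four h) (f.gen h h1 e f'.pl h2))

theorem swap (h1 : g ∈ 𝐂 (zpowers p)) (h2 : g ∈ 𝐍 l) (h3 : g ∉ 𝐂 l) : ⁅g, q⁆ = p :=
  ((f.memZ h).1 (f.fx h h1 h2 f.ql)).resolve_left fun e => h3 (le_centralizer_iff.1 (f.gen h f.ql (f.qZ h)
    (mem_centralizer_zpowers.2 (mem_centralizer_zpowers.1 h1).symm)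
    (mem_centralizer_zpowers.2 (commutatorElement_eq_one_iff_mul_comm.1 e))) (mem_zpowers g))

theorem swap' (h1 : g ∈ 𝐂 (zpowers p)) (h2 : g ∈ 𝐍 l) (h3 : g ∉ 𝐂 l) : g * q * g⁻¹ = p * q := by
  rw [conj_eq, f.swap h h1 h2 h3]

theorem mulc {a b : G} (a1 : a ∈ 𝐂 (zpowers p)) (a2 : a ∈ 𝐍 l) (a3 : a ∉ 𝐂 l) (b1 : b ∈ 𝐂 (zpowers p)) (b2 : b ∈ 𝐍 l)
    (b3 : b ∉ 𝐂 l) : a * b ∈ 𝐂 l := by
  by_contra e
  have := f.swap' h (mul_mem a1 b1) (mul_mem a2 b2) e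
  rw [show a * b * q * (a * b)⁻¹ = a * (b * q * b⁻¹) * a⁻¹ by group, f.swap' h b1 b2 b3, (f.rot h).swap' h a1 a2 a3,
    f.ppq h] at this
  exact f.p1 (by simpa using this)

theorem syl : ∃ P : Subgroup G, IsSyl 2 P ⊤ ∧ P ≤ 𝐍 l ∧ P ≤ 𝐂 (zpowers p) := by
  obtain ⟨g, rfl, rfl⟩ := h.trans f.ln f.pl f.p1
  exact ⟨cj g S, cj_top g ▸ h.syl.cj g, cj_normalizer g V ▸ cj_mono g h.le, by
    rw [← cj_zpowers, ← cj_centralizer]; exact cj_mono g h.S_le⟩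

theorem exF : ∃ F, Fd V p F := by
  have n1 : zpowers p ≠ ⊥ := by simpa using f.p1
  have := fr_sol h.toFr ((f.four h).isP.to_le (zpowers_le.2 f.pl)) n1
  obtain ⟨F, a, b, c, d⟩ := exists_F (H := 𝐂 (zpowers p)) (T := Tp V p)
    (Group.isSolvable_of_isSolvable_injective (inclusion_injective (centralizer_le_normalizer _))) (c_le_n_Tp V p)
    fun K k1 k2 k3 => h.le_Tp_of f.p1 k1 fun m hm hp => by
      obtain ⟨g, rfl, rfl⟩ := h.trans hm hp f.p1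
      have s : IsSyl 2 (cj g S) (𝐂 (zpowers (g * z * g⁻¹))) := (cj_top g ▸ h.syl.cj g).mono (by
        rw [← cj_zpowers, ← cj_centralizer]; exact cj_mono g h.S_le) le_top
      exact (s.inf_of_normal k2 k1).le_of_pResidualOf_le (k3.trans (Ge.Tp_le_n hm hp))
        (inf_le_left.trans (cj_normalizer g V ▸ cj_mono g h.le))
  exact ⟨F, a, b, c, d⟩

theorem tr {q' p' : G} (f' : Fl V m p' q') : ∃ g, cj g l = m ∧ g * p * g⁻¹ = p' := by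
  obtain ⟨a, a1, a2⟩ := h.trans f.ln f.pl f.p1
  obtain ⟨b, b1, b2⟩ := h.trans f'.ln f'.pl f'.p1
  exact ⟨b * a⁻¹, by rw [← a1, cj_mul, cj_inv_cj, b1], by rw [← a2, ← b2]; group⟩

theorem tr2 {q' p' : G} (f' : Fl V m p' q') : ∃ g, cj g l = m ∧ g * p * g⁻¹ = p' ∧ g * q * g⁻¹ = q' := by
  obtain ⟨g, rfl, rfl⟩ := f.tr h f'
  by_cases e : g * q * g⁻¹ = q'
  · exact ⟨g, rfl, rfl, e⟩
  obtain ⟨a, rfl, a2⟩ := h.trans f.ln f.pl f.p1
  obtain ⟨s, hs, hs'⟩ := SetLike.not_le_iff_exists.1 h.not_S_le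
  have s1 : a * s * a⁻¹ ∈ 𝐂 (zpowers p) := by
    rw [← a2, ← cj_zpowers, ← cj_centralizer]; exact conj_mem_cj a (h.S_le hs)
  have s2 : a * s * a⁻¹ ∈ 𝐍 (cj a V) := cj_normalizer a V ▸ conj_mem_cj a (h.le hs)
  have s3 := f.swap' h s1 s2 (by rwa [← cj_centralizer, conj_mem_cj_iff])
  refine ⟨g * (a * s * a⁻¹), by rw [cj_mul, cj_eq_of_mem_normalizer s2], ?_, ?_⟩
  · rw [mul_inv_rev, show ∀ t : G, g * t * p * (t⁻¹ * g⁻¹) = g * (t * p * t⁻¹) * g⁻¹ by intro t; group,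
      conj_eq_of_mem_c s1]
  · rw [mul_inv_rev, show ∀ t : G, g * t * q * (t⁻¹ * g⁻¹) = g * (t * q * t⁻¹) * g⁻¹ by intro t; group, s3,
      (f.cj g).third h f'.ql (f'.qZ h) fun k => (((f.cj g).symm.memZ h).1 k).elim f'.q1 (Ne.symm e)]
    group

end Fl

theorem exFl (h : Ge S V z) (hl : Ln V l) (hp : p ∈ l) (p1 : p ≠ 1) : ∃ q, Fl V l p q := by
  have h4 := h.ln_four hl
  by_contra e
  have : l ≤ zpowers p := fun q hq => by
    by_contra k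
    exact e ⟨q, hl, hp, hq, p1, fun j => k (j ▸ one_mem _), fun j => k (j ▸ mem_zpowers _)⟩
  have := Subgroup.card_le_of_le this
  rw [h4.card, card_two (h4.sq p hp) p1] at this
  omega

theorem mb_of (h : F4 S V) (hg : g ∈ 𝐍 V) (h1 : ¬ cj g (fU S V) ≤ 𝐂 (fU S V)) (h2 : fU S V ⊓ cj g (fU S V) = V) :
    ∃ z, Mb S V z := by
  obtain ⟨z, h⟩ := exists_ge h
  rw [← h.Up_z, cj_Up] at h1 h2
  have f0 : Fl V V z (g * z * g⁻¹) := ⟨Ln.self V, h.zV, conj_mem_of_mem_normalizer hg h.zV, h.z1, conj_ne_one g h.z1,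
    fun e => h1 (e ▸ h.Up_ab h.colz)⟩
  refine ⟨z, h, fun l p q f => ⟨?_, fun e => h1 ?_⟩⟩
  · obtain ⟨a, rfl, rfl, rfl⟩ := f0.tr2 h f
    rw [← cj_Up a, ← cj_Up a, ← cj_inf, h2]
  · have k : ∀ p' q', Fl V V p' q' → Up V p' ≤ Tp V q' := fun p' q' f' => by
      obtain ⟨a, -, rfl, rfl⟩ := f.tr2 h f'
      rw [← cj_Up, ← cj_Tp]; exact cj_mono a e
    exact h.Up_comm (k _ _ f0.symm) (k _ _ f0)

end H27.FM

end H226
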