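import Cfsg.Agent.H26.T2.H27FM1
/-! Towards `H26.FM`, part 2: under `Mb` every `U(p)` has order 8 (`Mb.g1`: a line through `p` has index 2 in `U(p)`). -/
set_option autoImplicit false
set_option linter.unusedSectionVars false
namespace H118 end H118 namespace H226 end H226 namespace H26 end H26 namespace H27 end H27 namespace H27.FM end H27.FM namespace H27.FM.Fl end H27.FM.Fl namespace H27.FM.Mb end H27.FM.Mb namespace H4 end H4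
open H226
namespace H226
namespace H27.FM
open _root_.H27 _root_.H27.FM
open Cfsg Subgroup H26 _root_.H26 H4 _root_.H4 H118 _root_.H118
open scoped Pointwise commutatorElement

variable {G : Type*} [Group G] [Finite G] {S V l m F : Subgroup G} {z p q q' c d g u v x : G}

theorem cmul (hc : c ∈ 𝐂 l) (h : ⁅d, u⁆ ∈ l) : ⁅c * d, u⁆ = ⁅d, u⁆ * ⁅c, u⁆ := by
  rw [commutatorElement_mul_left_eq_conj_mul, mem_centralizer_iff'.1 hc _ h]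

theorem cmul' (hu : u ∈ 𝐂 l) (h : ⁅c, v⁆ ∈ l) : ⁅c, u * v⁆ = ⁅c, u⁆ * ⁅c, v⁆ := by
  rw [commutatorElement_mul_right_eq_mul_conj, mul_assoc, mul_assoc, ← mul_assoc u, mem_centralizer_iff'.1 hu _ h]

namespace Fl
open _root_.H27.FM.Fl
variable (h : Ge S V z) (f : Fl V l p q)
include h f

theorem k0 (hc : c ∈ Bf V p l) : c * c ∈ Tp V p :=
  mem_Tp.2 ⟨mul_mem hc.1 hc.1, sq_stab hc.2.2 (fun _ => f.fx h hc.1 hc.2.1) (f.four h).sq⟩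

theorem two_fx (hc : c ∈ Bf V p l) (hu : u ∈ Up V p) (hv : v ∈ Up V p) (h1 : ⁅c, u⁆ ∉ zpowers p)
    (h2 : ⁅c, v⁆ ∉ zpowers p) : ⁅c, u * v⁆ ∈ zpowers p := by
  rw [commutatorElement_mul_right_eq_mul_conj, mul_assoc, mul_assoc, ← mul_assoc u,
    mem_centralizer_iff'.1 (f.Uc h hu) _ (hc.2.2 v hv)]
  exact f.two h (hc.2.2 u hu) (hc.2.2 v hv) h1 h2

theorem two_fx' (hc : c ∈ Bf V p l) (hd : d ∈ Bf V p l) (hu : u ∈ Up V p) (h1 : ⁅c, u⁆ ∉ zpowers p)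
    (h2 : ⁅d, u⁆ ∉ zpowers p) : ⁅c * d, u⁆ ∈ zpowers p := by
  rw [commutatorElement_mul_left_eq_conj_mul, conj_eq, mul_assoc]
  exact mul_mem (f.fx h hc.1 hc.2.1 (hd.2.2 u hu)) (f.two h (hd.2.2 u hu) (hc.2.2 u hu) h2 h1)

theorem Un (f' : Fl V m p q') : l ≤ 𝐍 m := ((f.lU h).trans (f'.Uc h)).trans (centralizer_le_normalizer _)

variable (hF : Fd V p F)
include hF

theorem k1 (f' : Fl V m p q') (ne : l ≠ m) (hc : c ∈ Bf V p l) (hd : d ∈ Bf V p m) (hn : c ∈ 𝐍 m) (hx : c * d ∈ F) :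
    d ∈ Tp V p := by
  have hU : l ⊔ m ≤ Up V p := sup_le (f.lU h) (f'.lU h)
  have zm : zpowers p ≤ m := zpowers_le.2 f'.pl
  have a1 : ∀ u ∈ Up V p, ⁅c * d, u⁆ ∈ l ⊔ m := fun u hu => by
    rw [commutatorElement_mul_left_eq_conj_mul]
    exact mul_mem (mem_sup_right (conj_mem_of_mem_normalizer hn (hd.2.2 u hu))) (mem_sup_left (hc.2.2 u hu))
  have a2 : ∀ u ∈ l ⊔ m, ⁅c * d, u⁆ ∈ m := fun u hu => by
    refine cm_left (zm ?_) (hd.2.2 u (hU hu)) hn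
    obtain ⟨a, ha, b, hb, rfl⟩ := (mem_sup_of_le_normalizer (f.Un h f')).1 hu
    exact cm_right (f.fx h hc.1 hc.2.1 ha) (f'.fx h hc.1 hn hb) (c_n (h.Up_le_c f.col (f.lU h ha)))
  have cd := mul_mem hc.1 hd.1
  have cd' := mul_mem hn hd.2.1
  have a3 : c * d ∈ Tp V p := hF.odd _ hx 2 (mem_Tp.2 ⟨pow_mem cd _, by
    rw [show 2 ^ 2 = 2 * 2 from rfl, pow_mul, pow_two, pow_two]
    exact sq_stab (sq_stab a1 a2 fun u hu => h.Up_sq f.col (hU hu))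
      (fun _ => f'.fx h (mul_mem cd cd) (mul_mem cd' cd')) (f'.four h).sq⟩)
  refine mem_Tp.2 ⟨hd.1, fun u hu => f.inf_le h f' ne ?_ (hd.2.2 u hu)⟩
  rw [show d = c⁻¹ * (c * d) by group]
  exact cm_left ((inv_mem hc).2.2 u hu) (zpowers_le.2 f.pl ((mem_Tp.1 a3).2 u hu)) (inv_mem hc.2.1)

theorem k2 (hc : c ∈ Bf V p l) (hx : x ∈ F) (h1 : x ∉ 𝐍 l) (h2 : c ∈ 𝐍 (cj x l)) : c ∈ Tp V p :=
  inv_mem_iff.1 ((Tp_conj (hF.le hx)).1 (f.k1 h hF (f.cjc (hF.le hx)) (fun e => h1 (cj_eq_iff.1 e.symm)) hc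
    (Bf_cj (inv_mem hc) (hF.le hx)) h2 (by simpa only [commutatorElement_def, mul_assoc] using cm_n (hF.nm hc.1) hx)))

theorem k2' {x' : G} (hc : c ∈ Bf V p l) (hc' : c ∉ Tp V p) (hx : x ∈ F) (hx' : x' ∈ F) (h1 : cj x l ≠ cj x' l) :
    ⁅x * c * x⁻¹, x' * q * x'⁻¹⁆ ∉ zpowers p := fun e => by
  have f' := f.cjc (hF.le hx')
  have b := Bf_cj hc (hF.le hx)
  have e1 : cj (x' * x⁻¹) (cj x l) = cj x' l := by rw [← cj_mul, inv_mul_cancel_right]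
  exact hc' ((Tp_conj (hF.le hx)).1 ((f.cjc (hF.le hx)).k2 h hF b (mul_mem hx' (inv_mem hx))
    (fun k => h1 (by rw [← e1, cj_eq_of_mem_normalizer k])) (e1 ▸ f'.nfx h b.1 f'.ql (f'.qZ h) e)))

theorem mv (hc : c ∈ Bf V p l) (hc' : c ∉ Tp V p) (hx : x ∈ F) (h1 : x ∉ 𝐍 l) : ⁅c, x * q * x⁻¹⁆ ∉ zpowers p := by
  simpa using f.k2' h hF hc hc' (one_mem _) hx (by rw [cj_one]; exact fun e => h1 (cj_eq_iff.1 e.symm))

theorem exx (hc : c ∈ Bf V p l) (hc' : c ∉ Tp V p) : ∃ x ∈ F, x ∉ 𝐍 l := by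
  by_contra e
  push Not at e
  have k : ∀ d ∈ F, d ∈ Bf V p l → d ∈ Tp V p := fun d h1 h2 => hF.odd d h1 1 (by simpa [pow_two] using f.k0 h h2)
  refine hc' (k c (hF.cen c hc.1 fun x hx => k _ (cm_n (hF.nm hc.1) hx) ?_) hc)
  have := Bf_cj (inv_mem hc) (hF.le hx)
  rw [cj_eq_of_mem_normalizer (e x hx)] at this
  simpa only [commutatorElement_def, mul_assoc] using mul_mem hc this

omit hF in
theorem k3 (hc : c ∈ Bf V p l) (hd : d ∈ Bf V p l) (hc' : c ∉ Tp V p) (hd' : d ∉ Tp V p) : c * d ∈ Tp V p := by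
  obtain ⟨F, hF⟩ := f.exF h
  obtain ⟨x, hx, h1⟩ := f.exx h hF hc hc'
  by_contra e
  have f' := f.cjc (hF.le hx)
  exact f.mv h hF (mul_mem hc hd) e hx h1
    (f.two_fx' h hc hd (f'.lU h f'.ql) (f.mv h hF hc hc' hx h1) (f.mv h hF hd hd' hx h1))

theorem k4 {x' : G} (hc : c ∈ Bf V p l) (hc' : c ∉ Tp V p) (hx : x ∈ F) (h1 : x ∉ 𝐍 l) (hx' : x' ∈ F) :
    x' * q * x'⁻¹ ∈ l ⊔ cj x l := by
  by_contra e
  have f1 := f.cjc (hF.le hx)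
  have f2 := f.cjc (hF.le hx')
  have n1 : x' ∉ 𝐍 l := fun k => e (mem_sup_left (conj_mem_of_mem_normalizer k f.ql))
  have n2 : cj x l ≠ cj x' l := fun k => e (mem_sup_right (k ▸ f2.ql))
  have y1 := f2.lU h f2.ql
  have v1 := hc.2.2 _ y1
  have v2 := f.mv h hF hc hc' hx' n1
  have x2 : c * x' * c⁻¹ ∈ F := conj_mem_of_mem_normalizer (hF.nm hc.1) hx'
  have f3 := f.cjc (hF.le x2)
  have e2 : cj (c * x' * c⁻¹) l = cj c (cj x' l) := by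
    rw [cj_mul, cj_mul, cj_eq_of_mem_normalizer (inv_mem hc.2.1)]
  have y2 : ⁅c, x' * q * x'⁻¹⁆ * (x' * q * x'⁻¹) ∈ cj (c * x' * c⁻¹) l := by
    rw [e2, ← conj_eq]; exact conj_mem_cj c f2.ql
  have n3 : cj x l ≠ cj (c * x' * c⁻¹) l := fun k =>
    e ((mul_mem_cancel_left (mem_sup_left v1)).1 (mem_sup_right (k ▸ y2)))
  have b := Bf_cj hc (hF.le hx)
  have n4 : ⁅x * c * x⁻¹, ⁅c, x' * q * x'⁻¹⁆⁆ ∉ zpowers p := fun k => by
    have := f.k2' h hF hc hc' hx (one_mem _) (by rw [cj_one]; exact fun j => h1 (cj_eq_iff.1 j))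
    exact this (by simpa using f.fx h b.1 (f.nfx h b.1 v1 v2 k) f.ql)
  refine f.k2' h hF hc hc' hx x2 n3 (f3.fx h b.1 (f3.nfx h b.1 y2 (fun k => f2.qZ h ?_)
    (f1.two_fx h b (f.lU h v1) y1 n4 (f.k2' h hF hc hc' hx hx' n2))) f3.ql)
  rw [← conj_eq] at k
  exact (mem_normalizer_iff.1 (c_n hc.1) _).2 k

omit hF in
theorem sup_cases (f' : Fl V m p q') (hu : u ∈ l ⊔ m) : u ∈ l ∨ u * q' ∈ l := by
  obtain ⟨a, ha, b, hb, rfl⟩ := (mem_sup_of_le_normalizer (f.Un h f')).1 hu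
  by_cases e : b ∈ zpowers p
  · exact Or.inl (mul_mem ha (zpowers_le.2 f.pl e))
  · exact Or.inr (mul_assoc a b q' ▸ mul_mem ha (zpowers_le.2 f.pl (f'.two h hb f'.ql e (f'.qZ h))))

end Fl

namespace Mb
open _root_.H27.FM.Mb
variable (h : Mb S V z) (f : Fl V l p q)
include h f

theorem UB : Up V q ≤ Bf V p l := fun u hu => by
  have a := f.symm.Uc h.toGe hu
  refine ⟨f.cc h.toGe a, centralizer_le_normalizer _ a, fun v hv => (h.int l p q f).1.le ⟨?_, cm_inv ?_⟩⟩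
  · exact cm_n (c_le_n_Up V p (f.cc h.toGe a)) hv
  · exact cm_n (c_le_n_Up V q (f.symm.cc h.toGe (f.Uc h.toGe hv))) hu

theorem exa : ∃ a ∈ Up V q, a ∉ Tp V p := SetLike.not_le_iff_exists.1 (h.int l q p f.symm).2

theorem exq : ∃ t ∈ Tp V p, t ∉ 𝐂 l := by
  refine SetLike.not_le_iff_exists.1 fun e => ?_
  have k : ∀ p' q', Fl V l p' q' → Tp V p' ≤ 𝐂 (Up V p') := fun p' q' f' =>
    le_centralizer_iff.1 (Up_le fun m hm hp => le_centralizer_iff.1 (by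
      obtain ⟨q'', f''⟩ := exFl h.toGe hm hp f'.p1
      obtain ⟨g, rfl, rfl⟩ := f.tr h.toGe f''
      rw [← cj_Tp, ← cj_centralizer]; exact cj_mono g e))
  obtain ⟨F, hF⟩ := f.exF h.toGe
  obtain ⟨a, ha, ha'⟩ := h.exa f
  obtain ⟨x, hx, h1⟩ := f.exx h.toGe hF (h.UB f ha) ha'
  have f1 := f.cjc (hF.le hx)
  have y1 := f1.lU h.toGe f1.ql
  have k2 : ∀ r, Fl V l p r → ∀ a ∈ Up V r, a ∉ Tp V p → ⁅a, x * q * x⁻¹⁆ = p * r := fun r fr a ha ha' => by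
    have m1 := f.mv h.toGe hF (h.UB fr ha) ha' hx h1
    refine fr.third h.toGe ((h.UB fr ha).2.2 _ y1) m1 fun j => m1 ?_
    have y2 : x * q * x⁻¹ ∈ Tp V r := mem_Tp.2 ⟨fr.symm.cc h.toGe (f.Uc h.toGe y1), fun b hb => cm_inv ?_⟩
    · exact cm_inv (cm_c (k _ _ fr.symm y2) ha ▸ one_mem _)
    by_cases b1 : b ∈ Tp V p
    · exact cm_c (k _ _ f b1) y1 ▸ one_mem _
    · have b2 := k _ _ f (f.k3 h.toGe (h.UB fr hb) (h.UB fr ha) b1 ha')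
      rw [show b = b * a * a by rw [mul_assoc, h.Up_sq fr.symm.col ha, mul_one]]
      exact cm_left (cm_c b2 y1 ▸ one_mem _) j (c_n (fr.symm.cc h.toGe (centralizer_anti (f.lU h.toGe) b2)))
  obtain ⟨b, hb, hb'⟩ := h.exa (f.rot h.toGe)
  have b2 := cm_c (k _ _ f (f.k3 h.toGe (h.UB f ha) (h.UB (f.rot h.toGe) hb) ha' hb')) y1
  rw [cmul (f.symm.Uc h.toGe ha) ((h.UB (f.rot h.toGe) hb).2.2 _ y1), k2 _ f a ha ha', k2 _ (f.rot h.toGe) b hb hb',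
    f.ppq h.toGe, ← f.comm h.toGe, f.symm.ppq h.toGe] at b2
  exact f.p1 b2

theorem k7 (hu : u ∈ Up V p) (h1 : u ∈ Tp V q) : u ∈ Tp V (p * q) := by
  obtain ⟨t, ht, ht'⟩ := h.exq f
  have := conj_mem_cj t h1
  rw [cj_Tp, f.swap' h.toGe ht.1 (Ge.Tp_le_n f.ln f.pl ht) ht', conj_eq] at this
  exact (mul_mem_cancel_left ((f.rot h.toGe).symm.lT h.toGe (zpowers_le.2 f.pl ((mem_Tp.1 ht).2 u hu)))).1 this

theorem k7' (hu : u ∈ Up V p) (h1 : u ∈ Tp V (p * q)) : u ∈ Tp V q := by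
  simpa only [f.ppq h.toGe] using h.k7 (f.rot h.toGe) hu h1

theorem U1n (h1 : g ∈ 𝐂 (zpowers p)) (h2 : g ∈ 𝐍 l) (hu : u ∈ Up V p) (h3 : u ∈ Tp V q) : g * u * g⁻¹ ∈ Tp V q := by
  by_cases e : g ∈ 𝐂 l
  · exact (Tp_conj (f.symm.cc h.toGe e)).2 h3
  · refine h.k7' f (conj_mem_of_mem_normalizer (c_le_n_Up V p h1) hu) ?_
    rw [← f.swap' h.toGe h1 h2 e, ← cj_Tp]
    exact conj_mem_cj g h3

variable (hF : Fd V p F) (hx : x ∈ F) (h1 : x ∉ 𝐍 l)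
include hF hx h1

theorem k4 {x' : G} (hx' : x' ∈ F) : cj x' l ≤ l ⊔ cj x l :=
  let ⟨_, ha, ha'⟩ := h.exa f
  (f.cjc (hF.le hx')).gen h.toGe (f.cjc (hF.le hx')).ql ((f.cjc (hF.le hx')).qZ h.toGe) (mem_sup_left f.pl)
    (f.k4 h.toGe hF (h.UB f ha) ha' hx h1 hx')

theorem notT : x * q * x⁻¹ ∉ Tp V q := fun e => by
  have k := h.toGe
  have f1 := f.cjc (hF.le hx)
  have y1 := f1.lU k f1.ql
  have pT : p ∈ Tp V q := f.symm.lT k f.pl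
  have hE : l ⊔ cj x l ≤ Tp V q := sup_le (f.symm.lT k) (f1.gen k f1.ql (f1.qZ k) pT e)
  refine (h.int l p q f).2 (Up_le fun m hm hp => ?_)
  obtain ⟨q', f'⟩ := exFl k hm hp f.p1
  obtain ⟨g, rfl, g1⟩ := f.tr k f'
  replace g1 := mem_c_of_conj_eq g1
  obtain ⟨a, ha, ha'⟩ := h.exa f
  have a1 := h.UB f ha
  have b1 := Bf_cj a1 g1
  have b2 := mt (Tp_conj g1).1 ha'
  generalize g * a * g⁻¹ = b at b1 b2
  by_cases e1 : cj g l ≤ l ⊔ cj x l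
  · exact e1.trans hE
  have b3 : b ∈ 𝐍 l := by
    by_contra b3
    have k1 : ∀ x' ∈ F, b ∉ 𝐍 (cj x' l) := fun x' hx' n => by
      have e2 : cj b l = cj (b * x'⁻¹ * b⁻¹ * x') l := by
        rw [cj_mul, cj_mul, cj_eq_of_mem_normalizer (inv_mem n), cj_mul, cj_inv_cj]
      have e3 := h.k4 f hF hx h1 (mul_mem (conj_mem_of_mem_normalizer (hF.nm b1.1) (inv_mem hx')) hx')
        (e2 ▸ conj_mem_cj b f.ql)
      rw [conj_eq] at e3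
      exact e1 (f'.gen k (b1.2.2 q (f.lU k f.ql)) (fun j => b3 (f.nfx k b1.1 f.ql (f.qZ k) j)) (mem_sup_left f.pl)
        ((mul_mem_cancel_right (mem_sup_left f.ql)).1 e3))
    have v1 := a1.2.2 _ y1
    have v2 := f.mv k hF a1 ha' hx h1
    have x2 : a * x * a⁻¹ ∈ F := conj_mem_of_mem_normalizer (hF.nm a1.1) hx
    have e2 : cj (a * x * a⁻¹) l = cj a (cj x l) := by rw [cj_mul, cj_mul, cj_eq_of_mem_normalizer (inv_mem a1.2.1)]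
    refine k1 _ x2 ((f.cjc (hF.le x2)).nfx k b1.1 (e2 ▸ conj_mem_cj a f1.ql)
      (fun j => f1.qZ k ((mem_normalizer_iff.1 (c_n a1.1) _).2 j)) ?_)
    rw [conj_eq]
    exact f'.two_fx k b1 (f.lU k v1) y1 (fun j => b3 (f.nfx k b1.1 v1 v2 j))
      fun j => k1 x hx (f1.nfx k b1.1 f1.ql (f1.qZ k) j)
  obtain ⟨u, hu, hu'⟩ : ∃ u ∈ Up V p, ⁅b, u⁆ ∉ zpowers p := by
    by_contra j
    push Not at j
    exact b2 (mem_Tp.2 ⟨b1.1, j⟩)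
  refine f'.gen k (b1.2.2 u hu) hu' pT ?_
  by_cases e2 : u ∈ Tp V q
  · exact mul_mem (h.U1n f b1.1 b3 hu e2) (inv_mem e2)
  · have u1 := conj_mem_of_mem_normalizer (c_le_n_Up V p b1.1) hu
    exact f.symm.k3 k (h.UB f.symm u1) (h.UB f.symm (inv_mem hu))
      (fun j => e2 (by simpa [mul_assoc] using h.U1n f (inv_mem b1.1) (inv_mem b3) u1 j)) (mt inv_mem_iff.1 e2)

theorem oo (hc : c ∈ 𝐂 l) : ⁅c, x * q * x⁻¹⁆ ∈ l := by
  have k := h.toGe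
  have f1 := f.cjc (hF.le hx)
  have c1 := f.cc k hc
  have e : cj c (cj x l) = cj (c * x * c⁻¹) l := by
    rw [cj_mul, cj_mul, cj_eq_of_mem_centralizer (inv_mem hc)]
  rcases f.sup_cases k f1 (h.k4 f hF hx h1 (conj_mem_of_mem_normalizer (hF.nm c1) hx)
    (e ▸ conj_mem_cj c f1.ql)) with j | j
  · exact absurd (f.symm.lT k ((mem_normalizer_iff.1 (centralizer_le_normalizer _ hc) _).2 j)) (h.notT f hF hx h1)
  · rwa [commutatorElement_def, inv_eq_of_mul_eq_one_right (f1.symm.pp k)]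

omit hF hx h1

theorem exE : ∃ e ∈ Up V p, e ∉ Tp V q ∧ (∀ c ∈ 𝐂 l, ⁅c, e⁆ ∈ l) ∧
    ∀ c ∈ Bf V p l, c ∉ Tp V p → ⁅c, e⁆ ∉ zpowers p := by
  obtain ⟨F, hF⟩ := f.exF h.toGe
  obtain ⟨a, ha, ha'⟩ := h.exa f
  obtain ⟨x, hx, h1⟩ := f.exx h.toGe hF (h.UB f ha) ha'
  have f1 := f.cjc (hF.le hx)
  exact ⟨_, f1.lU h.toGe f1.ql, h.notT f hF hx h1, fun c => h.oo f hF hx h1, fun c a b => f.mv h.toGe hF a b hx h1⟩

theorem inT (hu : u ∈ Up V q) (hu' : u ∈ Tp V p) : u ∈ l := by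
  have k := h.toGe
  obtain ⟨F, hF⟩ := f.exF k
  obtain ⟨e, e1, e2, e3, e4⟩ := h.exE f.symm
  obtain ⟨x, hx, h1⟩ := f.exx k hF (h.UB f e1) e2
  obtain ⟨s, s1, s2⟩ := h.exq f
  have f1 := f.cjc (hF.le hx)
  have x1 := hF.le hx
  have y1 := f1.lU k f1.ql
  have y2 := h.notT f hF hx h1
  have y3 := fun c => h.oo (c := c) f hF hx h1
  have y4 := h.k4 f hF hx h1 (mul_mem hx hx) (by rw [cj_mul]; exact conj_mem_cj x f1.ql)
  have ey : ⁅e, x * q * x⁻¹⁆ = p * q := f.third k ((h.UB f e1).2.2 _ y1) (f.mv k hF (h.UB f e1) e2 hx h1)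
    fun j => e4 _ (h.UB f.symm y1) y2 (cm_inv j)
  generalize x * q * x⁻¹ = y at *
  have ec := f.symm.Uc k e1
  have s3 := Ge.Tp_le_n f.ln f.pl s1
  have nc : ∀ g ∈ 𝐍 l, ∀ c ∈ 𝐂 l, g * c * g⁻¹ ∈ 𝐂 l := fun g hg c =>
    conj_mem_of_mem_normalizer (normalizer_le_normalizer_centralizer l hg)
  have e'c := nc s s3 e ec
  have e'y : ⁅s * e * s⁻¹, y⁆ = q := by
    have j := (mem_Tp.1 (inv_mem s1)).2 y y1
    rw [show y = s * (s⁻¹ * y * s⁻¹⁻¹) * s⁻¹ by group, ← conjugate_commutatorElement, conj_eq s⁻¹,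
      cmul' ((f.four k).le_c (zpowers_le.2 f.pl j)) (ey ▸ mul_mem f.pl f.ql), ey,
      cm_c ec (zpowers_le.2 f.pl j), one_mul, (f.rot k).swap' k s1.1 s3 s2, f.ppq k]
  have o1 : ∀ c ∈ 𝐂 l, ⁅c, s * e * s⁻¹⁆ ∈ l := fun c hc => by
    rw [show c = s * (s⁻¹ * c * s⁻¹⁻¹) * s⁻¹ by group, ← conjugate_commutatorElement]
    exact conj_mem_of_mem_normalizer s3 (e3 _ (nc _ (inv_mem s3) c hc))
  have t1 : s * e * s⁻¹ * e ∈ Tp V p := by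
    have := cm_inv (cm_n (c_le_n_Tp V p (f.cc k ec)) s1)
    rwa [commutatorElement_def, inv_eq_of_mul_eq_one_right (k.Up_sq f.symm.col e1)] at this
  have t2 : ⁅s * e * s⁻¹ * e, y⁆ = p := by
    rw [cmul e'c (ey ▸ mul_mem f.pl f.ql), ey, e'y, mul_assoc, f.symm.pp k, mul_one]
  have t3 : ∀ c ∈ 𝐂 l, ⁅c, s * e * s⁻¹ * e⁆ ∈ l := fun c hc =>
    cm_right (o1 c hc) (e3 c hc) (centralizer_le_normalizer _ e'c)
  have t4 := mul_mem e'c ec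
  have t5 : ∀ t ∈ Tp V p, t ∉ 𝐂 l → ⁅t, s * e * s⁻¹ * e⁆ ∈ l := fun t a b => by
    have a3 := Ge.Tp_le_n f.ln f.pl a
    have j1 := e3 _ (f.mulc k a.1 a3 b s1.1 s3 s2)
    have j2 := e3 _ (f.mulc k (inv_mem s1).1 (inv_mem s3) (mt inv_mem_iff.1 s2) a.1 a3 b)
    rw [show ⁅t, s * e * s⁻¹ * e⁆ = ⁅t * s, e⁆ * (e * (s * ⁅s⁻¹ * t, e⁆ * s⁻¹) * e⁻¹) * ⁅e, s * e * s⁻¹⁆ by
      simp only [commutatorElement_def]; group]
    exact mul_mem (mul_mem j1 (conj_mem_of_mem_normalizer (centralizer_le_normalizer _ ec)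
      (conj_mem_of_mem_normalizer s3 j2))) (o1 e ec)
  generalize s * e * s⁻¹ * e = r at *
  have cm : ∀ c ∈ 𝐂 l, ⁅c, y⁆ = 1 → c ∈ 𝐂 (cj x l) := fun c a b => le_centralizer_iff.1
    (f1.gen k f1.ql (f1.qZ k) (mem_centralizer_zpowers.2 (mem_centralizer_zpowers.1 (f.cc k a)).symm)
      (mem_centralizer_zpowers.2 (commutatorElement_eq_one_iff_mul_comm.1 b))) (mem_zpowers c)
  have w1 := (Tp_conj x1).2 t1
  have w2 : x * r * x⁻¹ ∉ 𝐂 l := fun j => by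
    have j2 : x * r * x⁻¹ ∈ 𝐂 (l ⊔ cj x l) := by
      rw [centralizer_sup', ← cj_centralizer]; exact ⟨j, conj_mem_cj x t4⟩
    have := cm_c j2 y4
    rw [← conjugate_commutatorElement, t2] at this
    exact conj_ne_one x f.p1 this
  have w3 : ∀ c ∈ 𝐂 (cj x l), ⁅c, x * r * x⁻¹⁆ ∈ cj x l := fun c hc => by
    rw [← cj_centralizer, mem_cj'] at hc
    obtain ⟨c, hc, rfl⟩ := hc
    rw [← conjugate_commutatorElement]
    exact conj_mem_cj x (t3 c hc)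
  have w4 := cm_inv (t5 _ w1 w2)
  generalize x * r * x⁻¹ = t at *
  have uc := f.symm.Uc k hu
  have w5 : ⁅u, t⁆ ∈ l ⊔ cj x l := by
    rcases (f.memZ k).1 ((mem_Tp.1 hu').2 y y1) with j | j
    · exact mem_sup_right (w3 u (cm u uc j))
    · have := w3 _ (cm _ (mul_mem uc t4) (by rw [cmul uc (t2 ▸ f.pl), t2, j, f.pp k]))
      rw [cmul uc w4] at this
      exact (mul_mem_cancel_left (mem_sup_left w4)).1 (mem_sup_right this)
  have w6 : t * u⁻¹ * t⁻¹ ∈ Up V (p * q) := by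
    rw [← f.swap' k w1.1 (Ge.Tp_le_n f.ln f.pl w1) w2, ← cj_Up]; exact conj_mem_cj t (inv_mem hu)
  have w7 : ⁅u, t⁆ = u * (t * u⁻¹ * t⁻¹) := by simp only [commutatorElement_def, mul_assoc]
  have w8 : ⁅u, t⁆ ∈ Tp V q := by
    have := h.k7 (f.rot k).symm w6 (mul_mem (mul_mem w1 (inv_mem hu')) (inv_mem w1))
    rw [← f.comm k, mul_assoc, f.pp k, mul_one] at this
    exact w7 ▸ mul_mem (f.symm.UT k hu) this
  have w9 : ⁅u, t⁆ ∈ l := (f.sup_cases k f1 w5).resolve_right fun j =>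
    y2 ((mul_mem_cancel_left w8).1 (f.symm.lT k j))
  have f2 := f.symm.rot k
  rw [f.comm k] at f2
  exact (h.int _ _ _ f2).1.le ⟨hu, (mul_mem_cancel_right w6).1 (w7 ▸ f2.symm.lU k w9)⟩

theorem g1 (hu : u ∈ Up V p) (hv : v ∈ Up V p) (h1 : u ∉ l) (h2 : v ∉ l) : u * v ∈ l :=
  h.inT f.symm (mul_mem hu hv) (f.symm.k3 h.toGe (h.UB f.symm hu) (h.UB f.symm hv) (mt (h.inT f.symm hu) h1)
    (mt (h.inT f.symm hv) h2))

end Mb

end H27.FM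

end H226
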