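import Cfsg.Agent.H26.T2.H26NFr2
/-! The plane structure `PL S V P` of a frame `Fr S V` with `J(S) ≰ C(V)` and the statement `TVS` that it exists. -/
set_option autoImplicit false
namespace H226 end H226 namespace H26 end H26 namespace H27 end H27 namespace H4 end H4
open H226
namespace H226
namespace H27
open _root_.H27
open Cfsg Subgroup H26 _root_.H26 H4 _root_.H4
universe u

/-- `V` is the direct product of the four-groups in `P`, permuted by `N(V)` and transitively by `S`;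
`plE V (𝐍 V) W` induces `S₃` on `W` and centralizes the other planes. -/
structure PL {G : Type*} [Group G] (S V : Subgroup G) (P : Set (Subgroup G)) : Prop where
  four : ∀ W ∈ P, Four W
  le : ∀ W ∈ P, W ≤ V
  conj : ∀ W ∈ P, ∀ g ∈ 𝐍 V, cj g W ∈ P
  trans : ∀ W ∈ P, ∀ W' ∈ P, ∃ s ∈ S, cj s W = W'
  rho : ∀ W ∈ P, ∃ ρ ∈ plE V (𝐍 V) W, ρ ^ 3 ∈ 𝐂 V ∧ ρ ∉ 𝐂 V
  tv : ∀ W ∈ P, ∃ t ∈ thompsonSubgroupOf 2 S, t ∈ plE V (𝐍 V) W ∧ t ∉ 𝐂 V
  cent : ∀ W ∈ P, ∀ W' ∈ P, W ≠ W' → plE V (𝐍 V) W ≤ 𝐂 W'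
  span : V ≤ sSup P
  jn : ∀ W ∈ P, thompsonSubgroupOf 2 S ≤ 𝐍 W

def TVS : Prop := ∀ (G : Type u) [Group G] [Finite G] (S V : Subgroup G), Fr S V → IsPGroup 2 V →
  ¬ thompsonSubgroupOf 2 S ≤ 𝐂 V → ∃ P, PL S V P

end H27

end H226
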