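import Cfsg.Agent.H26.T2.H18FL
/-! Tools for the `N4` pieces: the dihedral lemma `dl` modulo a normal subgroup, the odd layer `exists_odd`
of a solvable group with `O₂(X/N) = 1`, coprime action `cop`. -/
set_option autoImplicit false
namespace H118 end H118 namespace H18 end H18 namespace H226 end H226 namespace H26 end H26 namespace H4 end H4 namespace H6 end H6 namespace H6.FD end H6.FD
open H226
namespace H226
namespace H6.FD
open _root_.H6 _root_.H6.FD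
open Cfsg Subgroup H26 _root_.H26 H4 _root_.H4 H118 _root_.H118
open scoped Pointwise commutatorElement

local notation "O²" => pResidualOf 2

variable {G : Type*} [Group G] [Finite G] {A E N X Y W T K : Subgroup G} {x : G}

/-- `E` has odd order modulo `N` -/
def OddM (E N : Subgroup G) : Prop := ∀ P ≤ E, IsPGroup 2 P → P ≤ N

/-- `B` has index at most two in `A` -/
def Ix2 (B A : Subgroup G) : Prop := ∀ a ∈ A, ∀ b ∈ A, a ∉ B → b ∉ B → a * b ∈ B

omit [Finite G] in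
theorem OddM.mono (h : OddM E N) (h1 : K ≤ E) (h2 : N ≤ Y) : OddM K Y := fun P hP hp => (h P (hP.trans h1) hp).trans h2

theorem OddM.not_dvd (h : OddM E N) : ¬ 2 ∣ N.relIndex E :=
  let ⟨_, hT⟩ := exists_isSyl 2 E; hT.not_dvd_relIndex_of_le (h _ hT.le hT.isP)

open H18 _root_.H18 in
theorem OddM.sq (h : OddM E N) (hn : E ≤ 𝐍 N) (hx : x ∈ E) (h2 : x * x ∈ N) : x ∈ N := by
  have e := (cs_eq_one_iff (hn (mul_mem hx hx))).2 h2
  rw [mfun_mul (hn hx) (hn hx), ← pow_two] at e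
  have d := orderOf_dvd_natCard _ (mfun_mem_mim (f := coset N) hx)
  rw [card_quo hn] at d
  rcases (Nat.dvd_prime Nat.prime_two).1 (orderOf_dvd_of_pow_eq_one e) with k | k
  · exact (cs_eq_one_iff (hn hx)).1 (orderOf_eq_one_iff.1 k)
  · exact (h.not_dvd (k ▸ d)).elim

omit [Finite G] in
theorem Ix2.relIndex_le {B : Subgroup G} (h : Ix2 B A) : B.relIndex A ≤ 2 := by
  by_cases e : A ≤ B
  · rw [relIndex_eq_one.2 e]; omega
  obtain ⟨a, ha, hb⟩ := SetLike.not_le_iff_exists.1 e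
  refine (index_eq_two_iff.2 ⟨⟨a, ha⟩, fun b => ?_⟩).le
  simp only [mem_subgroupOf, coe_mul]
  by_cases k : (b : G) ∈ B
  · exact .inr ⟨k, fun k' => hb ((mul_mem_cancel_left k).1 k')⟩
  · exact .inl ⟨h _ b.2 _ ha k hb, k⟩

open H18 _root_.H18 in
/-- the dihedral lemma -/
theorem dl (hA : A ≤ 𝐍 N) (hE : E ≤ 𝐍 N) (hn : A ≤ 𝐍 E) (h2 : ∀ a ∈ A, a * a ∈ N) (ho : OddM E N)
    (hY : N ≤ Y) (h : ¬ E ≤ Y) : ∃ B ≤ A, A ⊓ N ≤ B ∧ Ix2 B A ∧ ∃ η ∈ E, η ∉ Y ∧ ∀ t ∈ B, ⁅η, t⁆ ∈ N := by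
  by_cases e : A ≤ N
  · obtain ⟨η, h1, h3⟩ := SetLike.not_le_iff_exists.1 h
    exact ⟨A, le_rfl, inf_le_left, fun a ha _ _ k => (k ha).elim, η, h1, h3, fun t ht =>
      commutator_le_of_le_normalizer' hE (commutator_mem_commutator h1 (e ht))⟩
  have ea : IsElementaryAbelian 2 (A ⫽ N) := elemAb_two_of_sq fun x hx => by
    obtain ⟨a, ha, rfl⟩ := (mem_quo hA).1 hx
    rw [← mfun_mul (hA ha) (hA ha)]
    exact cs_eq_one (h2 a ha)
  by_contra k
  refine h ((le_of_quo_le (B := Y ⊓ 𝐍 N) hE ⟨le_inf hY le_normalizer, inf_le_right⟩ (le_of_hyperplanes ea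
    (fun k => e ((quo_eq_bot_iff hA).1 k)) (mim_norm hn) ?_ fun B hB hm z hz => ?_)).trans inf_le_left)
  · rw [card_quo hE]
    exact ((Nat.Prime.coprime_iff_not_dvd Nat.prime_two).2 ho.not_dvd).symm
  obtain ⟨η, hη, rfl⟩ := (mem_quo hE).1 hz.1
  refine mfun_mem_mim ⟨by_contra fun n => k ⟨A ⊓ qpre N B, inf_le_left, inf_le_inf_left _ le_qpre,
    fun a ha b hb na nb => ⟨mul_mem ha hb, ?_⟩, η, hη, n, fun t ht => ?_⟩, hE hη⟩
  · have na' : cs N a ∉ B := fun k => na ⟨ha, mem_mpre.2 ⟨hA ha, k⟩⟩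
    have nb' : cs N b ∉ B := fun k => nb ⟨hb, mem_mpre.2 ⟨hA hb, k⟩⟩
    have ma := mfun_mem_mim (f := coset N) ha
    have e1 := (hm (zpowers (cs N a) ⊔ B) le_sup_right (sup_le (zpowers_le.2 ma) hB.le)).resolve_left
      fun k => na' (k ▸ mem_sup_left (mem_zpowers _))
    have s : cs N a * cs N a = 1 := by rw [← pow_two]; exact ea.2 _ ma
    refine mem_mpre.2 ⟨hA (mul_mem ha hb), ?_⟩
    rw [mfun_mul (hA ha) (hA hb), ← inv_eq_of_mul_eq_one_right s]
    exact (mem_or_of_sq (centralizer_le_normalizer _ (centralizer_anti hB.le (elemAb_le_centralizer ea ma)))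
      (s ▸ one_mem _) (e1.ge (mfun_mem_mim hb))).resolve_left nb'
  · rw [← cs_eq_one_iff (commutator_le_of_le_normalizer le_normalizer (commutator_mem_commutator (hE hη) (hA ht.1))), mfun_comm (hE hη) (hA ht.1),
      commutatorElement_eq_one_iff_mul_comm]
    exact (hz.2 _ (mem_mpre.1 ht.2).2).symm

open H18 _root_.H18 in
/-- the odd layer -/
theorem exists_odd (hs : Group.IsSolvable X) (hn : X ≤ 𝐍 N) (hr : RedM X N) : ∃ F ≤ X, X ≤ 𝐍 F ∧ OddM F N ∧
    ∀ A ≤ X, (∀ a ∈ A, a * a ∈ N) → ⁅F, A⁆ ≤ N → A ≤ N := by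
  have o : pCoreOf 2 (X ⫽ N) = ⊥ := by
    have e : (X ⊓ qpre N (pCoreOf 2 (X ⫽ N))) ⫽ N = _ := mim_inf_mpre_of_le (pCoreOf_le 2 _)
    have n : X ⊓ qpre N (pCoreOf 2 (X ⫽ N)) ≤ 𝐍 N := inf_le_left.trans hn
    rw [← e, quo_eq_bot_iff n]
    refine hr _ inf_le_left (le_normalizer_inf le_normalizer (norm_mpre hn (le_normalizer_pCoreOf 2 _))) ?_
    rw [← quo_eq_bot_iff ((pResidualOf_le _ _).trans n), mim, ← pResidualOf_subgroupOf n, map_pResidualOf]
    exact pResidualOf_eq_bot_iff.2 ((isPGroup_pCoreOf 2 _).to_le e.le)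
  have c := (pSol_of_solvable (p := 2) (Solv.mim (f := coset N) hs)).centralizer_oQ_le o
  have e : (X ⊓ qpre N (H17.oQ 2 (X ⫽ N))) ⫽ N = _ := mim_inf_mpre_of_le (H17.oQ_le 2 _)
  have key : ∀ P ≤ X, IsPGroup 2 (P ⫽ N) → P ⫽ N ≤ H17.oQ 2 (X ⫽ N) → P ≤ N := fun P h1 h2 h3 => by
    rw [← quo_eq_bot_iff (h1.trans hn)]
    obtain ⟨k, hk⟩ := h2.exists_card_eq
    cases k with
    | zero => exact card_eq_one.1 hk
    | succ k => exact (H17.oQ_not_dvd 2 _ ((hk ▸ dvd_pow_self 2 k.succ_ne_zero).trans (card_dvd_of_le h3))).elim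
  refine ⟨X ⊓ qpre N (H17.oQ 2 (X ⫽ N)), inf_le_left, le_normalizer_inf le_normalizer
    (norm_mpre hn (H17.le_normalizer_oQ 2 _)), fun P hP hp => key P (hP.trans inf_le_left)
    ((hp.comap_subtype).map _) (e ▸ mim_mono hP), fun A hA h2 h => key A hA (elemAb_isPGroup
    (elemAb_two_of_sq fun x hx => ?_)) (le_trans (le_inf (mim_mono hA) ?_) c)⟩
  · obtain ⟨a, ha, rfl⟩ := (mem_quo (hA.trans hn)).1 hx
    rw [← mfun_mul (hn (hA ha)) (hn (hA ha))]
    exact cs_eq_one (h2 a ha)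
  · rw [← e, ← comm_le_iff_quo (hA.trans hn) (inf_le_left.trans hn), commutator_comm]
    exact h

/-- coprime action: a normal subgroup of odd action that centralizes `C_W(T)` centralizes `W` -/
theorem cop (hW : IsElementaryAbelian 2 W) (hT : IsSyl 2 T X) (h1 : X ≤ 𝐍 W) (h2 : K ≤ X) (h3 : X ≤ 𝐍 K)
    (ho : OddM K (𝐂 W)) (h : W ⊓ 𝐂 T ≤ 𝐂 K) : K ≤ 𝐂 W := by
  have s := hT.inf_of_normal h3 h2
  refine le_centralizer_iff.1 (le_trans (le_inf le_rfl (le_centralizer_iff.1 (ho _ s.le s.isP)))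
    (le_centralizer_of_transfer (elemAb_le_centralizer hW) (elemAb_isPGroup hW) (h2.trans h1) s hT.isP
    (hT.le.trans h1) (hT.le.trans h3) (le_normalizer_inf le_normalizer (hT.le.trans h3))
    (le_trans (inf_le_inf_right _ inf_le_left) h)))

end H6.FD

end H226
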